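import Mathlib

/-!
# Spectral decomposition of an operator with `f² = N e + c f`, `tr f = 0`
-/

set_option autoImplicit false

namespace Cfsg.Agent.HKS.ModPSpec

variable {V : Type*} [AddCommGroup V] [Module ℂ V] [FiniteDimensional ℂ V]

/-- If `P ^ (n + 1) = P`, the trace of `P` is an algebraic integer. -/
theorem isIntegral_trace_of_pow (P : Module.End ℂ V) (n : ℕ) (hn : 0 < n) (hP : P ^ (n + 1) = P) :
    IsIntegral ℤ (LinearMap.trace ℂ V P) := by
  rw [Module.End.trace_eq_sum_roots_charpoly_of_splits (IsAlgClosed.splits _)]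
  refine IsIntegral.multiset_sum fun z hz => ?_
  have hroot : P.charpoly.IsRoot z := (Polynomial.mem_roots'.1 hz).2
  rw [← Module.End.hasEigenvalue_iff_isRoot_charpoly] at hroot
  obtain ⟨v, hv⟩ := hroot.exists_hasEigenvector
  have h1 : (P ^ (n + 1)) v = z ^ (n + 1) • v := hv.pow_apply _
  rw [hP, hv.apply_eq_smul] at h1
  have h2 : (z ^ (n + 1) - z) • v = 0 := by rw [sub_smul, ← h1, sub_self]
  rcases smul_eq_zero.1 h2 with h | h
  · have h3 : z * (z ^ n - 1) = 0 := by rw [← h]; ring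
    rcases mul_eq_zero.1 h3 with h4 | h4
    · rw [h4]; exact isIntegral_zero
    · refine IsIntegral.of_pow hn ?_
      rw [sub_eq_zero.1 h4]
      exact isIntegral_one
  · exact absurd h hv.2

/-- The trace of `g E`, `E` an idempotent commuting with `g`, `g ^ n = 1`. -/
theorem isIntegral_trace_mul (g E : Module.End ℂ V) (n : ℕ) (hn : 0 < n) (hg : g ^ n = 1)
    (hE : E * E = E) (hc : g * E = E * g) : IsIntegral ℤ (LinearMap.trace ℂ V (g * E)) := by
  refine isIntegral_trace_of_pow _ n hn ?_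
  have h1 : ∀ k : ℕ, E ^ (k + 1) = E := by
    intro k
    induction k with
    | zero => rw [zero_add, pow_one]
    | succ k ih => rw [pow_succ, ih, hE]
  have hc' : Commute g E := hc
  rw [hc'.mul_pow, h1, pow_succ, hg, one_mul]

/-- The trace of an idempotent is a natural number. -/
theorem exists_nat_trace (E : Module.End ℂ V) (hE : E * E = E) :
    ∃ n : ℕ, LinearMap.trace ℂ V E = n := by
  have h : IsIdempotentElem E := hE
  exact ⟨_, (LinearMap.IsIdempotentElem.isProj_range E h).trace⟩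

theorem exists_spectral (e f : Module.End ℂ V) (he : e * e = e) (hef : e * f = f)
    (hfe : f * e = f) (N c : ℂ) (hN : N ≠ 0) (hf : f * f = N • e + c • f)
    (htr : LinearMap.trace ℂ V f = 0) (hte : LinearMap.trace ℂ V e ≠ 0) :
    ∃ (r₁ r₂ : ℂ) (E₁ E₂ : Module.End ℂ V) (n₁ n₂ : ℕ), r₁ + r₂ = c ∧ r₁ * r₂ = -N ∧
      E₁ * E₁ = E₁ ∧ E₂ * E₂ = E₂ ∧ E₁ + E₂ = e ∧ r₁ • E₁ + r₂ • E₂ = f ∧
      LinearMap.trace ℂ V E₁ = n₁ ∧ LinearMap.trace ℂ V E₂ = n₂ ∧ 0 < n₁ ∧ 0 < n₂ ∧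
      r₁ * n₁ + r₂ * n₂ = 0 ∧
      ∀ g : Module.End ℂ V, g * e = e * g → g * f = f * g → g * E₁ = E₁ * g ∧ g * E₂ = E₂ * g := by
  obtain ⟨s, hs⟩ := IsAlgClosed.exists_pow_nat_eq (c ^ 2 + 4 * N) (n := 2) (by norm_num)
  have hs0 : s ≠ 0 := by
    rintro rfl
    have hc2 : c ^ 2 + 4 * N = 0 := by rw [← hs]; ring
    set r : ℂ := c / 2 with hr
    have hr2 : r ^ 2 = -N := by rw [hr]; linear_combination hc2 / 4
    have h1 : (f - r • e) * (f - r • e) = 0 := by
      rw [sub_mul, mul_sub, mul_sub, smul_mul_assoc, smul_mul_assoc, mul_smul_comm, mul_smul_comm,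
        he, hef, hfe, hf]
      have h2 : c = 2 * r := by rw [hr]; ring
      rw [h2]
      have h3 : N = -r ^ 2 := by rw [hr2]; ring
      rw [h3]
      module
    have h2 : IsNilpotent (f - r • e) := ⟨2, by rw [sq, h1]⟩
    have h3 := (LinearMap.isNilpotent_trace_of_isNilpotent h2).eq_zero
    rw [map_sub, map_smul, htr, zero_sub, neg_eq_zero, smul_eq_mul] at h3
    rcases mul_eq_zero.1 h3 with h4 | h4
    · rw [h4] at hr2
      apply hN
      have : (0 : ℂ) ^ 2 = 0 := by norm_num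
      rw [this] at hr2
      linear_combination hr2
    · exact hte h4
  set r₁ : ℂ := (c + s) / 2 with hr₁
  set r₂ : ℂ := (c - s) / 2 with hr₂
  have hsum : r₁ + r₂ = c := by rw [hr₁, hr₂]; ring
  have hprod : r₁ * r₂ = -N := by rw [hr₁, hr₂]; linear_combination -hs / 4
  have hdiff : r₁ - r₂ = s := by rw [hr₁, hr₂]; ring
  have hd0 : r₁ - r₂ ≠ 0 := by rw [hdiff]; exact hs0
  set E₁ : Module.End ℂ V := (r₁ - r₂)⁻¹ • (f - r₂ • e) with hE₁
  set E₂ : Module.End ℂ V := (r₁ - r₂)⁻¹ • (r₁ • e - f) with hE₂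
  have hcs : c = r₁ + r₂ := hsum.symm
  have hNs : N = -(r₁ * r₂) := by rw [hprod]; ring
  have hadd : E₁ + E₂ = e := by
    rw [hE₁, hE₂, ← smul_add]
    have : f - r₂ • e + (r₁ • e - f) = (r₁ - r₂) • e := by module
    rw [this, smul_smul, inv_mul_cancel₀ hd0, one_smul]
  have hcomb : r₁ • E₁ + r₂ • E₂ = f := by
    rw [hE₁, hE₂, smul_comm r₁, smul_comm r₂, ← smul_add]
    have : r₁ • (f - r₂ • e) + r₂ • (r₁ • e - f) = (r₁ - r₂) • f := by module
    rw [this, smul_smul, inv_mul_cancel₀ hd0, one_smul]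
  have hE₁f : E₁ * E₁ = E₁ := by
    conv_lhs => rw [hE₁]
    rw [smul_mul_smul_comm, sub_mul, mul_sub, mul_sub, smul_mul_assoc, smul_mul_assoc,
      mul_smul_comm, mul_smul_comm, he, hef, hfe, hf]
    have : N • e + c • f - r₂ • f - (r₂ • f - r₂ • r₂ • e) = (r₁ - r₂) • (f - r₂ • e) := by
      rw [hcs, hNs]; module
    rw [this, smul_smul, mul_assoc, inv_mul_cancel₀ hd0, mul_one]
  have hE₂f : E₂ * E₂ = E₂ := by
    conv_lhs => rw [hE₂]
    rw [smul_mul_smul_comm, sub_mul, mul_sub, mul_sub, smul_mul_assoc, smul_mul_assoc,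
      mul_smul_comm, mul_smul_comm, he, hef, hfe, hf]
    have : r₁ • r₁ • e - r₁ • f - (r₁ • f - (N • e + c • f)) = (r₁ - r₂) • (r₁ • e - f) := by
      rw [hcs, hNs]; module
    rw [this, smul_smul, mul_assoc, inv_mul_cancel₀ hd0, mul_one]
  clear_value E₁ E₂
  obtain ⟨n₁, hn₁⟩ := exists_nat_trace E₁ hE₁f
  obtain ⟨n₂, hn₂⟩ := exists_nat_trace E₂ hE₂f
  have ht : r₁ * n₁ + r₂ * n₂ = 0 := by
    have h1 := congrArg (LinearMap.trace ℂ V) hcomb
    rwa [map_add, map_smul, map_smul, hn₁, hn₂, htr, smul_eq_mul, smul_eq_mul] at h1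
  have hte' : (n₁ : ℂ) + n₂ ≠ 0 := by
    have h1 := congrArg (LinearMap.trace ℂ V) hadd
    rw [map_add, hn₁, hn₂] at h1
    rwa [h1]
  have hr₁0 : r₁ ≠ 0 := fun h0 => hN (by rw [hNs, h0]; ring)
  have hr₂0 : r₂ ≠ 0 := fun h0 => hN (by rw [hNs, h0]; ring)
  have hp₁ : 0 < n₁ := by
    rcases Nat.eq_zero_or_pos n₁ with h0 | h0
    · exfalso
      rw [h0, Nat.cast_zero, mul_zero, zero_add] at ht
      rcases mul_eq_zero.1 ht with h1 | h1
      · exact hr₂0 h1
      · exact hte' (by rw [h0, h1]; simp)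
    · exact h0
  have hp₂ : 0 < n₂ := by
    rcases Nat.eq_zero_or_pos n₂ with h0 | h0
    · exfalso
      rw [h0, Nat.cast_zero, mul_zero, add_zero] at ht
      rcases mul_eq_zero.1 ht with h1 | h1
      · exact hr₁0 h1
      · exact hte' (by rw [h0, h1]; simp)
    · exact h0
  refine ⟨r₁, r₂, E₁, E₂, n₁, n₂, hsum, hprod, hE₁f, hE₂f, hadd, hcomb, hn₁, hn₂, hp₁, hp₂, ht,
    fun g hge hgf => ⟨?_, ?_⟩⟩
  · rw [hE₁, mul_smul_comm, smul_mul_assoc, mul_sub, sub_mul, hgf, mul_smul_comm, smul_mul_assoc,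
      hge]
  · rw [hE₂, mul_smul_comm, smul_mul_assoc, mul_sub, sub_mul, hgf, mul_smul_comm, smul_mul_assoc,
      hge]

end Cfsg.Agent.HKS.ModPSpec
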