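import Mathlib

/-!
# Two-transitive groups with a regular normal subgroup of a point stabiliser: group form

`RankOne B Q D W w`: `B` is a point stabiliser, `Q` is normal in `B` and regular on the other points,
`D` is a two-point stabiliser, `W` the stabiliser of the two-point set, `w ∈ W ∖ D`.
-/

set_option autoImplicit false

namespace Cfsg.Agent.HKS

structure RankOne {G : Type*} [Group G] (B Q D W : Subgroup G) (w : G) : Prop where
  QB : Q ≤ B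
  Qn : ∀ b ∈ B, ∀ u ∈ Q, b * u * b⁻¹ ∈ Q
  DB : D ≤ B
  Bmul : ∀ b ∈ B, ∃ u ∈ Q, ∃ d ∈ D, b = u * d
  QD : ∀ x ∈ Q, x ∈ D → x = 1
  DW : D ≤ W
  wW : w ∈ W
  wB : w ∉ B
  Wmul : ∀ g ∈ W, g ∉ D → ∃ d ∈ D, g = w * d
  Wn : ∀ g ∈ W, ∀ d ∈ D, g * d * g⁻¹ ∈ D
  WB : ∀ g ∈ W, g ∈ B → g ∈ D
  bruhat : ∀ g, g ∉ B → ∃ u ∈ Q, ∃ b ∈ B, g = u * w * b
  conjD : ∀ b ∈ B, w⁻¹ * b * w ∈ B → b ∈ D

namespace RankOne

variable {G : Type*} [Group G] {B Q D W : Subgroup G} {w : G}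

theorem wD (h : RankOne B Q D W w) : w ∉ D := fun hw => h.wB (h.DB hw)

theorem winv_conj (h : RankOne B Q D W w) {d : G} (hd : d ∈ D) : w⁻¹ * d * w ∈ D := by
  have := h.Wn w⁻¹ (W.inv_mem h.wW) d hd
  rwa [inv_inv] at this

theorem w_conj (h : RankOne B Q D W w) {d : G} (hd : d ∈ D) : w * d * w⁻¹ ∈ D :=
  h.Wn w h.wW d hd

theorem Qn' (h : RankOne B Q D W w) {b u : G} (hb : b ∈ B) (hu : u ∈ Q) : b⁻¹ * u * b ∈ Q := by
  have := h.Qn b⁻¹ (B.inv_mem hb) u hu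
  rwa [inv_inv] at this

/-- `B = D Q`. -/
theorem Bmul' (h : RankOne B Q D W w) {b : G} (hb : b ∈ B) : ∃ d ∈ D, ∃ u ∈ Q, b = d * u := by
  obtain ⟨u, hu, d, hd, rfl⟩ := h.Bmul b hb
  exact ⟨d, hd, d⁻¹ * u * d, h.Qn' (h.DB hd) hu, by group⟩

/-- `G ∖ B = B w Q`. -/
theorem bruhat' (h : RankOne B Q D W w) {g : G} (hg : g ∉ B) :
    ∃ b ∈ B, ∃ u ∈ Q, g = b * w * u := by
  obtain ⟨u, hu, b, hb, rfl⟩ := h.bruhat g hg
  obtain ⟨d, hd, v, hv, rfl⟩ := h.Bmul' hb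
  refine ⟨u * (w * d * w⁻¹), B.mul_mem (h.QB hu) (h.DB (h.w_conj hd)), v, hv, ?_⟩
  group

theorem not_mem_of_Q (h : RankOne B Q D W w) {u : G} (hu : u ∈ Q) (hu1 : u ≠ 1) :
    w⁻¹ * u * w ∉ B := fun hm => hu1 (h.QD u hu (h.conjD u (h.QB hu) hm))

theorem not_mem_of_Q' (h : RankOne B Q D W w) {u : G} (hu : u ∈ Q) (hu1 : u ≠ 1) :
    w * u * w⁻¹ ∉ B := by
  intro hm
  have h1 : w⁻¹ * (w * u * w⁻¹) * w = u := by group
  have h2 : w * u * w⁻¹ ∈ D := h.conjD _ hm (by rw [h1]; exact h.QB hu)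
  have h3 := h.winv_conj h2
  rw [h1] at h3
  exact hu1 (h.QD u hu h3)

/-- An element outside `B` is `u₁ w' u₂` with `u₁, u₂ ∈ Q` and `w' ∈ W ∖ D`. -/
theorem exists_mid (h : RankOne B Q D W w) {g : G} (hg : g ∉ B) :
    ∃ u₁ ∈ Q, ∃ w' ∈ W, w' ∉ D ∧ ∃ u₂ ∈ Q, g = u₁ * w' * u₂ := by
  obtain ⟨u, hu, b, hb, rfl⟩ := h.bruhat g hg
  obtain ⟨d, hd, v, hv, rfl⟩ := h.Bmul' hb
  refine ⟨u, hu, w * d, W.mul_mem h.wW (h.DW hd), fun hc => ?_, v, hv, by group⟩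
  have := D.mul_mem hc (D.inv_mem hd)
  rw [mul_inv_cancel_right] at this
  exact h.wD this

theorem unique_bruhat (h : RankOne B Q D W w) {u u' b b' : G} (hu : u ∈ Q) (hu' : u' ∈ Q)
    (hb : b ∈ B) (hb' : b' ∈ B) (he : u * w * b = u' * w * b') : u = u' ∧ b = b' := by
  have h1 : w⁻¹ * (u'⁻¹ * u) * w = b' * b⁻¹ := by
    have h2 : u * w = u' * w * b' * b⁻¹ := by rw [← he]; group
    calc w⁻¹ * (u'⁻¹ * u) * w = w⁻¹ * u'⁻¹ * (u * w) := by group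
      _ = b' * b⁻¹ := by rw [h2]; group
  have h2 : u'⁻¹ * u ∈ Q := Q.mul_mem (Q.inv_mem hu') hu
  have h3 : u'⁻¹ * u = 1 := h.QD _ h2 (h.conjD _ (h.QB h2) (by
    rw [h1]; exact B.mul_mem hb' (B.inv_mem hb)))
  have h4 : u = u' := (inv_mul_eq_one.1 h3).symm
  refine ⟨h4, ?_⟩
  rw [h4] at he
  exact mul_left_cancel he

theorem mid_not_mem (h : RankOne B Q D W w) {u b : G} (hu : u ∈ Q) (hb : b ∈ B) :
    u * w * b ∉ B := by
  intro hm
  apply h.wB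
  have := B.mul_mem (B.mul_mem (B.inv_mem (h.QB hu)) hm) (B.inv_mem hb)
  have h1 : u⁻¹ * (u * w * b) * b⁻¹ = w := by group
  rwa [h1] at this

/-- Sum over `G = B ∪ Q w B`. -/
theorem sum_eq (h : RankOne B Q D W w) {M : Type*} [AddCommMonoid M] [Fintype G] [Fintype B]
    [Fintype Q] (f : G → M) :
    ∑ g : G, f g = ∑ b : B, f b + ∑ u : Q, ∑ b : B, f (u * w * b) := by
  classical
  rw [← Finset.sum_filter_add_sum_filter_not Finset.univ (fun g => g ∈ B)]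
  congr 1
  · symm
    refine Finset.sum_bij (fun b _ => (b : G)) (fun b _ => by simp) (fun a _ b _ hab =>
      Subtype.ext hab) (fun g hg => ⟨⟨g, by simpa using hg⟩, Finset.mem_univ _, rfl⟩)
      (fun _ _ => rfl)
  · rw [← Finset.sum_product']
    symm
    refine Finset.sum_bij (fun p _ => (p.1 : G) * w * (p.2 : G)) (fun p _ => ?_) ?_ ?_
      (fun _ _ => rfl)
    · simp only [Finset.mem_filter, Finset.mem_univ, true_and]
      exact h.mid_not_mem p.1.2 p.2.2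
    · rintro ⟨u, b⟩ _ ⟨u', b'⟩ _ he
      obtain ⟨h1, h2⟩ := h.unique_bruhat u.2 u'.2 b.2 b'.2 he
      exact Prod.ext (Subtype.ext h1) (Subtype.ext h2)
    · intro g hg
      simp only [Finset.mem_filter, Finset.mem_univ, true_and] at hg
      obtain ⟨u, hu, b, hb, rfl⟩ := h.bruhat g hg
      exact ⟨(⟨u, hu⟩, ⟨b, hb⟩), by simp, rfl⟩

theorem card_eq (h : RankOne B Q D W w) [Finite G] :
    Nat.card G = (Nat.card Q + 1) * Nat.card B := by
  classical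
  have := Fintype.ofFinite G
  have := Fintype.ofFinite B
  have := Fintype.ofFinite Q
  have h1 := h.sum_eq (M := ℕ) (fun _ => 1)
  simp only [Finset.sum_const, Finset.card_univ, smul_eq_mul, mul_one] at h1
  simp only [Nat.card_eq_fintype_card]
  rw [h1]
  ring

theorem card_B (h : RankOne B Q D W w) [Finite G] : Nat.card B = Nat.card Q * Nat.card D := by
  classical
  have hinj : Function.Injective (fun p : Q × D => (⟨(p.1 : G) * p.2,
      B.mul_mem (h.QB p.1.2) (h.DB p.2.2)⟩ : B)) := by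
    rintro ⟨u, d⟩ ⟨u', d'⟩ he
    have he' : (u : G) * d = u' * d' := congrArg Subtype.val he
    have h1 : (u' : G)⁻¹ * u = d' * (d : G)⁻¹ := by
      have h2 : (u : G) = u' * d' * (d : G)⁻¹ := by rw [← he']; group
      rw [h2]; group
    have h3 : (u' : G)⁻¹ * u = 1 := h.QD _ (Q.mul_mem (Q.inv_mem u'.2) u.2) (by
      rw [h1]; exact D.mul_mem d'.2 (D.inv_mem d.2))
    have h4 : (u : G) = u' := (inv_mul_eq_one.1 h3).symm
    rw [h4] at he'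
    exact Prod.ext (Subtype.ext h4) (Subtype.ext (mul_left_cancel he'))
  have hsurj : Function.Surjective (fun p : Q × D => (⟨(p.1 : G) * p.2,
      B.mul_mem (h.QB p.1.2) (h.DB p.2.2)⟩ : B)) := by
    rintro ⟨b, hb⟩
    obtain ⟨u, hu, d, hd, rfl⟩ := h.Bmul b hb
    exact ⟨(⟨u, hu⟩, ⟨d, hd⟩), rfl⟩
  rw [← Nat.card_prod]
  exact (Nat.card_congr (Equiv.ofBijective _ ⟨hinj, hsurj⟩)).symm

end RankOne

end Cfsg.Agent.HKS
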