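import Mathlib
import Cfsg.Agent.HKS.RankOne

/-!
# Strongly split 2-transitive groups: permutation form

`SSplit U` : the group `G` acts on `Ω`, and `U a` (`a : Ω`) is an equivariant family of nilpotent
subgroups, `U a` fixing `a` and regular on the remaining points (of which there are at least two).
The action need not be faithful.

* `Dab a b`, `Wab a b`: the stabilisers of the pair `(a, b)` and of the set `{a, b}`;
* `SSplit.rankOne`: the group form `RankOne`;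
* `SSplit.mid a b g` : the middle element of `g`, that is the `m ∈ Wab a b ∖ Dab a b` with
  `g ∈ U a * m * U a` (for `g • a ≠ a`);
* `SSplit.sub`, `SSplit.fixed`: substructures; `C_G(X)` on the fixed points of `X`.
-/

set_option autoImplicit false

namespace Cfsg.Agent.HKS

open Subgroup MulAction

/-- The group `G` acts on `Ω`, and `U a` (`a : Ω`) is an equivariant family of nilpotent
subgroups, `U a` fixing `a` and regular on the remaining points (at least two). -/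
structure SSplit {G Ω : Type*} [Group G] [MulAction G Ω] (U : Ω → Subgroup G) : Prop where
  fix : ∀ {a : Ω} {x : G}, x ∈ U a → x • a = a
  conj : ∀ (g : G) {a : Ω} {x : G}, x ∈ U a → g * x * g⁻¹ ∈ U (g • a)
  trans : ∀ {a b c : Ω}, b ≠ a → c ≠ a → ∃ x ∈ U a, x • b = c
  free : ∀ {a b : Ω} {x : G}, b ≠ a → x ∈ U a → x • b = b → x = 1
  nil : ∀ a : Ω, Group.IsNilpotent (U a)
  three : ∀ a b : Ω, ∃ c : Ω, c ≠ a ∧ c ≠ b

section Defs

variable {G Ω : Type*} [Group G] [MulAction G Ω]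

/-- The stabiliser of the ordered pair `(a, b)`. -/
def Dab (G : Type*) {Ω : Type*} [Group G] [MulAction G Ω] (a b : Ω) : Subgroup G :=
  stabilizer G a ⊓ stabilizer G b

theorem mem_Dab {a b : Ω} {g : G} : g ∈ Dab G a b ↔ g • a = a ∧ g • b = b := Iff.rfl

/-- The stabiliser of the set `{a, b}`. -/
def Wab (G : Type*) {Ω : Type*} [Group G] [MulAction G Ω] (a b : Ω) : Subgroup G where
  carrier := {g | (g • a = a ∧ g • b = b) ∨ (g • a = b ∧ g • b = a)}
  mul_mem' := by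
    rintro x y (⟨h1, h2⟩ | ⟨h1, h2⟩) (⟨h3, h4⟩ | ⟨h3, h4⟩)
    · exact Or.inl ⟨by rw [mul_smul, h3, h1], by rw [mul_smul, h4, h2]⟩
    · exact Or.inr ⟨by rw [mul_smul, h3, h2], by rw [mul_smul, h4, h1]⟩
    · exact Or.inr ⟨by rw [mul_smul, h3, h1], by rw [mul_smul, h4, h2]⟩
    · exact Or.inl ⟨by rw [mul_smul, h3, h2], by rw [mul_smul, h4, h1]⟩
  one_mem' := Or.inl ⟨one_smul _ _, one_smul _ _⟩
  inv_mem' := by
    rintro x (⟨h1, h2⟩ | ⟨h1, h2⟩)
    · exact Or.inl ⟨by rw [inv_smul_eq_iff, h1], by rw [inv_smul_eq_iff, h2]⟩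
    · exact Or.inr ⟨by rw [inv_smul_eq_iff, h2], by rw [inv_smul_eq_iff, h1]⟩

theorem mem_Wab {a b : Ω} {g : G} :
    g ∈ Wab G a b ↔ (g • a = a ∧ g • b = b) ∨ (g • a = b ∧ g • b = a) := Iff.rfl

theorem Dab_le_Wab (a b : Ω) : Dab G a b ≤ Wab G a b := fun _ h => Or.inl h

theorem Dab_symm (a b : Ω) : Dab G a b = Dab G b a := inf_comm _ _

theorem Wab_symm (a b : Ω) : Wab G a b = Wab G b a := by
  ext g
  rw [mem_Wab, mem_Wab]
  constructor
  · rintro (⟨h1, h2⟩ | ⟨h1, h2⟩)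
    · exact Or.inl ⟨h2, h1⟩
    · exact Or.inr ⟨h2, h1⟩
  · rintro (⟨h1, h2⟩ | ⟨h1, h2⟩)
    · exact Or.inl ⟨h2, h1⟩
    · exact Or.inr ⟨h2, h1⟩

/-- `g` interchanges `a` and `b`. -/
def Swaps (g : G) (a b : Ω) : Prop := g • a = b ∧ g • b = a

theorem mem_Wab_not_mem_Dab {a b : Ω} (hab : b ≠ a) {g : G} :
    (g ∈ Wab G a b ∧ g ∉ Dab G a b) ↔ Swaps g a b := by
  rw [mem_Wab, mem_Dab, Swaps]
  constructor
  · rintro ⟨h1 | h1, h2⟩
    · exact absurd h1 h2
    · exact h1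
  · intro h1
    exact ⟨Or.inr h1, fun h2 => hab (h1.1.symm.trans h2.1)⟩

namespace Swaps

variable {a b : Ω} {g k : G}

theorem symm (h : Swaps g a b) : Swaps g b a := ⟨h.2, h.1⟩

theorem inv (h : Swaps g a b) : Swaps g⁻¹ a b :=
  ⟨by rw [inv_smul_eq_iff, h.2], by rw [inv_smul_eq_iff, h.1]⟩

theorem mul (h : Swaps g a b) (h' : Swaps k a b) : g * k ∈ Dab G a b :=
  ⟨by
    change (g * k) • a = a
    rw [mul_smul, h'.1, h.2], by
    change (g * k) • b = b
    rw [mul_smul, h'.2, h.1]⟩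

theorem mul_D (h : Swaps g a b) (h' : k ∈ Dab G a b) : Swaps (g * k) a b :=
  ⟨by rw [mul_smul, h'.1, h.1], by rw [mul_smul, h'.2, h.2]⟩

theorem D_mul (h : Swaps g a b) (h' : k ∈ Dab G a b) : Swaps (k * g) a b :=
  ⟨by rw [mul_smul, h.1, h'.2], by rw [mul_smul, h.2, h'.1]⟩

theorem conj (h : Swaps g a b) (k : G) : Swaps (k * g * k⁻¹) (k • a) (k • b) :=
  ⟨by rw [mul_smul, inv_smul_smul, mul_smul, h.1], by rw [mul_smul, inv_smul_smul, mul_smul, h.2]⟩

theorem mem_W (h : Swaps g a b) : g ∈ Wab G a b := Or.inr h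

end Swaps

end Defs

namespace SSplit

variable {G Ω : Type*} [Group G] [MulAction G Ω] {U : Ω → Subgroup G}

theorem conj' (h : SSplit U) (g : G) {a : Ω} {x : G} (hx : x ∈ U (g • a)) : g⁻¹ * x * g ∈ U a := by
  have := h.conj g⁻¹ hx
  rwa [inv_smul_smul, inv_inv] at this

theorem conj_iff (h : SSplit U) (g : G) {a : Ω} {x : G} : g * x * g⁻¹ ∈ U (g • a) ↔ x ∈ U a := by
  constructor
  · intro hx
    have h1 := h.conj' g hx
    have h2 : g⁻¹ * (g * x * g⁻¹) * g = x := by group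
    rwa [h2] at h1
  · exact h.conj g

theorem conj_of_fix (h : SSplit U) {g : G} {a : Ω} (hg : g • a = a) {x : G} (hx : x ∈ U a) :
    g * x * g⁻¹ ∈ U a := by
  have := h.conj g hx
  rwa [hg] at this

theorem conj_of_fix' (h : SSplit U) {g : G} {a : Ω} (hg : g • a = a) {x : G} (hx : x ∈ U a) :
    g⁻¹ * x * g ∈ U a := by
  have := h.conj_of_fix (g := g⁻¹) (by rw [inv_smul_eq_iff, hg]) hx
  rwa [inv_inv] at this

theorem conj_of_eq (h : SSplit U) {g : G} {a b : Ω} (hg : g • a = b) {x : G} (hx : x ∈ U a) :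
    g * x * g⁻¹ ∈ U b := by
  have := h.conj g hx
  rwa [hg] at this

theorem conj_of_eq' (h : SSplit U) {g : G} {a b : Ω} (hg : g • a = b) {x : G} (hx : x ∈ U b) :
    g⁻¹ * x * g ∈ U a := by
  subst hg
  exact h.conj' g hx

/-- `G` is transitive. -/
theorem tr (h : SSplit U) (a b : Ω) : ∃ g : G, g • a = b := by
  obtain ⟨c, hca, hcb⟩ := h.three a b
  obtain ⟨x, -, hx⟩ := h.trans (a := c) (b := a) (c := b) hca.symm hcb.symm
  exact ⟨x, hx⟩

/-- `G` is 2-transitive. -/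
theorem two (h : SSplit U) {a b c d : Ω} (hab : a ≠ b) (hcd : c ≠ d) :
    ∃ g : G, g • a = c ∧ g • b = d := by
  obtain ⟨g, hg⟩ := h.tr a c
  obtain ⟨x, hx, hx'⟩ := h.trans (a := c) (b := g • b) (c := d)
    (fun e => hab (MulAction.injective g (by change g • a = g • b; rw [hg]; exact e.symm))) hcd.symm
  exact ⟨x * g, by rw [mul_smul, hg, h.fix hx], by rw [mul_smul, hx']⟩

theorem exists_swaps (h : SSplit U) {a b : Ω} (hab : b ≠ a) : ∃ w : G, Swaps w a b :=
  h.two hab.symm hab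

theorem eq_of_smul_eq (h : SSplit U) {a b : Ω} (hb : b ≠ a) {x y : G} (hx : x ∈ U a)
    (hy : y ∈ U a) (hxy : x • b = y • b) : x = y := by
  have h1 : y⁻¹ * x = 1 := h.free hb ((U a).mul_mem ((U a).inv_mem hy) hx) (by
    rw [mul_smul, hxy, inv_smul_smul])
  exact (inv_mul_eq_one.1 h1).symm

theorem smul_ne_of_ne (h : SSplit U) {a b : Ω} (hb : b ≠ a) {x : G} (hx : x ∈ U a)
    (hx1 : x ≠ 1) : x • b ≠ b := fun hc => hx1 (h.free hb hx hc)

theorem smul_ne_center (h : SSplit U) {a b : Ω} (hb : b ≠ a) {x : G} (hx : x ∈ U a) :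
    x • b ≠ a := fun hc => hb (MulAction.injective x (by
      change x • b = x • a
      rw [hc, h.fix hx]))

theorem inf_eq_bot (h : SSplit U) {a b : Ω} (hab : b ≠ a) {x : G} (hx : x ∈ U a)
    (hx' : x ∈ U b) : x = 1 := h.free hab hx (h.fix hx')

/-- The group form. -/
theorem rankOne (h : SSplit U) {a b : Ω} (hab : b ≠ a) {w : G} (hw : Swaps w a b) :
    RankOne (stabilizer G a) (U a) (Dab G a b) (Wab G a b) w where
  QB := fun _ hx => h.fix hx
  Qn := fun _ hb _ hu => h.conj_of_fix hb hu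
  DB := inf_le_left
  Bmul := by
    intro g hg
    have hg' : g • a = a := hg
    have h1 : g • b ≠ a := fun hc => hab (MulAction.injective g (by
      change g • b = g • a
      rw [hc, hg']))
    obtain ⟨x, hx, hxb⟩ := h.trans hab h1
    refine ⟨x, hx, x⁻¹ * g, ⟨?_, ?_⟩, by group⟩
    · change (x⁻¹ * g) • a = a
      rw [mul_smul, hg', inv_smul_eq_iff, h.fix hx]
    · change (x⁻¹ * g) • b = b
      rw [mul_smul, inv_smul_eq_iff, hxb]
  QD := fun x hx hxD => h.free hab hx hxD.2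
  DW := Dab_le_Wab a b
  wW := hw.mem_W
  wB := fun hc => hab (hw.1.symm.trans hc)
  Wmul := by
    intro g hg hgD
    have h1 := (mem_Wab_not_mem_Dab hab).1 ⟨hg, hgD⟩
    exact ⟨w⁻¹ * g, hw.inv.mul h1, by group⟩
  Wn := by
    rintro g (⟨h1, h2⟩ | ⟨h1, h2⟩) d ⟨h3, h4⟩
    · have h3' : d • a = a := h3
      have h4' : d • b = b := h4
      refine ⟨?_, ?_⟩
      · change (g * d * g⁻¹) • a = a
        rw [mul_smul, mul_smul, show g⁻¹ • a = a by rw [inv_smul_eq_iff, h1], h3', h1]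
      · change (g * d * g⁻¹) • b = b
        rw [mul_smul, mul_smul, show g⁻¹ • b = b by rw [inv_smul_eq_iff, h2], h4', h2]
    · have h3' : d • a = a := h3
      have h4' : d • b = b := h4
      refine ⟨?_, ?_⟩
      · change (g * d * g⁻¹) • a = a
        rw [mul_smul, mul_smul, show g⁻¹ • a = b by rw [inv_smul_eq_iff, h2], h4', h2]
      · change (g * d * g⁻¹) • b = b
        rw [mul_smul, mul_smul, show g⁻¹ • b = a by rw [inv_smul_eq_iff, h1], h3', h1]
  WB := by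
    rintro g (h1 | ⟨h1, h2⟩) hg
    · exact h1
    · exact absurd (h1.symm.trans hg) hab
  bruhat := by
    intro g hg
    obtain ⟨x, hx, hxb⟩ := h.trans (a := a) (b := b) (c := g • a) hab hg
    refine ⟨x, hx, (x * w)⁻¹ * g, ?_, by group⟩
    change ((x * w)⁻¹ * g) • a = a
    rw [mul_smul, inv_smul_eq_iff, mul_smul, hw.1, hxb]
  conjD := by
    intro g hg hg'
    refine ⟨hg, ?_⟩
    have h1 : (w⁻¹ * g * w) • a = a := hg'
    rw [mul_smul, mul_smul, inv_smul_eq_iff, hw.1] at h1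
    exact h1

/-! ### The middle element -/

theorem exists_mid (h : SSplit U) {a b : Ω} (hab : b ≠ a) {g : G} (hg : g • a ≠ a) :
    ∃ m : G, Swaps m a b ∧ ∃ x ∈ U a, ∃ y ∈ U a, g = x * m * y := by
  obtain ⟨x, hx, hxb⟩ := h.trans (a := a) (b := b) (c := g • a) hab hg
  have h1 : g⁻¹ • a ≠ a := fun hc => hg (by rw [← hc, smul_inv_smul, hc])
  obtain ⟨y, hy, hyb⟩ := h.trans (a := a) (b := b) (c := g⁻¹ • a) hab h1
  refine ⟨x⁻¹ * g * y, ⟨?_, ?_⟩, x, hx, y⁻¹, (U a).inv_mem hy, by group⟩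
  · rw [mul_smul, mul_smul, h.fix hy, inv_smul_eq_iff, hxb]
  · rw [mul_smul, mul_smul, hyb, smul_inv_smul, inv_smul_eq_iff, h.fix hx]

theorem mid_unique (h : SSplit U) {a b : Ω} (hab : b ≠ a) {x x' m m' y y' : G}
    (hm : Swaps m a b) (hm' : Swaps m' a b) (hx : x ∈ U a) (hx' : x' ∈ U a) (hy : y ∈ U a)
    (hy' : y' ∈ U a) (he : x * m * y = x' * m' * y') : x = x' ∧ m = m' ∧ y = y' := by
  have h1 : x = x' := by
    refine h.eq_of_smul_eq hab hx hx' ?_
    have h2 := congrArg (· • a) he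
    simp only [mul_smul, h.fix hy, h.fix hy', hm.1, hm'.1] at h2
    exact h2
  subst h1
  have h2 : m * y = m' * y' := by
    have := he
    rw [mul_assoc, mul_assoc] at this
    exact mul_left_cancel this
  have h3 : y⁻¹ = y'⁻¹ := by
    refine h.eq_of_smul_eq hab ((U a).inv_mem hy) ((U a).inv_mem hy') ?_
    have h3 := congrArg (fun k => k⁻¹ • a) h2
    simp only [mul_inv_rev, mul_smul] at h3
    rwa [hm.inv.1, hm'.inv.1] at h3
  have h4 : y = y' := inv_injective h3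
  subst h4
  exact ⟨rfl, mul_right_cancel h2, rfl⟩

open Classical in
/-- The middle element of `g` with respect to `U a` and the point `b ≠ a`. -/
noncomputable def mid (U : Ω → Subgroup G) (a b : Ω) (g : G) : G :=
  if h : ∃ m : G, Swaps m a b ∧ ∃ x ∈ U a, ∃ y ∈ U a, g = x * m * y then h.choose else 1

theorem mid_spec (h : SSplit U) {a b : Ω} (hab : b ≠ a) {g : G} (hg : g • a ≠ a) :
    Swaps (mid U a b g) a b ∧ ∃ x ∈ U a, ∃ y ∈ U a, g = x * mid U a b g * y := by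
  have h1 := h.exists_mid hab hg
  rw [mid, dif_pos h1]
  exact h1.choose_spec

theorem mid_swaps (h : SSplit U) {a b : Ω} (hab : b ≠ a) {g : G} (hg : g • a ≠ a) :
    Swaps (mid U a b g) a b := (h.mid_spec hab hg).1

theorem mid_eq (h : SSplit U) {a b : Ω} (hab : b ≠ a) {x m y : G} (hm : Swaps m a b)
    (hx : x ∈ U a) (hy : y ∈ U a) : mid U a b (x * m * y) = m := by
  have h1 : (x * m * y) • a ≠ a := by
    rw [mul_smul, mul_smul, h.fix hy, hm.1]
    exact h.smul_ne_center hab hx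
  obtain ⟨h2, x', hx', y', hy', he⟩ := h.mid_spec hab h1
  exact (h.mid_unique hab hm h2 hx hx' hy hy' he).2.1.symm

theorem mid_of_swaps (h : SSplit U) {a b : Ω} (hab : b ≠ a) {m : G} (hm : Swaps m a b) :
    mid U a b m = m := by
  have := h.mid_eq hab hm (U a).one_mem (U a).one_mem
  rwa [one_mul, mul_one] at this

/-- `mid` of a product with elements of `U a`. -/
theorem mid_mul (h : SSplit U) {a b : Ω} (hab : b ≠ a) {g : G} (hg : g • a ≠ a) {x y : G}
    (hx : x ∈ U a) (hy : y ∈ U a) : mid U a b (x * g * y) = mid U a b g := by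
  obtain ⟨h2, x', hx', y', hy', he⟩ := h.mid_spec hab hg
  have : x * g * y = (x * x') * mid U a b g * (y' * y) := by
    conv_lhs => rw [he]
    group
  rw [this]
  exact h.mid_eq hab h2 ((U a).mul_mem hx hx') ((U a).mul_mem hy' hy)

theorem mid_conj (h : SSplit U) {a b : Ω} (hab : b ≠ a) {g : G} (hg : g • a ≠ a) (k : G) :
    mid U (k • a) (k • b) (k * g * k⁻¹) = k * mid U a b g * k⁻¹ := by
  obtain ⟨h2, x', hx', y', hy', he⟩ := h.mid_spec hab hg
  have h3 : k * g * k⁻¹ = (k * x' * k⁻¹) * (k * mid U a b g * k⁻¹) * (k * y' * k⁻¹) := by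
    conv_lhs => rw [he]
    group
  rw [h3]
  exact h.mid_eq (fun hc => hab (MulAction.injective k hc)) (h2.conj k) (h.conj k hx')
    (h.conj k hy')

theorem mid_conj_D (h : SSplit U) {a b : Ω} (hab : b ≠ a) {g : G} (hg : g • a ≠ a) {d : G}
    (hd : d ∈ Dab G a b) : mid U a b (d * g * d⁻¹) = d * mid U a b g * d⁻¹ := by
  have h1 := h.mid_conj hab hg d
  rwa [show d • a = a from hd.1, show d • b = b from hd.2] at h1

/-- conjugation by an element fixing `a` (and normalising `U a`). -/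
theorem mid_conj_U (h : SSplit U) {a b : Ω} (hab : b ≠ a) {g : G} (hg : g • a ≠ a) {x : G}
    (hx : x ∈ U a) : mid U a b (x * g * x⁻¹) = mid U a b g :=
  h.mid_mul hab hg hx ((U a).inv_mem hx)

theorem mid_inv (h : SSplit U) {a b : Ω} (hab : b ≠ a) {g : G} (hg : g • a ≠ a) :
    mid U a b g⁻¹ = (mid U a b g)⁻¹ := by
  obtain ⟨h2, x', hx', y', hy', he⟩ := h.mid_spec hab hg
  have h3 : g⁻¹ = y'⁻¹ * (mid U a b g)⁻¹ * x'⁻¹ := by
    conv_lhs => rw [he]
    group
  rw [h3]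
  exact h.mid_eq hab h2.inv ((U a).inv_mem hy') ((U a).inv_mem hx')

theorem mid_D_mul (h : SSplit U) {a b : Ω} (hab : b ≠ a) {g : G} (hg : g • a ≠ a) {d : G}
    (hd : d ∈ Dab G a b) : mid U a b (d * g) = d * mid U a b g := by
  obtain ⟨h2, x', hx', y', hy', he⟩ := h.mid_spec hab hg
  have h3 : d * g = (d * x' * d⁻¹) * (d * mid U a b g) * y' := by
    conv_lhs => rw [he]
    group
  rw [h3]
  exact h.mid_eq hab (h2.D_mul hd) (h.conj_of_fix hd.1 hx') hy'

theorem mid_mul_D (h : SSplit U) {a b : Ω} (hab : b ≠ a) {g : G} (hg : g • a ≠ a) {d : G}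
    (hd : d ∈ Dab G a b) : mid U a b (g * d) = mid U a b g * d := by
  obtain ⟨h2, x', hx', y', hy', he⟩ := h.mid_spec hab hg
  have h3 : g * d = x' * (mid U a b g * d) * (d⁻¹ * y' * d) := by
    conv_lhs => rw [he]
    group
  rw [h3]
  exact h.mid_eq hab (h2.mul_D hd) hx' (h.conj_of_fix' hd.1 hy')

/-- An involution with middle element `m` is conjugate (under `U a`) to `m`. -/
theorem conj_mid_of_sq (h : SSplit U) {a b : Ω} (hab : b ≠ a) {g : G} (hg : g • a ≠ a)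
    (h2 : g * g = 1) : mid U a b g * mid U a b g = 1 ∧
      ∃ x ∈ U a, g = x * mid U a b g * x⁻¹ := by
  obtain ⟨hs, x, hx, y, hy, he⟩ := h.mid_spec hab hg
  have hi : g⁻¹ = g := inv_eq_of_mul_eq_one_left h2
  have h3 : y⁻¹ * (mid U a b g)⁻¹ * x⁻¹ = x * mid U a b g * y := by
    calc y⁻¹ * (mid U a b g)⁻¹ * x⁻¹ = (x * mid U a b g * y)⁻¹ := by group
      _ = g⁻¹ := by rw [← he]
      _ = _ := by rw [hi]; exact he
  obtain ⟨h4, h5, h6⟩ := h.mid_unique hab hs.inv hs ((U a).inv_mem hy) hx ((U a).inv_mem hx) hy h3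
  refine ⟨?_, x, hx, ?_⟩
  · have := mul_inv_cancel (mid U a b g)
    rwa [h5] at this
  · rw [h6]; exact he

/-! ### The `μ`-map -/

/-- The `μ`-map: for `u ∈ U b`, `u ≠ 1`, the middle element of `u` with respect to `U a`. -/
noncomputable def mu (U : Ω → Subgroup G) (a b : Ω) (u : G) : G := mid U a b u

theorem mu_spec (h : SSplit U) {a b : Ω} (hab : b ≠ a) {u : G} (hu : u ∈ U b) (hu1 : u ≠ 1) :
    Swaps (mu U a b u) a b ∧ ∃ x ∈ U a, ∃ y ∈ U a, x ≠ 1 ∧ y ≠ 1 ∧ u = x * mu U a b u * y := by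
  obtain ⟨hs, x, hx, y, hy, he⟩ := h.mid_spec hab (h.smul_ne_of_ne hab.symm hu hu1)
  refine ⟨hs, x, hx, y, hy, ?_, ?_, he⟩
  · rintro rfl
    rw [one_mul] at he
    have h1 : u • a = b := by rw [he, mul_smul, h.fix hy]; exact hs.1
    exact h.smul_ne_center hab.symm hu h1
  · rintro rfl
    rw [mul_one] at he
    have h1 : u⁻¹ • a = b := by
      rw [inv_smul_eq_iff, he, mul_smul, show mid U a b u • b = a from hs.2, h.fix hx]
    exact h.smul_ne_center hab.symm ((U b).inv_mem hu) h1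

theorem mu_swaps (h : SSplit U) {a b : Ω} (hab : b ≠ a) {u : G} (hu : u ∈ U b) (hu1 : u ≠ 1) :
    Swaps (mu U a b u) a b := (h.mu_spec hab hu hu1).1

theorem mu_conj_D (h : SSplit U) {a b : Ω} (hab : b ≠ a) {u : G} (hu : u ∈ U b) (hu1 : u ≠ 1)
    {d : G} (hd : d ∈ Dab G a b) : mu U a b (d * u * d⁻¹) = d * mu U a b u * d⁻¹ :=
  h.mid_conj_D hab (h.smul_ne_of_ne hab.symm hu hu1) hd

theorem mu_inv (h : SSplit U) {a b : Ω} (hab : b ≠ a) {u : G} (hu : u ∈ U b) (hu1 : u ≠ 1) :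
    mu U a b u⁻¹ = (mu U a b u)⁻¹ := h.mid_inv hab (h.smul_ne_of_ne hab.symm hu hu1)

/-- The three elements of a relation `u = x μ y` have the same `μ`. -/
theorem mu_hat (h : SSplit U) {a b : Ω} (hab : b ≠ a) {u x y m : G} (hu : u ∈ U b)
    (hx : x ∈ U a) (hy : y ∈ U a) (hm : Swaps m a b)
    (he : u = x * m * y) : mu U a b u = m ∧ mu U b a x⁻¹ = m ∧ mu U b a y⁻¹ = m := by
  refine ⟨?_, ?_, ?_⟩
  · rw [he]; exact h.mid_eq hab hm hx hy
  · have h1 : x⁻¹ = (m * y * m⁻¹) * m * u⁻¹ := by rw [he]; group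
    rw [h1]
    exact h.mid_eq hab.symm hm.symm (h.conj_of_eq hm.1 hy) ((U b).inv_mem hu)
  · have h1 : y⁻¹ = u⁻¹ * m * (m⁻¹ * x * m) := by rw [he]; group
    rw [h1]
    exact h.mid_eq hab.symm hm.symm ((U b).inv_mem hu) (h.conj_of_eq' hm.2 hx)

/-- Moving `μ` from `(a,b)` to `(b,a)` by an element interchanging the two points. -/
theorem mu_conj_swaps (h : SSplit U) {a b : Ω} (hab : b ≠ a) {u : G} (hu : u ∈ U b) (hu1 : u ≠ 1)
    {k : G} (hk : Swaps k a b) : mu U b a (k * u * k⁻¹) = k * mu U a b u * k⁻¹ := by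
  have h1 := h.mid_conj hab (h.smul_ne_of_ne hab.symm hu hu1) k
  rwa [hk.1, hk.2] at h1

/-- Every `μ`-element for `(a,b)` is one for `(b,a)`. -/
theorem exists_mu_symm (h : SSplit U) {a b : Ω} (hab : b ≠ a) {u : G} (hu : u ∈ U b)
    (hu1 : u ≠ 1) : ∃ x ∈ U a, x ≠ 1 ∧ mu U b a x = mu U a b u := by
  obtain ⟨hs, x, hx, y, hy, hx1, -, he⟩ := h.mu_spec hab hu hu1
  exact ⟨x⁻¹, (U a).inv_mem hx, fun hc => hx1 (inv_eq_one.1 hc), (h.mu_hat hab hu hx hy hs he).2.1⟩

/-- An element centralising `u` and fixing `a` and `b` centralises `μ_u`. -/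
theorem mu_comm (h : SSplit U) {a b : Ω} (hab : b ≠ a) {u : G} (hu : u ∈ U b) (hu1 : u ≠ 1)
    {d : G} (hd : d ∈ Dab G a b) (hc : d * u = u * d) : d * mu U a b u = mu U a b u * d := by
  have h1 := h.mu_conj_D hab hu hu1 hd
  have h2 : d * u * d⁻¹ = u := by rw [hc]; group
  rw [h2] at h1
  calc d * mu U a b u = d * mu U a b u * d⁻¹ * d := by group
    _ = mu U a b u * d := by rw [← h1]

/-- `z` fixing `a, b` and inverting `u` inverts `μ_u`; if `z² = 1` then `z u` is conjugate to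
`z μ_u`, an involution or `1`. -/
theorem mu_inverted (h : SSplit U) {a b : Ω} (hab : b ≠ a) {u : G} (hu : u ∈ U b) (hu1 : u ≠ 1)
    {z : G} (hz : z ∈ Dab G a b) (hc : z * u * z⁻¹ = u⁻¹) :
    z * mu U a b u * z⁻¹ = (mu U a b u)⁻¹ := by
  rw [← h.mu_conj_D hab hu hu1 hz, hc, h.mu_inv hab hu hu1]

theorem conj_mul_mu (h : SSplit U) {a b : Ω} (hab : b ≠ a) {u : G} (hu : u ∈ U b) (hu1 : u ≠ 1)
    {z : G} (hz : z ∈ Dab G a b) (hz2 : z * z = 1) (hc : z * u * z⁻¹ = u⁻¹) :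
    ∃ y ∈ U a, z * u = y * (z * mu U a b u) * y⁻¹ := by
  have hne : (z * u) • a ≠ a := by
    intro hc'
    rw [mul_smul] at hc'
    have h1 : u • a = a := MulAction.injective z (by
      change z • u • a = z • a
      rw [hc', show z • a = a from hz.1])
    exact h.smul_ne_of_ne hab.symm hu hu1 h1
  have hinv : z⁻¹ = z := inv_eq_of_mul_eq_one_left hz2
  have h2 : (z * u) * (z * u) = 1 := by
    calc (z * u) * (z * u) = (z * u * z⁻¹) * u := by rw [hinv]; group
      _ = 1 := by rw [hc]; group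
  obtain ⟨-, x, hx, he⟩ := h.conj_mid_of_sq hab hne h2
  have h3 : mid U a b (z * u) = z * mu U a b u :=
    h.mid_D_mul hab (h.smul_ne_of_ne hab.symm hu hu1) hz
  rw [h3] at he
  exact ⟨x, hx, he⟩

end SSplit

end Cfsg.Agent.HKS
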