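import Mathlib
import Cfsg.Agent.HKS.Frame

/-!
# Substructures of strongly split 2-transitive groups

* `SSplit.card`: `|Ω| = |U a| + 1`;
* `SSplit.sub`: substructures; `SSplit.fixed`: `C_G(X)` on the fixed points of `X`;
* `SSplit.comm_of_fix`: elements fixing all fixed points of `X` centralise `C_{U a}(X)`;
* `SSplit.gen`: the subgroup generated by the `U a`;
* `SSplit.image`: the permutation group induced on `Ω`.
-/

set_option autoImplicit false

namespace Cfsg.Agent.HKS

open Subgroup MulAction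

variable {G Ω : Type*} [Group G] [MulAction G Ω] {U : Ω → Subgroup G}

theorem nil_of_injective {A B : Type*} [Group A] [Group B] (hB : Group.IsNilpotent B)
    (f : A →* B) (hf : Function.Injective f) : Group.IsNilpotent A := by
  have := hB
  exact Group.nilpotent_of_mulEquiv (MonoidHom.ofInjective hf).symm

theorem nil_subgroupOf {A : Type*} [Group A] {V : Subgroup A} (hV : Group.IsNilpotent V)
    (C : Subgroup A) : Group.IsNilpotent (V.subgroupOf C) :=
  nil_of_injective hV
    (⟨⟨fun x => ⟨((x : C) : A), mem_subgroupOf.1 x.2⟩, rfl⟩, fun _ _ => rfl⟩ :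
      (V.subgroupOf C) →* V) (by
    intro x y hxy
    have h1 : ((x : C) : A) = ((y : C) : A) := congrArg (fun k : V => (k : A)) hxy
    exact Subtype.ext (Subtype.ext h1))

theorem card_ne_pt {Ω : Type*} [Finite Ω] (a : Ω) : Nat.card {c : Ω // ¬ c = a} + 1 = Nat.card Ω := by
  classical
  have := Fintype.ofFinite Ω
  rw [Nat.card_eq_fintype_card, Nat.card_eq_fintype_card, Fintype.card_subtype_compl,
    Fintype.card_subtype_eq]
  have : 0 < Fintype.card Ω := Fintype.card_pos_iff.2 ⟨a⟩
  omega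

namespace SSplit

/-- `U a` in bijection with the points `≠ a`. -/
theorem bijective (h : SSplit U) {a b : Ω} (hab : b ≠ a) :
    Function.Bijective (fun x : U a => (⟨(x : G) • b, h.smul_ne_center hab x.2⟩ : {c : Ω // c ≠ a})) := by
  constructor
  · intro x y hxy
    exact Subtype.ext (h.eq_of_smul_eq hab x.2 y.2 (congrArg Subtype.val hxy))
  · rintro ⟨c, hc⟩
    obtain ⟨x, hx, hxb⟩ := h.trans hab hc
    exact ⟨⟨x, hx⟩, Subtype.ext hxb⟩

theorem card [Finite Ω] (h : SSplit U) (a : Ω) : Nat.card Ω = Nat.card (U a) + 1 := by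
  obtain ⟨b, hb, -⟩ := h.three a a
  rw [Nat.card_congr (Equiv.ofBijective _ (h.bijective hb))]
  exact (card_ne_pt a).symm

theorem finite_U [Finite Ω] (h : SSplit U) (a : Ω) : Finite (U a) := by
  obtain ⟨b, hb, -⟩ := h.three a a
  exact Finite.of_injective _ (h.bijective hb).1

theorem two_lt_card [Finite Ω] (h : SSplit U) (a : Ω) : 2 < Nat.card Ω := by
  classical
  have := Fintype.ofFinite Ω
  obtain ⟨b, hb, -⟩ := h.three a a
  obtain ⟨c, hca, hcb⟩ := h.three a b
  rw [Nat.card_eq_fintype_card]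
  have h1 : ({a, b, c} : Finset Ω).card = 3 := by
    rw [Finset.card_insert_of_notMem, Finset.card_insert_of_notMem, Finset.card_singleton]
    · simpa using hcb.symm
    · simp only [Finset.mem_insert, Finset.mem_singleton, not_or]
      exact ⟨hb.symm, hca.symm⟩
  have h2 := Finset.card_le_univ ({a, b, c} : Finset Ω)
  omega

theorem three_of_card {Ω : Type*} [Finite Ω] (h3 : 2 < Nat.card Ω) (a b : Ω) :
    ∃ c : Ω, c ≠ a ∧ c ≠ b := by
  classical
  have := Fintype.ofFinite Ω
  rw [Nat.card_eq_fintype_card] at h3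
  by_contra hc
  push Not at hc
  have h1 : (Finset.univ : Finset Ω) ⊆ {a, b} := by
    intro c _
    by_cases h : c = a
    · simp [h]
    · simp [hc c h]
  have h2 := Finset.card_le_card h1
  have h4 : ({a, b} : Finset Ω).card ≤ 2 := Finset.card_le_two
  rw [Finset.card_univ] at h2
  omega

/-- Substructures. -/
theorem sub (h : SSplit U) (C : Subgroup G) (Δ : SubMulAction C Ω)
    (h3 : ∀ a b : Δ, ∃ c : Δ, c ≠ a ∧ c ≠ b)
    (hC : ∀ a ∈ Δ, ∀ b ∈ Δ, b ≠ a → ∀ x ∈ U a, x • b ∈ Δ → x ∈ C) :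
    SSplit (G := C) (Ω := Δ) (fun a => (U (a : Ω)).subgroupOf C) where
  fix := by
    intro a x hx
    exact Subtype.ext (h.fix (mem_subgroupOf.1 hx))
  conj := by
    intro g a x hx
    rw [mem_subgroupOf] at hx ⊢
    exact h.conj (g : G) hx
  trans := by
    rintro ⟨a, ha⟩ ⟨b, hb⟩ ⟨c, hc⟩ hba hca
    have hba' : b ≠ a := fun e => hba (Subtype.ext e)
    obtain ⟨x, hx, hxb⟩ := h.trans hba' (fun e => hca (Subtype.ext e) : c ≠ a)
    have hxC : x ∈ C := hC a ha b hb hba' x hx (by rw [hxb]; exact hc)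
    exact ⟨⟨x, hxC⟩, hx, Subtype.ext hxb⟩
  free := by
    rintro ⟨a, ha⟩ ⟨b, hb⟩ x hba hx hxb
    exact Subtype.ext (h.free (fun e => hba (Subtype.ext e) : b ≠ a) hx (congrArg Subtype.val hxb))
  nil := by
    intro a
    exact nil_subgroupOf (h.nil (a : Ω)) C
  three := h3

end SSplit

/-- The fixed points of `X`, acted on by the centraliser of `X`. -/
def fixSub (Ω : Type*) [MulAction G Ω] (X : Subgroup G) :
    SubMulAction (centralizer (X : Set G)) Ω where
  carrier := {a | ∀ x ∈ X, x • a = a}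
  smul_mem' := by
    rintro ⟨c, hc⟩ a ha x hx
    change x • c • a = c • a
    rw [← mul_smul, mem_centralizer_iff.1 hc x hx, mul_smul, ha x hx]

theorem mem_fixSub {X : Subgroup G} {a : Ω} : a ∈ fixSub Ω X ↔ ∀ x ∈ X, x • a = a := Iff.rfl

namespace SSplit

/-- An element of `U a` mapping a fixed point of `X` to a fixed point of `X` centralises `X`. -/
theorem comm_of_fixSub (h : SSplit U) {X : Subgroup G} {a b : Ω} (ha : ∀ x ∈ X, x • a = a)
    (hb : ∀ x ∈ X, x • b = b) (hab : b ≠ a) {u : G} (hu : u ∈ U a)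
    (hub : ∀ x ∈ X, x • u • b = u • b) : u ∈ centralizer (X : Set G) := by
  rw [mem_centralizer_iff]
  intro x hx
  have h1 : x * u * x⁻¹ = u := h.eq_of_smul_eq hab (h.conj_of_fix (ha x hx) hu) hu (by
    rw [mul_smul, mul_smul, inv_smul_eq_iff.2 (hb x hx).symm, hub x hx])
  calc x * u = x * u * x⁻¹ * x := by group
    _ = u * x := by rw [h1]

/-- **`C_G(X)` on the fixed points of `X`**. -/
theorem fixed (h : SSplit U) (X : Subgroup G)
    (h3 : ∀ a b : fixSub Ω X, ∃ c : fixSub Ω X, c ≠ a ∧ c ≠ b) :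
    SSplit (G := centralizer (X : Set G)) (Ω := fixSub Ω X)
      (fun a => (U (a : Ω)).subgroupOf (centralizer (X : Set G))) :=
  h.sub _ _ h3 fun _ ha _ hb hba _ hx hxb => h.comm_of_fixSub ha hb hba hx hxb

/-- An element fixing all fixed points of `X` centralises `C_{U a}(X)`, for `a ∈ Fix X`. -/
theorem comm_of_fix (h : SSplit U) {X : Subgroup G} {a b : Ω} (ha : ∀ x ∈ X, x • a = a)
    (hb : ∀ x ∈ X, x • b = b) (hab : b ≠ a) {k : G}
    (hk : ∀ c : Ω, (∀ x ∈ X, x • c = c) → k • c = c) {u : G} (hu : u ∈ U a)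
    (huX : u ∈ centralizer (X : Set G)) : k * u = u * k := by
  have h1 : k * u * k⁻¹ = u := h.eq_of_smul_eq hab (h.conj_of_fix (hk a ha) hu) hu (by
    rw [mul_smul, mul_smul, inv_smul_eq_iff.2 (hk b hb).symm]
    refine hk _ fun x hx => ?_
    rw [← mul_smul, mem_centralizer_iff.1 huX x hx, mul_smul, hb x hx])
  calc k * u = k * u * k⁻¹ * k := by group
    _ = u * k := by rw [h1]

/-- The kernel of the action centralises all `U a`. -/
theorem comm_kernel (h : SSplit U) {a : Ω} {k : G} (hk : ∀ c : Ω, k • c = c) {u : G}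
    (hu : u ∈ U a) : k * u = u * k := by
  obtain ⟨b, hb, -⟩ := h.three a a
  refine h.comm_of_fix (X := ⊥) (a := a) (b := b) ?_ ?_ hb (fun c _ => hk c) hu ?_
  · intro x hx
    rw [mem_bot.1 hx, one_smul]
  · intro x hx
    rw [mem_bot.1 hx, one_smul]
  · rw [mem_centralizer_iff]
    intro x hx
    rw [mem_bot.1 hx, one_mul, mul_one]

/-- The number of fixed points of `X ≤ G_ab` is `|C_{U a}(X)| + 1`. -/
theorem card_fixSub (h : SSplit U) {X : Subgroup G} {a b : Ω} (hab : b ≠ a)
    (ha : ∀ x ∈ X, x • a = a) (hb : ∀ x ∈ X, x • b = b) [Finite Ω] :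
    Nat.card (fixSub Ω X) = Nat.card (U a ⊓ centralizer (X : Set G) : Subgroup G) + 1 := by
  classical
  have := Fintype.ofFinite Ω
  have hinj : Function.Bijective (fun x : (U a ⊓ centralizer (X : Set G) : Subgroup G) =>
      (⟨⟨(x : G) • b, fun y hy => by
        rw [← mul_smul, mem_centralizer_iff.1 x.2.2 y hy, mul_smul, hb y hy]⟩,
        h.smul_ne_center hab x.2.1⟩ : {c : fixSub Ω X // (c : Ω) ≠ a})) := by
    constructor
    · intro x y hxy
      exact Subtype.ext (h.eq_of_smul_eq hab x.2.1 y.2.1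
        (congrArg Subtype.val (congrArg Subtype.val hxy)))
    · rintro ⟨⟨c, hc⟩, hca⟩
      obtain ⟨x, hx, hxb⟩ := h.trans hab hca
      exact ⟨⟨x, hx, h.comm_of_fixSub ha hb hab hx (by rw [hxb]; exact hc)⟩,
        Subtype.ext (Subtype.ext hxb)⟩
  rw [Nat.card_congr (Equiv.ofBijective _ hinj)]
  have he : {c : fixSub Ω X // (c : Ω) ≠ a} ≃ {c : fixSub Ω X // ¬ c = ⟨a, ha⟩} :=
    Equiv.subtypeEquivRight fun c => ⟨fun hc e => hc (congrArg Subtype.val e),
      fun hc e => hc (Subtype.ext e)⟩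
  have : Finite (fixSub Ω X) := Subtype.finite
  rw [Nat.card_congr he]
  exact (card_ne_pt (⟨a, ha⟩ : fixSub Ω X)).symm

/-! ### The subgroup generated by the `U a` -/

theorem gen_of_le (h : SSplit U) (M : Subgroup G) (hM : ∀ a, U a ≤ M) :
    SSplit (G := M) (Ω := Ω) (fun a => (U a).subgroupOf M) where
  fix := fun hx => h.fix (mem_subgroupOf.1 hx)
  conj := fun g _ _ hx => by
    rw [mem_subgroupOf] at hx ⊢
    exact h.conj (g : G) hx
  trans := by
    intro a b c hba hca
    obtain ⟨x, hx, hxb⟩ := h.trans hba hca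
    exact ⟨⟨x, hM a hx⟩, hx, hxb⟩
  free := fun hba hx hxb => Subtype.ext (h.free hba hx hxb)
  nil := by
    intro a
    exact nil_subgroupOf (h.nil a) M
  three := h.three

theorem iSup_normal (h : SSplit U) : (⨆ a, U a).Normal := by
  constructor
  intro x hx g
  have h1 : (⨆ a, U a) ≤ (⨆ a, U a).comap (MulAut.conj g).toMonoidHom := by
    rw [iSup_le_iff]
    intro a y hy
    exact mem_iSup_of_mem (g • a) (h.conj g hy)
  exact h1 hx

/-- The subgroup generated by the `U a`. -/
theorem gen (h : SSplit U) :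
    SSplit (G := (⨆ a, U a : Subgroup G)) (Ω := Ω) (fun a => (U a).subgroupOf (⨆ a, U a)) :=
  h.gen_of_le _ fun a => le_iSup U a

omit [MulAction G Ω] in
theorem gen_iSup (M : Subgroup G) (hM : M = ⨆ a, U a) :
    (⨆ a, (U a).subgroupOf M) = ⊤ := by
  have h1 : ∀ a, U a ≤ M := fun a => by rw [hM]; exact le_iSup U a
  apply Subgroup.map_injective M.subtype_injective
  rw [Subgroup.map_iSup]
  have h2 : ∀ a, ((U a).subgroupOf M).map M.subtype = U a := fun a => by
    rw [subgroupOf_map_subtype, inf_eq_left.2 (h1 a)]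
  simp only [h2]
  rw [← hM, ← MonoidHom.range_eq_map, range_subtype]

/-- Two of the `U a` generate all of them. -/
theorem sup_eq_iSup (h : SSplit U) {a b : Ω} (hab : b ≠ a) : U a ⊔ U b = ⨆ c, U c := by
  apply le_antisymm (sup_le (le_iSup U a) (le_iSup U b))
  rw [iSup_le_iff]
  intro c x hx
  by_cases hca : c = a
  · rw [hca] at hx
    exact le_sup_left (a := U a) hx
  · obtain ⟨y, hy, hyb⟩ := h.trans (a := a) (b := b) (c := c) hab hca
    have h1 := h.conj_of_eq' hyb hx
    have h2 : x = y * (y⁻¹ * x * y) * y⁻¹ := by group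
    rw [h2]
    have hy' : y ∈ U a ⊔ U b := le_sup_left (a := U a) hy
    exact mul_mem (mul_mem hy' (le_sup_right (a := U a) h1)) (inv_mem hy')

/-! ### The permutation group on `Ω` -/

/-- The permutation group induced on `Ω`. -/
theorem image (h : SSplit U) :
    SSplit (G := (toPermHom G Ω).range) (Ω := Ω)
      (fun a => (U a).map (toPermHom G Ω).rangeRestrict) where
  fix := by
    rintro a _ ⟨x, hx, rfl⟩
    exact h.fix hx
  conj := by
    rintro ⟨_, g, rfl⟩ a _ ⟨x, hx, rfl⟩
    exact ⟨g * x * g⁻¹, h.conj g hx, by rw [map_mul, map_mul, map_inv]; rfl⟩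
  trans := by
    intro a b c hba hca
    obtain ⟨x, hx, hxb⟩ := h.trans hba hca
    exact ⟨_, ⟨x, hx, rfl⟩, hxb⟩
  free := by
    rintro a b _ hba ⟨x, hx, rfl⟩ hxb
    rw [h.free hba hx hxb, map_one]
  nil := by
    intro a
    have := h.nil a
    let f : U a →* ((U a).map (toPermHom G Ω).rangeRestrict) :=
      (toPermHom G Ω).rangeRestrict.subgroupMap (U a)
    exact Group.nilpotent_of_surjective f ((toPermHom G Ω).rangeRestrict.subgroupMap_surjective (U a))
  three := h.three

end SSplit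

end Cfsg.Agent.HKS
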