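import Mathlib
import Cfsg.Agent.HKS.FrameSub

/-!
# Strongly split 2-transitive groups: generation and normal subgroups

* `SSplit.closure_mu`: if `G` is generated by the `U a`, then `Wab a b` is generated by the `μ_u`;
* `SSplit.normal_trans`: a normal subgroup moving some point is transitive;
* `SSplit.normal_sup`: if moreover `G = ⟨U a⟩` and `N` is normal, `N` moves a point, then
  `G = N U a`, so `G / N` is nilpotent, of order dividing `|U a|`;
* `SSplit.hom_units`: if `|U a|` is odd and `G = ⟨U a⟩` then `G` has no quotient of order 2.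
-/

set_option autoImplicit false

namespace Cfsg.Agent.HKS

open Subgroup MulAction

variable {G Ω : Type*} [Group G] [MulAction G Ω] {U : Ω → Subgroup G}

namespace SSplit

/-- The set of `μ`-elements for `(a, b)`. -/
def muSet (U : Ω → Subgroup G) (a b : Ω) : Set G := {m | ∃ u ∈ U b, u ≠ 1 ∧ m = mu U a b u}

theorem muSet_swaps (h : SSplit U) {a b : Ω} (hab : b ≠ a) {m : G} (hm : m ∈ muSet U a b) :
    Swaps m a b := by
  obtain ⟨u, hu, hu1, rfl⟩ := hm
  exact h.mu_swaps hab hu hu1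

theorem muSet_symm (h : SSplit U) {a b : Ω} (hab : b ≠ a) : muSet U a b = muSet U b a := by
  apply Set.Subset.antisymm
  · rintro m ⟨u, hu, hu1, rfl⟩
    obtain ⟨x, hx, hx1, he⟩ := h.exists_mu_symm hab hu hu1
    exact ⟨x, hx, hx1, he.symm⟩
  · rintro m ⟨u, hu, hu1, rfl⟩
    obtain ⟨x, hx, hx1, he⟩ := h.exists_mu_symm hab.symm hu hu1
    exact ⟨x, hx, hx1, he.symm⟩

theorem muSet_inv (h : SSplit U) {a b : Ω} (hab : b ≠ a) {m : G} (hm : m ∈ muSet U a b) :
    m⁻¹ ∈ muSet U a b := by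
  obtain ⟨u, hu, hu1, rfl⟩ := hm
  exact ⟨u⁻¹, (U b).inv_mem hu, fun hc => hu1 (inv_eq_one.1 hc), (h.mu_inv hab hu hu1).symm⟩

theorem muSet_conj (h : SSplit U) {a b : Ω} (hab : b ≠ a) {m k : G} (hk : k ∈ Wab G a b)
    (hm : m ∈ muSet U a b) : k * m * k⁻¹ ∈ muSet U a b := by
  obtain ⟨u, hu, hu1, rfl⟩ := hm
  have h1 : k * u * k⁻¹ ≠ 1 := fun hc => hu1 (by
    have : u = k⁻¹ * (k * u * k⁻¹) * k := by group
    rw [this, hc]; group)
  rcases hk with hk | hk
  · exact ⟨k * u * k⁻¹, h.conj_of_fix hk.2 hu, h1, (h.mu_conj_D hab hu hu1 hk).symm⟩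
  · rw [h.muSet_symm hab]
    exact ⟨k * u * k⁻¹, h.conj_of_eq hk.2 hu, h1, (h.mu_conj_swaps hab hu hu1 hk).symm⟩

theorem closure_mu_le (h : SSplit U) {a b : Ω} (hab : b ≠ a) :
    closure (muSet U a b) ≤ Wab G a b := by
  rw [closure_le]
  intro m hm
  exact (h.muSet_swaps hab hm).mem_W

theorem exists_muSet (h : SSplit U) {a b : Ω} (hab : b ≠ a) : ∃ m, m ∈ muSet U a b := by
  obtain ⟨c, hc, hc'⟩ := h.three a b
  obtain ⟨u, hu, huc⟩ := h.trans (a := b) (b := a) (c := c) hab.symm hc'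
  exact ⟨_, u, hu, fun hc1 => hc (by rw [← huc, hc1, one_smul]), rfl⟩

/-- **`W` is generated by the `μ`-elements if `G` is generated by the `U a`.** -/
theorem closure_mu (h : SSplit U) (hgen : (⨆ c, U c) = ⊤) {a b : Ω} (hab : b ≠ a) :
    closure (muSet U a b) = Wab G a b := by
  set M := closure (muSet U a b) with hM
  obtain ⟨m₀, hm₀⟩ := h.exists_muSet hab
  have hm₀M : m₀ ∈ M := subset_closure hm₀
  have hm₀s := h.muSet_swaps hab hm₀
  have hMW : M ≤ Wab G a b := h.closure_mu_le hab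
  -- the invariant set
  let P : G → Prop := fun g => (∃ x ∈ U a, ∃ d ∈ M, d • a = a ∧ g = x * d) ∨
    (∃ x ∈ U a, ∃ m ∈ M, ∃ y ∈ U a, Swaps m a b ∧ g = x * m * y)
  have hmemD : ∀ d ∈ M, d • a = a → d • b = b := by
    intro d hd hda
    rcases hMW hd with h1 | h1
    · exact h1.2
    · exact absurd (h1.1.symm.trans hda) hab
  have hswaps : ∀ d ∈ M, d • a ≠ a → Swaps d a b := by
    intro d hd hda
    rcases hMW hd with h1 | h1
    · exact absurd h1.1 hda
    · exact h1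
  have hPU : ∀ g, P g → ∀ z ∈ U a, P (g * z) := by
    rintro g (⟨x, hx, d, hd, hda, rfl⟩ | ⟨x, hx, m, hm, y, hy, hs, rfl⟩) z hz
    · refine Or.inl ⟨x * (d * z * d⁻¹), mul_mem hx (h.conj_of_fix hda hz), d, hd, hda, by group⟩
    · exact Or.inr ⟨x, hx, m, hm, y * z, mul_mem hy hz, hs, by group⟩
  have hPM : ∀ g, P g → P (g * m₀) := by
    rintro g (⟨x, hx, d, hd, hda, rfl⟩ | ⟨x, hx, m, hm, y, hy, hs, rfl⟩)
    · refine Or.inr ⟨x, hx, d * m₀, mul_mem hd hm₀M, 1, one_mem _,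
        hm₀s.D_mul ⟨hda, hmemD d hd hda⟩, by group⟩
    · by_cases hy1 : y = 1
      · refine Or.inl ⟨x, hx, m * m₀, mul_mem hm hm₀M, (hs.mul hm₀s).1, ?_⟩
        rw [hy1]; group
      · set v := m₀⁻¹ * y * m₀ with hv
        have hvb : v ∈ U b := h.conj_of_eq' hm₀s.2 hy
        have hv1 : v ≠ 1 := fun hc => hy1 (by
          have : y = m₀ * v * m₀⁻¹ := by rw [hv]; group
          rw [this, hc]; group)
        obtain ⟨hsv, x', hx', y', hy', -, -, he⟩ := h.mu_spec hab hvb hv1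
        have hmuM : mu U a b v ∈ M := subset_closure ⟨v, hvb, hv1, rfl⟩
        refine Or.inr ⟨x * (m * m₀ * x' * (m * m₀)⁻¹), mul_mem hx
          (h.conj_of_fix (hs.mul hm₀s).1 hx'), m * m₀ * mu U a b v,
          mul_mem (mul_mem hm hm₀M) hmuM, y', hy', ?_, ?_⟩
        · exact hsv.D_mul (hs.mul hm₀s)
        · calc x * m * y * m₀ = x * m * m₀ * v := by rw [hv]; group
            _ = x * m * m₀ * (x' * mu U a b v * y') := by rw [← he]
            _ = _ := by group
  have hPM' : ∀ g, P g → P (g * m₀⁻¹) := by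
    intro g hg
    rcases hg with ⟨x, hx, d, hd, hda, rfl⟩ | ⟨x, hx, m, hm, y, hy, hs, rfl⟩
    · refine Or.inr ⟨x, hx, d * m₀⁻¹, mul_mem hd (inv_mem hm₀M), 1, one_mem _,
        hm₀s.inv.D_mul ⟨hda, hmemD d hd hda⟩, by group⟩
    · by_cases hy1 : y = 1
      · refine Or.inl ⟨x, hx, m * m₀⁻¹, mul_mem hm (inv_mem hm₀M), (hs.mul hm₀s.inv).1, ?_⟩
        rw [hy1]; group
      · set v := m₀ * y * m₀⁻¹ with hv
        have hvb : v ∈ U b := h.conj_of_eq hm₀s.1 hy
        have hv1 : v ≠ 1 := fun hc => hy1 (by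
          have : y = m₀⁻¹ * v * m₀ := by rw [hv]; group
          rw [this, hc]; group)
        obtain ⟨hsv, x', hx', y', hy', -, -, he⟩ := h.mu_spec hab hvb hv1
        have hmuM : mu U a b v ∈ M := subset_closure ⟨v, hvb, hv1, rfl⟩
        refine Or.inr ⟨x * (m * m₀⁻¹ * x' * (m * m₀⁻¹)⁻¹), mul_mem hx
          (h.conj_of_fix (hs.mul hm₀s.inv).1 hx'), m * m₀⁻¹ * mu U a b v,
          mul_mem (mul_mem hm (inv_mem hm₀M)) hmuM, y', hy', ?_, ?_⟩
        · exact hsv.D_mul (hs.mul hm₀s.inv)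
        · calc x * m * y * m₀⁻¹ = x * m * m₀⁻¹ * v := by rw [hv]; group
            _ = x * m * m₀⁻¹ * (x' * mu U a b v * y') := by rw [← he]
            _ = _ := by group
  -- `U a` and `m₀` generate `G`
  have hgen' : closure ((U a : Set G) ∪ {m₀}) = ⊤ := by
    rw [eq_top_iff, ← hgen, ← h.sup_eq_iSup hab, sup_le_iff]
    constructor
    · exact fun x hx => subset_closure (Or.inl hx)
    · intro x hx
      have h1 : m₀⁻¹ * x * m₀ ∈ U a := h.conj_of_eq' hm₀s.1 hx
      have h2 : x = m₀ * (m₀⁻¹ * x * m₀) * m₀⁻¹ := by group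
      have h3 : m₀ ∈ closure ((U a : Set G) ∪ {m₀}) := subset_closure (Or.inr rfl)
      rw [h2]
      exact mul_mem (mul_mem h3 (subset_closure (Or.inl h1))) (inv_mem h3)
  have hall : ∀ g : G, P g := by
    intro g
    have hg : g ∈ closure ((U a : Set G) ∪ {m₀}) := by rw [hgen']; exact mem_top g
    induction hg using closure_induction_right with
    | one => exact Or.inl ⟨1, one_mem _, 1, one_mem _, one_smul _ _, by group⟩
    | mul_right x _ y hy hP =>
      rcases hy with hy | hy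
      · exact hPU _ hP y hy
      · rw [Set.mem_singleton_iff.1 hy]; exact hPM _ hP
    | mul_inv_cancel x _ y hy hP =>
      rcases hy with hy | hy
      · exact hPU _ hP _ (inv_mem hy)
      · rw [Set.mem_singleton_iff.1 hy]; exact hPM' _ hP
  apply le_antisymm hMW
  intro g hg
  rcases hall g with ⟨x, hx, d, hd, hda, rfl⟩ | ⟨x, hx, m, hm, y, hy, hs, rfl⟩
  · have h1 : (x * d) • a = a := by rw [mul_smul, hda, h.fix hx]
    have h2 : (x * d) • b = b := by
      rcases hg with h2 | h2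
      · exact h2.2
      · exact absurd (h2.1.symm.trans h1) hab
    rw [mul_smul, hmemD d hd hda] at h2
    rw [h.free hab hx h2, one_mul]
    exact hd
  · have h1 : (x * m * y) • a = x • b := by rw [mul_smul, mul_smul, h.fix hy, hs.1]
    have h2 : (x * m * y) • a ≠ a := by rw [h1]; exact h.smul_ne_center hab hx
    have h3 : Swaps (x * m * y) a b := by
      rcases hg with h3 | h3
      · exact absurd h3.1 h2
      · exact h3
    have h4 : x * m * y = m := by
      rw [← h.mid_of_swaps hab h3, h.mid_eq hab hs hx hy]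
    rw [h4]
    exact hm

/-! ### Normal subgroups -/

/-- A normal subgroup moving a point is transitive. -/
theorem normal_trans (h : SSplit U) {N : Subgroup G} (hN : N.Normal)
    (hmove : ∃ x ∈ N, ∃ c : Ω, x • c ≠ c) (a b : Ω) : ∃ x ∈ N, x • a = b := by
  obtain ⟨x, hx, c, hc⟩ := hmove
  by_cases hab : b = a
  · exact ⟨1, one_mem _, by rw [hab, one_smul]⟩
  · obtain ⟨g, hg1, hg2⟩ := h.two (a := c) (b := x • c) (c := a) (d := b) (Ne.symm hc)
      (Ne.symm hab)
    refine ⟨g * x * g⁻¹, hN.conj_mem x hx g, ?_⟩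
    rw [mul_smul, mul_smul, inv_smul_eq_iff.2 hg1.symm, hg2]

/-- If `G = ⟨U a⟩` and `N` is a normal subgroup moving a point, then `G = N U a`. -/
theorem normal_sup (h : SSplit U) (hgen : (⨆ c, U c) = ⊤) {N : Subgroup G} (hN : N.Normal)
    (hmove : ∃ x ∈ N, ∃ c : Ω, x • c ≠ c) (a : Ω) : N ⊔ U a = ⊤ := by
  rw [eq_top_iff, ← hgen, iSup_le_iff]
  intro c x hx
  obtain ⟨n, hn, hna⟩ := h.normal_trans hN hmove a c
  have h1 : n⁻¹ * x * n ∈ U a := h.conj_of_eq' hna hx
  have h2 : x = n * (n⁻¹ * x * n) * n⁻¹ := by group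
  rw [h2]
  exact mul_mem (mul_mem (le_sup_left (a := N) hn) (le_sup_right (a := N) h1))
    (inv_mem (le_sup_left (a := N) hn))

/-- Every element is a product of an element of `N` and one of `U a`. -/
theorem exists_mul_normal (h : SSplit U) (hgen : (⨆ c, U c) = ⊤) {N : Subgroup G}
    (hN : N.Normal) (hmove : ∃ x ∈ N, ∃ c : Ω, x • c ≠ c) (a : Ω) (g : G) :
    ∃ x ∈ N, ∃ u ∈ U a, g = x * u := by
  have hg : g ∈ N ⊔ U a := by rw [h.normal_sup hgen hN hmove a]; exact mem_top g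
  obtain ⟨x, hx, u, hu, he⟩ := mem_sup_of_normal_left.1 hg
  exact ⟨x, hx, u, hu, he.symm⟩

theorem card_quot_dvd [Finite Ω] (h : SSplit U) (hgen : (⨆ c, U c) = ⊤) {N : Subgroup G}
    (hN : N.Normal) (hmove : ∃ x ∈ N, ∃ c : Ω, x • c ≠ c) (a : Ω) :
    N.index ∣ Nat.card (U a) := by
  have h1 : Function.Surjective ((QuotientGroup.mk' N).comp (U a).subtype) := by
    intro q
    obtain ⟨g, rfl⟩ := QuotientGroup.mk'_surjective N q
    obtain ⟨x, hx, u, hu, rfl⟩ := h.exists_mul_normal hgen hN hmove a g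
    refine ⟨⟨u, hu⟩, ?_⟩
    have h0 : QuotientGroup.mk' N x = 1 := (QuotientGroup.eq_one_iff x).2 hx
    rw [map_mul, h0, one_mul]
    rfl
  have := Subgroup.card_dvd_of_surjective _ h1
  rwa [← Subgroup.index_eq_card] at this

/-- `G / N` is nilpotent. -/
theorem quot_nil (h : SSplit U) (hgen : (⨆ c, U c) = ⊤) {N : Subgroup G}
    [hN : N.Normal] (hmove : ∃ x ∈ N, ∃ c : Ω, x • c ≠ c) (a : Ω) :
    Group.IsNilpotent (G ⧸ N) := by
  have h1 : Function.Surjective ((QuotientGroup.mk' N).comp (U a).subtype) := by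
    intro q
    obtain ⟨g, rfl⟩ := QuotientGroup.mk'_surjective N q
    obtain ⟨x, hx, u, hu, rfl⟩ := h.exists_mul_normal hgen hN hmove a g
    refine ⟨⟨u, hu⟩, ?_⟩
    have h0 : QuotientGroup.mk' N x = 1 := (QuotientGroup.eq_one_iff x).2 hx
    rw [map_mul, h0, one_mul]
    rfl
  have := h.nil a
  exact Group.nilpotent_of_surjective _ h1

/-- If `|U a|` is odd and `G = ⟨U a⟩`, a homomorphism to `ℤˣ` is trivial. -/
theorem hom_units (_h : SSplit U) (hgen : (⨆ c, U c) = ⊤) (hodd : ∀ a, Odd (Nat.card (U a)))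
    (f : G →* ℤˣ) (g : G) : f g = 1 := by
  have h1 : ∀ c, U c ≤ f.ker := by
    intro c x hx
    rw [MonoidHom.mem_ker]
    have h2 : x ^ Nat.card (U c) = 1 := by
      have := pow_card_eq_one' (x := (⟨x, hx⟩ : U c))
      exact congrArg Subtype.val this
    have h3 : f x ^ Nat.card (U c) = 1 := by rw [← map_pow, h2, map_one]
    rcases Int.units_eq_one_or (f x) with h4 | h4
    · exact h4
    · rw [h4, (hodd c).neg_one_pow] at h3
      exact absurd h3 (by decide)
  have h2 : (⨆ c, U c) ≤ f.ker := iSup_le h1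
  rw [hgen] at h2
  exact h2 (mem_top g)

end SSplit

end Cfsg.Agent.HKS
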