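import Mathlib
import Cfsg.Agent.HKS.FrameGen

/-!
# Strongly split 2-transitive groups: counting

* `SSplit.card_pairs`: double counting of triples `(s, c, d)`;
* `SSplit.card_fix_pairs`, `SSplit.card_swap_pairs`: the numbers of conjugates of `t` in `Dab a b` and
  (for involutions) of those interchanging `a` and `b`;
* `SSplit.card_G`: `|G| = n (n-1) |Dab a b|`;
* `SSplit.card_centralizer`: `|C_G(X)| = (f+1) f |C_D(X)|` if `X` fixes `f + 1 ≥ 3` points;
* `SSplit.four_dvd`: involutions act as even permutations if `G = ⟨U a⟩`, `|U a|` odd.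
-/

set_option autoImplicit false

namespace Cfsg.Agent.HKS

open Subgroup MulAction

variable {G Ω : Type*} [Group G] [MulAction G Ω] {U : Ω → Subgroup G}

theorem card_ne_pairs {Ω : Type*} [Finite Ω] :
    Nat.card {p : Ω × Ω // p.2 ≠ p.1} = Nat.card Ω * (Nat.card Ω - 1) := by
  classical
  have e : {p : Ω × Ω // p.2 ≠ p.1} ≃ Σ a : Ω, {b : Ω // ¬ b = a} :=
    ⟨fun p => ⟨p.1.1, p.1.2, p.2⟩, fun p => ⟨(p.1, p.2.1), p.2.2⟩, fun _ => rfl, fun _ => rfl⟩
  have := Fintype.ofFinite Ω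
  rw [Nat.card_congr e, Nat.card_sigma]
  have h1 : ∀ a ∈ (Finset.univ : Finset Ω), Nat.card {b : Ω // ¬ b = a} = Nat.card Ω - 1 := by
    intro a _
    have := card_ne_pt a
    omega
  rw [Finset.sum_congr rfl h1, Finset.sum_const, Finset.card_univ, smul_eq_mul,
    Nat.card_eq_fintype_card]

namespace SSplit

/-- double counting over the ordered pairs of distinct points -/
theorem card_pairs (h : SSplit U) [Finite G] [Finite Ω] {a b : Ω} (hab : b ≠ a)
    (P : G → Ω → Ω → Prop) (hP : ∀ g s c d, P s c d → P (g * s * g⁻¹) (g • c) (g • d)) :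
    Nat.card {x : G × Ω × Ω // x.2.2 ≠ x.2.1 ∧ P x.1 x.2.1 x.2.2} =
      Nat.card Ω * (Nat.card Ω - 1) * Nat.card {s : G // P s a b} := by
  classical
  have e : {x : G × Ω × Ω // x.2.2 ≠ x.2.1 ∧ P x.1 x.2.1 x.2.2} ≃
      Σ p : {p : Ω × Ω // p.2 ≠ p.1}, {s : G // P s p.1.1 p.1.2} :=
    ⟨fun x => ⟨⟨(x.1.2.1, x.1.2.2), x.2.1⟩, x.1.1, x.2.2⟩,
      fun y => ⟨(y.2.1, y.1.1.1, y.1.1.2), y.1.2, y.2.2⟩, fun _ => rfl, fun _ => rfl⟩
  have : Finite {p : Ω × Ω // p.2 ≠ p.1} := Subtype.finite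
  have := Fintype.ofFinite {p : Ω × Ω // p.2 ≠ p.1}
  rw [Nat.card_congr e, Nat.card_sigma]
  have h1 : ∀ p ∈ (Finset.univ : Finset {p : Ω × Ω // p.2 ≠ p.1}),
      Nat.card {s : G // P s p.1.1 p.1.2} = Nat.card {s : G // P s a b} := by
    rintro ⟨⟨c, d⟩, hcd⟩ -
    obtain ⟨g, hg1, hg2⟩ := h.two (a := c) (b := d) (c := a) (d := b) (Ne.symm hcd) hab.symm
    refine Nat.card_congr ⟨fun s => ⟨g * s * g⁻¹, ?_⟩, fun s => ⟨g⁻¹ * s * g, ?_⟩, ?_, ?_⟩
    · have := hP g s c d s.2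
      rwa [hg1, hg2] at this
    · have := hP g⁻¹ s a b s.2
      rwa [inv_smul_eq_iff.2 hg1.symm, inv_smul_eq_iff.2 hg2.symm, inv_inv] at this
    · intro s; apply Subtype.ext; simp only; group
    · intro s; apply Subtype.ext; simp only; group
  rw [Finset.sum_congr rfl h1, Finset.sum_const, Finset.card_univ, smul_eq_mul,
    ← Nat.card_eq_fintype_card, card_ne_pairs]

/-- The number of fixed points is a class function. -/
theorem card_fixedBy_conj (g s : G) :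
    Nat.card (fixedBy Ω (g * s * g⁻¹)) = Nat.card (fixedBy Ω s) := by
  refine Nat.card_congr ⟨fun c => ⟨g⁻¹ • c.1, ?_⟩, fun c => ⟨g • c.1, ?_⟩, ?_, ?_⟩
  · have h1 := c.2
    rw [mem_fixedBy, mul_smul, mul_smul] at h1
    rw [mem_fixedBy, eq_inv_smul_iff, h1]
  · have h1 := c.2
    rw [mem_fixedBy] at h1
    rw [mem_fixedBy, mul_smul, mul_smul, inv_smul_smul, h1]
  · intro c; apply Subtype.ext; simp
  · intro c; apply Subtype.ext; simp

theorem card_fixedBy_isConj {s t : G} (hst : IsConj s t) :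
    Nat.card (fixedBy Ω s) = Nat.card (fixedBy Ω t) := by
  obtain ⟨g, rfl⟩ := isConj_iff.1 hst
  exact (card_fixedBy_conj g s).symm

/-- conjugates of `t` in `Dab a b`. -/
theorem card_fix_pairs (h : SSplit U) [Finite G] [Finite Ω] {a b : Ω} (hab : b ≠ a) (t : G) :
    Nat.card {s : G // IsConj t s} * (Nat.card (fixedBy Ω t) * (Nat.card (fixedBy Ω t) - 1)) =
      Nat.card Ω * (Nat.card Ω - 1) * Nat.card {s : G // IsConj t s ∧ s ∈ Dab G a b} := by
  classical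
  have h1 := h.card_pairs hab (fun s c d => IsConj t s ∧ s • c = c ∧ s • d = d) (by
    rintro g s c d ⟨h1, h2, h3⟩
    refine ⟨h1.trans (isConj_iff.2 ⟨g, rfl⟩), ?_, ?_⟩
    · rw [mul_smul, inv_smul_smul, mul_smul, h2]
    · rw [mul_smul, inv_smul_smul, mul_smul, h3])
  have h2 : Nat.card {s : G // IsConj t s ∧ s ∈ Dab G a b} =
      Nat.card {s : G // IsConj t s ∧ s • a = a ∧ s • b = b} := rfl
  rw [h2, ← h1]
  have e : {x : G × Ω × Ω // x.2.2 ≠ x.2.1 ∧ IsConj t x.1 ∧ x.1 • x.2.1 = x.2.1 ∧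
      x.1 • x.2.2 = x.2.2} ≃ Σ s : {s : G // IsConj t s},
        {p : fixedBy Ω (s : G) × fixedBy Ω (s : G) // p.2 ≠ p.1} :=
    ⟨fun x => ⟨⟨x.1.1, x.2.2.1⟩, (⟨x.1.2.1, x.2.2.2.1⟩, ⟨x.1.2.2, x.2.2.2.2⟩),
      fun e => x.2.1 (congrArg Subtype.val e)⟩,
      fun y => ⟨(y.1.1, y.2.1.1.1, y.2.1.2.1), fun e => y.2.2 (Subtype.ext e), y.1.2,
        y.2.1.1.2, y.2.1.2.2⟩, fun _ => rfl, fun _ => rfl⟩
  have := Fintype.ofFinite {s : G // IsConj t s}
  rw [Nat.card_congr e, Nat.card_sigma]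
  have h3 : ∀ s ∈ (Finset.univ : Finset {s : G // IsConj t s}),
      Nat.card {p : fixedBy Ω (s : G) × fixedBy Ω (s : G) // p.2 ≠ p.1} =
        Nat.card (fixedBy Ω t) * (Nat.card (fixedBy Ω t) - 1) := by
    rintro ⟨s, hs⟩ -
    rw [card_ne_pairs, card_fixedBy_isConj hs]
  rw [Finset.sum_congr rfl h3, Finset.sum_const, Finset.card_univ, smul_eq_mul,
    Nat.card_eq_fintype_card]

/-- conjugates of an involution `t` interchanging `a` and `b`. -/
theorem card_swap_pairs (h : SSplit U) [Finite G] [Finite Ω] {a b : Ω} (hab : b ≠ a) {t : G}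
    (ht : t * t = 1) :
    Nat.card {s : G // IsConj t s} * (Nat.card Ω - Nat.card (fixedBy Ω t)) =
      Nat.card Ω * (Nat.card Ω - 1) * Nat.card {s : G // IsConj t s ∧ Swaps s a b} := by
  classical
  have h1 := h.card_pairs hab (fun s c d => IsConj t s ∧ Swaps s c d) (by
    rintro g s c d ⟨h1, h2⟩
    exact ⟨h1.trans (isConj_iff.2 ⟨g, rfl⟩), h2.conj g⟩)
  rw [← h1]
  have hsq : ∀ s : G, IsConj t s → s * s = 1 := by
    intro s hs
    obtain ⟨g, rfl⟩ := isConj_iff.1 hs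
    calc g * t * g⁻¹ * (g * t * g⁻¹) = g * (t * t) * g⁻¹ := by group
      _ = 1 := by rw [ht]; group
  have e : {x : G × Ω × Ω // x.2.2 ≠ x.2.1 ∧ IsConj t x.1 ∧ Swaps x.1 x.2.1 x.2.2} ≃
      Σ s : {s : G // IsConj t s}, {c : Ω // ¬ c ∈ fixedBy Ω (s : G)} :=
    ⟨fun x => ⟨⟨x.1.1, x.2.2.1⟩, x.1.2.1, fun e => x.2.1 (x.2.2.2.1.symm.trans e)⟩,
      fun y => ⟨(y.1.1, y.2.1, y.1.1 • y.2.1), y.2.2, y.1.2, rfl, by
        change y.1.1 • y.1.1 • y.2.1 = y.2.1
        rw [← mul_smul, hsq _ y.1.2, one_smul]⟩, fun x => by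
        rcases x with ⟨⟨s, c, d⟩, hne, hc, hs⟩
        have : s • c = d := hs.1
        subst this
        rfl, fun _ => rfl⟩
  have := Fintype.ofFinite {s : G // IsConj t s}
  have := Fintype.ofFinite Ω
  rw [Nat.card_congr e, Nat.card_sigma]
  have h3 : ∀ s ∈ (Finset.univ : Finset {s : G // IsConj t s}),
      Nat.card {c : Ω // ¬ c ∈ fixedBy Ω (s : G)} = Nat.card Ω - Nat.card (fixedBy Ω t) := by
    rintro ⟨s, hs⟩ -
    rw [Nat.card_eq_fintype_card, Fintype.card_subtype_compl, ← Nat.card_eq_fintype_card,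
      ← Nat.card_eq_fintype_card]
    congr 1
    exact (card_fixedBy_isConj hs).symm
  rw [Finset.sum_congr rfl h3, Finset.sum_const, Finset.card_univ, smul_eq_mul,
    Nat.card_eq_fintype_card]

/-- `|G| = n (n-1) |D|`. -/
theorem card_G (h : SSplit U) [Finite G] [Finite Ω] {a b : Ω} (hab : b ≠ a) :
    Nat.card G = Nat.card Ω * (Nat.card Ω - 1) * Nat.card (Dab G a b) := by
  obtain ⟨w, hw⟩ := h.exists_swaps hab
  have h1 := (h.rankOne hab hw).card_eq
  have h2 := (h.rankOne hab hw).card_B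
  have h3 := h.card a
  rw [h1, h2, h3, Nat.add_sub_cancel, mul_assoc]

/-- `|C_G(X)| = (f+1) f |C_D(X)|`. -/
theorem card_centralizer (h : SSplit U) [Finite G] [Finite Ω] (X : Subgroup G) {a b : Ω}
    (hab : b ≠ a) (ha : ∀ x ∈ X, x • a = a) (hb : ∀ x ∈ X, x • b = b)
    (h3 : 2 < Nat.card (fixSub Ω X)) :
    Nat.card (centralizer (X : Set G)) = Nat.card (fixSub Ω X) * (Nat.card (fixSub Ω X) - 1) *
      Nat.card (Dab G a b ⊓ centralizer (X : Set G) : Subgroup G) := by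
  have : Finite (fixSub Ω X) := Subtype.finite
  have h1 := h.fixed X (three_of_card h3)
  have hab' : (⟨b, hb⟩ : fixSub Ω X) ≠ ⟨a, ha⟩ := fun e => hab (congrArg Subtype.val e)
  rw [h1.card_G hab']
  congr 1
  refine Nat.card_congr ⟨fun x => ⟨x.1.1, ⟨⟨congrArg Subtype.val x.2.1,
    congrArg Subtype.val x.2.2⟩, x.1.2⟩⟩, fun x => ⟨⟨x.1, x.2.2⟩, Subtype.ext x.2.1.1,
    Subtype.ext x.2.1.2⟩, fun _ => rfl, fun _ => rfl⟩

/-- An involution of an odd-generated group is an even permutation: `4 ∣ n - |Fix t|`. -/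
theorem four_dvd (h : SSplit U) [Finite Ω] (hgen : (⨆ c, U c) = ⊤)
    (hodd : ∀ a, Odd (Nat.card (U a))) {t : G} (ht : t * t = 1) :
    4 ∣ Nat.card Ω - Nat.card (fixedBy Ω t) := by
  classical
  have := Fintype.ofFinite Ω
  have h1 := h.hom_units hgen hodd (Equiv.Perm.sign.comp (toPermHom G Ω)) t
  rw [MonoidHom.comp_apply] at h1
  set σ := toPermHom G Ω t with hσ
  have h2 : σ ^ 2 = 1 := by rw [hσ, ← map_pow, sq, ht, map_one]
  have : Fact (Nat.Prime 2) := ⟨Nat.prime_two⟩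
  have h3 := Equiv.Perm.cycleType_of_pow_prime_eq_one h2
  have h4 := σ.sum_cycleType
  rw [h3, Multiset.sum_replicate, smul_eq_mul] at h4
  rw [Equiv.Perm.sign_of_cycleType, h3, Multiset.sum_replicate, Multiset.card_replicate,
    smul_eq_mul] at h1
  have h5 : Even (σ.cycleType.card * 2 + σ.cycleType.card) := by
    by_contra hc
    rw [Nat.not_even_iff_odd] at hc
    rw [hc.neg_one_pow] at h1
    exact absurd h1 (by decide)
  have h6 : Even σ.cycleType.card := by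
    rw [Nat.even_add] at h5
    exact h5.1 (by simp)
  obtain ⟨k, hk⟩ := h6
  have h7 : Nat.card Ω - Nat.card (fixedBy Ω t) = σ.support.card := by
    rw [Nat.card_eq_fintype_card, Nat.card_eq_fintype_card, ← Fintype.card_subtype_compl,
      Fintype.card_subtype]
    congr 1
  rw [h7, ← h4, hk]
  exact ⟨k, by ring⟩

end SSplit

end Cfsg.Agent.HKS
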