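import Mathlib
import Cfsg.Agent.HKS.RankOne

/-!
# The map `μ : Q^# → W ∖ D` of a rank-one group

`w u w⁻¹ = u₁ μ(u) u₂`. The number `cnt g` of `u` with `μ(u) = g` is a class function on `W`, and the
values of `μ` generate `W` if the conjugates of `Q` generate `G`.
-/

set_option autoImplicit false

namespace Cfsg.Agent.HKS.ModPMu

variable {G : Type*} [Group G] {B Q D W : Subgroup G} {w : G}

theorem mid_unique (h : RankOne B Q D W w) {u₁ u₂ v₁ v₂ m m' : G} (hu₁ : u₁ ∈ Q) (hu₂ : u₂ ∈ Q)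
    (hv₁ : v₁ ∈ Q) (hv₂ : v₂ ∈ Q) (hm : m ∈ W) (hmD : m ∉ D) (hm' : m' ∈ W) (hmD' : m' ∉ D)
    (he : u₁ * m * u₂ = v₁ * m' * v₂) : m = m' ∧ u₁ = v₁ ∧ u₂ = v₂ := by
  obtain ⟨d, hd, rfl⟩ := h.Wmul m hm hmD
  obtain ⟨d', hd', rfl⟩ := h.Wmul m' hm' hmD'
  have he' : u₁ * w * (d * u₂) = v₁ * w * (d' * v₂) := by
    calc u₁ * w * (d * u₂) = u₁ * (w * d) * u₂ := by group
      _ = v₁ * (w * d') * v₂ := he
      _ = _ := by group
  obtain ⟨h1, h2⟩ := h.unique_bruhat hu₁ hv₁ (B.mul_mem (h.DB hd) (h.QB hu₂))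
    (B.mul_mem (h.DB hd') (h.QB hv₂)) he'
  have h3 : d'⁻¹ * d = v₂ * u₂⁻¹ := by
    calc d'⁻¹ * d = d'⁻¹ * (d * u₂) * u₂⁻¹ := by group
      _ = d'⁻¹ * (d' * v₂) * u₂⁻¹ := by rw [h2]
      _ = _ := by group
  have h4 : v₂ * u₂⁻¹ = 1 := h.QD _ (Q.mul_mem hv₂ (Q.inv_mem hu₂)) (by
    rw [← h3]; exact D.mul_mem (D.inv_mem hd') hd)
  have h5 : v₂ = u₂ := mul_inv_eq_one.1 h4
  rw [h4] at h3
  exact ⟨by rw [inv_mul_eq_one.1 h3], h1, h5.symm⟩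

theorem exists_mu (h : RankOne B Q D W w) (u : {u : Q // u ≠ 1}) :
    ∃ m : W, (m : G) ∉ D ∧ ∃ u₁ ∈ Q, ∃ u₂ ∈ Q, w * (u.1 : G) * w⁻¹ = u₁ * m * u₂ := by
  obtain ⟨u₁, hu₁, w', hw', hwD, u₂, hu₂, he⟩ := h.exists_mid
    (h.not_mem_of_Q' u.1.2 (fun hc => u.2 (Subtype.ext hc)))
  exact ⟨⟨w', hw'⟩, hwD, u₁, hu₁, u₂, hu₂, he⟩

/-- The middle element of `w u w⁻¹`. -/
noncomputable def mu (h : RankOne B Q D W w) (u : {u : Q // u ≠ 1}) : W := (exists_mu h u).choose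

theorem mu_notin (h : RankOne B Q D W w) (u : {u : Q // u ≠ 1}) : (mu h u : G) ∉ D :=
  (exists_mu h u).choose_spec.1

theorem mu_spec (h : RankOne B Q D W w) (u : {u : Q // u ≠ 1}) :
    ∃ u₁ ∈ Q, ∃ u₂ ∈ Q, w * (u.1 : G) * w⁻¹ = u₁ * mu h u * u₂ :=
  (exists_mu h u).choose_spec.2

theorem mu_eq (h : RankOne B Q D W w) (u : {u : Q // u ≠ 1}) {m : W} (hm : (m : G) ∉ D) {u₁ u₂ : G}
    (hu₁ : u₁ ∈ Q) (hu₂ : u₂ ∈ Q) (he : w * (u.1 : G) * w⁻¹ = u₁ * m * u₂) : mu h u = m := by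
  obtain ⟨v₁, hv₁, v₂, hv₂, he'⟩ := mu_spec h u
  exact Subtype.ext (mid_unique h hv₁ hv₂ hu₁ hu₂ (mu h u).2 (mu_notin h u) m.2 hm
    (he'.symm.trans he)).1

/-- Conjugation by `D` on `Q^#`. -/
def conjQ (h : RankOne B Q D W w) (d : D) : {u : Q // u ≠ 1} ≃ {u : Q // u ≠ 1} where
  toFun u := ⟨⟨d * u.1 * (d : G)⁻¹, h.Qn d (h.DB d.2) u.1 u.1.2⟩, fun hc => u.2 (by
    have h1 : (d : G) * u.1 * (d : G)⁻¹ = 1 := congrArg Subtype.val hc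
    apply Subtype.ext
    rw [OneMemClass.coe_one]
    exact conj_eq_one_iff.1 h1)⟩
  invFun u := ⟨⟨(d : G)⁻¹ * u.1 * d, h.Qn' (h.DB d.2) u.1.2⟩, fun hc => u.2 (by
    have h1 : (d : G)⁻¹ * u.1 * d = 1 := congrArg Subtype.val hc
    apply Subtype.ext
    rw [OneMemClass.coe_one]
    have h2 : (d : G)⁻¹ * u.1 * ((d : G)⁻¹)⁻¹ = 1 := by rw [inv_inv]; exact h1
    exact conj_eq_one_iff.1 h2)⟩
  left_inv u := by
    apply Subtype.ext; apply Subtype.ext; simp only []; group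
  right_inv u := by
    apply Subtype.ext; apply Subtype.ext; simp only []; group

theorem conjQ_coe (h : RankOne B Q D W w) (d : D) (u : {u : Q // u ≠ 1}) :
    ((conjQ h d u).1 : G) = d * u.1 * (d : G)⁻¹ := rfl

/-- `μ(u^{d'}) = μ(u)^d` with `d' = w⁻¹ d w`. -/
theorem mu_conj (h : RankOne B Q D W w) (d : D) (u : {u : Q // u ≠ 1}) :
    (mu h (conjQ h ⟨w⁻¹ * d * w, h.winv_conj d.2⟩ u) : G) = d * mu h u * (d : G)⁻¹ := by
  obtain ⟨u₁, hu₁, u₂, hu₂, he⟩ := mu_spec h u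
  have hd := h.DB d.2
  have hm : (d : G) * mu h u * (d : G)⁻¹ ∉ D := fun hc => mu_notin h u (by
    have := D.mul_mem (D.mul_mem (D.inv_mem d.2) hc) d.2
    have h1 : (d : G)⁻¹ * (d * mu h u * (d : G)⁻¹) * d = mu h u := by group
    rwa [h1] at this)
  have hmW : (d : G) * mu h u * (d : G)⁻¹ ∈ W :=
    W.mul_mem (W.mul_mem (h.DW d.2) (mu h u).2) (W.inv_mem (h.DW d.2))
  refine congrArg Subtype.val (mu_eq h _ (m := ⟨_, hmW⟩) hm (h.Qn d hd u₁ hu₁) (h.Qn d hd u₂ hu₂) ?_)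
  rw [conjQ_coe]
  calc w * (w⁻¹ * d * w * u.1 * (w⁻¹ * d * w)⁻¹) * w⁻¹ = d * (w * u.1 * w⁻¹) * (d : G)⁻¹ := by group
    _ = d * (u₁ * mu h u * u₂) * (d : G)⁻¹ := by rw [he]
    _ = _ := by group

/-- Inversion on `Q^#`. -/
def invQ : {u : Q // u ≠ 1} ≃ {u : Q // u ≠ 1} where
  toFun u := ⟨u.1⁻¹, fun hc => u.2 (inv_eq_one.1 hc)⟩
  invFun u := ⟨u.1⁻¹, fun hc => u.2 (inv_eq_one.1 hc)⟩
  left_inv u := by apply Subtype.ext; simp only [inv_inv]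
  right_inv u := by apply Subtype.ext; simp only [inv_inv]

theorem mu_inv (h : RankOne B Q D W w) (u : {u : Q // u ≠ 1}) : mu h (invQ u) = (mu h u)⁻¹ := by
  obtain ⟨u₁, hu₁, u₂, hu₂, he⟩ := mu_spec h u
  refine mu_eq h _ (fun hc => mu_notin h u ?_) (Q.inv_mem hu₂) (Q.inv_mem hu₁) ?_
  · have := D.inv_mem hc
    rwa [Subgroup.coe_inv, inv_inv] at this
  · change w * ((u.1⁻¹ : Q) : G) * w⁻¹ = u₂⁻¹ * ((mu h u)⁻¹ : W) * u₁⁻¹
    rw [Subgroup.coe_inv, Subgroup.coe_inv]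
    calc w * (u.1 : G)⁻¹ * w⁻¹ = (w * u.1 * w⁻¹)⁻¹ := by group
      _ = (u₁ * mu h u * u₂)⁻¹ := by rw [he]
      _ = _ := by group

/-- `w g w⁻¹` is a `D`-conjugate of `g ∈ W ∖ D`. -/
theorem w_conj_eq (h : RankOne B Q D W w) {g : G} (hg : g ∈ W) (hgD : g ∉ D) :
    ∃ d ∈ D, w * g * w⁻¹ = d * g * d⁻¹ := by
  obtain ⟨d, hd, rfl⟩ := h.Wmul g hg hgD
  refine ⟨w * d⁻¹ * w⁻¹, h.w_conj (D.inv_mem hd), ?_⟩
  group

section count

variable [Fintype Q] [DecidableEq Q] [DecidableEq W]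

/-- The number of `u ∈ Q^#` with `μ(u) = g`. -/
noncomputable def cnt (h : RankOne B Q D W w) (g : W) : ℕ :=
  (Finset.univ.filter fun u : {u : Q // u ≠ 1} => mu h u = g).card

theorem cnt_conj_D (h : RankOne B Q D W w) (g : W) {d : G} (hd : d ∈ D) :
    cnt h (⟨d, h.DW hd⟩ * g * (⟨d, h.DW hd⟩ : W)⁻¹) = cnt h g := by
  symm
  refine Finset.card_bij (fun u _ => conjQ h ⟨w⁻¹ * d * w, h.winv_conj hd⟩ u) ?_ ?_ ?_
  · intro u hu
    simp only [Finset.mem_filter, Finset.mem_univ, true_and] at hu ⊢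
    apply Subtype.ext
    rw [mu_conj h ⟨d, hd⟩ u, hu]
    rfl
  · intro a _ b _ hab
    exact (conjQ h _).injective hab
  · intro v hv
    refine ⟨(conjQ h ⟨w⁻¹ * d * w, h.winv_conj hd⟩).symm v, ?_, by simp⟩
    simp only [Finset.mem_filter, Finset.mem_univ, true_and] at hv ⊢
    have h1 := mu_conj h ⟨d, hd⟩ ((conjQ h ⟨w⁻¹ * d * w, h.winv_conj hd⟩).symm v)
    rw [Equiv.apply_symm_apply, hv] at h1
    apply Subtype.ext
    have h2 : d * (g : G) * d⁻¹ = d * mu h ((conjQ h ⟨w⁻¹ * d * w, h.winv_conj hd⟩).symm v) * d⁻¹ :=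
      h1
    have h3 := mul_right_cancel h2
    exact (mul_left_cancel h3).symm

theorem cnt_of_mem (h : RankOne B Q D W w) (g : W) (hg : (g : G) ∈ D) : cnt h g = 0 := by
  rw [cnt, Finset.card_eq_zero, Finset.filter_eq_empty_iff]
  intro u _ hu
  exact mu_notin h u (by rw [hu]; exact hg)

theorem cnt_conj (h : RankOne B Q D W w) (x g : W) : cnt h (x * g * x⁻¹) = cnt h g := by
  have key : ∀ g : W, cnt h (⟨w, h.wW⟩ * g * (⟨w, h.wW⟩ : W)⁻¹) = cnt h g := by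
    intro g
    by_cases hg : (g : G) ∈ D
    · rw [cnt_of_mem h g hg, cnt_of_mem h]
      exact h.w_conj hg
    · obtain ⟨d, hd, he⟩ := w_conj_eq h g.2 hg
      rw [← cnt_conj_D h g hd]
      congr 1
      exact Subtype.ext he
  by_cases hx : (x : G) ∈ D
  · exact cnt_conj_D h g hx
  · obtain ⟨d, hd, he⟩ := h.Wmul x x.2 hx
    have h1 : x = ⟨w, h.wW⟩ * ⟨d, h.DW hd⟩ := Subtype.ext he
    rw [h1, ← cnt_conj_D h g hd, ← key (⟨d, h.DW hd⟩ * g * (⟨d, h.DW hd⟩ : W)⁻¹)]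
    congr 1
    group

theorem sum_mu [Fintype W] (h : RankOne B Q D W w) {M : Type*} [AddCommMonoid M] (F : W → M) :
    ∑ u, F (mu h u) = ∑ g : W, cnt h g • F g := by
  rw [← Finset.sum_fiberwise_of_maps_to (g := mu h) (t := Finset.univ) fun _ _ => Finset.mem_univ _]
  refine Finset.sum_congr rfl fun g _ => ?_
  rw [cnt, ← Finset.sum_const]
  refine Finset.sum_congr rfl fun u hu => ?_
  rw [(Finset.mem_filter.1 hu).2]

end count

/-! ### Generation -/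

theorem conj_W (h : RankOne B Q D W w) {x : G} (hx : x ∈ Q) (hx1 : x ≠ 1) {m : G} (hm : m ∈ W)
    (hmD : m ∉ D) : ∃ a ∈ Q, ∃ u : {u : Q // u ≠ 1}, ∃ b ∈ Q, m * x * m⁻¹ = a * mu h u * b := by
  obtain ⟨d, hd, rfl⟩ := h.Wmul m hm hmD
  have hd' := h.DB hd
  let v : {u : Q // u ≠ 1} := conjQ h ⟨d, hd⟩ ⟨⟨x, hx⟩, fun hc => hx1 (congrArg Subtype.val hc)⟩
  obtain ⟨u₁, hu₁, u₂, hu₂, he⟩ := mu_spec h v
  refine ⟨u₁, hu₁, v, u₂, hu₂, ?_⟩
  rw [← he]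
  change w * d * x * (w * d)⁻¹ = w * (d * x * d⁻¹) * w⁻¹
  group

theorem closure_mu (h : RankOne B Q D W w) (hG : Subgroup.normalClosure (Q : Set G) = ⊤)
    (hQ : Q ≠ ⊥) : Subgroup.closure (Set.range fun u => (mu h u : G)) = W := by
  set W₀ := Subgroup.closure (Set.range fun u => (mu h u : G)) with hW₀
  have hle : W₀ ≤ W := by
    rw [hW₀, Subgroup.closure_le]
    rintro _ ⟨u, rfl⟩
    exact (mu h u).2
  have hmem : ∀ u, (mu h u : G) ∈ W₀ := fun u => Subgroup.subset_closure ⟨u, rfl⟩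
  -- D normalises `W₀`
  have hDW₀ : ∀ d ∈ D, ∀ m ∈ W₀, d * m * d⁻¹ ∈ W₀ := by
    intro d hd m hm
    have h1 : W₀ ≤ W₀.comap (MulAut.conj d).toMonoidHom := by
      conv_lhs => rw [hW₀]
      rw [Subgroup.closure_le]
      rintro _ ⟨u, rfl⟩
      change d * mu h u * d⁻¹ ∈ W₀
      have := mu_conj h ⟨d, hd⟩ u
      change _ = d * mu h u * d⁻¹ at this
      rw [← this]
      exact hmem _
    exact h1 hm
  have hwW₀ : ∀ m ∈ W₀, w * m * w⁻¹ ∈ W₀ := by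
    intro m hm
    have h1 : W₀ ≤ W₀.comap (MulAut.conj w).toMonoidHom := by
      conv_lhs => rw [hW₀]
      rw [Subgroup.closure_le]
      rintro _ ⟨u, rfl⟩
      change w * mu h u * w⁻¹ ∈ W₀
      obtain ⟨d, hd, he⟩ := w_conj_eq h (mu h u).2 (mu_notin h u)
      rw [he]
      exact hDW₀ d hd _ (hmem u)
    exact h1 hm
  have hQd : ∀ d ∈ D, ∀ q ∈ Q, d⁻¹ * q * d ∈ Q := fun d hd q hq => h.Qn' (h.DB hd) hq
  have hQd' : ∀ d ∈ D, ∀ q ∈ Q, d * q * d⁻¹ ∈ Q := fun d hd q hq => h.Qn d (h.DB hd) q hq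
  have hWW : ∀ m ∈ W, m ∉ D → ∀ m' ∈ W, m' ∉ D → m * m' ∈ D := by
    intro m hm hmD m' hm' hmD'
    by_contra hc
    obtain ⟨d, hd, he⟩ := h.Wmul m hm hmD
    obtain ⟨d', hd', he'⟩ := h.Wmul (m * m') (W.mul_mem hm hm') hc
    apply hmD'
    have h1 : m' = d⁻¹ * d' := by
      rw [he] at he'
      have h2 : w * (d * m') = w * d' := by rw [← he']; group
      have h3 := mul_left_cancel h2
      rw [← h3]; group
    rw [h1]
    exact D.mul_mem (D.inv_mem hd) hd'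
  -- the subgroup `Q W₀ Q`
  let S : Set G := {g | ∃ q ∈ Q, ∃ m ∈ W₀, ∃ q' ∈ Q, g = q * m * q'}
  have hSmul : ∀ a ∈ S, ∀ b ∈ S, a * b ∈ S := by
    rintro _ ⟨q, hq, m, hm, q', hq', rfl⟩ _ ⟨p, hp, m', hm', p', hp', rfl⟩
    have hx : q' * p ∈ Q := Q.mul_mem hq' hp
    set x := q' * p with hxd
    have he : q * m * q' * (p * m' * p') = q * (m * x * m') * p' := by rw [hxd]; group
    rw [he]
    suffices hs : m * x * m' ∈ S by
      obtain ⟨a, ha, n, hn, b, hb, hab⟩ := hs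
      exact ⟨q * a, Q.mul_mem hq ha, n, hn, b * p', Q.mul_mem hb hp', by rw [hab]; group⟩
    by_cases hx1 : x = 1
    · exact ⟨1, Q.one_mem, m * m', W₀.mul_mem hm hm', 1, Q.one_mem, by rw [hx1]; group⟩
    by_cases hmD' : m' ∈ D
    · exact ⟨1, Q.one_mem, m * m', W₀.mul_mem hm hm', m'⁻¹ * x * m', hQd m' hmD' x hx, by group⟩
    by_cases hmD : m ∈ D
    · exact ⟨m * x * m⁻¹, hQd' m hmD x hx, m * m', W₀.mul_mem hm hm', 1, Q.one_mem, by group⟩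
    obtain ⟨a, ha, u, b, hb, hab⟩ := conj_W h hx hx1 (hle hm) hmD
    have hδ : m * m' ∈ D := hWW m (hle hm) hmD m' (hle hm') hmD'
    refine ⟨a, ha, mu h u * (m * m'), W₀.mul_mem (hmem u) (W₀.mul_mem hm hm'),
      (m * m')⁻¹ * b * (m * m'), hQd _ hδ b hb, ?_⟩
    calc m * x * m' = (m * x * m⁻¹) * (m * m') := by group
      _ = a * mu h u * b * (m * m') := by rw [hab]
      _ = _ := by group
  let G₀ : Subgroup G :=
    { carrier := S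
      mul_mem' := fun {a b} ha hb => hSmul a ha b hb
      one_mem' := ⟨1, Q.one_mem, 1, W₀.one_mem, 1, Q.one_mem, by group⟩
      inv_mem' := by
        rintro _ ⟨q, hq, m, hm, q', hq', rfl⟩
        exact ⟨q'⁻¹, Q.inv_mem hq', m⁻¹, W₀.inv_mem hm, q⁻¹, Q.inv_mem hq, by group⟩ }
  have hQG : ∀ q ∈ Q, q ∈ G₀ := fun q hq => ⟨q, hq, 1, W₀.one_mem, 1, Q.one_mem, by group⟩
  have hWG : ∀ m ∈ W₀, m ∈ G₀ := fun m hm => ⟨1, Q.one_mem, m, hm, 1, Q.one_mem, by group⟩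
  have hQn : ∀ q ∈ Q, ∀ g ∈ G₀, q * g * q⁻¹ ∈ G₀ := fun q hq g hg =>
    G₀.mul_mem (G₀.mul_mem (hQG q hq) hg) (G₀.inv_mem (hQG q hq))
  have hDn : ∀ d ∈ D, ∀ g ∈ G₀, d * g * d⁻¹ ∈ G₀ := by
    rintro d hd _ ⟨q, hq, m, hm, q', hq', rfl⟩
    exact ⟨d * q * d⁻¹, hQd' d hd q hq, d * m * d⁻¹, hDW₀ d hd m hm, d * q' * d⁻¹,
      hQd' d hd q' hq', by group⟩
  have hwn : ∀ g ∈ G₀, w * g * w⁻¹ ∈ G₀ := by
    have h1 : ∀ q ∈ Q, w * q * w⁻¹ ∈ G₀ := by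
      intro q hq
      by_cases hq1 : q = 1
      · rw [hq1, mul_one, mul_inv_cancel]; exact G₀.one_mem
      · obtain ⟨a, ha, u, b, hb, hab⟩ := conj_W h hq hq1 h.wW h.wD
        rw [hab]
        exact ⟨a, ha, mu h u, hmem u, b, hb, rfl⟩
    rintro _ ⟨q, hq, m, hm, q', hq', rfl⟩
    have h2 : w * (q * m * q') * w⁻¹ = (w * q * w⁻¹) * (w * m * w⁻¹) * (w * q' * w⁻¹) := by group
    rw [h2]
    exact G₀.mul_mem (G₀.mul_mem (h1 q hq) (hWG _ (hwW₀ m hm))) (h1 q' hq')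
  have hn : G₀.Normal := by
    refine ⟨fun g hg x => ?_⟩
    have hB : ∀ b ∈ B, ∀ g ∈ G₀, b * g * b⁻¹ ∈ G₀ := by
      intro b hb g hg
      obtain ⟨u, hu, d, hd, rfl⟩ := h.Bmul b hb
      have : u * d * g * (u * d)⁻¹ = u * (d * g * d⁻¹) * u⁻¹ := by group
      rw [this]
      exact hQn u hu _ (hDn d hd g hg)
    by_cases hx : x ∈ B
    · exact hB x hx g hg
    · obtain ⟨u, hu, b, hb, rfl⟩ := h.bruhat x hx
      have : u * w * b * g * (u * w * b)⁻¹ = u * (w * (b * g * b⁻¹) * w⁻¹) * u⁻¹ := by group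
      rw [this]
      exact hQn u hu _ (hwn _ (hB b hb g hg))
  have htop : G₀ = ⊤ := by
    rw [eq_top_iff, ← hG]
    exact Subgroup.normalClosure_le_normal (fun q hq => hQG q hq)
  obtain ⟨⟨q₀, hq₀⟩, hq₀1'⟩ := Subgroup.ne_bot_iff_exists_ne_one.1 hQ
  have hq₀1 : q₀ ≠ 1 := fun hc => hq₀1' (Subtype.ext hc)
  have key : ∀ g ∈ W, g ∉ D → g ∈ W₀ := by
    intro g hg hgD
    have hg0 : g ∈ G₀ := by rw [htop]; exact Subgroup.mem_top g
    obtain ⟨q, hq, m, hm, q', hq', he⟩ := hg0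
    have hmD : m ∉ D := by
      intro hc
      apply hgD
      refine h.WB g hg ?_
      rw [he]
      exact B.mul_mem (B.mul_mem (h.QB hq) (h.DB hc)) (h.QB hq')
    have h1 := (mid_unique h Q.one_mem Q.one_mem hq hq' hg hgD (hle hm) hmD
      (by rw [one_mul, mul_one]; exact he)).1
    rw [h1]
    exact hm
  refine le_antisymm hle fun g hg => ?_
  by_cases hgD : g ∈ D
  · let u : {u : Q // u ≠ 1} := ⟨⟨q₀, hq₀⟩, fun hc => hq₀1 (congrArg Subtype.val hc)⟩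
    have h1 : g * mu h u ∈ W₀ := key _ (W.mul_mem hg (mu h u).2) fun hc => mu_notin h u (by
      have := D.mul_mem (D.inv_mem hgD) hc
      rwa [inv_mul_cancel_left] at this)
    have h2 := W₀.mul_mem h1 (W₀.inv_mem (hmem u))
    rwa [mul_inv_cancel_right] at h2
  · exact key g hg hgD

end Cfsg.Agent.HKS.ModPMu
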