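import Mathlib

/-!
# Congruences modulo the radical of `(p)` in the ring of algebraic integers
-/

set_option autoImplicit false

namespace Cfsg.Agent.HKS.ModPNum

/-- `a` lies in the radical of `(p)` in the ring of algebraic integers. -/
def PI (p : ℕ) (a : ℂ) : Prop :=
  ∃ b : integralClosure ℤ ℂ, b ∈ (Ideal.span {(p : integralClosure ℤ ℂ)}).radical ∧ (b : ℂ) = a

variable {p : ℕ}

theorem PI.integral {a : ℂ} (h : PI p a) : IsIntegral ℤ a := by
  obtain ⟨b, -, rfl⟩ := h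
  exact b.2

theorem PI.zero : PI p 0 := ⟨0, Ideal.zero_mem _, rfl⟩

theorem PI.add {a b : ℂ} (ha : PI p a) (hb : PI p b) : PI p (a + b) := by
  obtain ⟨a', ha, rfl⟩ := ha
  obtain ⟨b', hb, rfl⟩ := hb
  exact ⟨a' + b', Ideal.add_mem _ ha hb, rfl⟩

theorem PI.mul_left {a : ℂ} (ha : PI p a) {x : ℂ} (hx : IsIntegral ℤ x) : PI p (x * a) := by
  obtain ⟨a', ha, rfl⟩ := ha
  exact ⟨⟨x, hx⟩ * a', Ideal.mul_mem_left _ _ ha, rfl⟩

theorem PI.mul_right {a : ℂ} (ha : PI p a) {x : ℂ} (hx : IsIntegral ℤ x) : PI p (a * x) := by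
  rw [mul_comm]
  exact ha.mul_left hx

theorem PI.neg {a : ℂ} (ha : PI p a) : PI p (-a) := by
  rw [neg_eq_neg_one_mul]
  exact ha.mul_left (isIntegral_one.neg)

theorem PI.sub {a b : ℂ} (ha : PI p a) (hb : PI p b) : PI p (a - b) := by
  rw [sub_eq_add_neg]
  exact ha.add hb.neg

theorem PI.sum {ι : Type*} {s : Finset ι} {f : ι → ℂ} (h : ∀ i ∈ s, PI p (f i)) :
    PI p (∑ i ∈ s, f i) := by
  classical
  induction s using Finset.induction_on with
  | empty => rw [Finset.sum_empty]; exact PI.zero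
  | insert a s ha ih =>
    rw [Finset.sum_insert ha]
    exact (h a (Finset.mem_insert_self a s)).add
      (ih fun i hi => h i (Finset.mem_insert_of_mem hi))

theorem PI.of_pow {a b : ℂ} {m : ℕ} (ha : IsIntegral ℤ a) (hb : IsIntegral ℤ b)
    (h : a ^ m = p * b) : PI p a := by
  refine ⟨⟨a, ha⟩, ⟨m, ?_⟩, rfl⟩
  rw [Ideal.mem_span_singleton]
  refine ⟨⟨b, hb⟩, Subtype.ext ?_⟩
  simpa using h

theorem isIntegral_rat {q : ℚ} (h : IsIntegral ℤ (q : ℂ)) : ∃ n : ℤ, (n : ℚ) = q := by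
  have h1 : IsIntegral ℤ ((algebraMap ℚ ℂ) q) := by
    rwa [eq_ratCast]
  have h2 : IsIntegral ℤ q :=
    (isIntegral_algebraMap_iff (algebraMap ℚ ℂ).injective).1 h1
  obtain ⟨n, hn⟩ := IsIntegrallyClosed.isIntegral_iff.1 h2
  exact ⟨n, by simpa using hn⟩

/-- A rational integer in the radical of `(p)` is divisible by `p`. -/
theorem PI.dvd (hp : p.Prime) {n : ℤ} (h : PI p (n : ℂ)) : (p : ℤ) ∣ n := by
  obtain ⟨b, ⟨m, hm⟩, hb⟩ := h
  rw [Ideal.mem_span_singleton] at hm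
  obtain ⟨c, hc⟩ := hm
  have h1 : (n : ℂ) ^ m = p * (c : ℂ) := by
    rw [← hb]
    have := congrArg (Subtype.val) hc
    simpa using this
  have hp0 : (p : ℂ) ≠ 0 := by exact_mod_cast hp.ne_zero
  have h2 : (c : ℂ) = (((n : ℚ) ^ m / p : ℚ) : ℂ) := by
    push_cast
    rw [h1]
    field_simp
  have h3 : IsIntegral ℤ ((((n : ℚ) ^ m / p : ℚ)) : ℂ) := by
    rw [← h2]
    exact c.2
  obtain ⟨z, hz⟩ := isIntegral_rat h3
  have hp0' : (p : ℚ) ≠ 0 := by exact_mod_cast hp.ne_zero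
  have h4 : (n : ℚ) ^ m = p * z := by
    rw [hz]
    field_simp
  have h5 : n ^ m = (p : ℤ) * z := by exact_mod_cast h4
  exact (Nat.prime_iff_prime_int.1 hp).dvd_of_dvd_pow ⟨z, h5⟩

/-- A root of a monic quadratic with integral coefficients is integral. -/
theorem isIntegral_root {r c N : ℂ} (hc : IsIntegral ℤ c) (hN : IsIntegral ℤ N)
    (h : r ^ 2 = c * r + N) : IsIntegral ℤ r := by
  have h1 : IsIntegral (integralClosure ℤ ℂ) r := by
    refine ⟨Polynomial.X ^ 2 - Polynomial.C (⟨c, hc⟩ : integralClosure ℤ ℂ) * Polynomial.X -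
      Polynomial.C (⟨N, hN⟩ : integralClosure ℤ ℂ), ?_, ?_⟩
    · have : (Polynomial.X ^ 2 - Polynomial.C (⟨c, hc⟩ : integralClosure ℤ ℂ) * Polynomial.X -
        Polynomial.C (⟨N, hN⟩ : integralClosure ℤ ℂ)) = Polynomial.X ^ (1 + 1) +
        (Polynomial.C (-(⟨c, hc⟩ : integralClosure ℤ ℂ)) * Polynomial.X +
        Polynomial.C (-(⟨N, hN⟩ : integralClosure ℤ ℂ))) := by
        simp only [map_neg]
        ring
      rw [this]
      exact Polynomial.monic_X_pow_add (Polynomial.degree_linear_le.trans_lt (by norm_num))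
    · simp only [Polynomial.eval₂_sub, Polynomial.eval₂_mul, Polynomial.eval₂_pow,
        Polynomial.eval₂_X, Polynomial.eval₂_C]
      change r ^ 2 - c * r - N = 0
      rw [h]
      ring
  exact isIntegral_trans r h1

theorem quad (hp : p.Prime) {k : ℕ} {r₁ r₂ : ℂ} {n₁ n₂ : ℕ} (h1 : 0 < n₁) (h2 : 0 < n₂)
    (h : r₁ * n₁ + r₂ * n₂ = 0) (hr : r₁ * r₂ = -((p : ℂ) ^ k)) (hc : IsIntegral ℤ (r₁ + r₂)) :
    (PI p r₁ ∧ PI p r₂) ∨ r₁ ^ 2 = 1 ∨ r₂ ^ 2 = 1 := by
  have hpk : IsIntegral ℤ ((p : ℂ) ^ k) := by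
    have : ((p : ℂ) ^ k) = ((p ^ k : ℕ) : ℂ) := by push_cast; rfl
    rw [this]
    exact isIntegral_natCast _
  have hi₁ : IsIntegral ℤ r₁ := isIntegral_root hc hpk (by linear_combination -hr)
  have hi₂ : IsIntegral ℤ r₂ := isIntegral_root hc hpk (by linear_combination -hr)
  -- the squares are positive integers
  have key : ∀ {r s : ℂ} {n m : ℕ}, 0 < n → 0 < m → r * n + s * m = 0 → r * s = -((p : ℂ) ^ k) →
      IsIntegral ℤ r → ∃ a : ℕ, 0 < a ∧ r ^ 2 = a := by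
    intro r s n m hn hm hrs hrs' hri
    have hn0 : (n : ℂ) ≠ 0 := by exact_mod_cast hn.ne'
    have h3 : r ^ 2 = (((p : ℚ) ^ k * m / n : ℚ) : ℂ) := by
      push_cast
      rw [eq_div_iff hn0]
      linear_combination r * hrs - m * hrs'
    have h4 : IsIntegral ℤ ((((p : ℚ) ^ k * m / n : ℚ)) : ℂ) := by
      rw [← h3]
      exact hri.pow 2
    obtain ⟨z, hz⟩ := isIntegral_rat h4
    have hpos : (0 : ℚ) < z := by
      rw [hz]
      have : (0 : ℚ) < p := by exact_mod_cast hp.pos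
      positivity
    have hz0 : 0 < z := by exact_mod_cast hpos
    refine ⟨z.toNat, by omega, ?_⟩
    rw [h3, ← hz]
    have : ((z.toNat : ℤ) : ℂ) = z := by rw [Int.toNat_of_nonneg hz0.le]
    push_cast at this ⊢
    rw [← this]
  obtain ⟨a, ha, hra⟩ := key h1 h2 h hr hi₁
  obtain ⟨b, hb, hrb⟩ := key (r := r₂) (s := r₁) h2 h1 (by linear_combination h)
    (by linear_combination hr) hi₂
  have hab : a * b = p ^ (2 * k) := by
    have : ((a * b : ℕ) : ℂ) = ((p ^ (2 * k) : ℕ) : ℂ) := by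
      push_cast
      rw [← hra, ← hrb, ← mul_pow, hr, neg_sq, ← pow_mul, mul_comm k 2]
    exact_mod_cast this
  obtain ⟨i, -, hi⟩ := (Nat.dvd_prime_pow hp).1 (Dvd.intro b hab : a ∣ p ^ (2 * k))
  obtain ⟨j, -, hj⟩ := (Nat.dvd_prime_pow hp).1 (Dvd.intro_left a hab : b ∣ p ^ (2 * k))
  have hPI : ∀ {r : ℂ} {a i : ℕ}, IsIntegral ℤ r → r ^ 2 = a → a = p ^ i → 0 < i → PI p r := by
    intro r a i hri hra hi hi0
    refine PI.of_pow (m := 2) (b := ((p ^ (i - 1) : ℕ) : ℂ)) hri (isIntegral_natCast _) ?_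
    rw [hra, hi]
    have : p ^ i = p * p ^ (i - 1) := by
      rw [← pow_succ', Nat.sub_add_cancel hi0]
    rw [this]
    push_cast
    ring
  rcases Nat.eq_zero_or_pos i with hi0 | hi0
  · right; left
    rw [hra, hi, hi0]
    norm_num
  rcases Nat.eq_zero_or_pos j with hj0 | hj0
  · right; right
    rw [hrb, hj, hj0]
    norm_num
  exact Or.inl ⟨hPI hi₁ hra hi hi0, hPI hi₂ hrb hj hj0⟩

/-- Equality case of the triangle inequality. -/
theorem eq_of_sum_eq {ι : Type*} [Fintype ι] (z : ι → ℂ) (d : ℝ) (hz : ∀ i, ‖z i‖ ≤ d)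
    (ε : ℝ) (hε : ε = 1 ∨ ε = -1) (h : ∑ i, z i = ε * Fintype.card ι * d) :
    ∀ i, z i = ε * d := by
  have hε2 : ε * ε = 1 := by rcases hε with rfl | rfl <;> norm_num
  have hre : ∀ i, 0 ≤ d - ε * (z i).re := by
    intro i
    have h1 : |(z i).re| ≤ d := (Complex.abs_re_le_norm _).trans (hz i)
    rcases hε with rfl | rfl
    · have := abs_le.1 h1
      linarith
    · have := abs_le.1 h1
      linarith
  have hs : ∑ i, (d - ε * (z i).re) = 0 := by
    rw [Finset.sum_sub_distrib, ← Finset.mul_sum, ← Complex.re_sum, h, Finset.sum_const,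
      Finset.card_univ, nsmul_eq_mul]
    have : ((ε : ℂ) * (Fintype.card ι : ℂ) * (d : ℂ)).re = ε * Fintype.card ι * d := by
      have : ((ε : ℂ) * (Fintype.card ι : ℂ) * (d : ℂ)) = ((ε * Fintype.card ι * d : ℝ) : ℂ) := by
        push_cast; ring
      rw [this, Complex.ofReal_re]
    rw [this]
    linear_combination (-(Fintype.card ι : ℝ) * d) * hε2
  intro i
  have h1 := (Finset.sum_eq_zero_iff_of_nonneg fun i _ => hre i).1 hs i (Finset.mem_univ i)
  have h2 : (z i).re = ε * d := by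
    have : d = ε * (z i).re := by linarith
    rw [this, ← mul_assoc, hε2, one_mul]
  have h3 : ‖z i‖ ^ 2 ≤ d ^ 2 := by
    have := hz i
    have h0 := norm_nonneg (z i)
    nlinarith
  rw [Complex.sq_norm, Complex.normSq_apply, h2] at h3
  have h4 : (z i).im = 0 := by
    have : ε * d * (ε * d) = d ^ 2 := by linear_combination d ^ 2 * hε2
    nlinarith
  apply Complex.ext
  · rw [h2]
    have : ((ε : ℂ) * (d : ℂ)) = ((ε * d : ℝ) : ℂ) := by push_cast; ring
    rw [this, Complex.ofReal_re]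
  · rw [h4]
    have : ((ε : ℂ) * (d : ℂ)) = ((ε * d : ℝ) : ℂ) := by push_cast; ring
    rw [this, Complex.ofReal_im]

end Cfsg.Agent.HKS.ModPNum
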