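import Mathlib
import Cfsg.Agent.HKS.RankOne

/-!
# The Hecke operator of a rank-one group on functions `G → Y`

`σ` is a representation of `W` on `Y`. On `F = G → Y` we have `τ x`, `β A`, `R g`,
`S m = β (σ m) τ m` for `m ∈ W`, the idempotent `e` (average over `Q` and `D`), and
`f = |Q| e S(w) e`. If the sum of all `σ(m_u⁻¹)` is the scalar `c`, then `f² = |Q| e + c f`.
-/

set_option autoImplicit false
set_option linter.unusedSectionVars false

namespace Cfsg.Agent.HKS.ModPOp

variable {G : Type*} [Group G] {Y : Type*} [AddCommGroup Y] [Module ℂ Y]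

/-- Left translation. -/
def tau (x : G) : Module.End ℂ (G → Y) where
  toFun φ := fun y => φ (x⁻¹ * y)
  map_add' _ _ := rfl
  map_smul' _ _ := rfl

/-- Pointwise operator. -/
def beta (A : Module.End ℂ Y) : Module.End ℂ (G → Y) where
  toFun φ := fun y => A (φ y)
  map_add' a b := by funext y; simp
  map_smul' c a := by funext y; simp

/-- Right translation. -/
def rt (g : G) : Module.End ℂ (G → Y) where
  toFun φ := fun y => φ (y * g)
  map_add' _ _ := rfl
  map_smul' _ _ := rfl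

theorem tau_apply (x : G) (φ : G → Y) (y : G) : tau x φ y = φ (x⁻¹ * y) := rfl

theorem beta_apply (A : Module.End ℂ Y) (φ : G → Y) (y : G) : beta A φ y = A (φ y) := rfl

theorem rt_apply (g : G) (φ : G → Y) (y : G) : rt g φ y = φ (y * g) := rfl

theorem tau_mul (x x' : G) : tau (Y := Y) (x * x') = tau x * tau x' := by
  refine LinearMap.ext fun φ => funext fun y => ?_
  rw [Module.End.mul_apply, tau_apply, tau_apply, tau_apply, mul_inv_rev, mul_assoc]

theorem tau_one : tau (Y := Y) (1 : G) = 1 := by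
  refine LinearMap.ext fun φ => funext fun y => ?_
  rw [tau_apply, inv_one, one_mul, Module.End.one_apply]

theorem beta_mul (A A' : Module.End ℂ Y) : beta (G := G) (A * A') = beta A * beta A' := by
  refine LinearMap.ext fun φ => funext fun y => ?_
  rfl

theorem beta_one : beta (G := G) (1 : Module.End ℂ Y) = 1 := rfl

theorem beta_smul (c : ℂ) (A : Module.End ℂ Y) : beta (G := G) (c • A) = c • beta A := rfl

theorem beta_sum {ι : Type*} (s : Finset ι) (A : ι → Module.End ℂ Y) :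
    beta (G := G) (∑ i ∈ s, A i) = ∑ i ∈ s, beta (A i) := by
  refine LinearMap.ext fun φ => funext fun y => ?_
  simp [beta_apply, LinearMap.sum_apply, Finset.sum_apply]

theorem beta_tau (A : Module.End ℂ Y) (x : G) : beta A * tau x = tau x * beta A := rfl

theorem rt_tau (g x : G) : rt g * tau (Y := Y) x = tau x * rt g := by
  refine LinearMap.ext fun φ => funext fun y => ?_
  rw [Module.End.mul_apply, Module.End.mul_apply, tau_apply, rt_apply, tau_apply, rt_apply,
    mul_assoc]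

theorem rt_beta (A : Module.End ℂ Y) (g : G) : rt g * beta A = beta A * rt g := rfl

theorem rt_mul (g g' : G) : rt (Y := Y) (g * g') = rt g * rt g' := by
  refine LinearMap.ext fun φ => funext fun y => ?_
  rw [Module.End.mul_apply, rt_apply, rt_apply, rt_apply, mul_assoc]

theorem rt_one : rt (Y := Y) (1 : G) = 1 := by
  refine LinearMap.ext fun φ => funext fun y => ?_
  rw [rt_apply, mul_one, Module.End.one_apply]

section trace

variable [Fintype G] [DecidableEq G] [FiniteDimensional ℂ Y]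

/-- Trace of an endomorphism of `G → Y` through its diagonal blocks. -/
theorem trace_eq_sum (P : Module.End ℂ (G → Y)) :
    LinearMap.trace ℂ (G → Y) P =
      ∑ y : G, LinearMap.trace ℂ Y (LinearMap.proj y ∘ₗ P ∘ₗ LinearMap.single ℂ (fun _ => Y) y) := by
  have h1 : P = ∑ y : G, (P ∘ₗ LinearMap.single ℂ (fun _ => Y) y) ∘ₗ LinearMap.proj y := by
    refine LinearMap.ext fun φ => ?_
    rw [LinearMap.sum_apply]
    simp only [LinearMap.comp_apply]
    rw [← map_sum]
    congr 1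
    funext z
    simp [Finset.sum_apply, LinearMap.single_apply, LinearMap.proj_apply, Pi.single_apply]
  conv_lhs => rw [h1]
  rw [map_sum]
  refine Finset.sum_congr rfl fun y _ => ?_
  rw [LinearMap.trace_comp_comm']

/-- `tr (R(g) β(A) τ(x)) = tr A · #{y | y g y⁻¹ = x}`. -/
theorem trace_rt_beta_tau (g x : G) (A : Module.End ℂ Y) :
    LinearMap.trace ℂ (G → Y) (rt g * beta A * tau x) =
      (Finset.univ.filter fun y : G => y * g * y⁻¹ = x).card * LinearMap.trace ℂ Y A := by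
  rw [trace_eq_sum, Finset.card_filter, Nat.cast_sum, Finset.sum_mul]
  refine Finset.sum_congr rfl fun y _ => ?_
  by_cases hy : y * g * y⁻¹ = x
  · rw [if_pos hy, Nat.cast_one, one_mul]
    congr 1
    ext v
    simp only [LinearMap.comp_apply, LinearMap.proj_apply, Module.End.mul_apply, rt_apply,
      beta_apply, tau_apply, LinearMap.single_apply]
    rw [← hy, show (y * g * y⁻¹)⁻¹ * (y * g) = y by group, Pi.single_eq_same]
  · rw [if_neg hy, Nat.cast_zero, zero_mul]
    rw [← map_zero (LinearMap.trace ℂ Y)]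
    congr 1
    ext v
    simp only [LinearMap.comp_apply, LinearMap.proj_apply, Module.End.mul_apply, rt_apply,
      beta_apply, tau_apply, LinearMap.single_apply, LinearMap.zero_apply]
    rw [Pi.single_eq_of_ne, map_zero]
    intro h
    apply hy
    have : x = y * g * y⁻¹ := by
      calc x = x * (x⁻¹ * (y * g)) * y⁻¹ := by rw [h]; group
        _ = y * g * y⁻¹ := by group
    exact this.symm

end trace

section S

variable {B Q D W : Subgroup G} {w : G} (σ : Representation ℂ W Y)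

/-- `S m = β(σ m) τ(m)`. -/
def S (m : W) : Module.End ℂ (G → Y) := beta (σ m) * tau (m : G)

theorem S_apply (m : W) (φ : G → Y) (y : G) : S σ m φ y = σ m (φ ((m : G)⁻¹ * y)) := rfl

theorem S_mul (m m' : W) : S σ (m * m') = S σ m * S σ m' := by
  rw [S, S, S, map_mul, beta_mul, Subgroup.coe_mul, tau_mul, mul_assoc, mul_assoc]
  congr 1

theorem S_one : S σ (1 : W) = 1 := by
  rw [S, map_one, beta_one, OneMemClass.coe_one, tau_one, one_mul]

theorem S_tau (m : W) (x : G) : S σ m * tau x = tau ((m : G) * x * (m : G)⁻¹) * S σ m := by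
  have h1 : ((m : G) * x * (m : G)⁻¹) * m = m * x := by group
  rw [S, mul_assoc, ← tau_mul, ← mul_assoc (tau _), ← beta_tau, mul_assoc, ← tau_mul, h1]

theorem tau_eq (m : W) : tau (m : G) = S σ m * beta (σ m⁻¹) := by
  rw [S, mul_assoc, ← beta_tau, ← mul_assoc, ← beta_mul, ← map_mul, mul_inv_cancel, map_one,
    beta_one, one_mul]

theorem rt_S (g : G) (m : W) : rt g * S σ m = S σ m * rt g := by
  rw [S, ← mul_assoc, rt_beta, mul_assoc, rt_tau, mul_assoc]

variable (h : RankOne B Q D W w) [Fintype Q] [Fintype D]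

variable (Q Y) in
/-- The average over `Q`. -/
noncomputable def eQ : Module.End ℂ (G → Y) := (Nat.card Q : ℂ)⁻¹ • ∑ u : Q, tau (u : G)

/-- The average over `D`. -/
noncomputable def eD : Module.End ℂ (G → Y) :=
  (Nat.card D : ℂ)⁻¹ • ∑ d : D, S σ ⟨d, h.DW d.2⟩

theorem cardQ_ne : (Nat.card Q : ℂ) ≠ 0 := by exact_mod_cast Nat.card_pos.ne'

theorem cardD_ne : (Nat.card D : ℂ) ≠ 0 := by exact_mod_cast Nat.card_pos.ne'

theorem tau_eQ {u : G} (hu : u ∈ Q) : tau u * eQ Y Q = eQ Y Q := by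
  rw [eQ, mul_smul_comm, Finset.mul_sum]
  congr 1
  refine Fintype.sum_equiv (Equiv.mulLeft ⟨u, hu⟩) _ _ fun v => ?_
  rw [← tau_mul]
  rfl

theorem eQ_tau {u : G} (hu : u ∈ Q) : eQ Y Q * tau u = eQ Y Q := by
  rw [eQ, smul_mul_assoc, Finset.sum_mul]
  congr 1
  refine Fintype.sum_equiv (Equiv.mulRight ⟨u, hu⟩) _ _ fun v => ?_
  rw [← tau_mul]
  rfl

theorem eQ_eQ : eQ Y Q * eQ Y Q = eQ Y Q := by
  conv_lhs => enter [1]; rw [eQ]
  rw [smul_mul_assoc, Finset.sum_mul, Finset.sum_congr rfl fun u _ => tau_eQ u.2,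
    Finset.sum_const, Finset.card_univ, ← Nat.card_eq_fintype_card, ← Nat.cast_smul_eq_nsmul ℂ,
    smul_smul, inv_mul_cancel₀ cardQ_ne, one_smul]

theorem S_eD {d : G} (hd : d ∈ D) : S σ ⟨d, h.DW hd⟩ * eD σ h = eD σ h := by
  rw [eD, mul_smul_comm, Finset.mul_sum]
  congr 1
  refine Fintype.sum_equiv (Equiv.mulLeft ⟨d, hd⟩) _ _ fun v => ?_
  rw [← S_mul]
  rfl

theorem eD_S {d : G} (hd : d ∈ D) : eD σ h * S σ ⟨d, h.DW hd⟩ = eD σ h := by
  rw [eD, smul_mul_assoc, Finset.sum_mul]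
  congr 1
  refine Fintype.sum_equiv (Equiv.mulRight ⟨d, hd⟩) _ _ fun v => ?_
  rw [← S_mul]
  rfl

theorem eD_eD : eD σ h * eD σ h = eD σ h := by
  conv_lhs => enter [1]; rw [eD]
  rw [smul_mul_assoc, Finset.sum_mul, Finset.sum_congr rfl fun u _ => S_eD σ h u.2,
    Finset.sum_const, Finset.card_univ, ← Nat.card_eq_fintype_card, ← Nat.cast_smul_eq_nsmul ℂ,
    smul_smul, inv_mul_cancel₀ cardD_ne, one_smul]

theorem S_eQ {d : G} (hd : d ∈ D) : S σ ⟨d, h.DW hd⟩ * eQ Y Q = eQ Y Q * S σ ⟨d, h.DW hd⟩ := by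
  rw [eQ, mul_smul_comm, smul_mul_assoc, Finset.mul_sum, Finset.sum_mul]
  congr 1
  refine Fintype.sum_equiv
    ⟨fun u => ⟨d * u * d⁻¹, h.Qn d (h.DB hd) u u.2⟩,
      fun u => ⟨d⁻¹ * u * d, h.Qn' (h.DB hd) u.2⟩, fun u => by
      apply Subtype.ext; simp only []; group, fun u => by
      apply Subtype.ext; simp only []; group⟩ _ _ fun v => ?_
  rw [S_tau]
  rfl

theorem eD_eQ : eD σ h * eQ Y Q = eQ Y Q * eD σ h := by
  rw [eD, smul_mul_assoc, Finset.sum_mul, mul_smul_comm, Finset.mul_sum]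
  congr 1
  exact Finset.sum_congr rfl fun u _ => S_eQ σ h u.2

/-- The idempotent `e`. -/
noncomputable def e : Module.End ℂ (G → Y) := eQ Y Q * eD σ h

theorem eQ_e : eQ Y Q * e σ h = e σ h := by rw [e, ← mul_assoc, eQ_eQ]

theorem e_eD : e σ h * eD σ h = e σ h := by rw [e, mul_assoc, eD_eD]

theorem eD_e : eD σ h * e σ h = e σ h := by
  rw [e, ← mul_assoc, eD_eQ, mul_assoc, eD_eD]

theorem e_eQ : e σ h * eQ Y Q = e σ h := by
  rw [e, mul_assoc, eD_eQ, ← mul_assoc, eQ_eQ]

theorem e_e : e σ h * e σ h = e σ h := by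
  conv_lhs => enter [1]; rw [e]
  rw [mul_assoc, eD_e, eQ_e]

theorem tau_e {u : G} (hu : u ∈ Q) : tau u * e σ h = e σ h := by
  rw [e, ← mul_assoc, tau_eQ hu]

theorem e_tau {u : G} (hu : u ∈ Q) : e σ h * tau u = e σ h := by
  rw [e, ← eD_eQ, mul_assoc, eQ_tau hu]

theorem S_e {d : G} (hd : d ∈ D) : S σ ⟨d, h.DW hd⟩ * e σ h = e σ h := by
  rw [e, ← mul_assoc, S_eQ σ h hd, mul_assoc, S_eD σ h hd]

theorem e_S {d : G} (hd : d ∈ D) : e σ h * S σ ⟨d, h.DW hd⟩ = e σ h := by
  rw [e, mul_assoc, eD_S σ h hd]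

/-- `S(w)` commutes with the average over `D`. -/
theorem Sw_eD : S σ ⟨w, h.wW⟩ * eD σ h = eD σ h * S σ ⟨w, h.wW⟩ := by
  rw [eD, mul_smul_comm, smul_mul_assoc, Finset.mul_sum, Finset.sum_mul]
  congr 1
  refine Fintype.sum_equiv
    ⟨fun u => ⟨w * u * w⁻¹, h.w_conj u.2⟩,
      fun u => ⟨w⁻¹ * u * w, h.winv_conj u.2⟩, fun u => by
      apply Subtype.ext; simp only []; group, fun u => by
      apply Subtype.ext; simp only []; group⟩ _ _ fun v => ?_
  rw [← S_mul, ← S_mul]
  congr 1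
  apply Subtype.ext
  simp only [Equiv.coe_fn_mk, Subgroup.coe_mul]
  group

theorem rt_eQ (g : G) : rt g * eQ Y Q = eQ Y Q * rt g := by
  rw [eQ, mul_smul_comm, smul_mul_assoc, Finset.mul_sum, Finset.sum_mul]
  congr 1
  exact Finset.sum_congr rfl fun u _ => rt_tau g _

theorem rt_eD (g : G) : rt g * eD σ h = eD σ h * rt g := by
  rw [eD, mul_smul_comm, smul_mul_assoc, Finset.mul_sum, Finset.sum_mul]
  congr 1
  exact Finset.sum_congr rfl fun u _ => rt_S σ g _

theorem rt_e (g : G) : rt g * e σ h = e σ h * rt g := by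
  rw [e, ← mul_assoc, rt_eQ, mul_assoc, rt_eD, mul_assoc]

/-- The Hecke operator. -/
noncomputable def f : Module.End ℂ (G → Y) :=
  (Nat.card Q : ℂ) • (e σ h * S σ ⟨w, h.wW⟩ * e σ h)

theorem e_f : e σ h * f σ h = f σ h := by
  rw [f, mul_smul_comm, ← mul_assoc, ← mul_assoc, e_e]

theorem f_e : f σ h * e σ h = f σ h := by
  rw [f, smul_mul_assoc, mul_assoc, e_e]

theorem rt_f (g : G) : rt g * f σ h = f σ h * rt g := by
  rw [f, mul_smul_comm, smul_mul_assoc]
  congr 1
  rw [← mul_assoc, ← mul_assoc, rt_e, mul_assoc (e σ h), rt_S, mul_assoc, mul_assoc, mul_assoc,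
    rt_e, mul_assoc]

/-- The main identity: `f² = |Q| e + c f`. -/
theorem f_sq [DecidableEq Q] (c : ℂ) (m : {u : Q // u ≠ 1} → W) (hmD : ∀ u, (m u : G) ∉ D)
    (hm : ∀ u, ∃ u₁ ∈ Q, ∃ u₂ ∈ Q, w * (u.1 : G) * w⁻¹ = u₁ * m u * u₂)
    (hc : ∑ u, σ (m u)⁻¹ = c • (1 : Module.End ℂ Y)) :
    f σ h * f σ h = (Nat.card Q : ℂ) • e σ h + c • f σ h := by
  have hN : (Nat.card Q : ℂ) ≠ 0 := cardQ_ne
  set E := e σ h with hE
  set U := S σ ⟨w, h.wW⟩ with hU
  have hww : w * w ∈ D := by
    by_contra hc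
    obtain ⟨d, hd, hd'⟩ := h.Wmul (w * w) (W.mul_mem h.wW h.wW) hc
    have : w = d := mul_left_cancel hd'
    exact h.wD (this ▸ hd)
  have h1 : (E * U * E) * (E * U * E) = (Nat.card Q : ℂ)⁻¹ • ∑ u : Q, E * tau (w * u * w⁻¹) * E := by
    have h2 : (E * U * E) * (E * U * E) = E * U * eQ Y Q * U * E := by
      calc (E * U * E) * (E * U * E) = E * U * (E * E) * U * E := by noncomm_ring
        _ = E * U * (eQ Y Q * eD σ h) * U * E := by rw [hE, e_e, ← e]
        _ = E * U * eQ Y Q * (eD σ h * U) * E := by noncomm_ring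
        _ = E * U * eQ Y Q * U * (eD σ h * E) := by rw [← Sw_eD σ h]; noncomm_ring
        _ = _ := by rw [hE, eD_e]
    rw [h2]
    conv_lhs => enter [1, 1, 2]; rw [eQ]
    rw [mul_smul_comm, smul_mul_assoc, smul_mul_assoc, Finset.mul_sum, Finset.sum_mul,
      Finset.sum_mul]
    congr 1
    refine Finset.sum_congr rfl fun u _ => ?_
    have h3 : U * tau (u : G) * U * E = tau (w * u * w⁻¹) * E := by
      rw [hU, S_tau, mul_assoc (tau _), ← S_mul, mul_assoc]
      congr 1
      exact S_e σ h hww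
    calc E * U * tau (u : G) * U * E = E * (U * tau (u : G) * U * E) := by noncomm_ring
      _ = _ := by rw [h3]; noncomm_ring
  have h4 : ∑ u : Q, E * tau (w * u * w⁻¹) * E = E + c • (E * U * E) := by
    rw [← Finset.add_sum_erase _ _ (Finset.mem_univ (1 : Q))]
    congr 1
    · rw [OneMemClass.coe_one, mul_one, mul_inv_cancel, tau_one, mul_one, hE, e_e]
    · have h5 : ∑ u ∈ Finset.univ.erase (1 : Q), E * tau (w * u * w⁻¹) * E =
          ∑ u : {u : Q // u ≠ 1}, E * U * beta (σ (m u)⁻¹) * E := by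
        symm
        refine Finset.sum_bij (fun u _ => u.1) (fun u _ => by simp [u.2])
          (fun a _ b _ hab => Subtype.ext hab) (fun b hb => ⟨⟨b, by simpa using hb⟩, by simp⟩)
          (fun u _ => ?_)
        obtain ⟨u₁, hu₁, u₂, hu₂, he⟩ := hm u
        obtain ⟨d, hd, hmd⟩ := h.Wmul (m u) (m u).2 (hmD u)
        have hd' : w * d * w⁻¹ ∈ D := h.w_conj hd
        have h6 : m u = ⟨w * d * w⁻¹, h.DW hd'⟩ * ⟨w, h.wW⟩ := by
          apply Subtype.ext
          rw [hmd, Subgroup.coe_mul]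
          group
        have h7 : E * tau (m u : G) = E * U * beta (σ (m u)⁻¹) := by
          rw [tau_eq σ (m u)]
          conv_lhs => enter [2, 1]; rw [h6, S_mul]
          calc E * (S σ ⟨w * d * w⁻¹, h.DW hd'⟩ * S σ ⟨w, h.wW⟩ * beta (σ (m u)⁻¹))
              = (E * S σ ⟨w * d * w⁻¹, h.DW hd'⟩) * S σ ⟨w, h.wW⟩ * beta (σ (m u)⁻¹) := by
                noncomm_ring
            _ = _ := by rw [hE, e_S σ h hd']
        rw [he, tau_mul, tau_mul]
        calc E * U * beta (σ (m u)⁻¹) * E = E * tau (m u : G) * E := by rw [h7]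
          _ = (E * tau u₁) * tau (m u : G) * (tau u₂ * E) := by
            rw [hE, e_tau σ h hu₁, tau_e σ h hu₂]
          _ = _ := by noncomm_ring
      rw [h5, ← Finset.sum_mul, ← Finset.mul_sum, ← beta_sum, hc, beta_smul, beta_one,
        mul_smul_comm, mul_one, smul_mul_assoc]
  rw [f, smul_mul_smul_comm, h1, h4, smul_smul, mul_assoc, mul_inv_cancel₀ hN, mul_one, smul_add,
    smul_smul, smul_smul, mul_comm c]

end S

end Cfsg.Agent.HKS.ModPOp
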