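import Mathlib
import Cfsg.Agent.HKS.ModPOp
import Cfsg.Agent.HKS.ModPSpec
import Cfsg.Agent.HKS.ModPNum
import Cfsg.Agent.HKS.ModPMu
import Cfsg.Agent.Characters.CentralCharacter
import Cfsg.Agent.Characters.Values
import Cfsg.Agent.Characters.Core

/-!
# Dichotomy for the irreducible representations of `W`

Let `|Q| = p^k`. For an irreducible representation `σ` of `W` either all traces `tr(R(g) f)` and the
scalar of `∑ μ(u)` lie in the radical of `(p)`, or all `σ(μ(u))` are `1`, or all are `-1`.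
-/

set_option autoImplicit false
set_option linter.unusedSectionVars false

open Cfsg

namespace Cfsg.Agent.HKS.ModPDich

open ModPOp ModPNum ModPMu

variable {G : Type*} [Group G] {B Q D W : Subgroup G} {w : G}
variable {Y : Type*} [AddCommGroup Y] [Module ℂ Y] [FiniteDimensional ℂ Y]

theorem card_QD (h : RankOne B Q D W w) {u d : G} (hu : u ∈ Q) (hd : d ∈ D) (he : u * d = 1) :
    u = 1 ∧ d = 1 := by
  have h1 : u = d⁻¹ := eq_inv_of_mul_eq_one_left he
  have h2 : u = 1 := h.QD u hu (by rw [h1]; exact D.inv_mem hd)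
  refine ⟨h2, ?_⟩
  rwa [h2, one_mul] at he

section traces

variable (σ : Representation ℂ W Y) (h : RankOne B Q D W w) [Fintype Q] [Fintype D] [Fintype G]
  [DecidableEq G]

/-- The trace of `R(g) f`. -/
theorem trace_rt_f (g : G) :
    LinearMap.trace ℂ (G → Y) (rt g * f σ h) = (Nat.card D : ℂ)⁻¹ * ∑ u : Q, ∑ d : D,
      ((Finset.univ.filter fun y : G => y * g * y⁻¹ = (u : G) * (d * w)).card : ℂ) *
        σ.character (⟨d, h.DW d.2⟩ * ⟨w, h.wW⟩) := by
  have hQ0 : (Nat.card Q : ℂ) ≠ 0 := cardQ_ne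
  have h1 : LinearMap.trace ℂ (G → Y) (rt g * f σ h) =
      (Nat.card Q : ℂ) * LinearMap.trace ℂ (G → Y) (rt g * (e σ h * S σ ⟨w, h.wW⟩)) := by
    rw [f, mul_smul_comm, map_smul, smul_eq_mul]
    congr 1
    rw [← mul_assoc, LinearMap.trace_mul_comm, ← mul_assoc, ← mul_assoc, ← rt_e, mul_assoc (rt g),
      e_e, mul_assoc]
  have h2 : rt g * (e σ h * S σ ⟨w, h.wW⟩) = ((Nat.card Q : ℂ)⁻¹ * (Nat.card D : ℂ)⁻¹) •
      ∑ u : Q, ∑ d : D, rt g * beta (σ (⟨d, h.DW d.2⟩ * ⟨w, h.wW⟩)) * tau ((u : G) * (d * w)) := by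
    rw [e, eQ, eD, smul_mul_smul_comm, smul_mul_assoc, mul_smul_comm, Finset.sum_mul_sum,
      Finset.sum_mul, Finset.mul_sum]
    congr 1
    refine Finset.sum_congr rfl fun u _ => ?_
    rw [Finset.sum_mul, Finset.mul_sum]
    refine Finset.sum_congr rfl fun d _ => ?_
    rw [mul_assoc (tau _), ← S_mul, S, ← mul_assoc (tau _), ← beta_tau, mul_assoc (beta _),
      ← tau_mul, mul_assoc]
    rfl
  rw [h1, h2, map_smul, map_sum, smul_eq_mul, ← mul_assoc, ← mul_assoc, mul_inv_cancel₀ hQ0,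
    one_mul]
  congr 1
  refine Finset.sum_congr rfl fun u _ => ?_
  rw [map_sum]
  refine Finset.sum_congr rfl fun d _ => ?_
  rw [trace_rt_beta_tau]
  rfl

theorem notin_B (h : RankOne B Q D W w) {u d : G} (hu : u ∈ Q) (hd : d ∈ D) :
    u * (d * w) ∉ B := by
  intro hc
  apply h.wB
  have := B.mul_mem (B.inv_mem (h.DB hd)) (B.mul_mem (B.inv_mem (h.QB hu)) hc)
  have h1 : d⁻¹ * (u⁻¹ * (u * (d * w))) = w := by group
  rwa [h1] at this

theorem trace_f : LinearMap.trace ℂ (G → Y) (f σ h) = 0 := by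
  have h1 := trace_rt_f σ h 1
  rw [rt_one, one_mul] at h1
  rw [h1]
  have h2 : ∀ u : Q, ∀ d : D,
      (Finset.univ.filter fun y : G => y * 1 * y⁻¹ = (u : G) * (d * w)) = ∅ := by
    intro u d
    rw [Finset.filter_eq_empty_iff]
    intro y _ hy
    rw [mul_one, mul_inv_cancel] at hy
    exact notin_B h u.2 d.2 (by rw [← hy]; exact B.one_mem)
  simp only [h2, Finset.card_empty, Nat.cast_zero, zero_mul, Finset.sum_const_zero, mul_zero]

theorem trace_e : LinearMap.trace ℂ (G → Y) (e σ h) =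
    ((Nat.card Q : ℂ)⁻¹ * (Nat.card D : ℂ)⁻¹) * (Nat.card G * σ.character 1) := by
  have h2 : e σ h = ((Nat.card Q : ℂ)⁻¹ * (Nat.card D : ℂ)⁻¹) •
      ∑ u : Q, ∑ d : D, rt 1 * beta (σ ⟨d, h.DW d.2⟩) * tau ((u : G) * d) := by
    rw [e, eQ, eD, smul_mul_smul_comm, Finset.sum_mul_sum]
    congr 1
    refine Finset.sum_congr rfl fun u _ => ?_
    refine Finset.sum_congr rfl fun d _ => ?_
    rw [S, ← mul_assoc (tau _), ← beta_tau, mul_assoc (beta _), ← tau_mul, rt_one, one_mul]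
  rw [h2, map_smul, map_sum, smul_eq_mul]
  congr 1
  have h3 : ∀ u : Q, ∀ d : D, LinearMap.trace ℂ (G → Y)
      (rt 1 * beta (σ ⟨d, h.DW d.2⟩) * tau ((u : G) * d)) =
      if u = 1 ∧ d = 1 then (Nat.card G : ℂ) * σ.character 1 else 0 := by
    intro u d
    rw [trace_rt_beta_tau]
    by_cases hud : u = 1 ∧ d = 1
    · rw [if_pos hud]
      have h4 : (Finset.univ.filter fun y : G => y * 1 * y⁻¹ = (u : G) * d) = Finset.univ := by
        rw [Finset.filter_eq_self]
        intro y _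
        rw [hud.1, hud.2]
        simp
      rw [h4, Finset.card_univ, ← Nat.card_eq_fintype_card]
      congr 1
      have : (⟨d, h.DW d.2⟩ : W) = 1 := by rw [hud.2]; rfl
      rw [this]
      rfl
    · rw [if_neg hud]
      have h4 : (Finset.univ.filter fun y : G => y * 1 * y⁻¹ = (u : G) * d) = ∅ := by
        rw [Finset.filter_eq_empty_iff]
        intro y _ hy
        rw [mul_one, mul_inv_cancel] at hy
        obtain ⟨h5, h6⟩ := card_QD h u.2 d.2 hy.symm
        exact hud ⟨Subtype.ext h5, Subtype.ext h6⟩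
      rw [h4]
      simp
  have h5 : ∀ u ∈ (Finset.univ : Finset Q), LinearMap.trace ℂ (G → Y)
      (∑ d : D, rt 1 * beta (σ ⟨d, h.DW d.2⟩) * tau ((u : G) * d)) =
      if u = 1 then (Nat.card G : ℂ) * σ.character 1 else 0 := by
    intro u _
    rw [map_sum, Finset.sum_congr rfl fun d _ => h3 u d]
    by_cases hu : u = 1
    · simp [hu]
    · simp [hu]
  rw [Finset.sum_congr rfl h5]
  simp

end traces

section main

variable (σ : Representation ℂ W Y) (h : RankOne B Q D W w) [Fintype Q] [Fintype D] [Finite G]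

/-- The scalar of `∑ μ(u)`. -/
noncomputable def cc : ℂ :=
  open scoped Classical in
  (∑ u, σ.character (mu h u)) / (Module.finrank ℂ Y : ℂ)

open scoped Classical in
theorem sum_mu_eq [σ.IsIrreducible] :
    ∑ u, σ (mu h u) = cc σ h • (1 : Module.End ℂ Y) := by
  have := Fintype.ofFinite W
  have h1 := Characters.CentralCharacter.sum_classFunction_smul_eq σ
    (fun g => (cnt h g : ℂ)) (fun x g => by rw [cnt_conj])
  have h2 : ∑ u, σ (mu h u) = ∑ g : W, (cnt h g : ℂ) • σ g := by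
    rw [sum_mu h]
    exact Finset.sum_congr rfl fun g _ => (Nat.cast_smul_eq_nsmul ℂ _ _).symm
  have h3 : ∑ g : W, (cnt h g : ℂ) * σ.character g = ∑ u, σ.character (mu h u) := by
    rw [sum_mu h]
    exact Finset.sum_congr rfl fun g _ => (nsmul_eq_mul _ _).symm
  rw [h2, h1, h3]
  rfl

open scoped Classical in
theorem sum_mu_inv_eq [σ.IsIrreducible] :
    ∑ u, σ (mu h u)⁻¹ = cc σ h • (1 : Module.End ℂ Y) := by
  rw [← sum_mu_eq σ h]
  refine Fintype.sum_equiv (invQ (Q := Q)) _ _ fun u => ?_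
  rw [mu_inv]

theorem isIntegral_cc [σ.IsIrreducible] : IsIntegral ℤ (cc σ h) := by
  classical
  have := Fintype.ofFinite W
  have h1 := Characters.CentralCharacter.isIntegral_sum_int σ
    (fun g => (cnt h g : ℤ)) (fun x g => by rw [cnt_conj])
  have h3 : ∑ g : W, ((cnt h g : ℤ) : ℂ) * σ.character g = ∑ u, σ.character (mu h u) := by
    rw [sum_mu h]
    refine Finset.sum_congr rfl fun g _ => ?_
    rw [nsmul_eq_mul]
    push_cast
    rfl
  rw [h3] at h1
  exact h1

theorem card_index (Q : Subgroup G) [Fintype Q] [DecidableEq Q] :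
    (Fintype.card {u : Q // u ≠ 1} : ℂ) = Nat.card Q - 1 := by
  rw [Fintype.card_subtype_compl, Fintype.card_subtype_eq, Nat.card_eq_fintype_card,
    Nat.cast_sub Fintype.card_pos]
  simp

/-- **Dichotomy.** -/
theorem dichotomy [σ.IsIrreducible] {p k : ℕ} (hp : p.Prime) (hN : Nat.card Q = p ^ k) :
    (PI p (cc σ h) ∧ ∀ g : G, PI p (LinearMap.trace ℂ (G → Y) (rt g * f σ h))) ∨
      ∃ ε : ℝ, (ε = 1 ∨ ε = -1) ∧ ∀ u, σ (mu h u) = (ε : ℂ) • (1 : Module.End ℂ Y) := by
  classical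
  have := Fintype.ofFinite G
  have hd := Characters.CentralCharacter.finrank_pos_of_irreducible σ
  have hd0 : (Module.finrank ℂ Y : ℂ) ≠ 0 := by exact_mod_cast hd.ne'
  have hQ0 : (Nat.card Q : ℂ) ≠ 0 := cardQ_ne
  have hD0 : (Nat.card D : ℂ) ≠ 0 := cardD_ne
  have hG0 : (Nat.card G : ℂ) ≠ 0 := by exact_mod_cast Nat.card_pos.ne'
  have hf := f_sq σ h (cc σ h) (mu h) (mu_notin h) (mu_spec h) (sum_mu_inv_eq σ h)
  have hte : LinearMap.trace ℂ (G → Y) (e σ h) ≠ 0 := by
    rw [trace_e, Representation.char_one]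
    exact mul_ne_zero (mul_ne_zero (inv_ne_zero hQ0) (inv_ne_zero hD0)) (mul_ne_zero hG0 hd0)
  obtain ⟨r₁, r₂, E₁, E₂, n₁, n₂, hsum, hprod, hE₁, hE₂, -, hcomb, hn₁, hn₂, hp₁, hp₂, ht, hcom⟩ :=
    ModPSpec.exists_spectral (e σ h) (f σ h) (e_e σ h) (e_f σ h) (f_e σ h) (Nat.card Q : ℂ)
      (cc σ h) hQ0 hf (trace_f σ h) hte
  have hprod' : r₁ * r₂ = -((p : ℂ) ^ k) := by
    rw [hprod, hN]; push_cast; rfl
  have hint : IsIntegral ℤ (r₁ + r₂) := by rw [hsum]; exact isIntegral_cc σ h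
  have hfin : ∀ ε : ℝ, (ε = 1 ∨ ε = -1) → cc σ h = ε * (Nat.card Q - 1) →
      ∃ ε : ℝ, (ε = 1 ∨ ε = -1) ∧ ∀ u, σ (mu h u) = (ε : ℂ) • (1 : Module.End ℂ Y) := by
    intro ε hε hcc
    refine ⟨ε, hε, ?_⟩
    have h1 : ∑ u, σ.character (mu h u) =
        ε * Fintype.card {u : Q // u ≠ 1} * ((Module.finrank ℂ Y : ℝ) : ℂ) := by
      have h2 : cc σ h * Module.finrank ℂ Y = ∑ u, σ.character (mu h u) := by
        rw [cc, div_mul_cancel₀ _ hd0]
      rw [← h2, hcc, card_index]
      push_cast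
      rfl
    have h2 := eq_of_sum_eq (fun u => σ.character (mu h u)) (Module.finrank ℂ Y : ℝ)
      (fun u => Characters.Values.norm_character_le σ _) ε hε h1
    intro u
    have hε1 : ‖(ε : ℂ)‖ = 1 := by rcases hε with rfl | rfl <;> simp
    have h3 : ‖σ.character (mu h u)‖ = (Module.finrank ℂ Y : ℝ) := by
      rw [h2 u, norm_mul, hε1, one_mul]
      simp
    obtain ⟨v, hv⟩ := (Characters.Values.norm_character_eq_iff σ _).1 h3
    have h4 : σ.character (mu h u) = v * Module.finrank ℂ Y := by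
      rw [Representation.character, hv, map_smul, LinearMap.trace_id, smul_eq_mul]
    rw [h2 u] at h4
    have h5 : (ε : ℂ) = v := by
      apply mul_right_cancel₀ hd0
      rw [← h4]
      push_cast
      rfl
    rw [hv, h5]
    rfl
  rcases quad hp hp₁ hp₂ ht hprod' hint with ⟨hP₁, hP₂⟩ | hr | hr
  · left
    refine ⟨by rw [← hsum]; exact hP₁.add hP₂, fun g => ?_⟩
    obtain ⟨hc₁, hc₂⟩ := hcom (rt g) (rt_e σ h g) (rt_f σ h g)
    have hpow : (rt g : Module.End ℂ (G → Y)) ^ orderOf g = 1 := by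
      have h1 : ∀ n : ℕ, (rt g : Module.End ℂ (G → Y)) ^ n = rt (g ^ n) := by
        intro n
        induction n with
        | zero => rw [pow_zero, pow_zero, rt_one]
        | succ n ih => rw [pow_succ, pow_succ, ih, rt_mul]
      rw [h1, pow_orderOf_eq_one, rt_one]
    rw [← hcomb, mul_add, mul_smul_comm, mul_smul_comm, map_add, map_smul, map_smul, smul_eq_mul,
      smul_eq_mul]
    exact (hP₁.mul_right (ModPSpec.isIntegral_trace_mul _ _ _ (orderOf_pos g) hpow hE₁ hc₁)).add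
      (hP₂.mul_right (ModPSpec.isIntegral_trace_mul _ _ _ (orderOf_pos g) hpow hE₂ hc₂))
  · right
    rcases mul_self_eq_one_iff.1 (by rw [← sq]; exact hr : r₁ * r₁ = 1) with h1 | h1
    · refine hfin (-1) (Or.inr rfl) ?_
      rw [h1] at hprod hsum
      push_cast
      linear_combination hprod - hsum
    · refine hfin 1 (Or.inl rfl) ?_
      rw [h1] at hprod hsum
      push_cast
      linear_combination -hprod - hsum
  · right
    rcases mul_self_eq_one_iff.1 (by rw [← sq]; exact hr : r₂ * r₂ = 1) with h1 | h1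
    · refine hfin (-1) (Or.inr rfl) ?_
      rw [h1] at hprod hsum
      push_cast
      linear_combination hprod - hsum
    · refine hfin 1 (Or.inl rfl) ?_
      rw [h1] at hprod hsum
      push_cast
      linear_combination -hprod - hsum

end main

end Cfsg.Agent.HKS.ModPDich
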