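import Mathlib
import Cfsg.Agent.HKS.ModPDich
import Cfsg.Agent.Characters.Linear
import Cfsg.Agent.Characters.AverageRoots

/-!
# `|D| · cnt g ≡ -1 (mod p)` for every `g ∈ W ∖ D`

`|Q| = p^k`, `p` odd, `W` generated by the values of `μ`. Consequences: `p` does not divide `|D|`, and
`μ : Q^# → W ∖ D` is onto.
-/

set_option autoImplicit false
set_option linter.unusedSectionVars false

open Cfsg ComplexConjugate

namespace Cfsg.Agent.HKS.ModPMain

open ModPOp ModPNum ModPMu ModPDich

variable {G : Type*} [Group G] {B Q D W : Subgroup G} {w : G}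

/-! ### The sign character -/

theorem mul_mem_iff (h : RankOne B Q D W w) {a b : G} (ha : a ∈ W) (hb : b ∈ W) :
    a * b ∈ D ↔ (a ∈ D ↔ b ∈ D) := by
  by_cases haD : a ∈ D
  · rw [Subgroup.mul_mem_cancel_left _ haD]
    exact ⟨fun h => ⟨fun _ => h, fun _ => haD⟩, fun h => h.1 haD⟩
  · by_cases hbD : b ∈ D
    · rw [Subgroup.mul_mem_cancel_right _ hbD]
      exact ⟨fun h => absurd h haD, fun h => absurd (h.2 hbD) haD⟩
    · refine ⟨fun _ => ⟨fun h => absurd h haD, fun h => absurd h hbD⟩, fun _ => ?_⟩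
      by_contra hc
      obtain ⟨d, hd, he⟩ := h.Wmul a ha haD
      obtain ⟨d', hd', he'⟩ := h.Wmul (a * b) (W.mul_mem ha hb) hc
      apply hbD
      have h1 : b = d⁻¹ * d' := by
        rw [he] at he'
        have h2 : w * (d * b) = w * d' := by rw [← he']; group
        rw [← mul_left_cancel h2]; group
      rw [h1]
      exact D.mul_mem (D.inv_mem hd) hd'

open scoped Classical in
/-- The sign homomorphism `W → {±1}` with kernel `D`. -/
noncomputable def sgn (h : RankOne B Q D W w) : W →* ℂˣ where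
  toFun g := if (g : G) ∈ D then 1 else -1
  map_one' := by simp [D.one_mem]
  map_mul' a b := by
    have := mul_mem_iff h a.2 b.2
    simp only [Subgroup.coe_mul]
    by_cases ha : (a : G) ∈ D <;> by_cases hb : (b : G) ∈ D <;> simp [this, ha, hb]

theorem sgn_of_mem (h : RankOne B Q D W w) {g : W} (hg : (g : G) ∈ D) : sgn h g = 1 := if_pos hg

theorem sgn_of_notMem (h : RankOne B Q D W w) {g : W} (hg : (g : G) ∉ D) : sgn h g = -1 :=
  if_neg hg

/-- The sign character. -/
noncomputable def sg (h : RankOne B Q D W w) : W → ℂ := fun g => (sgn h g : ℂ)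

theorem sg_of_notMem (h : RankOne B Q D W w) {g : W} (hg : (g : G) ∉ D) : sg h g = -1 := by
  rw [sg, sgn_of_notMem h hg]
  simp

theorem isIrr_sg (h : RankOne B Q D W w) : IsIrrCharacter W (sg h) :=
  Characters.Linear.isIrrCharacter_hom (sgn h)

theorem sg_ne_one (h : RankOne B Q D W w) : sg h ≠ 1 := by
  intro hc
  have h1 := congrFun hc ⟨w, h.wW⟩
  rw [sg_of_notMem h h.wD, Pi.one_apply] at h1
  norm_num at h1

theorem card_W (h : RankOne B Q D W w) : Nat.card W = 2 * Nat.card D := by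
  have h1 : (D.subgroupOf W).index = 2 := by
    rw [Subgroup.index_eq_two_iff]
    refine ⟨⟨w, h.wW⟩, fun b => ?_⟩
    have h2 := mul_mem_iff h b.2 h.wW
    have h3 := h.wD
    simp only [Subgroup.mem_subgroupOf, Subgroup.coe_mul]
    rw [h2]
    by_cases hb : (b : G) ∈ D
    · right; exact ⟨hb, by tauto⟩
    · left; exact ⟨by tauto, hb⟩
  have h2 := (D.subgroupOf W).card_mul_index
  rw [h1, Nat.card_congr (Subgroup.subgroupOfEquivOfLe h.DW).toEquiv] at h2
  rw [← h2, mul_comm]

/-- If all `σ(μ(u))` are the scalar `±1`, the character is `1` or the sign character. -/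
theorem eq_of_scalar (h : RankOne B Q D W w) [Finite G]
    (hgen : Subgroup.closure (Set.range fun u => (mu h u : G)) = W)
    {Y : Type*} [AddCommGroup Y] [Module ℂ Y] [FiniteDimensional ℂ Y]
    (σ : Representation ℂ W Y) (hσ : σ.IsIrreducible) {ε : ℝ} (hε : ε = 1 ∨ ε = -1)
    (hm : ∀ u, σ (mu h u) = (ε : ℂ) • (1 : Module.End ℂ Y)) :
    σ.character = 1 ∨ σ.character = sg h := by
  classical
  have := Fintype.ofFinite W
  obtain ⟨t, ht, htε⟩ : ∃ t : W →* ℂˣ, (t = 1 ∨ t = sgn h) ∧ ∀ u, (t (mu h u) : ℂ) = ε := by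
    rcases hε with rfl | rfl
    · exact ⟨1, Or.inl rfl, fun u => by simp⟩
    · exact ⟨sgn h, Or.inr rfl, fun u => by rw [sgn_of_notMem h (mu_notin h u)]; simp⟩
  let K : Subgroup W :=
    { carrier := {g | σ g = (t g : ℂ) • (1 : Module.End ℂ Y)}
      mul_mem' := by
        intro a b ha hb
        change σ (a * b) = (t (a * b) : ℂ) • (1 : Module.End ℂ Y)
        change σ a = (t a : ℂ) • (1 : Module.End ℂ Y) at ha
        change σ b = (t b : ℂ) • (1 : Module.End ℂ Y) at hb
        rw [map_mul, ha, hb, map_mul, smul_mul_smul_comm, mul_one, Units.val_mul]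
      one_mem' := by simp
      inv_mem' := by
        intro a ha
        change σ a = (t a : ℂ) • (1 : Module.End ℂ Y) at ha
        change σ a⁻¹ = (t a⁻¹ : ℂ) • (1 : Module.End ℂ Y)
        have h1 : σ a⁻¹ * σ a = 1 := by rw [← map_mul, inv_mul_cancel, map_one]
        rw [ha, mul_smul_comm, mul_one] at h1
        rw [← h1, smul_smul, ← Units.val_mul, ← map_mul, inv_mul_cancel, map_one, Units.val_one,
          one_smul] }
  have hK : K = ⊤ := by
    have h1 : W ≤ K.map W.subtype := by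
      conv_lhs => rw [← hgen]
      rw [Subgroup.closure_le]
      rintro _ ⟨u, rfl⟩
      exact ⟨mu h u, by
        change σ (mu h u) = (t (mu h u) : ℂ) • (1 : Module.End ℂ Y)
        rw [hm, htε], rfl⟩
    rw [eq_top_iff]
    intro g _
    obtain ⟨g', hg', he⟩ := h1 g.2
    have : g' = g := Subtype.ext he
    rw [← this]
    exact hg'
  have hg : ∀ g, σ g = (t g : ℂ) • (1 : Module.End ℂ Y) := fun g => by
    have : g ∈ K := by rw [hK]; exact Subgroup.mem_top g
    exact this
  have hchar : ∀ g, σ.character g = (t g : ℂ) * Module.finrank ℂ Y := fun g => by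
    rw [Representation.character, hg, map_smul, smul_eq_mul]
    congr 1
    exact LinearMap.trace_id ℂ Y
  have hirr : IsIrrCharacter W σ.character := Characters.Core.isIrrCharacter_of_rep σ hσ
  have h1 := Characters.Core.classInner_irr_self hirr
  have ht1 : ∀ g, (t g : ℂ) * conj (t g : ℂ) = 1 := by
    intro g
    rcases ht with rfl | rfl
    · simp
    · by_cases hgD : (g : G) ∈ D
      · rw [sgn_of_mem h hgD]; simp
      · rw [sgn_of_notMem h hgD]; simp
  have hd : (Module.finrank ℂ Y : ℂ) = 1 := by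
    rw [Characters.Core.classInner_def] at h1
    have h2 : ∀ g ∈ (Finset.univ : Finset W), σ.character g * conj (σ.character g) =
        (Module.finrank ℂ Y : ℂ) ^ 2 := by
      intro g _
      rw [hchar, map_mul, Complex.conj_natCast]
      linear_combination (Module.finrank ℂ Y : ℂ) ^ 2 * ht1 g
    rw [Finset.sum_congr rfl h2, Finset.sum_const, Finset.card_univ, nsmul_eq_mul,
      ← Nat.card_eq_fintype_card, ← mul_assoc,
      inv_mul_cancel₀ (by exact_mod_cast Nat.card_pos.ne'), one_mul] at h1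
    have h3 : (Module.finrank ℂ Y) ^ 2 = 1 := by exact_mod_cast h1
    have h4 : Module.finrank ℂ Y = 1 := by nlinarith [sq_nonneg ((Module.finrank ℂ Y : ℤ) - 1)]
    rw [h4]; simp
  rcases ht with rfl | rfl
  · left
    funext g
    rw [hchar, hd]
    simp
  · right
    funext g
    rw [hchar, hd, mul_one]
    rfl

section main

variable (h : RankOne B Q D W w) [Finite G] [Fintype Q]
  (hgen : Subgroup.closure (Set.range fun u => (mu h u : G)) = W)
  {p k : ℕ} (hp : p.Prime) (hN : Nat.card Q = p ^ k)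

include hgen hp hN

open scoped Classical in
/-- For `χ ≠ 1, sg`: `∑ χ(μ(u))` is in the radical of `(p)`. -/
theorem PI_sum {χ : W → ℂ} (hχ : IsIrrCharacter W χ) (h1 : χ ≠ 1) (h2 : χ ≠ sg h) :
    PI p (∑ u, χ (mu h u)) := by
  have := Fintype.ofFinite D
  obtain ⟨n, σ, hσ, rfl⟩ := hχ
  rcases dichotomy σ h hp hN with ⟨h3, -⟩ | ⟨ε, hε, hm⟩
  · have hd := Characters.CentralCharacter.finrank_pos_of_irreducible σ
    have hd0 : (Module.finrank ℂ (Fin n → ℂ) : ℂ) ≠ 0 := by exact_mod_cast hd.ne'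
    have h4 : ∑ u, σ.character (mu h u) = cc σ h * Module.finrank ℂ (Fin n → ℂ) := by
      rw [cc, div_mul_cancel₀ _ hd0]
    rw [h4]
    exact h3.mul_right (isIntegral_natCast _)
  · rcases eq_of_scalar h hgen σ hσ hε hm with h3 | h3
    · exact absurd h3 h1
    · exact absurd h3 h2

/-- For `χ ≠ 1, sg`: the trace of `R(g) f`. -/
theorem PI_trace [Fintype D] {n : ℕ} (σ : Representation ℂ W (Fin n → ℂ)) (hσ : σ.IsIrreducible)
    (h1 : σ.character ≠ 1) (h2 : σ.character ≠ sg h) (g : G) :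
    PI p (LinearMap.trace ℂ (G → (Fin n → ℂ)) (rt g * f σ h)) := by
  rcases dichotomy σ h hp hN with ⟨-, h3⟩ | ⟨ε, hε, hm⟩
  · exact h3 g
  · rcases eq_of_scalar h hgen σ hσ hε hm with h3 | h3
    · exact absurd h3 h1
    · exact absurd h3 h2

end main

/-- Abstract mod `p` orthogonality: if `F` is a class function on `W` supported on `W ∖ D` such that
`c ⟨F,χ⟩|W|` is in the radical of `(p)` for all irreducible `χ ≠ 1, sg`, and `c ∑ F = s`. -/
theorem orth (h : RankOne B Q D W w) [Finite G] [Fintype W] {p : ℕ} (F : W → ℂ)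
    (hF : IsClassFunction W F)
    (hF0 : ∀ g : W, (g : G) ∈ D → F g = 0) (c s : ℂ) (hs : c * ∑ g, F g = s)
    (hPI : ∀ χ : W → ℂ, IsIrrCharacter W χ → χ ≠ 1 → χ ≠ sg h → PI p (c * ∑ g, F g * conj (χ g)))
    (g : W) (hg : (g : G) ∉ D) : PI p (c * (Nat.card W * F g) - 2 * s) := by
  classical
  have := Characters.Core.finite_irr (G := W)
  have := Fintype.ofFinite (IrrCharacter W)
  have hW0 : (Nat.card W : ℂ) ≠ 0 := by exact_mod_cast Nat.card_pos.ne'
  have h1 := congrFun (Characters.Core.classFunction_eq_sum hF) g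
  rw [Finset.sum_apply] at h1
  have h2 : c * (Nat.card W * F g) =
      ∑ χ : IrrCharacter W, (c * ∑ x, F x * conj ((χ : W → ℂ) x)) * (χ : W → ℂ) g := by
    rw [h1, Finset.mul_sum, Finset.mul_sum]
    refine Finset.sum_congr rfl fun χ _ => ?_
    rw [Pi.smul_apply, smul_eq_mul, Characters.Core.classInner_def]
    field_simp
  let χ₁ : IrrCharacter W := ⟨1, Characters.Core.isIrr_one⟩
  let χ₂ : IrrCharacter W := ⟨sg h, isIrr_sg h⟩
  have h12 : χ₂ ≠ χ₁ := fun hc => sg_ne_one h (congrArg Subtype.val hc)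
  have h3 : c * (Nat.card W * F g) - 2 * s = ∑ χ ∈ (Finset.univ.erase χ₁).erase χ₂,
      (c * ∑ x, F x * conj ((χ : W → ℂ) x)) * (χ : W → ℂ) g := by
    rw [h2, ← Finset.add_sum_erase _ _ (Finset.mem_univ χ₁),
      ← Finset.add_sum_erase (Finset.univ.erase χ₁) _ (Finset.mem_erase.2 ⟨h12, Finset.mem_univ χ₂⟩)]
    have h4 : (c * ∑ x, F x * conj ((χ₁ : W → ℂ) x)) * (χ₁ : W → ℂ) g = s := by
      rw [← hs]
      simp [χ₁]
    have h5 : (c * ∑ x, F x * conj ((χ₂ : W → ℂ) x)) * (χ₂ : W → ℂ) g = s := by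
      have h6 : ∀ x ∈ (Finset.univ : Finset W), F x * conj ((χ₂ : W → ℂ) x) = -F x := by
        intro x _
        by_cases hx : (x : G) ∈ D
        · rw [hF0 x hx]; simp
        · change F x * conj (sg h x) = -F x
          rw [sg_of_notMem h hx]; simp
      rw [Finset.sum_congr rfl h6, Finset.sum_neg_distrib]
      change (c * -∑ x, F x) * sg h g = s
      rw [sg_of_notMem h hg, ← hs]
      ring
    rw [h4, h5]
    ring
  rw [h3]
  refine PI.sum fun χ hχ => ?_
  have hχ₂ : χ ≠ χ₂ := (Finset.mem_erase.1 hχ).1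
  have hχ₁ : χ ≠ χ₁ := (Finset.mem_erase.1 (Finset.mem_erase.1 hχ).2).1
  refine (hPI χ χ.2 (fun hc => hχ₁ (Subtype.ext hc)) (fun hc => hχ₂ (Subtype.ext hc))).mul_right ?_
  obtain ⟨n, ρ, hρ, he⟩ := χ.2
  rw [← he]
  exact Characters.AverageRoots.isIntegral_character ρ g

section final

variable (h : RankOne B Q D W w) [Finite G] [Fintype Q] [DecidableEq Q] [DecidableEq W]
  (hgen : Subgroup.closure (Set.range fun u => (mu h u : G)) = W)
  {p k : ℕ} (hp : p.Prime) (hp2 : p ≠ 2) (hk : 0 < k) (hN : Nat.card Q = p ^ k)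

include hgen hp hp2 hk hN

/-- **Main congruence**: `|D| · cnt g ≡ -1 (mod p)`. -/
theorem cnt_mod (g : W) (hg : (g : G) ∉ D) : p ∣ Nat.card D * cnt h g + 1 := by
  classical
  have := Fintype.ofFinite W
  have hconj : ∀ χ : W → ℂ, IsIrrCharacter W χ →
      ∑ x, (cnt h x : ℂ) * conj (χ x) = ∑ u, χ (mu h u) := by
    intro χ hχ
    have h1 : ∑ x, (cnt h x : ℂ) * conj (χ x) = ∑ u, χ ((mu h u)⁻¹) := by
      have h2 := sum_mu h (fun x => χ x⁻¹)
      rw [h2]
      refine Finset.sum_congr rfl fun x _ => ?_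
      rw [nsmul_eq_mul, Characters.Core.isCharacter_apply_inv (Characters.Core.isIrr_isCharacter hχ)]
    rw [h1]
    refine Fintype.sum_equiv (invQ (Q := Q)) _ _ fun u => ?_
    rw [mu_inv]
  have hF : IsClassFunction W (fun x => (cnt h x : ℂ)) := fun a b => by simp only [cnt_conj]
  have h1 := orth h (p := p) (fun x => (cnt h x : ℂ)) hF
    (fun x hx => by simp only [cnt_of_mem h x hx, Nat.cast_zero]) 1 (Nat.card Q - 1)
    (by
      have h2 := hconj 1 Characters.Core.isIrr_one
      simp only [Pi.one_apply, map_one, mul_one, Finset.sum_const, Finset.card_univ,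
        nsmul_eq_mul] at h2
      rw [one_mul, h2, card_index])
    (fun χ hχ h1 h2 => by
      rw [one_mul, hconj χ hχ]
      convert PI_sum h hgen hp hN hχ h1 h2) g hg
  have h2 : (1 : ℂ) * (Nat.card W * (cnt h g : ℂ)) - 2 * ((Nat.card Q : ℂ) - 1) =
      ((2 * (Nat.card D * cnt h g + 1) - 2 * p ^ k : ℤ) : ℂ) := by
    rw [card_W h, hN]
    push_cast
    ring
  rw [h2] at h1
  have h3 := PI.dvd hp h1
  have h4 : (p : ℤ) ∣ 2 * (Nat.card D * cnt h g + 1) := by
    have h5 : (p : ℤ) ∣ 2 * p ^ k := Dvd.dvd.mul_left (dvd_pow_self _ hk.ne') 2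
    have := dvd_add h3 h5
    simpa using this
  rcases (Nat.prime_iff_prime_int.1 hp).dvd_or_dvd h4 with h5 | h5
  · exfalso
    have h6 : p ∣ 2 := by exact_mod_cast h5
    exact hp2 ((Nat.prime_dvd_prime_iff_eq hp Nat.prime_two).1 h6)
  · exact_mod_cast h5

/-- `p` does not divide `|D|`. -/
theorem not_dvd_card_D : ¬ p ∣ Nat.card D := by
  intro hd
  have h1 := cnt_mod h hgen hp hp2 hk hN ⟨w, h.wW⟩ h.wD
  have h2 : p ∣ 1 := (Nat.dvd_add_right (Dvd.dvd.mul_right hd _)).1 h1
  exact hp.one_lt.ne' (Nat.dvd_one.1 h2)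

/-- `μ` is onto `W ∖ D`. -/
theorem exists_mu_eq (g : W) (hg : (g : G) ∉ D) : ∃ u, mu h u = g := by
  by_contra hc
  push Not at hc
  have h0 : cnt h g = 0 := by
    rw [cnt, Finset.card_eq_zero, Finset.filter_eq_empty_iff]
    intro u _ hu
    exact hc u hu
  have h1 := cnt_mod h hgen hp hp2 hk hN g hg
  rw [h0, mul_zero, zero_add] at h1
  exact hp.one_lt.ne' (Nat.dvd_one.1 h1)

end final

end Cfsg.Agent.HKS.ModPMain
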