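import Mathlib
import Cfsg.Agent.HKS.ModPMain
import Cfsg.Agent.Characters.ClassMul

/-!
# Involutions with few fixed points

Let `g` be an involution of `G` whose number of moved points is prime to `p`. Then every element of
`W ∖ D` is conjugate to `g` in `G`.
-/

set_option autoImplicit false
set_option linter.unusedSectionVars false

open Cfsg ComplexConjugate

namespace Cfsg.Agent.HKS.ModPInv

open ModPOp ModPNum ModPMu ModPDich ModPMain

variable {G : Type*} [Group G] {B Q D W : Subgroup G} {w : G}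

/-- `m x m⁻¹ ∉ B` for `1 ≠ x ∈ Q`, `m ∈ W ∖ D`. -/
theorem conj_notin_B (h : RankOne B Q D W w) {x : G} (hx : x ∈ Q) (hx1 : x ≠ 1) {m : G} (hm : m ∈ W)
    (hmD : m ∉ D) : m * x * m⁻¹ ∉ B := by
  obtain ⟨a, ha, u, b, hb, hab⟩ := conj_W h hx hx1 hm hmD
  rw [hab]
  intro hc
  apply mu_notin h u
  refine h.WB _ (mu h u).2 ?_
  have := B.mul_mem (B.mul_mem (B.inv_mem (h.QB ha)) hc) (B.inv_mem (h.QB hb))
  have h1 : a⁻¹ * (a * mu h u * b) * b⁻¹ = mu h u := by group
  rwa [h1] at this

theorem sq_mem (h : RankOne B Q D W w) {m : G} (hm : m ∈ W) : m * m ∈ D :=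
  (mul_mem_iff h hm hm).2 Iff.rfl

/-- An involution in `Q (W ∖ D)` lies in `W ∖ D`. -/
theorem eq_one_of_inv (h : RankOne B Q D W w) {u m : G} (hu : u ∈ Q) (hm : m ∈ W) (hmD : m ∉ D)
    (he : (u * m) * (u * m) = 1) : u = 1 := by
  by_contra hu1
  apply conj_notin_B h hu hu1 hm hmD
  have h1 : m * u * m⁻¹ = u⁻¹ * (m * m)⁻¹ := by
    have h2 : u * (m * u * m⁻¹) * (m * m) = 1 := by rw [← he]; group
    calc m * u * m⁻¹ = u⁻¹ * (u * (m * u * m⁻¹) * (m * m)) * (m * m)⁻¹ := by group
      _ = _ := by rw [h2]; group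
  rw [h1]
  exact B.mul_mem (B.inv_mem (h.QB hu)) (B.inv_mem (h.DB (sq_mem h hm)))

section count

variable (h : RankOne B Q D W w) [Finite G] {g : G} (hg : g * g = 1)

include h hg

/-- The number of `y` with `y g y⁻¹ ∉ B`. -/
theorem card_moved : Nat.card {y : G // y * g * y⁻¹ ∉ B} =
    Nat.card Q * Nat.card {y : G // y * g * y⁻¹ ∈ W ∧ y * g * y⁻¹ ∉ D} := by
  have hsq : ∀ y : G, (y * g * y⁻¹) * (y * g * y⁻¹) = 1 := by
    intro y
    calc (y * g * y⁻¹) * (y * g * y⁻¹) = y * (g * g) * y⁻¹ := by group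
      _ = 1 := by rw [hg]; group
  have hconj : ∀ (q y : G), (q * y) * g * (q * y)⁻¹ = q * (y * g * y⁻¹) * q⁻¹ := by
    intro q y; group
  rw [← Nat.card_prod]
  symm
  refine Nat.card_congr (Equiv.ofBijective (fun x => ⟨x.1 * x.2.1, ?_⟩) ⟨?_, ?_⟩)
  · obtain ⟨q, y, hy, hyD⟩ := x
    change (q : G) * y * g * ((q : G) * y)⁻¹ ∉ B
    rw [hconj]
    intro hc
    apply hyD
    refine h.WB _ hy ?_
    have := B.mul_mem (B.mul_mem (B.inv_mem (h.QB q.2)) hc) (h.QB q.2)
    have h1 : (q : G)⁻¹ * (q * (y * g * y⁻¹) * (q : G)⁻¹) * q = y * g * y⁻¹ := by group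
    rwa [h1] at this
  · rintro ⟨q, y, hy, hyD⟩ ⟨q', y', hy', hyD'⟩ he
    have he' : (q : G) * y = q' * y' := congrArg Subtype.val he
    have h1 : (q : G) * (y * g * y⁻¹) * (q : G)⁻¹ = q' * (y' * g * y'⁻¹) * (q' : G)⁻¹ := by
      rw [← hconj, ← hconj, he']
    have h2 := (mid_unique h q.2 (Q.inv_mem q.2) q'.2 (Q.inv_mem q'.2) hy hyD hy' hyD' h1).2.1
    rw [h2] at he'
    have h3 := mul_left_cancel he'
    have h4 : q = q' := Subtype.ext h2
    subst h4
    subst h3
    rfl
  · rintro ⟨y, hy⟩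
    obtain ⟨u₁, hu₁, m, hm, hmD, u₂, hu₂, he⟩ := h.exists_mid hy
    have h1 : (u₂ * y) * g * (u₂ * y)⁻¹ = (u₂ * u₁) * m := by
      rw [hconj, he]; group
    have h2 : u₂ * u₁ = 1 := by
      refine eq_one_of_inv h (Q.mul_mem hu₂ hu₁) hm hmD ?_
      rw [← h1]
      exact hsq _
    rw [h2, one_mul] at h1
    refine ⟨⟨⟨u₂⁻¹, Q.inv_mem hu₂⟩, u₂ * y, ?_, ?_⟩, ?_⟩
    · rw [h1]; exact hm
    · rw [h1]; exact hmD
    · apply Subtype.ext
      change u₂⁻¹ * (u₂ * y) = y
      group

end count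

section trace

variable {Y : Type*} [AddCommGroup Y] [Module ℂ Y] [FiniteDimensional ℂ Y]
  (σ : Representation ℂ W Y) (h : RankOne B Q D W w) [Fintype Q] [Fintype D] [Fintype G]
  [DecidableEq G] [Fintype W]

open scoped Classical in
/-- The trace of `R(g) f` for an involution `g`. -/
theorem trace_inv {g : G} (hg : g * g = 1) :
    LinearMap.trace ℂ (G → Y) (rt g * f σ h) =
      (Nat.card D : ℂ)⁻¹ * Nat.card (Subgroup.centralizer ({g} : Set G)) *
        ∑ x : W, if (x : G) ∉ D ∧ IsConj g (x : G) then σ.character x else 0 := by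
  rw [trace_rt_f, mul_assoc]
  congr 1
  have hsq : ∀ y : G, (y * g * y⁻¹) * (y * g * y⁻¹) = 1 := by
    intro y
    calc (y * g * y⁻¹) * (y * g * y⁻¹) = y * (g * g) * y⁻¹ := by group
      _ = 1 := by rw [hg]; group
  have hdw : ∀ d : D, (d : G) * w ∉ D := fun d hc =>
    notin_B h Q.one_mem d.2 (by rw [one_mul]; exact h.DB hc)
  have hdW : ∀ d : D, (d : G) * w ∈ W := fun d => W.mul_mem (h.DW d.2) h.wW
  rw [Finset.sum_comm]
  have h1 : ∀ d : D, ∑ u : Q,
      ((Finset.univ.filter fun y : G => y * g * y⁻¹ = (u : G) * (d * w)).card : ℂ) *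
        σ.character (⟨d, h.DW d.2⟩ * ⟨w, h.wW⟩) =
      Nat.card (Subgroup.centralizer ({g} : Set G)) *
        (if IsConj g ((d : G) * w) then σ.character (⟨d, h.DW d.2⟩ * ⟨w, h.wW⟩) else 0) := by
    intro d
    rw [Finset.sum_eq_single (1 : Q)]
    · rw [OneMemClass.coe_one, one_mul]
      by_cases hc : IsConj g ((d : G) * w)
      · rw [if_pos hc]
        congr 1
        rw [← Characters.ClassMul.card_fiber_conj g _ hc, Nat.card_eq_fintype_card,
          Fintype.card_subtype]
      · rw [if_neg hc, mul_zero]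
        have : (Finset.univ.filter fun y : G => y * g * y⁻¹ = (d * w : G)) = ∅ := by
          rw [Finset.filter_eq_empty_iff]
          intro y _ hy
          exact hc (isConj_iff.2 ⟨y, hy⟩)
        rw [this]
        simp
    · intro u _ hu
      have : (Finset.univ.filter fun y : G => y * g * y⁻¹ = (u : G) * (d * w)) = ∅ := by
        rw [Finset.filter_eq_empty_iff]
        intro y _ hy
        apply hu
        apply Subtype.ext
        rw [OneMemClass.coe_one]
        refine eq_one_of_inv h u.2 (hdW d) (hdw d) ?_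
        rw [← hy]
        exact hsq y
      rw [this]
      simp
    · intro hc
      exact absurd (Finset.mem_univ _) hc
  rw [Finset.sum_congr rfl fun d _ => h1 d, ← Finset.mul_sum]
  congr 1
  -- sum over `D` versus sum over `W ∖ D`
  have h2 : (∑ x : W, if (x : G) ∉ D ∧ IsConj g (x : G) then σ.character x else 0) =
      ∑ x ∈ Finset.univ.filter (fun x : W => (x : G) ∉ D),
        if IsConj g (x : G) then σ.character x else 0 := by
    rw [← Finset.sum_filter, ← Finset.sum_filter, Finset.filter_filter]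
  rw [h2]
  refine Finset.sum_bij (fun d _ => (⟨d, h.DW d.2⟩ * ⟨w, h.wW⟩ : W)) (fun d _ => ?_)
    (fun a _ b _ hab => ?_) (fun x hx => ?_) (fun d _ => ?_)
  · simp only [Finset.mem_filter, Finset.mem_univ, true_and]
    exact hdw d
  · have := congrArg Subtype.val (mul_right_cancel hab)
    exact Subtype.ext this
  · have hx' : (x : G) ∉ D := by simpa using hx
    obtain ⟨d, hd, he⟩ := h.Wmul x x.2 hx'
    refine ⟨⟨w * d * w⁻¹, h.w_conj hd⟩, Finset.mem_univ _, ?_⟩
    apply Subtype.ext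
    rw [he]
    change w * d * w⁻¹ * w = w * d
    group
  · rfl

end trace

section main

variable (h : RankOne B Q D W w) [Finite G] [Fintype Q]
  (hgen : Subgroup.closure (Set.range fun u => (mu h u : G)) = W)
  {p k : ℕ} (hp : p.Prime) (hp2 : p ≠ 2) (hN : Nat.card Q = p ^ k)

include hgen hp hp2 hN

/-- **(T3)** An involution `g` moving `m₀` points, `p ∤ m₀`: every element of `W ∖ D` is conjugate
to `g`. -/
theorem isConj_of_moved {g : G} (hg : g * g = 1) {m₀ : ℕ} (hp0 : ¬ p ∣ m₀)
    (hm₀ : Nat.card {y : G // y * g * y⁻¹ ∉ B} = m₀ * Nat.card B) {x : G} (hx : x ∈ W)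
    (hxD : x ∉ D) : IsConj g x := by
  classical
  have := Fintype.ofFinite G
  have := Fintype.ofFinite D
  have := Fintype.ofFinite W
  by_contra hcon
  set C := Nat.card (Subgroup.centralizer ({g} : Set G)) with hC
  have hD0 : (Nat.card D : ℂ) ≠ 0 := cardD_ne
  let F : W → ℂ := fun x => if (x : G) ∉ D ∧ IsConj g (x : G) then 1 else 0
  have hF : IsClassFunction W F := by
    intro a b
    have h1 : ((b * a * b⁻¹ : W) : G) ∉ D ↔ (a : G) ∉ D := by
      rw [not_iff_not]
      have h2 : ((b * a * b⁻¹ : W) : G) = (b : G) * a * (b : G)⁻¹ := rfl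
      rw [h2]
      constructor
      · intro hc
        have := h.Wn (b : G)⁻¹ (W.inv_mem b.2) _ hc
        have h3 : (b : G)⁻¹ * ((b : G) * a * (b : G)⁻¹) * ((b : G)⁻¹)⁻¹ = a := by group
        rwa [h3] at this
      · exact h.Wn b b.2 _
    have h3 : IsConj g ((b * a * b⁻¹ : W) : G) ↔ IsConj g (a : G) := by
      have h4 : IsConj (a : G) ((b * a * b⁻¹ : W) : G) := isConj_iff.2 ⟨b, rfl⟩
      exact ⟨fun hc => hc.trans h4.symm, fun hc => hc.trans h4⟩
    change (if _ then _ else _) = (if _ then _ else _)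
    simp only [h1, h3]
  -- the number of elements in the class
  have hM : (C : ℂ) * ∑ x : W, F x = m₀ * Nat.card D := by
    have h1 := card_moved h hg
    rw [hm₀, h.card_B] at h1
    have hQ : 0 < Nat.card Q := Nat.card_pos
    have h2 : m₀ * Nat.card D = Nat.card {y : G // y * g * y⁻¹ ∈ W ∧ y * g * y⁻¹ ∉ D} := by
      apply Nat.eq_of_mul_eq_mul_left hQ
      rw [← h1]
      ring
    have h3 : Nat.card {y : G // y * g * y⁻¹ ∈ W ∧ y * g * y⁻¹ ∉ D} =
        ∑ x : W, if (x : G) ∉ D ∧ IsConj g (x : G) then C else 0 := by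
      rw [Nat.card_eq_fintype_card, Fintype.card_subtype, ← Finset.sum_filter]
      rw [Finset.card_eq_sum_card_fiberwise (f := fun y : G => y * g * y⁻¹)
        (t := (Finset.univ.filter fun x : W => (x : G) ∉ D ∧ IsConj g (x : G)).map
          ⟨Subtype.val, Subtype.val_injective⟩)]
      · rw [Finset.sum_map]
        refine Finset.sum_congr rfl fun x hx => ?_
        have hx' := (Finset.mem_filter.1 hx).2
        rw [hC, ← Characters.ClassMul.card_fiber_conj g _ hx'.2, Nat.card_eq_fintype_card,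
          Fintype.card_subtype]
        congr 1
        ext y
        simp only [Finset.mem_filter, Finset.mem_univ, true_and, Function.Embedding.coeFn_mk]
        constructor
        · exact fun hy => hy.2
        · intro hy
          refine ⟨?_, hy⟩
          rw [hy]
          exact ⟨x.2, hx'.1⟩
      · intro y hy
        simp only [Finset.coe_filter, Finset.mem_univ, true_and, Set.mem_ofPred_eq] at hy
        simp only [Finset.coe_map, Function.Embedding.coeFn_mk, Set.mem_image, Finset.coe_filter,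
          Finset.mem_univ, true_and, Set.mem_ofPred_eq]
        exact ⟨⟨_, hy.1⟩, ⟨hy.2, isConj_iff.2 ⟨y, rfl⟩⟩, rfl⟩
    have h4 : ((m₀ * Nat.card D : ℕ) : ℂ) = ∑ x : W, (C : ℂ) * F x := by
      rw [h2, h3]
      push_cast
      refine Finset.sum_congr rfl fun x _ => ?_
      change _ = (C : ℂ) * (if _ then _ else _)
      rw [mul_ite, mul_one, mul_zero]
    rw [← Finset.mul_sum] at h4
    rw [← h4]
    push_cast
    rfl
  have h1 := orth h (p := p) F hF (fun a ha => if_neg (fun hc => hc.1 ha))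
    ((Nat.card D : ℂ)⁻¹ * C) m₀
    (by rw [mul_assoc, hM, mul_comm (m₀ : ℂ), inv_mul_cancel_left₀ hD0])
    (fun χ hχ h1 h2 => by
      obtain ⟨n, σ, hσ, rfl⟩ := hχ
      have h3 := PI_trace h hgen hp hN σ hσ h1 h2 g
      rw [trace_inv σ h hg] at h3
      convert h3 using 1
      congr 1
      refine Finset.sum_congr rfl fun a _ => ?_
      change (if _ then _ else _) * _ = (if _ then _ else _)
      split_ifs with hc
      · rw [one_mul, ← Characters.Core.isCharacter_apply_inv
          (Characters.Core.isIrr_isCharacter ⟨n, σ, hσ, rfl⟩)]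
        obtain ⟨c, hc'⟩ := isConj_iff.1 hc.2
        have h4 : (a : G) * a = 1 := by
          rw [← hc']
          calc c * g * c⁻¹ * (c * g * c⁻¹) = c * (g * g) * c⁻¹ := by group
            _ = 1 := by rw [hg]; group
        have h5 : a⁻¹ = a := by
          apply Subtype.ext
          rw [Subgroup.coe_inv]
          exact inv_eq_of_mul_eq_one_left h4
        rw [h5]
      · rw [zero_mul]) ⟨x, hx⟩ hxD
  have h2 : F ⟨x, hx⟩ = 0 := if_neg fun hc => hcon hc.2
  rw [h2, mul_zero, mul_zero, zero_sub] at h1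
  have h3 : (-(2 * (m₀ : ℂ))) = ((-(2 * m₀) : ℤ) : ℂ) := by push_cast; ring
  rw [h3] at h1
  have h4 := PI.dvd hp h1
  rw [dvd_neg] at h4
  rcases (Nat.prime_iff_prime_int.1 hp).dvd_or_dvd h4 with h5 | h5
  · have h6 : p ∣ 2 := by exact_mod_cast h5
    exact hp2 ((Nat.prime_dvd_prime_iff_eq hp Nat.prime_two).1 h6)
  · exact hp0 (by exact_mod_cast h5)

end main

end Cfsg.Agent.HKS.ModPInv
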