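import Mathlib
import Cfsg.Agent.HKS.FrameCount
import Cfsg.Agent.HKS.ModPInv

/-!
# The mod `p` results in permutation form

`SSplit U`, `G = ⟨U c⟩`, `|U a| = p ^ k`, `p` an odd prime.

* `SSplit.not_dvd_Dab`: `p ∤ |D|`;
* `SSplit.cnt_mu`: `|D| · #{u ∈ U b : u ≠ 1, μ_u = m} ≡ -1 (mod p)`;
* `SSplit.exists_mu_eq`: every `m` interchanging `a` and `b` is some `μ_u`;
* `SSplit.isConj_of_inv`: if `t` is an involution with `p ∤ n - |Fix t|`, then every `m`
  interchanging `a` and `b` is conjugate to `t`;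
* `SSplit.fpf`: if there is a fixed point free involution, `D` is abelian, inverted by all `m`, and
  involutions of `D` act trivially;
* `SSplit.two_fix`: if an involution has exactly two fixed points, then `D` is abelian, inverted by
  all `m`, and elements of `D` fixing a third point act trivially.
-/

set_option autoImplicit false

namespace Cfsg.Agent.HKS

open Subgroup MulAction

variable {G Ω : Type*} [Group G] [MulAction G Ω] {U : Ω → Subgroup G}

namespace SSplit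

theorem one_lt_card (h : SSplit U) [Finite Ω] (a : Ω) : 1 < Nat.card (U a) := by
  have h1 := h.two_lt_card a
  have h2 := h.card a
  omega

theorem normalClosure_U (h : SSplit U) (hgen : (⨆ c, U c) = ⊤) (a : Ω) :
    Subgroup.normalClosure (U a : Set G) = ⊤ := by
  rw [eq_top_iff, ← hgen, iSup_le_iff]
  intro c x hx
  obtain ⟨g, hg⟩ := h.tr c a
  have h1 := h.conj_of_eq hg hx
  have h2 : x = g⁻¹ * (g * x * g⁻¹) * g⁻¹⁻¹ := by group
  rw [h2]
  exact Subgroup.normalClosure_normal.conj_mem _ (Subgroup.subset_normalClosure h1) _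

theorem closure_mu' (h : SSplit U) [Finite Ω] (hgen : (⨆ c, U c) = ⊤) {a b : Ω} (hab : b ≠ a)
    {w : G} (hw : Swaps w a b) :
    Subgroup.closure (Set.range fun u => (ModPMu.mu (h.rankOne hab hw) u : G)) = Wab G a b := by
  apply ModPMu.closure_mu _ (h.normalClosure_U hgen a)
  intro hc
  have h1 := h.one_lt_card a
  rw [hc, Subgroup.card_bot] at h1
  exact lt_irrefl _ h1

/-- The two `μ`-maps. -/
theorem mu_rankOne (h : SSplit U) {a b : Ω} (hab : b ≠ a) {w : G} (hw : Swaps w a b)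
    (u : {u : U a // u ≠ 1}) :
    mu U a b (w * (u.1 : G) * w⁻¹) = ModPMu.mu (h.rankOne hab hw) u := by
  obtain ⟨x, hx, y, hy, he⟩ := ModPMu.mu_spec (h.rankOne hab hw) u
  rw [he]
  refine h.mid_eq hab ?_ hx hy
  exact (mem_Wab_not_mem_Dab hab).1 ⟨(ModPMu.mu _ u).2, ModPMu.mu_notin _ u⟩

section main

variable (h : SSplit U) [Finite G] [Finite Ω] (hgen : (⨆ c, U c) = ⊤) {a b : Ω} (hab : b ≠ a)
  {p k : ℕ} (hp : p.Prime) (hp2 : p ≠ 2) (hN : Nat.card (U a) = p ^ k)

include h in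
omit [Finite G] in
theorem pos_of_card (hN : Nat.card (U a) = p ^ k) : 0 < k := by
  have h1 := h.one_lt_card a
  rw [hN] at h1
  rcases Nat.eq_zero_or_pos k with hk | hk
  · rw [hk, pow_zero] at h1
    exact absurd h1 (lt_irrefl _)
  · exact hk

include h hgen hab hp hp2 hN

/-- **(T1)** `p ∤ |D|`. -/
theorem not_dvd_Dab : ¬ p ∣ Nat.card (Dab G a b) := by
  classical
  obtain ⟨w, hw⟩ := h.exists_swaps hab
  have := Fintype.ofFinite (U a)
  exact ModPMain.not_dvd_card_D (h.rankOne hab hw) (h.closure_mu' hgen hab hw) hp hp2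
    (h.pos_of_card hN) hN

/-- **(T2)** `|D| · #{u : μ_u = m} ≡ -1 (mod p)`. -/
theorem cnt_mu {m : G} (hm : Swaps m a b) :
    p ∣ Nat.card (Dab G a b) * Nat.card {u : G // u ∈ U b ∧ u ≠ 1 ∧ mu U a b u = m} + 1 := by
  classical
  obtain ⟨w, hw⟩ := h.exists_swaps hab
  have := Fintype.ofFinite (U a)
  have h1 := ModPMain.cnt_mod (h.rankOne hab hw) (h.closure_mu' hgen hab hw) hp hp2
    (h.pos_of_card hN) hN ⟨m, hm.mem_W⟩ ((mem_Wab_not_mem_Dab hab).2 hm).2
  have h2 : Nat.card {u : G // u ∈ U b ∧ u ≠ 1 ∧ mu U a b u = m} =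
      ModPMu.cnt (h.rankOne hab hw) ⟨m, hm.mem_W⟩ := by
    rw [ModPMu.cnt, ← Fintype.card_subtype, ← Nat.card_eq_fintype_card]
    symm
    refine Nat.card_congr (Equiv.ofBijective (fun u => ⟨w * (u.1.1 : G) * w⁻¹,
      h.conj_of_eq hw.1 u.1.1.2, ?_, ?_⟩) ⟨?_, ?_⟩)
    · intro hc
      apply u.1.2
      apply Subtype.ext
      have h3 : (u.1.1 : G) = w⁻¹ * (w * (u.1.1 : G) * w⁻¹) * w := by group
      rw [h3, hc]
      simp
    · rw [h.mu_rankOne hab hw, u.2]
    · intro u v huv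
      have h3 : w * (u.1.1 : G) * w⁻¹ = w * (v.1.1 : G) * w⁻¹ := congrArg Subtype.val huv
      exact Subtype.ext (Subtype.ext (Subtype.ext (mul_left_cancel (mul_right_cancel h3))))
    · rintro ⟨u, hu, hu1, hum⟩
      have h3 : w⁻¹ * u * w ∈ U a := h.conj_of_eq' hw.1 hu
      have h4 : (⟨w⁻¹ * u * w, h3⟩ : U a) ≠ 1 := by
        intro hc
        apply hu1
        have h5 : w⁻¹ * u * w = 1 := congrArg Subtype.val hc
        calc u = w * (w⁻¹ * u * w) * w⁻¹ := by group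
          _ = 1 := by rw [h5]; group
      have h5 : w * (w⁻¹ * u * w) * w⁻¹ = u := by group
      refine ⟨⟨⟨⟨w⁻¹ * u * w, h3⟩, h4⟩, ?_⟩, ?_⟩
      · apply Subtype.ext
        rw [← h.mu_rankOne hab hw]
        change mu U a b (w * (w⁻¹ * u * w) * w⁻¹) = m
        rw [h5, hum]
      · exact Subtype.ext h5
  rw [h2]
  exact h1

/-- **(T2)** every element interchanging `a` and `b` is a `μ_u`. -/
theorem exists_mu_eq {m : G} (hm : Swaps m a b) : ∃ u ∈ U b, u ≠ 1 ∧ mu U a b u = m := by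
  by_contra hc
  push Not at hc
  have h1 := h.cnt_mu hgen hab hp hp2 hN hm
  have h2 : Nat.card {u : G // u ∈ U b ∧ u ≠ 1 ∧ mu U a b u = m} = 0 := by
    have : IsEmpty {u : G // u ∈ U b ∧ u ≠ 1 ∧ mu U a b u = m} :=
      ⟨fun u => hc u.1 u.2.1 u.2.2.1 u.2.2.2⟩
    exact Nat.card_of_isEmpty
  rw [h2, mul_zero, zero_add] at h1
  exact hp.one_lt.ne' (Nat.dvd_one.1 h1)

/-- **(T3)** an involution with `p ∤ n - |Fix t|` is conjugate to every element interchanging `a`
and `b`. -/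
theorem isConj_of_inv {t : G} (ht : t * t = 1)
    (hm : ¬ p ∣ Nat.card Ω - Nat.card (fixedBy Ω t)) {m : G} (hs : Swaps m a b) : IsConj t m := by
  classical
  obtain ⟨w, hw⟩ := h.exists_swaps hab
  have := Fintype.ofFinite (U a)
  refine ModPInv.isConj_of_moved (h.rankOne hab hw) (h.closure_mu' hgen hab hw) hp hp2 hN ht hm
    ?_ hs.mem_W ((mem_Wab_not_mem_Dab hab).2 hs).2
  -- the number of `y` with `y t y⁻¹ ∉ B`
  have h1 : Nat.card Ω - Nat.card (fixedBy Ω t) = Nat.card {c : Ω // ¬ t • c = c} := by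
    have := Fintype.ofFinite Ω
    rw [Nat.card_eq_fintype_card, Nat.card_eq_fintype_card, Nat.card_eq_fintype_card,
      Fintype.card_subtype_compl]
    rfl
  rw [h1]
  have e : (Σ c : {c : Ω // ¬ t • c = c}, {y : G // y • (c : Ω) = a}) ≃
      {y : G // y * t * y⁻¹ ∉ stabilizer G a} := by
    refine Equiv.ofBijective (fun x => ⟨x.2.1, fun hc => x.1.2 ?_⟩) ⟨?_, ?_⟩
    · have h2 : x.2.1⁻¹ • a = (x.1 : Ω) := inv_smul_eq_iff.2 x.2.2.symm
      rw [mem_stabilizer_iff, mul_smul, mul_smul, h2] at hc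
      exact MulAction.injective x.2.1 (hc.trans x.2.2.symm)
    · rintro ⟨⟨c, hc⟩, ⟨y, hy⟩⟩ ⟨⟨c', hc'⟩, ⟨y', hy'⟩⟩ he
      have h2 : y = y' := congrArg Subtype.val he
      subst h2
      have h3 : c = c' := MulAction.injective y (hy.trans hy'.symm)
      subst h3
      rfl
    · rintro ⟨y, hy⟩
      refine ⟨⟨⟨y⁻¹ • a, fun hc => hy ?_⟩, ⟨y, smul_inv_smul _ _⟩⟩, rfl⟩
      rw [mem_stabilizer_iff, mul_smul, mul_smul, hc, smul_inv_smul]
  have := Fintype.ofFinite {c : Ω // ¬ t • c = c}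
  rw [← Nat.card_congr e, Nat.card_sigma]
  have h3 : ∀ c ∈ (Finset.univ : Finset {c : Ω // ¬ t • c = c}),
      Nat.card {y : G // y • (c : Ω) = a} = Nat.card (stabilizer G a) := by
    intro c _
    obtain ⟨g, hg⟩ := h.tr (c : Ω) a
    refine Nat.card_congr ⟨fun y => ⟨y.1 * g⁻¹, ?_⟩, fun y => ⟨y.1 * g, ?_⟩, fun y => ?_,
      fun y => ?_⟩
    · rw [mem_stabilizer_iff, mul_smul, inv_smul_eq_iff.2 hg.symm, y.2]
    · rw [mul_smul, hg]
      exact y.2
    · apply Subtype.ext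
      simp
    · apply Subtype.ext
      simp
  rw [Finset.sum_congr rfl h3, Finset.sum_const, Finset.card_univ, smul_eq_mul,
    ← Nat.card_eq_fintype_card]

end main

theorem two_lt_card_of {Δ : Type*} [Finite Δ] {x y z : Δ} (hxy : x ≠ y) (hxz : x ≠ z)
    (hyz : y ≠ z) : 2 < Nat.card Δ := by
  classical
  have := Fintype.ofFinite Δ
  rw [Nat.card_eq_fintype_card]
  exact Fintype.two_lt_card_iff.2 ⟨x, y, z, hxy, hxz, hyz⟩

/-- If `d ∈ D` fixes a third point, some element interchanging `a` and `b` commutes with `d`. -/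
theorem exists_comm_swaps (h : SSplit U) [Finite Ω] {a b : Ω} (hab : b ≠ a) {d : G}
    (hd : d ∈ Dab G a b) {c : Ω} (hca : c ≠ a) (hcb : c ≠ b) (hdc : d • c = c) :
    ∃ m : G, Swaps m a b ∧ m * d = d * m := by
  have hz : ∀ e : Ω, d • e = e → ∀ x ∈ zpowers d, x • e = e := by
    intro e he x hx
    have h1 : zpowers d ≤ stabilizer G e := zpowers_le.2 he
    exact h1 hx
  have : Finite (fixSub Ω (zpowers d)) := Subtype.finite
  have h3 : 2 < Nat.card (fixSub Ω (zpowers d)) :=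
    two_lt_card_of (Δ := fixSub Ω (zpowers d)) (x := ⟨a, hz a hd.1⟩) (y := ⟨b, hz b hd.2⟩)
      (z := ⟨c, hz c hdc⟩)
      (fun e => hab (congrArg Subtype.val e).symm) (fun e => hca (congrArg Subtype.val e).symm)
      (fun e => hcb (congrArg Subtype.val e).symm)
  obtain ⟨w, hw⟩ := (h.fixed (zpowers d) (three_of_card h3)).exists_swaps
    (a := ⟨a, hz a hd.1⟩) (b := ⟨b, hz b hd.2⟩) (fun e => hab (congrArg Subtype.val e))
  refine ⟨w, ⟨congrArg Subtype.val hw.1, congrArg Subtype.val hw.2⟩, ?_⟩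
  exact (mem_centralizer_iff.1 w.2 d (mem_zpowers d)).symm

/-- An involution moving a point is conjugate to one interchanging `a` and `b`. -/
theorem exists_conj_swaps (h : SSplit U) {a b : Ω} (hab : b ≠ a) {t : G} (ht : t * t = 1) {c : Ω}
    (hc : t • c ≠ c) : ∃ m, IsConj t m ∧ Swaps m a b := by
  obtain ⟨g, hg1, hg2⟩ := h.two (a := c) (b := t • c) (c := a) (d := b) (Ne.symm hc) hab.symm
  refine ⟨g * t * g⁻¹, isConj_iff.2 ⟨g, rfl⟩, ?_⟩
  have h1 : Swaps t c (t • c) := ⟨rfl, by rw [← mul_smul, ht, one_smul]⟩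
  have h2 := h1.conj g
  rwa [hg1, hg2] at h2

/-- If every element interchanging `a` and `b` is an involution, then `D` is abelian and is
inverted by each of them. -/
theorem inverts {a b : Ω} (hall : ∀ m : G, Swaps m a b → m * m = 1) {m d : G} (hm : Swaps m a b)
    (hd : d ∈ Dab G a b) : m * d * m⁻¹ = d⁻¹ := by
  have h1 := hall _ hm
  have h2 := hall _ (hm.mul_D hd)
  have h3 : m⁻¹ = m := inv_eq_of_mul_eq_one_left h1
  rw [h3]
  exact eq_inv_of_mul_eq_one_left (by rw [← h2]; group)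

theorem comm_Dab (h : SSplit U) {a b : Ω} (hab : b ≠ a)
    (hall : ∀ m : G, Swaps m a b → m * m = 1) {d e : G}
    (hd : d ∈ Dab G a b) (he : e ∈ Dab G a b) : d * e = e * d := by
  obtain ⟨m, hm⟩ := h.exists_swaps hab
  have h1 := inverts hall hm hd
  have h2 := inverts hall hm he
  have h3 := inverts hall hm (mul_mem hd he)
  have h4 : m * (d * e) * m⁻¹ = (m * d * m⁻¹) * (m * e * m⁻¹) := by group
  rw [h3, h1, h2] at h4
  have h5 : (d * e)⁻¹⁻¹ = (d⁻¹ * e⁻¹)⁻¹ := by rw [h4]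
  rw [inv_inv, mul_inv_rev, inv_inv, inv_inv] at h5
  exact h5

section two

variable (h : SSplit U) [Finite G] [Finite Ω] (hgen : (⨆ c, U c) = ⊤) {a b : Ω} (hab : b ≠ a)
  {p k : ℕ} (hp : p.Prime) (hp2 : p ≠ 2) (hN : Nat.card (U a) = p ^ k)

include h hgen hab hp hp2 hN

/-- **(T3)** fixed point free involutions. -/
theorem fpf {t : G} (ht : t * t = 1) (hf : ∀ c : Ω, t • c ≠ c) :
    (∀ m : G, Swaps m a b → IsConj t m) ∧ (∀ m : G, Swaps m a b → m * m = 1) ∧
      (∀ s ∈ Dab G a b, s * s = 1 → ∀ c : Ω, s • c = c) := by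
  have h1 : ∀ m : G, Swaps m a b → IsConj t m := by
    intro m hm
    refine h.isConj_of_inv hgen hab hp hp2 hN ht ?_ hm
    have h2 : Nat.card (fixedBy Ω t) = 0 := by
      have : IsEmpty (fixedBy Ω t) := ⟨fun c => hf c.1 c.2⟩
      exact Nat.card_of_isEmpty
    rw [h2, Nat.sub_zero, h.card a, hN]
    intro hc
    have h3 := (Nat.dvd_add_right (dvd_pow_self p (h.pos_of_card hN).ne')).1 hc
    exact hp.one_lt.ne' (Nat.dvd_one.1 h3)
  refine ⟨h1, fun m hm => ?_, fun s hs hs2 c => ?_⟩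
  · obtain ⟨g, rfl⟩ := isConj_iff.1 (h1 m hm)
    calc g * t * g⁻¹ * (g * t * g⁻¹) = g * (t * t) * g⁻¹ := by group
      _ = 1 := by rw [ht]; group
  · by_contra hc
    obtain ⟨m, hm, hms⟩ := h.exists_conj_swaps hab hs2 hc
    obtain ⟨g, hg⟩ := isConj_iff.1 ((h1 m hms).trans hm.symm)
    apply hf (g⁻¹ • a)
    have h2 : (g * t * g⁻¹) • a = a := by rw [hg]; exact hs.1
    rw [mul_smul, mul_smul] at h2
    rw [eq_inv_smul_iff, h2]

/-- **(T3)** involutions with exactly two fixed points. -/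
theorem two_fix {z : G} (hz : z * z = 1) (hf : Nat.card (fixedBy Ω z) = 2) :
    (∀ m : G, Swaps m a b → IsConj z m) ∧ (∀ m : G, Swaps m a b → m * m = 1) ∧
      (∀ d ∈ Dab G a b, ∀ c : Ω, c ≠ a → c ≠ b → d • c = c → ∀ e : Ω, d • e = e) := by
  have h1 : ∀ m : G, Swaps m a b → IsConj z m := by
    intro m hm
    refine h.isConj_of_inv hgen hab hp hp2 hN hz ?_ hm
    rw [hf, h.card a, hN]
    intro hc
    have hk := (h.pos_of_card hN).ne'
    have h3 : 1 < p ^ k := Nat.one_lt_pow hk hp.one_lt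
    have h4 : p ^ k + 1 - 2 = p ^ k - 1 := by omega
    rw [h4] at hc
    have h5 := (Nat.dvd_sub_iff_right h3.le (dvd_pow_self p hk)).1 hc
    exact hp.one_lt.ne' (Nat.dvd_one.1 h5)
  have h2 : ∀ m : G, Swaps m a b → m * m = 1 := by
    intro m hm
    obtain ⟨g, rfl⟩ := isConj_iff.1 (h1 m hm)
    calc g * z * g⁻¹ * (g * z * g⁻¹) = g * (z * z) * g⁻¹ := by group
      _ = 1 := by rw [hz]; group
  refine ⟨h1, h2, fun d hd c hca hcb hdc e => ?_⟩
  -- an element interchanging `a` and `b` and commuting with `d`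
  obtain ⟨m, hm, hmd⟩ := h.exists_comm_swaps hab hd hca hcb hdc
  have h3 : m * d * m⁻¹ = d⁻¹ := inverts h2 hm hd
  have h4 : d * d = 1 := by
    have h5 : m * d * m⁻¹ = d := by rw [hmd]; group
    rw [h5] at h3
    exact mul_eq_one_iff_eq_inv.2 h3
  by_contra he
  obtain ⟨m', hm', hms⟩ := h.exists_conj_swaps hab h4 he
  have h5 : IsConj z d := (h1 m' hms).trans hm'.symm
  have h6 : Nat.card (fixedBy Ω d) = 2 := by rw [← card_fixedBy_isConj h5, hf]
  have h7 : 2 < Nat.card (fixedBy Ω d) :=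
    two_lt_card_of (Δ := fixedBy Ω d) (x := ⟨a, hd.1⟩) (y := ⟨b, hd.2⟩) (z := ⟨c, hdc⟩)
      (fun e => hab (congrArg Subtype.val e).symm) (fun e => hca (congrArg Subtype.val e).symm)
      (fun e => hcb (congrArg Subtype.val e).symm)
  exact absurd h6 h7.ne'

end two

end SSplit

end Cfsg.Agent.HKS
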