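import Mathlib
import Cfsg.Agent.HKS.FrameSub
import Cfsg.Prelude.Def_Classical

/-!
# The list of the Hering–Kantor–Seitz theorem in even degree

Data of a (faithful, generated) strongly split 2-transitive group of even degree, as seen from a pair
of points. The data are written for subgroups `M, P, E, K` and a predicate `Sw` of a group `G`:

* `M` : the group generated by the unipotent groups,
* `P` : the unipotent group at `a`, `E` : the stabiliser of `a, b` in `M`,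
* `K` : the pointwise stabiliser of the points in question, `Sw w` : `w ∈ M` interchanges `a` and `b`.

`HType U a b` : the list for a faithful generated group (`M = ⊤`, `E = Dab G a b`, `K = ⊥`).
`XType U X a b` : the list for the permutation group induced on the fixed points of `X` by the group
`genFix U X` generated by the `U c ⊓ centralizer X`, `c` a fixed point of `X`.
`HKSBelow n` : the induction hypothesis.
-/

set_option autoImplicit false

namespace Cfsg.Agent.HKS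

open Subgroup MulAction

section Data

variable {G : Type*} [Group G]

/-- affine type: the stabiliser of `a` and `b` is trivial -/
structure DA (P E K : Subgroup G) (Sw : G → Prop) : Prop where
  triv : E ≤ K
  card : ∃ s : ℕ, 2 ≤ s ∧ Nat.card P + 1 = 2 ^ s
  cyc : IsCyclic P
  sw : ∀ w, Sw w → w * w ∈ K

/-- type `PSL(2,q)`, `q > 3` odd -/
structure DL (M P E K : Subgroup G) (Sw : G → Prop) (q : ℕ) : Prop where
  pow : IsPrimePow q
  odd : Odd q
  three : 3 < q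
  card : Nat.card P = q
  comm : ∀ u ∈ P, ∀ v ∈ P, u * v = v * u
  cyc : ∃ e ∈ E, ∀ d ∈ E, ∃ k : ℕ, d * e ^ k ∈ K
  cardE : 2 * K.relIndex E = q - 1
  free : ∀ d ∈ E, ∀ u ∈ P, d * u = u * d → d ∈ K ∨ u = 1
  inv : ∀ w, Sw w → ∀ d ∈ E, w * d * w⁻¹ * d ∈ K
  iso : ∃ (F : Type) (_ : Field F) (_ : Fintype F), Fintype.card F = q ∧
    ∃ f : M →* Matrix.ProjectiveSpecialLinearGroup (Fin 2) F, Function.Surjective f ∧
      ∀ x : M, f x = 1 ↔ (x : G) ∈ K

/-- type `PSU(3,q)`, `q` odd -/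
structure DU (M P E K : Subgroup G) (Sw : G → Prop) (q : ℕ) : Prop where
  pow : IsPrimePow q
  odd : Odd q
  card : Nat.card P = q ^ 3
  cyc : ∃ e ∈ E, ∀ d ∈ E, ∃ k : ℕ, d * e ^ k ∈ K
  cardE : Nat.gcd 3 (q + 1) * K.relIndex E = q ^ 2 - 1
  cardZ : Nat.card (P ⊓ centralizer (P : Set G) : Subgroup G) = q
  invol : ∃ z ∈ E, z ∉ K ∧ z * z = 1 ∧ ∀ u ∈ P, z * u = u * z ↔ ∀ v ∈ P, u * v = v * u
  /-- some `w` acts on `E` as `e ↦ e^(-q)` -/
  swE : ∃ w, Sw w ∧ w * w ∈ K ∧ ∀ e ∈ E, w * e * w⁻¹ * e ^ q ∈ K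
  /-- `E` is semiregular on `P ∖ Z(P)` -/
  free : ∀ d ∈ E, ∀ u ∈ P, d * u = u * d → d ∈ K ∨ ∀ v ∈ P, u * v = v * u
  /-- `E` is transitive on `Z(P)#` -/
  transZ : ∀ u ∈ P, ∀ u' ∈ P, (∀ v ∈ P, u * v = v * u) → (∀ v ∈ P, u' * v = v * u') →
    u ≠ 1 → u' ≠ 1 → ∃ d ∈ E, d * u * d⁻¹ = u'
  iso : ∃ (F : Type) (_ : Field F) (_ : Fintype F), Fintype.card F = q ^ 2 ∧
    ∃ f : M →* Cfsg.PSU 3 F q, Function.Surjective f ∧ ∀ x : M, f x = 1 ↔ (x : G) ∈ K

/-- type `Ree(q)`, `q = 3^n`, `n` odd, including `PΓL(2,8)` for `n = 1` -/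
structure DR (P E K : Subgroup G) (n : ℕ) : Prop where
  odd : Odd n
  card : Nat.card P = (3 ^ n) ^ 3
  cyc : ∃ e ∈ E, ∀ d ∈ E, ∃ k : ℕ, d * e ^ k ∈ K
  cardE : K.relIndex E = 3 ^ n - 1
  ncomm : ∃ u ∈ P, ∃ v ∈ P, u * v ≠ v * u
  fpf : ∀ d ∈ E, ∀ k : ℕ, Odd k → d ^ k ∈ K → ∀ u ∈ P, d * u = u * d → d ∈ K ∨ u = 1
  invol : ∃ z ∈ E, z ∉ K ∧ z * z = 1 ∧
    Nat.card (P ⊓ centralizer ({z} : Set G) : Subgroup G) = 3 ^ n

end Data

section Types

variable {G Ω : Type*} [Group G] [MulAction G Ω]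

/-- type `PSL(2,q)` -/
def TL (U : Ω → Subgroup G) (a b : Ω) (q : ℕ) : Prop :=
  DL ⊤ (U a) (Dab G a b) ⊥ (fun w => Swaps w a b) q

/-- type `PSU(3,q)` -/
def TU (U : Ω → Subgroup G) (a b : Ω) (q : ℕ) : Prop :=
  DU ⊤ (U a) (Dab G a b) ⊥ (fun w => Swaps w a b) q

/-- type `Ree(3^n)` -/
structure TR (U : Ω → Subgroup G) (a b : Ω) (n : ℕ) : Prop where
  data : DR (U a) (Dab G a b) ⊥ n
  centr : ∀ z ∈ Dab G a b, z ≠ 1 → z * z = 1 →
    ∃ (K : Type) (_ : Field K) (_ : Fintype K), Fintype.card K = 3 ^ n ∧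
      Nonempty (centralizer ({z} : Set G) ≃*
        Multiplicative (ZMod 2) × Matrix.ProjectiveSpecialLinearGroup (Fin 2) K)
  syl : ∀ S : Sylow 2 G, Nat.card S = 8 ∧ ∀ x ∈ S, x * x = 1
  /-- every involution has a fixed point -/
  fix : ∀ t : G, t * t = 1 → ∃ c : Ω, t • c = c

/-- **The list** for a faithful, generated, strongly split 2-transitive group of even degree. -/
def HType (U : Ω → Subgroup G) (a b : Ω) : Prop :=
  Dab G a b = ⊥ ∨ (∃ q, TL U a b q) ∨ (∃ q, TU U a b q) ∨ ∃ n, TR U a b n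

/-- The group generated by the `U c ⊓ centralizer X`, `c` a fixed point of `X`. -/
def genFix (U : Ω → Subgroup G) (X : Subgroup G) : Subgroup G :=
  ⨆ c : {c : Ω // ∀ x ∈ X, x • c = c}, U (c : Ω) ⊓ centralizer (X : Set G)

/-- The pointwise stabiliser of the set of fixed points of `X`. -/
def kerFix (Ω : Type*) [MulAction G Ω] (X : Subgroup G) : Subgroup G where
  carrier := {g | ∀ c : Ω, (∀ x ∈ X, x • c = c) → g • c = c}
  mul_mem' := by
    intro g h hg hh c hc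
    rw [mul_smul, hh c hc, hg c hc]
  one_mem' := fun c _ => one_smul _ c
  inv_mem' := by
    intro g hg c hc
    rw [inv_smul_eq_iff, hg c hc]

theorem mem_kerFix {X : Subgroup G} {g : G} :
    g ∈ kerFix Ω X ↔ ∀ c : Ω, (∀ x ∈ X, x • c = c) → g • c = c := Iff.rfl

/-- The list for the group induced on the fixed points of `X` by `genFix U X`. -/
def XType (U : Ω → Subgroup G) (X : Subgroup G) (a b : Ω) : Prop :=
  DA (U a ⊓ centralizer (X : Set G)) (Dab G a b ⊓ genFix U X) (kerFix Ω X)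
      (fun w => w ∈ genFix U X ∧ Swaps w a b) ∨
  (∃ q, DL (genFix U X) (U a ⊓ centralizer (X : Set G)) (Dab G a b ⊓ genFix U X) (kerFix Ω X)
      (fun w => w ∈ genFix U X ∧ Swaps w a b) q) ∨
  (∃ q, DU (genFix U X) (U a ⊓ centralizer (X : Set G)) (Dab G a b ⊓ genFix U X) (kerFix Ω X)
      (fun w => w ∈ genFix U X ∧ Swaps w a b) q) ∨
  (∃ n, DR (U a ⊓ centralizer (X : Set G)) (Dab G a b ⊓ genFix U X) (kerFix Ω X) n)

end Types

/-- **The induction hypothesis**: the list holds for all faithful generated groups of even degree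
`< n`. -/
def HKSBelow.{v} (n : ℕ) : Prop :=
  ∀ (G Ω : Type v) [Group G] [MulAction G Ω] [FaithfulSMul G Ω] [Finite Ω] (U : Ω → Subgroup G),
    SSplit U → (⨆ c, U c) = ⊤ → Even (Nat.card Ω) → Nat.card Ω < n →
    ∀ a b : Ω, b ≠ a → HType U a b

end Cfsg.Agent.HKS
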