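import Mathlib
import Cfsg.Agent.HKS.FrameGen
import Cfsg.Agent.HKS.Types

/-!
# Prime power degree, I: when all `μ`-elements are conjugate

`OneClass U a b`: all `μ`-elements `mu U a b x`, `x ∈ U b`, `x ≠ 1`, are conjugate under `Dab`.
If `G` is generated by the `U a`, then `Dab` is generated by its elements of odd order
(`mem_closure_odd`), and for the subgroups `X ≠ 1` normal in `Dab` for which the two point
stabiliser of the fixed structure is cyclic, `C_{U b}(X) = 1` (`normal_fixed`).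
-/

set_option autoImplicit false

namespace Cfsg.Agent.HKS.PP1

open Subgroup MulAction SSplit

/-- A `2`-group generated by conjugates of `c` is generated by `c`. -/
theorem zpowers_eq_top {P : Type*} [Group P] [Finite P] (hP : IsPGroup 2 P) (c : P) (S : Set P)
    (hS : closure S = ⊤) (hc : ∀ s ∈ S, ∃ g, s = g * c * g⁻¹) : zpowers c = ⊤ := by
  rcases eq_top_or_exists_le_coatom (zpowers c) with h | ⟨H, hH, hle⟩
  · exact h
  · exfalso
    have : Fact (Nat.Prime 2) := ⟨Nat.prime_two⟩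
    have : Group.IsNilpotent P := hP.isNilpotent
    have hn : H.Normal :=
      NormalizerCondition.normal_of_coatom H Group.normalizerCondition_of_isNilpotent hH
    apply hH.1
    rw [eq_top_iff, ← hS, closure_le]
    intro s hs
    obtain ⟨g, rfl⟩ := hc s hs
    exact hn.conj_mem c (hle (mem_zpowers c)) g

variable {G Ω : Type*} [Group G] [MulAction G Ω] {U : Ω → Subgroup G}

/-- All `μ`-elements are conjugate under `Dab`. -/
def OneClass (U : Ω → Subgroup G) (a b : Ω) : Prop :=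
  ∀ x ∈ U b, x ≠ 1 → ∀ y ∈ U b, y ≠ 1 → ∃ d ∈ Dab G a b, mu U a b y = d * mu U a b x * d⁻¹

theorem mem_D_of_odd {a b : Ω} (hab : b ≠ a) {x : G} (hx : x ∈ Wab G a b)
    (ho : Odd (orderOf x)) : x ∈ Dab G a b := by
  by_contra hxD
  have hs : Swaps x a b := (mem_Wab_not_mem_Dab hab).1 ⟨hx, hxD⟩
  obtain ⟨k, hk⟩ := ho
  have h1 : x = (x * x) ^ (k + 1) := by
    have : (x * x) ^ (k + 1) = x ^ orderOf x * x := by
      rw [hk, ← pow_two, ← pow_mul, ← pow_succ]
      ring_nf
    rw [this, pow_orderOf_eq_one, one_mul]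
  apply hxD
  rw [h1]
  exact pow_mem (hs.mul hs) _

/-- `Dab` is generated by its elements of odd order. -/
theorem mem_closure_odd [Finite G] (h : SSplit U) (hgen : (⨆ c, U c) = ⊤) {a b : Ω}
    (hab : b ≠ a) (hone : OneClass U a b) {g : G} (hg : g ∈ Dab G a b) :
    g ∈ closure {x : G | x ∈ Dab G a b ∧ Odd (orderOf x)} := by
  classical
  set K : Subgroup G := closure {x : G | x ∈ Dab G a b ∧ Odd (orderOf x)} with hK
  have hKD : K ≤ Dab G a b := by
    rw [hK, closure_le]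
    exact fun x hx => hx.1
  -- conjugation by `W` preserves `K`
  have hconj : ∀ k ∈ Wab G a b, ∀ x ∈ K, k * x * k⁻¹ ∈ K := by
    intro k hk x hx
    have h1 : K ≤ K.comap (MulAut.conj k).toMonoidHom := by
      conv_lhs => rw [hK]
      rw [closure_le]
      rintro y ⟨hyD, hyo⟩
      have hy2 : k * y * k⁻¹ ∈ Wab G a b :=
        mul_mem (mul_mem hk (Dab_le_Wab a b hyD)) (inv_mem hk)
      have hyo' : Odd (orderOf (k * y * k⁻¹)) := by
        have : orderOf (k * y * k⁻¹) = orderOf y := by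
          have := orderOf_injective (MulAut.conj k).toMonoidHom (MulAut.conj k).injective y
          exact this
        rw [this]; exact hyo
      exact subset_closure ⟨mem_D_of_odd hab hy2 hyo', hyo'⟩
    exact h1 hx
  -- the quotient `W / K`
  set W := Wab G a b with hW
  set KW : Subgroup W := K.subgroupOf W with hKW
  have hKn : KW.Normal := by
    constructor
    intro x hx k
    rw [hKW, mem_subgroupOf] at hx ⊢
    exact hconj k k.2 x hx
  have hP : IsPGroup 2 (W ⧸ KW) := by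
    intro q
    obtain ⟨x, rfl⟩ := QuotientGroup.mk_surjective q
    obtain ⟨k, m, hm, hkm⟩ := Nat.exists_eq_two_pow_mul_odd (n := orderOf (x : G))
      (orderOf_pos (x : G)).ne'
    refine ⟨k, ?_⟩
    rw [← QuotientGroup.mk_pow, QuotientGroup.eq_one_iff, hKW, mem_subgroupOf]
    have ho : Odd (orderOf ((x : G) ^ 2 ^ k)) := by
      have : orderOf ((x : G) ^ 2 ^ k) = m := by
        rw [orderOf_pow' _ (by positivity), hkm, Nat.gcd_eq_right (Dvd.intro _ rfl),
          Nat.mul_div_cancel_left _ (by positivity)]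
      rw [this]; exact hm
    exact subset_closure ⟨mem_D_of_odd hab (pow_mem x.2 _) ho, ho⟩
  obtain ⟨m, hm⟩ := h.exists_muSet hab
  obtain ⟨x₀, hx₀, hx₀1, hmx⟩ := id hm
  have hms := h.muSet_swaps hab hm
  set c : W ⧸ KW := QuotientGroup.mk ⟨m, hms.mem_W⟩ with hc
  -- generators
  let S : Set (W ⧸ KW) := {q | ∃ (y : G) (hy : y ∈ W), y ∈ muSet U a b ∧ q = QuotientGroup.mk ⟨y, hy⟩}
  have hS : closure S = ⊤ := by
    rw [eq_top_iff]
    rintro q -
    obtain ⟨⟨x, hx⟩, rfl⟩ := QuotientGroup.mk_surjective q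
    have hx' : x ∈ closure (muSet U a b) := by rw [h.closure_mu hgen hab]; exact hx
    have key : ∀ y (hy : y ∈ closure (muSet U a b)),
        ∀ hyW : y ∈ W, (QuotientGroup.mk ⟨y, hyW⟩ : W ⧸ KW) ∈ closure S := by
      intro y hy
      have hle : ∀ y ∈ closure (muSet U a b), y ∈ W := fun y hy => h.closure_mu_le hab hy
      induction hy using closure_induction with
      | mem y hy => exact fun hyW => subset_closure ⟨y, hyW, hy, rfl⟩
      | one =>
        intro hyW
        have : (QuotientGroup.mk (⟨1, hyW⟩ : W) : W ⧸ KW) = 1 := rfl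
        rw [this]; exact one_mem _
      | mul y z hy hz ihy ihz =>
        intro hyW
        have : (QuotientGroup.mk (⟨y * z, hyW⟩ : W) : W ⧸ KW) =
          QuotientGroup.mk ⟨y, hle y hy⟩ * QuotientGroup.mk ⟨z, hle z hz⟩ := rfl
        rw [this]; exact mul_mem (ihy _) (ihz _)
      | inv y hy ihy =>
        intro hyW
        have : (QuotientGroup.mk (⟨y⁻¹, hyW⟩ : W) : W ⧸ KW) =
          (QuotientGroup.mk ⟨y, hle y hy⟩)⁻¹ := rfl
        rw [this]; exact inv_mem (ihy _)
    exact key x hx' hx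
  have hconjS : ∀ s ∈ S, ∃ g, s = g * c * g⁻¹ := by
    rintro s ⟨y, hy, ⟨u, hu, hu1, rfl⟩, rfl⟩
    obtain ⟨d, hd, he⟩ := hone x₀ hx₀ hx₀1 u hu hu1
    refine ⟨QuotientGroup.mk ⟨d, Dab_le_Wab a b hd⟩, ?_⟩
    rw [hc, ← QuotientGroup.mk_mul, ← QuotientGroup.mk_inv, ← QuotientGroup.mk_mul]
    congr 1
    apply Subtype.ext
    change mu U a b u = d * m * d⁻¹
    rw [he, hmx]
  have htop := zpowers_eq_top hP c S hS hconjS
  -- `c² = 1`
  have hcomm : ∀ x y : W ⧸ KW, x * y = y * x := by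
    intro x y
    have hx : x ∈ zpowers c := by rw [htop]; exact mem_top x
    have hy : y ∈ zpowers c := by rw [htop]; exact mem_top y
    obtain ⟨i, rfl⟩ := mem_zpowers_iff.1 hx
    obtain ⟨j, rfl⟩ := mem_zpowers_iff.1 hy
    rw [← zpow_add, ← zpow_add, add_comm]
  have hc2 : c * c = 1 := by
    have hinv : c⁻¹ ∈ S := ⟨m⁻¹, inv_mem hms.mem_W, h.muSet_inv hab hm, rfl⟩
    obtain ⟨g, hg⟩ := hconjS _ hinv
    rw [hcomm g c, mul_inv_cancel_right] at hg
    rw [← mul_inv_cancel c]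
    rw [hg]
  have hgW : g ∈ W := Dab_le_Wab a b hg
  have hgz : (QuotientGroup.mk ⟨g, hgW⟩ : W ⧸ KW) ∈ zpowers c := by rw [htop]; exact mem_top _
  obtain ⟨i, hi⟩ := mem_zpowers_iff.1 hgz
  have hcase : (QuotientGroup.mk ⟨g, hgW⟩ : W ⧸ KW) = 1 ∨
      (QuotientGroup.mk ⟨g, hgW⟩ : W ⧸ KW) = c := by
    rw [← hi]
    rcases Int.even_or_odd i with ⟨j, rfl⟩ | ⟨j, rfl⟩
    · left
      rw [← two_mul, zpow_mul, zpow_two, hc2, one_zpow]
    · right
      rw [zpow_add, zpow_mul, zpow_two, hc2, one_zpow, one_mul, zpow_one]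
  rcases hcase with h1 | h1
  · rw [QuotientGroup.eq_one_iff, hKW, mem_subgroupOf] at h1
    exact h1
  · exfalso
    rw [hc, QuotientGroup.eq, hKW, mem_subgroupOf] at h1
    have h2 : g⁻¹ * m ∈ Dab G a b := hKD h1
    have h3 : m ∈ Dab G a b := by
      have : m = g * (g⁻¹ * m) := by group
      rw [this]; exact mul_mem hg h2
    exact hab (hms.1.symm.trans h3.1)

/-- A homomorphism from `Dab` to an abelian group has image of odd order elements. -/
theorem odd_hom [Finite G] (h : SSplit U) (hgen : (⨆ c, U c) = ⊤) {a b : Ω}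
    (hab : b ≠ a) (hone : OneClass U a b) {A : Type*} [CommGroup A] (φ : Dab G a b →* A)
    (g : Dab G a b) : Odd (orderOf (φ g)) := by
  have key : ∀ y ∈ closure {x : G | x ∈ Dab G a b ∧ Odd (orderOf x)}, ∀ hy : y ∈ Dab G a b,
      Odd (orderOf (φ ⟨y, hy⟩)) := by
    intro y hy
    have hle : ∀ y ∈ closure {x : G | x ∈ Dab G a b ∧ Odd (orderOf x)}, y ∈ Dab G a b := by
      intro y hy
      have : closure {x : G | x ∈ Dab G a b ∧ Odd (orderOf x)} ≤ Dab G a b := by
        rw [closure_le]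
        exact fun x hx => hx.1
      exact this hy
    induction hy using closure_induction with
    | mem y hy =>
      intro hyD
      refine Odd.of_dvd_nat hy.2 ?_
      have h1 : orderOf (⟨y, hyD⟩ : Dab G a b) = orderOf y := by
        rw [← Subgroup.orderOf_coe]
      rw [← h1]
      exact orderOf_map_dvd φ _
    | one =>
      intro hyD
      have : φ ⟨1, hyD⟩ = 1 := map_one φ
      rw [this, orderOf_one]
      exact odd_one
    | mul y z hy hz ihy ihz =>
      intro hyD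
      have : φ ⟨y * z, hyD⟩ = φ ⟨y, hle y hy⟩ * φ ⟨z, hle z hz⟩ := by
        rw [← map_mul]; rfl
      rw [this]
      exact Odd.of_dvd_nat (Odd.mul (ihy (hle y hy)) (ihz (hle z hz)))
        (Commute.orderOf_mul_dvd_mul_orderOf (mul_comm _ _))
    | inv y hy ihy =>
      intro hyD
      have : φ ⟨y⁻¹, hyD⟩ = (φ ⟨y, hle y hy⟩)⁻¹ := by
        rw [← map_inv]; rfl
      rw [this, orderOf_inv]
      exact ihy (hle y hy)
  exact key g (mem_closure_odd h hgen hab hone g.2) g.2

/-- Homomorphisms from `Dab` to an abelian group kill involutions. -/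
theorem hom_invol [Finite G] (h : SSplit U) (hgen : (⨆ c, U c) = ⊤) {a b : Ω}
    (hab : b ≠ a) (hone : OneClass U a b) {A : Type*} [CommGroup A] (φ : Dab G a b →* A)
    (z : Dab G a b) (hz : z * z = 1) : φ z = 1 := by
  have h1 := odd_hom h hgen hab hone φ z
  have h2 : φ z ^ 2 = 1 := by rw [pow_two, ← map_mul, hz, map_one]
  have h3 := orderOf_dvd_of_pow_eq_one h2
  rcases (Nat.dvd_prime Nat.prime_two).1 h3 with h4 | h4
  · exact orderOf_eq_one_iff.1 h4
  · rw [h4] at h1
    exact absurd h1 (by decide)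

/-- `Dab` is not abelian of even order. -/
theorem not_comm [Finite G] (h : SSplit U) (hgen : (⨆ c, U c) = ⊤) {a b : Ω}
    (hab : b ≠ a) (hone : OneClass U a b) (hev : Even (Nat.card (Dab G a b)))
    (hcomm : ∀ x ∈ Dab G a b, ∀ y ∈ Dab G a b, x * y = y * x) : False := by
  let _ : CommGroup (Dab G a b) :=
    { (inferInstance : Group (Dab G a b)) with
      mul_comm := fun x y => Subtype.ext (hcomm x x.2 y y.2) }
  have : Fact (Nat.Prime 2) := ⟨Nat.prime_two⟩
  obtain ⟨z, hz⟩ := exists_prime_orderOf_dvd_card' 2 (even_iff_two_dvd.1 hev)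
  have h1 : z * z = 1 := by rw [← pow_two, ← hz, pow_orderOf_eq_one]
  have h2 := hom_invol h hgen hab hone (MonoidHom.id (Dab G a b)) z h1
  have h3 : z = 1 := h2
  rw [h3, orderOf_one] at hz
  exact absurd hz (by decide)

/-! ### The fixed structure of `X` -/

theorem mem_genFix {X : Subgroup G} {c : Ω} (hc : ∀ x ∈ X, x • c = c) {u : G} (hu : u ∈ U c)
    (hu' : u ∈ centralizer (X : Set G)) : u ∈ genFix U X :=
  mem_iSup_of_mem (⟨c, hc⟩ : {c : Ω // ∀ x ∈ X, x • c = c}) ⟨hu, hu'⟩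

theorem genFix_le_centralizer (X : Subgroup G) : genFix U X ≤ centralizer (X : Set G) :=
  iSup_le fun _ => inf_le_right

theorem genFix_le {X : Subgroup G} {C : Subgroup G}
    (hC : ∀ c : Ω, (∀ x ∈ X, x • c = c) → ∀ u ∈ U c, u ∈ centralizer (X : Set G) → u ∈ C) :
    genFix U X ≤ C :=
  iSup_le fun c _ hu => hC c c.2 _ hu.1 hu.2

/-- the parts of the decomposition of an element of `C_{U b}(X)`. -/
theorem mu_mem_genFix (h : SSplit U) {a b : Ω} (hab : b ≠ a) {X : Subgroup G}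
    (hX : X ≤ Dab G a b) {u : G} (hu : u ∈ U b) (hu1 : u ≠ 1)
    (huX : u ∈ centralizer (X : Set G)) : mu U a b u ∈ genFix U X := by
  obtain ⟨hs, x, hx, y, hy, -, -, he⟩ := h.mu_spec hab hu hu1
  have hc : ∀ k ∈ X, k * x = x * k ∧ k * y = y * k := by
    intro k hk
    have hkD := hX hk
    have h0 : k * u = u * k := mem_centralizer_iff.1 huX k hk
    have hm := h.mu_comm hab hu hu1 hkD h0
    have h1 : (k * x * k⁻¹) * mu U a b u * (k * y * k⁻¹) = x * mu U a b u * y := by
      calc (k * x * k⁻¹) * mu U a b u * (k * y * k⁻¹)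
          = k * x * k⁻¹ * (mu U a b u * k) * y * k⁻¹ := by group
        _ = k * x * k⁻¹ * (k * mu U a b u) * y * k⁻¹ := by rw [hm]
        _ = k * (x * mu U a b u * y) * k⁻¹ := by group
        _ = k * u * k⁻¹ := by rw [← he]
        _ = u := by rw [h0]; group
        _ = _ := he
    obtain ⟨h2, -, h3⟩ := h.mid_unique hab hs hs (h.conj_of_fix hkD.1 hx) hx
      (h.conj_of_fix hkD.1 hy) hy h1
    constructor
    · calc k * x = k * x * k⁻¹ * k := by group
        _ = x * k := by rw [h2]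
    · calc k * y = k * y * k⁻¹ * k := by group
        _ = y * k := by rw [h3]
  have ha : ∀ x ∈ X, x • a = a := fun k hk => (hX hk).1
  have hb : ∀ x ∈ X, x • b = b := fun k hk => (hX hk).2
  have hxL : x ∈ genFix U X := mem_genFix ha hx (mem_centralizer_iff.2 fun k hk => (hc k hk).1)
  have hyL : y ∈ genFix U X := mem_genFix ha hy (mem_centralizer_iff.2 fun k hk => (hc k hk).2)
  have huL : u ∈ genFix U X := mem_genFix hb hu huX
  have h4 : mu U a b u = x⁻¹ * u * y⁻¹ := by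
    conv_rhs => rw [he]
    group
  rw [h4]
  exact mul_mem (mul_mem (inv_mem hxL) huL) (inv_mem hyL)

/-- elements normalising `X` normalise `genFix U X`. -/
theorem conj_genFix (h : SSplit U) {X : Subgroup G} {d : G}
    (hd' : ∀ x ∈ X, d⁻¹ * x * d ∈ X) {g : G} (hg : g ∈ genFix U X) :
    d * g * d⁻¹ ∈ genFix U X := by
  have h1 : genFix U X ≤ (genFix U X).comap (MulAut.conj d).toMonoidHom := by
    apply genFix_le
    intro c hc u hu huX
    have h2 : ∀ x ∈ X, x • d • c = d • c := by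
      intro x hx
      have := hc _ (hd' x hx)
      rw [mul_smul, mul_smul, inv_smul_eq_iff] at this
      exact this
    refine mem_genFix (c := d • c) h2 (h.conj d hu) ?_
    rw [mem_centralizer_iff]
    intro x hx
    have h3 : (d⁻¹ * x * d) * u = u * (d⁻¹ * x * d) := mem_centralizer_iff.1 huX _ (hd' x hx)
    calc x * (d * u * d⁻¹) = d * ((d⁻¹ * x * d) * u) * d⁻¹ := by group
      _ = d * (u * (d⁻¹ * x * d)) * d⁻¹ := by rw [h3]
      _ = d * u * d⁻¹ * x := by group
  exact h1 hg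

/-- an element fixing all fixed points of `X` centralises `genFix U X`. -/
theorem comm_genFix (h : SSplit U) {X : Subgroup G} {a b : Ω} (hab : b ≠ a) (hX : X ≤ Dab G a b)
    {k : G} (hk : ∀ c : Ω, (∀ x ∈ X, x • c = c) → k • c = c) {g : G} (hg : g ∈ genFix U X) :
    k * g = g * k := by
  have h1 : genFix U X ≤ centralizer {k} := by
    apply genFix_le
    intro c hc u hu huX
    rw [mem_centralizer_iff]
    rintro _ rfl
    by_cases hca : c = a
    · subst hca
      exact h.comm_of_fix (b := b) hc (fun x hx => (hX hx).2) hab hk hu huX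
    · exact h.comm_of_fix (b := a) hc (fun x hx => (hX hx).1) (Ne.symm hca) hk hu huX
  exact mem_centralizer_iff.1 (h1 hg) k rfl

/-- **Normal subgroups of `Dab` centralise no nontrivial element of `U b`**, if the two point
stabilisers of the fixed structures are cyclic. -/
theorem normal_fixed [Finite G] (h : SSplit U) (hgen : (⨆ c, U c) = ⊤) {a b : Ω}
    (hab : b ≠ a) (hone : OneClass U a b) (hev : Even (Nat.card (Dab G a b)))
    {X : Subgroup G} (hX : X ≤ Dab G a b)
    (hn : ∀ d ∈ Dab G a b, ∀ x ∈ X, d * x * d⁻¹ ∈ X)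
    (hcyc : ∃ e ∈ Dab G a b ⊓ genFix U X, ∀ d ∈ Dab G a b ⊓ genFix U X, ∃ k : ℕ,
      d * e ^ k ∈ kerFix Ω X)
    {u : G} (hu : u ∈ U b) (huX : u ∈ centralizer (X : Set G)) : u = 1 := by
  by_contra hu1
  have hL : Wab G a b ≤ genFix U X := by
    rw [← h.closure_mu hgen hab, closure_le]
    rintro m ⟨y, hy, hy1, rfl⟩
    obtain ⟨d, hd, he⟩ := hone u hu hu1 y hy hy1
    rw [he]
    refine conj_genFix h (fun x hx => ?_) (mu_mem_genFix h hab hX hu hu1 huX)
    have := hn d⁻¹ (inv_mem hd) x hx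
    rwa [inv_inv] at this
  have hD : Dab G a b ≤ genFix U X := (Dab_le_Wab a b).trans hL
  obtain ⟨e, he, hek⟩ := hcyc
  have hker : ∀ k ∈ kerFix Ω X, ∀ z ∈ Dab G a b, k * z = z * k := fun k hk z hz =>
    comm_genFix h hab hX (fun c hc => mem_kerFix.1 hk c hc) (hD hz)
  refine not_comm h hgen hab hone hev ?_
  intro x hx y hy
  obtain ⟨i, hi⟩ := hek x ⟨hx, hD hx⟩
  obtain ⟨j, hj⟩ := hek y ⟨hy, hD hy⟩
  set κ := x * e ^ i with hκ
  set κ' := y * e ^ j with hκ'
  have hei : e ^ i ∈ Dab G a b := pow_mem he.1 i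
  have hej : e ^ j ∈ Dab G a b := pow_mem he.1 j
  have hx' : x = κ * (e ^ i)⁻¹ := by rw [hκ]; group
  have hy' : y = κ' * (e ^ j)⁻¹ := by rw [hκ']; group
  have hee : (e ^ i)⁻¹ * (e ^ j)⁻¹ = (e ^ j)⁻¹ * (e ^ i)⁻¹ := by
    rw [← mul_inv_rev, ← mul_inv_rev, ← pow_add, ← pow_add, add_comm]
  have h1 : κ' * (e ^ i)⁻¹ = (e ^ i)⁻¹ * κ' := hker _ hj _ (inv_mem hei)
  calc x * y = κ * (e ^ i)⁻¹ * (κ' * (e ^ j)⁻¹) := by rw [← hx', ← hy']
    _ = κ * ((e ^ i)⁻¹ * κ') * (e ^ j)⁻¹ := by group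
    _ = κ * (κ' * (e ^ i)⁻¹) * (e ^ j)⁻¹ := by rw [h1]
    _ = κ * (κ' * ((e ^ i)⁻¹ * (e ^ j)⁻¹)) := by group
    _ = κ * (κ' * ((e ^ j)⁻¹ * (e ^ i)⁻¹)) := by rw [hee]
    _ = κ * y * (e ^ i)⁻¹ := by rw [hy']; group
    _ = y * κ * (e ^ i)⁻¹ := by rw [hker _ hi y hy]
    _ = y * x := by rw [hx']; group

theorem xtype_cyc {X : Subgroup G} {a b : Ω} (hT : XType U X a b) :
    ∃ e ∈ Dab G a b ⊓ genFix U X, ∀ d ∈ Dab G a b ⊓ genFix U X, ∃ k : ℕ,
      d * e ^ k ∈ kerFix Ω X := by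
  rcases hT with hT | ⟨q, hT⟩ | ⟨q, hT⟩ | ⟨n, hT⟩
  · exact ⟨1, one_mem _, fun d hd => ⟨0, by rw [pow_zero, mul_one]; exact hT.triv hd⟩⟩
  · exact hT.cyc
  · exact hT.cyc
  · exact hT.cyc

theorem xtype_primePow {X : Subgroup G} {a b : Ω} (hT : XType U X a b) :
    DA (U a ⊓ centralizer (X : Set G)) (Dab G a b ⊓ genFix U X) (kerFix Ω X)
      (fun w => w ∈ genFix U X ∧ Swaps w a b) ∨
    IsPrimePow (Nat.card (U a ⊓ centralizer (X : Set G) : Subgroup G)) := by
  rcases hT with hT | ⟨q, hT⟩ | ⟨q, hT⟩ | ⟨n, hT⟩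
  · exact Or.inl hT
  · right
    rw [hT.card]
    exact hT.pow
  · right
    rw [hT.card]
    exact hT.pow.pow (by norm_num)
  · right
    rw [hT.card, ← pow_mul]
    refine Nat.prime_three.isPrimePow.pow ?_
    have := hT.odd.pos
    positivity

theorem oneClass_symm (h : SSplit U) {a b : Ω} (hab : b ≠ a) (hone : OneClass U a b) :
    OneClass U b a := by
  intro x hx hx1 y hy hy1
  obtain ⟨x', hx', hx1', he⟩ := h.exists_mu_symm hab.symm hx hx1
  obtain ⟨y', hy', hy1', he'⟩ := h.exists_mu_symm hab.symm hy hy1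
  obtain ⟨d, hd, hdd⟩ := hone x' hx' hx1' y' hy' hy1'
  rw [he, he'] at hdd
  exact ⟨d, by rw [Dab_symm]; exact hd, hdd⟩

/-- The version used below: `X ≤ Dab` normal, then `C_{U a}(X) = C_{U b}(X) = 1`. -/
theorem normal_fixed' [Finite G] (h : SSplit U) (hgen : (⨆ c, U c) = ⊤) {a b : Ω}
    (hab : b ≠ a) (hone : OneClass U a b) (hev : Even (Nat.card (Dab G a b)))
    {X : Subgroup G} (hX : X ≤ Dab G a b)
    (hn : ∀ d ∈ Dab G a b, ∀ x ∈ X, d * x * d⁻¹ ∈ X)
    (hT : U a ⊓ centralizer (X : Set G) ≠ ⊥ → XType U X a b)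
    {u : G} (hu : u ∈ U a) (huX : u ∈ centralizer (X : Set G)) : u = 1 := by
  by_contra hu1
  have hT' : XType U X a b := hT fun hb => hu1 (by
    have : u ∈ U a ⊓ centralizer (X : Set G) := ⟨hu, huX⟩
    rwa [hb, mem_bot] at this)
  refine hu1 (normal_fixed h hgen hab.symm (oneClass_symm h hab hone) ?_ (X := X) ?_ ?_ ?_ hu huX)
  · rw [Dab_symm]; exact hev
  · rw [Dab_symm]; exact hX
  · rw [Dab_symm]; exact hn
  · rw [Dab_symm]; exact xtype_cyc hT'

end Cfsg.Agent.HKS.PP1
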