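import Mathlib
import Cfsg.Agent.HKS.ModPSplit
import Cfsg.Agent.HKS.PP1
import Cfsg.Agent.S1545

/-!
# Two-point stabiliser of 2-rank one: base facts

`TO U p k a b`: `U` is strongly split, `G = ⟨U c⟩`, `|U c| = p ^ k`, `p` odd, commuting involutions of
`Dab a b` are equal and there is an involution in `Dab a b`.
-/

set_option autoImplicit false

namespace Cfsg.Agent.HKS.TwoOne

open Subgroup MulAction SSplit

variable {G Ω : Type*} [Group G] [MulAction G Ω] {U : Ω → Subgroup G}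

/-! ### Pairs of involutions -/

section invol

theorem mul_self_conj {t s g : G} (h : s = g * t * g⁻¹) (ht : t * t = 1) : s * s = 1 := by
  rw [h]
  calc g * t * g⁻¹ * (g * t * g⁻¹) = g * (t * t) * g⁻¹ := by group
    _ = 1 := by rw [ht]; group

/-- an involution `t` inverts `t s`, for an involution `s` -/
theorem inv_prod {s t : G} (hs : s * s = 1) (ht : t * t = 1) : t * (s * t) * t⁻¹ = (s * t)⁻¹ := by
  have hs' : s⁻¹ = s := inv_eq_of_mul_eq_one_left hs
  have ht' : t⁻¹ = t := inv_eq_of_mul_eq_one_left ht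
  rw [mul_inv_rev, hs', ht']
  calc t * (s * t) * t = t * s * (t * t) := by group
    _ = t * s := by rw [ht, mul_one]

theorem inv_prod_left {s t : G} (hs : s * s = 1) (ht : t * t = 1) :
    s * (s * t) * s⁻¹ = (s * t)⁻¹ := by
  have hs' : s⁻¹ = s := inv_eq_of_mul_eq_one_left hs
  have ht' : t⁻¹ = t := inv_eq_of_mul_eq_one_left ht
  rw [mul_inv_rev, hs', ht']
  calc s * (s * t) * s = (s * s) * t * s := by group
    _ = t * s := by rw [hs, one_mul]

theorem conj_pow' (g x : G) (n : ℕ) : g * x ^ n * g⁻¹ = (g * x * g⁻¹) ^ n := by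
  rw [conj_pow]

/-- Two involutions either are conjugate by a power of their product, or both commute with an involution
which is a power of the product. -/
theorem dihedral_dich [Finite G] {s t : G} (hs : s * s = 1) (ht : t * t = 1) :
    (∃ n : ℕ, t = (s * t) ^ n * s * ((s * t) ^ n)⁻¹ ∧ Odd (orderOf (s * t))) ∨
      ∃ n : ℕ, (s * t) ^ n ≠ 1 ∧ (s * t) ^ n * (s * t) ^ n = 1 ∧ s * (s * t) ^ n = (s * t) ^ n * s ∧
        t * (s * t) ^ n = (s * t) ^ n * t := by
  have hs' : s⁻¹ = s := inv_eq_of_mul_eq_one_left hs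
  have ht' : t⁻¹ = t := inv_eq_of_mul_eq_one_left ht
  have h1 : s * (s * t) * s⁻¹ = (s * t)⁻¹ := inv_prod_left hs ht
  have h2 : t * (s * t) * t⁻¹ = (s * t)⁻¹ := inv_prod hs ht
  have hpos : 0 < orderOf (s * t) := orderOf_pos _
  rcases Nat.even_or_odd (orderOf (s * t)) with ⟨n, hn⟩ | ⟨n, hn⟩
  · right
    have h3 : (s * t) ^ n * (s * t) ^ n = 1 := by
      rw [← pow_add, ← hn, pow_orderOf_eq_one]
    have h4 : ((s * t) ^ n)⁻¹ = (s * t) ^ n := inv_eq_of_mul_eq_one_left h3
    refine ⟨n, ?_, h3, ?_, ?_⟩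
    · exact pow_ne_one_of_lt_orderOf (by omega) (by omega)
    · have h5 : s * (s * t) ^ n * s⁻¹ = (s * t) ^ n := by
        rw [conj_pow', h1, inv_pow, h4]
      calc s * (s * t) ^ n = s * (s * t) ^ n * s⁻¹ * s := by group
        _ = _ := by rw [h5]
    · have h5 : t * (s * t) ^ n * t⁻¹ = (s * t) ^ n := by
        rw [conj_pow', h2, inv_pow, h4]
      calc t * (s * t) ^ n = t * (s * t) ^ n * t⁻¹ * t := by group
        _ = _ := by rw [h5]
  · left
    refine ⟨n, ?_, ⟨n, hn⟩⟩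
    -- `c s c⁻¹ = c (s c⁻¹ s) s = c c s`
    have h5 : s * ((s * t) ^ n)⁻¹ * s⁻¹ = (s * t) ^ n := by
      have : s * ((s * t) ^ n)⁻¹ * s⁻¹ = (s * (s * t) ^ n * s⁻¹)⁻¹ := by group
      rw [this, conj_pow', h1, inv_pow, inv_inv]
    have h6 : (s * t) ^ n * (s * t) ^ n = (s * t)⁻¹ := by
      have h7 : (s * t) ^ n * (s * t) ^ n * (s * t) = 1 := by
        rw [← pow_add, ← pow_succ]
        have : n + n + 1 = orderOf (s * t) := by omega
        rw [this, pow_orderOf_eq_one]
      exact eq_inv_of_mul_eq_one_left h7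
    symm
    calc (s * t) ^ n * s * ((s * t) ^ n)⁻¹ = (s * t) ^ n * (s * ((s * t) ^ n)⁻¹ * s⁻¹) * s := by group
      _ = (s * t) ^ n * (s * t) ^ n * s := by rw [h5]
      _ = (s * t)⁻¹ * s := by rw [h6]
      _ = t := by rw [mul_inv_rev, hs', ht', mul_assoc, hs, mul_one]

end invol

/-! ### The setting -/

/-- The setting: 2-rank one. -/
structure TO (U : Ω → Subgroup G) (p k : ℕ) (a b : Ω) : Prop where
  split : SSplit U
  gen : (⨆ c, U c) = ⊤
  hab : b ≠ a
  hp : p.Prime
  hp2 : p ≠ 2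
  hN : Nat.card (U a) = p ^ k
  one : ∀ s ∈ Dab G a b, ∀ t ∈ Dab G a b, s * s = 1 → t * t = 1 → s ≠ 1 → t ≠ 1 →
    s * t = t * s → s = t
  ex : ∃ t ∈ Dab G a b, t * t = 1 ∧ t ≠ 1

theorem conj_mem_Dab {a b : Ω} {d g : G} (hd : d ∈ Dab G a b) :
    g * d * g⁻¹ ∈ Dab G (g • a) (g • b) := by
  refine ⟨?_, ?_⟩
  · change (g * d * g⁻¹) • g • a = g • a
    rw [mul_smul, inv_smul_smul, mul_smul, show d • a = a from hd.1]
  · change (g * d * g⁻¹) • g • b = g • b
    rw [mul_smul, inv_smul_smul, mul_smul, show d • b = b from hd.2]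

theorem conj_mem_Dab' {a b c d : Ω} {x g : G} (hx : x ∈ Dab G a b) (ha : g • a = c)
    (hb : g • b = d) : g * x * g⁻¹ ∈ Dab G c d := by
  rw [← ha, ← hb]
  exact conj_mem_Dab hx

namespace TO

variable {p k : ℕ} {a b : Ω}

theorem card_U (h : TO U p k a b) [Finite Ω] (c : Ω) : Nat.card (U c) = p ^ k := by
  have h1 := h.split.card a
  have h2 := h.split.card c
  rw [← h.hN]
  omega

/-- The setting holds at all pairs of points. -/
theorem at' (h : TO U p k a b) [Finite Ω] {c d : Ω} (hcd : d ≠ c) : TO U p k c d where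
  split := h.split
  gen := h.gen
  hab := hcd
  hp := h.hp
  hp2 := h.hp2
  hN := h.card_U c
  one := by
    intro s hs t ht hs2 ht2 hs1 ht1 hst
    obtain ⟨g, hg1, hg2⟩ := h.split.two hcd.symm h.hab.symm
    have h1 := h.one (g * s * g⁻¹) (conj_mem_Dab' hs hg1 hg2) (g * t * g⁻¹)
      (conj_mem_Dab' ht hg1 hg2) (mul_self_conj rfl hs2) (mul_self_conj rfl ht2)
      (fun hc => hs1 (conj_eq_one_iff.1 hc)) (fun hc => ht1 (conj_eq_one_iff.1 hc)) (by
        calc g * s * g⁻¹ * (g * t * g⁻¹) = g * (s * t) * g⁻¹ := by group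
          _ = g * (t * s) * g⁻¹ := by rw [hst]
          _ = _ := by group)
    exact mul_left_cancel (mul_right_cancel h1)
  ex := by
    obtain ⟨t, ht, ht2, ht1⟩ := h.ex
    obtain ⟨g, hg1, hg2⟩ := h.split.two h.hab.symm hcd.symm
    exact ⟨g * t * g⁻¹, conj_mem_Dab' ht hg1 hg2, mul_self_conj rfl ht2,
      fun hc => ht1 (conj_eq_one_iff.1 hc)⟩

theorem one' (h : TO U p k a b) [Finite Ω] {c d : Ω} (hcd : d ≠ c) {s t : G} (hs : s ∈ Dab G c d)
    (ht : t ∈ Dab G c d) (hs2 : s * s = 1) (ht2 : t * t = 1) (hs1 : s ≠ 1) (ht1 : t ≠ 1)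
    (hst : s * t = t * s) : s = t :=
  (h.at' hcd).one s hs t ht hs2 ht2 hs1 ht1 hst

theorem p_odd (h : TO U p k a b) : Odd p := h.hp.odd_of_ne_two h.hp2

theorem odd_U (h : TO U p k a b) [Finite Ω] (c : Ω) : Odd (Nat.card (U c)) := by
  rw [h.card_U c]
  exact h.p_odd.pow

theorem even_card (h : TO U p k a b) [Finite Ω] : Even (Nat.card Ω) := by
  rw [h.split.card a]
  exact (h.odd_U a).add_one

end TO

/-- An involution acting on a finite set of odd order has a fixed point. -/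
theorem exists_fixed {X : Type*} [Finite X] (hX : Odd (Nat.card X)) (f : X → X)
    (hf : ∀ x, f (f x) = x) : ∃ x, f x = x := by
  classical
  have := Fintype.ofFinite X
  have : Fact (Nat.Prime 2) := ⟨Nat.prime_two⟩
  obtain ⟨x, hx⟩ := Equiv.Perm.exists_fixed_point_of_prime (p := 2) (n := 1)
    (by rw [← Nat.card_eq_fintype_card, ← even_iff_two_dvd, Nat.not_even_iff_odd]; exact hX)
    (σ := Function.Involutive.toPerm f hf) (by
      ext x
      rw [pow_one, pow_two]
      exact hf x)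
  exact ⟨x, hx⟩

namespace TO

variable {p k : ℕ} {a b : Ω}

/-- An involution fixing a point fixes a second point. -/
theorem fix_second (h : TO U p k a b) [Finite Ω] {s : G} (hs : s * s = 1) {c : Ω} (hc : s • c = c) :
    ∃ d, d ≠ c ∧ s • d = d := by
  have h1 := card_ne_pt c
  rw [h.split.card c] at h1
  obtain ⟨⟨d, hd⟩, hx⟩ := exists_fixed (X := {d : Ω // ¬ d = c}) (by
    have : Nat.card {d : Ω // ¬ d = c} = Nat.card (U c) := by omega
    rw [this]; exact h.odd_U c)
    (fun x => ⟨s • x.1, fun e => x.2 (MulAction.injective s (by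
      change s • x.1 = s • c
      rw [e, hc]))⟩) (fun x => Subtype.ext (by
        change s • s • x.1 = x.1
        rw [← mul_smul, hs, one_smul]))
  exact ⟨d, hd, congrArg Subtype.val hx⟩

/-- Every involution fixes some point. -/
theorem fix_some (h : TO U p k a b) [Finite G] [Finite Ω] [FaithfulSMul G Ω] {s : G}
    (hs : s * s = 1) : ∃ c : Ω, s • c = c := by
  by_contra hc
  push Not at hc
  have h1 := (h.split.fpf h.gen h.hab h.hp h.hp2 h.hN hs hc).2.2
  obtain ⟨t, ht, ht2, ht1⟩ := h.ex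
  exact ht1 (FaithfulSMul.eq_of_smul_eq_smul (α := Ω) fun c => by
    rw [h1 t ht ht2 c, one_smul])

theorem fix_two (h : TO U p k a b) [Finite G] [Finite Ω] [FaithfulSMul G Ω] {s : G}
    (hs : s * s = 1) : ∃ c d : Ω, d ≠ c ∧ s ∈ Dab G c d := by
  obtain ⟨c, hc⟩ := h.fix_some hs
  obtain ⟨d, hd, hd'⟩ := h.fix_second hs hc
  exact ⟨c, d, hd, hc, hd'⟩

/-- Two involutions of `Dab c d` are conjugate in `Dab c d`. -/
theorem conj_D (h : TO U p k a b) [Finite G] [Finite Ω] {c d : Ω} (hcd : d ≠ c) {s t : G}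
    (hs : s ∈ Dab G c d) (ht : t ∈ Dab G c d) (hs2 : s * s = 1) (ht2 : t * t = 1) (hs1 : s ≠ 1)
    (ht1 : t ≠ 1) : ∃ g ∈ Dab G c d, t = g * s * g⁻¹ ∧ (s = t ∨ Odd (orderOf (s * t))) := by
  have hst := mul_mem hs ht
  rcases dihedral_dich hs2 ht2 with ⟨n, h1, h2⟩ | ⟨n, h1, h2, h3, h4⟩
  · exact ⟨_, pow_mem hst n, h1, Or.inr h2⟩
  · have h5 := h.one' hcd hs (pow_mem hst n) hs2 h2 hs1 h1 h3
    have h6 := h.one' hcd ht (pow_mem hst n) ht2 h2 ht1 h1 h4
    have h7 : s = t := h5.trans h6.symm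
    exact ⟨1, one_mem _, by rw [one_mul, inv_one, mul_one, h7], Or.inl h7⟩

/-- All involutions are conjugate. -/
theorem isConj (h : TO U p k a b) [Finite G] [Finite Ω] [FaithfulSMul G Ω] {s t : G}
    (hs2 : s * s = 1) (ht2 : t * t = 1) (hs1 : s ≠ 1) (ht1 : t ≠ 1) : IsConj s t := by
  obtain ⟨c, d, hcd, hs⟩ := h.fix_two hs2
  obtain ⟨e, f, hef, ht⟩ := h.fix_two ht2
  obtain ⟨g, hg1, hg2⟩ := h.split.two hcd.symm hef.symm
  obtain ⟨x, -, hx, -⟩ := h.conj_D hef (conj_mem_Dab' hs hg1 hg2) ht (mul_self_conj rfl hs2) ht2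
    (fun hc => hs1 (conj_eq_one_iff.1 hc)) ht1
  rw [isConj_iff]
  refine ⟨x * g, ?_⟩
  rw [hx]; group

/-- Distinct commuting involutions have no common fixed point. -/
theorem fpf_of_comm (h : TO U p k a b) [Finite Ω] {s t : G} (hs2 : s * s = 1)
    (ht2 : t * t = 1) (hs1 : s ≠ 1) (ht1 : t ≠ 1) (hst : s * t = t * s) (hne : s ≠ t) {c : Ω}
    (hc : t • c = c) : s • c ≠ c := by
  intro hsc
  -- the two involutions and their product act on the points different from `c`
  have hcomm : Commute s t := hst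
  by_cases hst1 : (s * t) = 1
  · apply hne
    have : t = t⁻¹ := (inv_eq_of_mul_eq_one_left ht2).symm
    rw [this]
    exact eq_inv_of_mul_eq_one_left hst1
  -- `t` fixes a further point; consider the odd set of fixed points of `t` different from `c`
  have h1 : Odd (Nat.card {d : Ω // d ≠ c ∧ t • d = d}) := by
    obtain ⟨d, hdc, hd⟩ := h.fix_second ht2 hc
    have h2 := h.split.card_fixSub (X := zpowers t) hdc
      (fun x hx => (zpowers_le.2 (show t ∈ stabilizer G c from hc)) hx)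
      (fun x hx => (zpowers_le.2 (show t ∈ stabilizer G d from hd)) hx)
    have hodd : Odd (Nat.card (U c ⊓ centralizer (zpowers t : Set G) : Subgroup G)) :=
      (h.odd_U c).of_dvd_nat (card_dvd_of_le inf_le_left)
    have h3 := card_ne_pt (⟨c, fun x hx =>
      (zpowers_le.2 (show t ∈ stabilizer G c from hc)) hx⟩ : fixSub Ω (zpowers t))
    have : Finite (fixSub Ω (zpowers t)) := Subtype.finite
    have h4 : Nat.card {d : Ω // d ≠ c ∧ t • d = d} =
        Nat.card {e : fixSub Ω (zpowers t) // ¬ e = ⟨c, fun x hx =>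
          (zpowers_le.2 (show t ∈ stabilizer G c from hc)) hx⟩} := by
      refine Nat.card_congr ⟨fun d => ⟨⟨d.1, fun x hx =>
        (zpowers_le.2 (show t ∈ stabilizer G d.1 from d.2.2)) hx⟩, fun e => d.2.1
          (congrArg Subtype.val e)⟩, fun e => ⟨e.1.1, fun e' => e.2 (Subtype.ext e'),
          e.1.2 t (mem_zpowers t)⟩, fun _ => rfl, fun _ => rfl⟩
    rw [h4]
    have h5 : Nat.card {e : fixSub Ω (zpowers t) // ¬ e = ⟨c, fun x hx =>
          (zpowers_le.2 (show t ∈ stabilizer G c from hc)) hx⟩} =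
        Nat.card (U c ⊓ centralizer (zpowers t : Set G) : Subgroup G) := by omega
    rw [h5]
    exact hodd
  obtain ⟨⟨d, hdc, hd⟩, hx⟩ := exists_fixed h1 (fun x => ⟨s • x.1, fun e => x.2.1
    (MulAction.injective s (by
      change s • x.1 = s • c
      rw [e, hsc])), by
      rw [← mul_smul, ← hst, mul_smul, x.2.2]⟩) (fun x => Subtype.ext (by
        change s • s • x.1 = x.1
        rw [← mul_smul, hs2, one_smul]))
  have hsd : s • d = d := congrArg Subtype.val hx
  exact hne (h.one' hdc ⟨hsc, hsd⟩ ⟨hc, hd⟩ hs2 ht2 hs1 ht1 hst)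

end TO

end Cfsg.Agent.HKS.TwoOne
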