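import Mathlib
import Cfsg.Agent.HKS.TwoOneBase

/-!
# Two-point stabiliser of 2-rank one: elements inverted by an involution

`r ∈ Dab a b` of odd prime order inverted by an involution `t ∈ Dab a b`.
-/

set_option autoImplicit false

namespace Cfsg.Agent.HKS.TwoOne

open Subgroup MulAction SSplit

variable {G Ω : Type*} [Group G] [MulAction G Ω] {U : Ω → Subgroup G}

/-- `C_{U a}(t)`. -/
abbrev CU (U : Ω → Subgroup G) (a : Ω) (t : G) : Subgroup G := U a ⊓ centralizer (zpowers t : Set G)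

theorem mem_cent_zpowers {t x : G} : x ∈ centralizer (zpowers t : Set G) ↔ t * x = x * t := by
  rw [mem_centralizer_iff]
  constructor
  · intro h
    exact h t (mem_zpowers t)
  · rintro h _ ⟨n, rfl⟩
    exact (show Commute (t ^ n) x from (show Commute t x from h).zpow_left n)

omit [MulAction G Ω] in
theorem mem_CU {a : Ω} {t x : G} : x ∈ CU U a t ↔ x ∈ U a ∧ t * x = x * t := by
  rw [mem_inf, mem_cent_zpowers]

theorem zpowers_fix {t : G} {c : Ω} (h : t • c = c) : ∀ x ∈ zpowers t, x • c = c := by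
  intro x hx
  exact (zpowers_le.2 (show t ∈ stabilizer G c from h)) hx

theorem mem_fixSub_zpowers {t : G} {c : Ω} : c ∈ fixSub Ω (zpowers t) ↔ t • c = c :=
  ⟨fun h => h t (mem_zpowers t), fun h => zpowers_fix h⟩

theorem card_fixSub_zpowers (t : G) :
    Nat.card (fixSub Ω (zpowers t)) = Nat.card (fixedBy Ω t) :=
  Nat.card_congr (Equiv.subtypeEquivRight fun _ => mem_fixSub_zpowers)

/-- `|Fix t| = |C_{U a}(t)| + 1`. -/
theorem card_fixedBy_eq (h : SSplit U) [Finite Ω] {a b : Ω} (hab : b ≠ a) {t : G}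
    (ht : t ∈ Dab G a b) : Nat.card (fixedBy Ω t) = Nat.card (CU U a t) + 1 := by
  rw [← card_fixSub_zpowers]
  exact h.card_fixSub hab (zpowers_fix ht.1) (zpowers_fix ht.2)

/-- `C_G(r)` is 2-transitive on `Fix r`. -/
theorem two_cent (h : SSplit U) [Finite Ω] {a b c d : Ω} (hab : b ≠ a) (hcd : d ≠ c) {r : G}
    (hr : r ∈ Dab G a b) (hr' : r ∈ Dab G c d) :
    (∃ g : G, r * g = g * r ∧ g • a = c ∧ g • b = d) ∨
      (c = b ∧ d = a ∧ ∀ e : Ω, r • e = e → e = a ∨ e = b) := by
  classical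
  by_cases h3 : ∃ e : Ω, r • e = e ∧ e ≠ a ∧ e ≠ b
  · left
    obtain ⟨e, he, hea, heb⟩ := h3
    have hs := h.fixed (zpowers r) (by
      have : Finite (fixSub Ω (zpowers r)) := Subtype.finite
      apply three_of_card
      exact two_lt_card_of (x := (⟨a, zpowers_fix hr.1⟩ : fixSub Ω (zpowers r)))
        (y := ⟨b, zpowers_fix hr.2⟩) (z := ⟨e, zpowers_fix he⟩)
        (fun e' => hab (congrArg Subtype.val e').symm) (fun e' => hea (congrArg Subtype.val e').symm)
        (fun e' => heb (congrArg Subtype.val e').symm))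
    obtain ⟨g, hg1, hg2⟩ := hs.two (a := (⟨a, zpowers_fix hr.1⟩ : fixSub Ω (zpowers r)))
      (b := ⟨b, zpowers_fix hr.2⟩) (c := ⟨c, zpowers_fix hr'.1⟩) (d := ⟨d, zpowers_fix hr'.2⟩)
      (fun e' => hab (congrArg Subtype.val e').symm) (fun e' => hcd (congrArg Subtype.val e').symm)
    exact ⟨g.1, mem_cent_zpowers.1 g.2, congrArg Subtype.val hg1, congrArg Subtype.val hg2⟩
  · push Not at h3
    have h4 : ∀ e : Ω, r • e = e → e = a ∨ e = b := by
      intro e he
      by_cases hea : e = a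
      · exact Or.inl hea
      · exact Or.inr (h3 e he hea)
    rcases h4 c hr'.1 with hc | hc
    · rcases h4 d hr'.2 with hd | hd
      · exact absurd (hd.trans hc.symm) hcd
      · left
        exact ⟨1, by rw [mul_one, one_mul], by rw [one_smul, hc], by rw [one_smul, hd]⟩
    · rcases h4 d hr'.2 with hd | hd
      · right
        exact ⟨hc, hd, h4⟩
      · exact absurd (hd.trans hc.symm) hcd

/-- `r ∈ Dab a b` has odd prime order and is inverted by the involution `t ∈ Dab a b`. -/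
structure Inverted (a b : Ω) (t r : G) : Prop where
  t_mem : t ∈ Dab G a b
  t_sq : t * t = 1
  t_ne : t ≠ 1
  r_mem : r ∈ Dab G a b
  prime : (orderOf r).Prime
  ne_two : orderOf r ≠ 2
  inv : t * r * t⁻¹ = r⁻¹

namespace TO

variable {p k : ℕ} {a b : Ω}

/-- If the involution `t` is not central in `Dab a b`, it inverts an element of odd prime order. -/
theorem exists_inverted (h : TO U p k a b) [Finite G] [Finite Ω] {t : G} (ht : t ∈ Dab G a b)
    (ht2 : t * t = 1) (ht1 : t ≠ 1) (hc : ¬ ∀ d ∈ Dab G a b, d * t = t * d) :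
    ∃ r, Inverted a b t r := by
  push Not at hc
  obtain ⟨d, hd, hdt⟩ := hc
  set s := d * t * d⁻¹ with hs
  have hsD : s ∈ Dab G a b := mul_mem (mul_mem hd ht) (inv_mem hd)
  have hs2 : s * s = 1 := mul_self_conj hs ht2
  have hs1 : s ≠ 1 := fun hc => ht1 (conj_eq_one_iff.1 (hs ▸ hc))
  have hst : s ≠ t := fun hc => hdt (by
    calc d * t = s * d := by rw [hs]; group
      _ = t * d := by rw [hc])
  obtain ⟨-, -, -, h1⟩ := h.conj_D h.hab hsD ht hs2 ht2 hs1 ht1
  have hodd := h1.resolve_left hst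
  have hne : orderOf (s * t) ≠ 1 := by
    intro hc
    rw [orderOf_eq_one_iff] at hc
    apply hst
    rw [eq_inv_of_mul_eq_one_left hc, inv_eq_of_mul_eq_one_left ht2]
  obtain ⟨ℓ, hℓ, hℓd⟩ := Nat.exists_prime_and_dvd hne
  obtain ⟨m, hm⟩ := hℓd
  have hpos : 0 < orderOf (s * t) := orderOf_pos _
  have hm0 : m ≠ 0 := by
    rintro rfl
    omega
  have hord : orderOf ((s * t) ^ m) = ℓ := by
    have : m ∣ orderOf (s * t) := ⟨ℓ, by rw [hm, mul_comm]⟩
    rw [orderOf_pow_of_dvd hm0 this, hm, Nat.mul_div_cancel _ (Nat.pos_of_ne_zero hm0)]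
  refine ⟨(s * t) ^ m, ht, ht2, ht1, pow_mem (mul_mem hsD ht) m, by rw [hord]; exact hℓ, ?_, ?_⟩
  · rw [hord]
    rintro rfl
    rw [hm] at hodd
    exact (Nat.not_even_iff_odd.2 hodd) ⟨m, by ring⟩
  · rw [conj_pow', inv_prod hs2 ht2, inv_pow]

end TO

namespace Inverted

variable {p k : ℕ} {a b : Ω} {t r : G}

theorem r_ne (hi : Inverted a b t r) : r ≠ 1 := by
  intro hc
  have := hi.prime
  rw [hc, orderOf_one] at this
  exact Nat.not_prime_one this

theorem odd (hi : Inverted a b t r) : Odd (orderOf r) := hi.prime.odd_of_ne_two hi.ne_two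

theorem r_sq_ne (hi : Inverted a b t r) : r⁻¹ ≠ r := by
  intro hc
  have h1 : r ^ 2 = 1 := by
    rw [pow_two]
    calc r * r = r⁻¹ * r := by rw [hc]
      _ = 1 := by group
  have h2 := orderOf_dvd_of_pow_eq_one h1
  rcases (Nat.dvd_prime Nat.prime_two).1 h2 with h3 | h3
  · exact hi.prime.one_lt.ne' h3
  · exact hi.ne_two h3

theorem conj (hi : Inverted a b t r) (g : G) :
    Inverted (g • a) (g • b) (g * t * g⁻¹) (g * r * g⁻¹) where
  t_mem := conj_mem_Dab hi.t_mem
  t_sq := mul_self_conj rfl hi.t_sq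
  t_ne := fun hc => hi.t_ne (conj_eq_one_iff.1 hc)
  r_mem := conj_mem_Dab hi.r_mem
  prime := by
    have : orderOf (g * r * g⁻¹) = orderOf r := (orderOf_injective (MulAut.conj g).toMonoidHom
      (MulAut.conj g).injective r)
    rw [this]; exact hi.prime
  ne_two := by
    have : orderOf (g * r * g⁻¹) = orderOf r := (orderOf_injective (MulAut.conj g).toMonoidHom
      (MulAut.conj g).injective r)
    rw [this]; exact hi.ne_two
  inv := by
    have : g * t * g⁻¹ * (g * r * g⁻¹) * (g * t * g⁻¹)⁻¹ = g * (t * r * t⁻¹) * g⁻¹ := by group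
    rw [this, hi.inv]; group

/-- No involution of `Dab a b` commutes with `r`. -/
theorem no_comm (hi : Inverted a b t r) (h : TO U p k a b) [Finite G] [Finite Ω] {s : G}
    (hs : s ∈ Dab G a b) (hs2 : s * s = 1) (hs1 : s ≠ 1) (hsr : s * r = r * s) : False := by
  have hst : ∀ n : ℕ, (s * t) ^ n * r * ((s * t) ^ n)⁻¹ = r ∨
      (s * t) ^ n * r * ((s * t) ^ n)⁻¹ = r⁻¹ := by
    have h1 : (s * t) * r * (s * t)⁻¹ = r⁻¹ := by
      calc (s * t) * r * (s * t)⁻¹ = s * (t * r * t⁻¹) * s⁻¹ := by group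
        _ = s * r⁻¹ * s⁻¹ := by rw [hi.inv]
        _ = (s * r * s⁻¹)⁻¹ := by group
        _ = r⁻¹ := by rw [hsr]; group
    intro n
    induction n with
    | zero => left; simp
    | succ n ih =>
      have h2 : (s * t) ^ (n + 1) * r * ((s * t) ^ (n + 1))⁻¹ =
          (s * t) ^ n * ((s * t) * r * (s * t)⁻¹) * ((s * t) ^ n)⁻¹ := by
        rw [pow_succ]; group
      rw [h2, h1]
      have h3 : (s * t) ^ n * r⁻¹ * ((s * t) ^ n)⁻¹ = ((s * t) ^ n * r * ((s * t) ^ n)⁻¹)⁻¹ := by
        group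
      rw [h3]
      rcases ih with ih | ih
      · right; rw [ih]
      · left; rw [ih, inv_inv]
  rcases dihedral_dich hs2 hi.t_sq with ⟨n, h1, -⟩ | ⟨n, h1, h2, h3, h4⟩
  · -- `t = c s c⁻¹` centralises `r`
    set c := (s * t) ^ n with hc
    have h5 : t * r * t⁻¹ = r := by
      have h6 : c⁻¹ * r * c = r ∨ c⁻¹ * r * c = r⁻¹ := by
        rcases hst n with h7 | h7
        · left
          calc c⁻¹ * r * c = c⁻¹ * (c * r * c⁻¹) * c := by rw [h7]
            _ = r := by group
        · right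
          have : c * r⁻¹ * c⁻¹ = r := by
            calc c * r⁻¹ * c⁻¹ = (c * r * c⁻¹)⁻¹ := by group
              _ = r := by rw [h7, inv_inv]
          calc c⁻¹ * r * c = c⁻¹ * (c * r⁻¹ * c⁻¹) * c := by rw [this]
            _ = r⁻¹ := by group
      have h8 : s * (c⁻¹ * r * c) * s⁻¹ = c⁻¹ * r * c := by
        rcases h6 with h6 | h6
        · rw [h6, hsr]; group
        · rw [h6]
          calc s * r⁻¹ * s⁻¹ = (s * r * s⁻¹)⁻¹ := by group
            _ = r⁻¹ := by rw [hsr]; group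
      calc t * r * t⁻¹ = (c * s * c⁻¹) * r * (c * s * c⁻¹)⁻¹ := by rw [← h1]
        _ = c * (s * (c⁻¹ * r * c) * s⁻¹) * c⁻¹ := by group
        _ = r := by rw [h8]; group
    exact hi.r_sq_ne (hi.inv.symm.trans h5)
  · have hstD := pow_mem (mul_mem hs hi.t_mem) n
    have h5 := h.one s hs _ hstD hs2 h2 hs1 h1 h3
    have h6 := h.one t hi.t_mem _ hstD hi.t_sq h2 hi.t_ne h1 h4
    have h7 : s = t := h5.trans h6.symm
    rw [h7] at hsr
    apply hi.r_sq_ne
    rw [← hi.inv, hsr]; group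

/-- No involution commuting with `r` fixes a point fixed by `r`. -/
theorem fpf (hi : Inverted a b t r) (h : TO U p k a b) [Finite G] [Finite Ω] {s : G}
    (hs2 : s * s = 1) (hs1 : s ≠ 1) (hsr : s * r = r * s) {c : Ω} (hc : r • c = c) : s • c ≠ c := by
  intro hsc
  -- `s` fixes a second fixed point of `r`
  have hrs : ∀ e : Ω, r • e = e → r • s • e = s • e := by
    intro e he
    rw [← mul_smul, ← hsr, mul_smul, he]
  obtain ⟨d, hdc, hrd, hsd⟩ : ∃ d, d ≠ c ∧ r • d = d ∧ s • d = d := by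
    have h1 : Odd (Nat.card {d : Ω // d ≠ c ∧ r • d = d}) := by
      have h3 := card_ne_pt (⟨c, zpowers_fix hc⟩ : fixSub Ω (zpowers r))
      have : Finite (fixSub Ω (zpowers r)) := Subtype.finite
      have h4 : Nat.card {d : Ω // d ≠ c ∧ r • d = d} =
          Nat.card {e : fixSub Ω (zpowers r) // ¬ e = ⟨c, zpowers_fix hc⟩} := by
        refine Nat.card_congr ⟨fun d => ⟨⟨d.1, zpowers_fix d.2.2⟩, fun e => d.2.1
            (congrArg Subtype.val e)⟩, fun e => ⟨e.1.1, fun e' => e.2 (Subtype.ext e'),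
            e.1.2 r (mem_zpowers r)⟩, fun _ => rfl, fun _ => rfl⟩
      have h5 := card_fixedBy_eq h.split h.hab hi.r_mem
      rw [← card_fixSub_zpowers] at h5
      have h6 : Odd (Nat.card (CU U a r)) := (h.odd_U a).of_dvd_nat (card_dvd_of_le inf_le_left)
      rw [h4]
      have h7 : Nat.card {e : fixSub Ω (zpowers r) // ¬ e = ⟨c, zpowers_fix hc⟩} =
          Nat.card (CU U a r) := by omega
      rw [h7]
      exact h6
    obtain ⟨⟨d, hdc, hd⟩, hx⟩ := exists_fixed h1 (fun x => ⟨s • x.1, fun e => x.2.1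
      (MulAction.injective s (by
        change s • x.1 = s • c
        rw [e, hsc])), hrs _ x.2.2⟩) (fun x => Subtype.ext (by
          change s • s • x.1 = x.1
          rw [← mul_smul, hs2, one_smul]))
    exact ⟨d, hdc, hd, congrArg Subtype.val hx⟩
  rcases two_cent h.split h.hab hdc hi.r_mem ⟨hc, hrd⟩ with ⟨g, hg, hga, hgb⟩ | ⟨rfl, rfl, -⟩
  · have h1 := hi.conj g
    have h2 : g * r * g⁻¹ = r := by rw [← hg]; group
    rw [h2, hga, hgb] at h1
    exact h1.no_comm (h.at' hdc) ⟨hsc, hsd⟩ hs2 hs1 hsr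
  · exact hi.no_comm h ⟨hsd, hsc⟩ hs2 hs1 hsr

/-- `|C_D(r)|` is odd. -/
theorem odd_cent (hi : Inverted a b t r) (h : TO U p k a b) [Finite G] [Finite Ω] :
    Odd (Nat.card (Dab G a b ⊓ centralizer (zpowers r : Set G) : Subgroup G)) := by
  rw [← Nat.not_even_iff_odd]
  intro he
  have : Fact (Nat.Prime 2) := ⟨Nat.prime_two⟩
  obtain ⟨x, hx⟩ := exists_prime_orderOf_dvd_card' 2 (even_iff_two_dvd.1 he)
  have hx2 : (x : G) * x = 1 := by
    have := pow_orderOf_eq_one x
    rw [hx, pow_two] at this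
    exact congrArg Subtype.val this
  have hx1 : (x : G) ≠ 1 := by
    intro hc
    have : x = 1 := Subtype.ext hc
    rw [this, orderOf_one] at hx
    omega
  exact hi.no_comm h x.2.1 hx2 hx1 (mem_cent_zpowers.1 x.2.2).symm

/-- elements of `C_D(r)` have odd order -/
theorem odd_order (hi : Inverted a b t r) (h : TO U p k a b) [Finite G] [Finite Ω] {x : G}
    (hx : x ∈ Dab G a b) (hxr : x * r = r * x) : Odd (orderOf x) := by
  have hx' : x ∈ (Dab G a b ⊓ centralizer (zpowers r : Set G) : Subgroup G) :=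
    ⟨hx, mem_cent_zpowers.2 hxr.symm⟩
  have h1 := orderOf_dvd_natCard (⟨x, hx'⟩ :
    (Dab G a b ⊓ centralizer (zpowers r : Set G) : Subgroup G))
  rw [Subgroup.orderOf_mk] at h1
  exact (hi.odd_cent h).of_dvd_nat h1

end Inverted

end Cfsg.Agent.HKS.TwoOne
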