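import Mathlib
import Cfsg.Agent.HKS.TwoOneInv

/-!
# The counting lemmas for abelian `U a`

`z ∈ Dab a b` an involution such that every element interchanging `a` and `b` commutes with exactly one
conjugate of `z` in `Dab a b`.

* `unique_fix`: every point not fixed by `z` is fixed by exactly one conjugate of `z` commuting with `z`;
* `fpf_of_isolated`, `not_dvd`: if `z` commutes with no other conjugate of `z` in `Dab a b`;
* `count_cube`: if `|U a| = q ^ 3` and `e`, `e z` are conjugates of `z`.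
-/

set_option autoImplicit false

namespace Cfsg.Agent.HKS.AbelianCount

open Subgroup MulAction Cfsg.Agent.HKS.TwoOne

variable {G Ω : Type*} [Group G] [MulAction G Ω] {U : Ω → Subgroup G}

section

variable {a b : Ω} {z : G}

/-- (C0) -/
theorem unique_fix (h : SSplit U) (hab : b ≠ a) (hz2 : z * z = 1)
    (hF : ∀ y : G, Swaps y a b → ∃! z', z' ∈ Dab G a b ∧ IsConj z z' ∧ y * z' = z' * y)
    {c : Ω} (hc : z • c ≠ c) : ∃! z', IsConj z z' ∧ z' * z = z * z' ∧ z' • c = c := by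
  obtain ⟨g, hg1, hg2⟩ := h.two (a := c) (b := z • c) (c := a) (d := b) hc.symm hab.symm
  have hys : Swaps (g * z * g⁻¹) a b := by
    constructor
    · rw [mul_smul, mul_smul, inv_smul_eq_iff.2 hg1.symm, hg2]
    · rw [mul_smul, mul_smul, inv_smul_eq_iff.2 hg2.symm, ← mul_smul z z, hz2, one_smul, hg1]
  obtain ⟨z1, ⟨h1, h2, h3⟩, h4⟩ := hF _ hys
  refine ⟨g⁻¹ * z1 * g, ⟨h2.trans (isConj_iff.2 ⟨g⁻¹, by group⟩), ?_, ?_⟩, ?_⟩
  · calc g⁻¹ * z1 * g * z = g⁻¹ * (z1 * (g * z * g⁻¹)) * g := by group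
      _ = g⁻¹ * (g * z * g⁻¹ * z1) * g := by rw [h3]
      _ = _ := by group
  · rw [mul_smul, mul_smul, hg1, show z1 • a = a from h1.1, inv_smul_eq_iff, hg1]
  · rintro z2 ⟨hz1, hzz, hzc⟩
    have h5 : z2 • z • c = z • c := by rw [← mul_smul, hzz, mul_smul, hzc]
    have h6 : g * z2 * g⁻¹ = z1 := by
      apply h4
      refine ⟨⟨?_, ?_⟩, hz1.trans (isConj_iff.2 ⟨g, rfl⟩), ?_⟩
      · change (g * z2 * g⁻¹) • a = a
        rw [mul_smul, mul_smul, inv_smul_eq_iff.2 hg1.symm, hzc, hg1]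
      · change (g * z2 * g⁻¹) • b = b
        rw [mul_smul, mul_smul, inv_smul_eq_iff.2 hg2.symm, h5, hg2]
      · calc g * z * g⁻¹ * (g * z2 * g⁻¹) = g * (z * z2) * g⁻¹ := by group
          _ = g * (z2 * z) * g⁻¹ := by rw [hzz]
          _ = _ := by group
    rw [← h6]
    group

/-- (C1), first part. -/
theorem fpf_of_isolated (h : SSplit U) [Finite Ω] (hab : b ≠ a) (hz : z ∈ Dab G a b)
    (hz2 : z * z = 1) (hodd : Odd (Nat.card (U a)))
    (hiso : ∀ z' ∈ Dab G a b, IsConj z z' → z' * z = z * z' → z' = z) :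
    ∀ y : G, IsConj z y → y * z = z * y → y ≠ z → ∀ c : Ω, z • c = c → y • c ≠ c := by
  intro y hy hyz hne c hzc hyc
  have hy2 : y * y = 1 := by
    obtain ⟨g, rfl⟩ := isConj_iff.1 hy
    exact mul_self_conj rfl hz2
  -- a second common fixed point
  have hUc : Nat.card (U c) = Nat.card (U a) := by
    have h1 := h.card a
    have h2 := h.card c
    omega
  obtain ⟨d, hdc, hzd, hyd⟩ : ∃ d, d ≠ c ∧ z • d = d ∧ y • d = d := by
    obtain ⟨e, hec, -⟩ := h.three c c
    -- the fixed points of `z` other than `c`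
    have h1 : Odd (Nat.card {d : Ω // d ≠ c ∧ z • d = d}) := by
      obtain ⟨d, hdc, hd⟩ : ∃ d, d ≠ c ∧ z • d = d := by
        by_cases hca : c = a
        · exact ⟨b, by rw [hca]; exact hab, hz.2⟩
        · exact ⟨a, fun e => hca e.symm, hz.1⟩
      have h2 := h.card_fixSub (X := zpowers z) hdc (zpowers_fix hzc) (zpowers_fix hd)
      have hodd' : Odd (Nat.card (U c ⊓ centralizer (zpowers z : Set G) : Subgroup G)) := by
        refine Odd.of_dvd_nat ?_ (card_dvd_of_le (inf_le_left : U c ⊓ centralizer (zpowers z : Set G) ≤ U c))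
        rw [hUc]; exact hodd
      have h3 := card_ne_pt (⟨c, zpowers_fix hzc⟩ : fixSub Ω (zpowers z))
      have h4 : Nat.card {d : Ω // d ≠ c ∧ z • d = d} =
          Nat.card {e : fixSub Ω (zpowers z) // ¬ e = ⟨c, zpowers_fix hzc⟩} := by
        refine Nat.card_congr ⟨fun d => ⟨⟨d.1, zpowers_fix d.2.2⟩, fun e => d.2.1
            (congrArg Subtype.val e)⟩, fun e => ⟨e.1.1, fun e' => e.2 (Subtype.ext e'),
            e.1.2 z (mem_zpowers z)⟩, fun _ => rfl, fun _ => rfl⟩
      rw [h4]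
      have h5 : Nat.card {e : fixSub Ω (zpowers z) // ¬ e = ⟨c, zpowers_fix hzc⟩} =
          Nat.card (U c ⊓ centralizer (zpowers z : Set G) : Subgroup G) := by omega
      rw [h5]
      exact hodd'
    obtain ⟨⟨d, hdc, hd⟩, hx⟩ := exists_fixed h1 (fun x => ⟨y • x.1, fun e => x.2.1
      (MulAction.injective y (by
        change y • x.1 = y • c
        rw [e, hyc])), by
        rw [← mul_smul, ← hyz, mul_smul, x.2.2]⟩) (fun x => Subtype.ext (by
          change y • y • x.1 = x.1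
          rw [← mul_smul, hy2, one_smul]))
    exact ⟨d, hdc, hd, congrArg Subtype.val hx⟩
  -- move `(c, d)` to `(a, b)` inside `C(z)`
  rcases two_cent h hdc hab ⟨hzc, hzd⟩ hz with ⟨g, hg, hgc, hgd⟩ | ⟨hd, hc, -⟩
  · have h1 := hiso (g * y * g⁻¹) (conj_mem_Dab' ⟨hyc, hyd⟩ hgc hgd)
      (hy.trans (isConj_iff.2 ⟨g, rfl⟩)) (by
        calc g * y * g⁻¹ * z = g * y * g⁻¹ * (z * g) * g⁻¹ := by group
          _ = g * (y * z) * g⁻¹ := by rw [hg]; group
          _ = (g * z) * y * g⁻¹ := by rw [hyz]; group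
          _ = (z * g) * y * g⁻¹ := by rw [hg]
          _ = _ := by group)
    apply hne
    have h2 : z = g * z * g⁻¹ := by rw [← hg]; group
    rw [h2] at h1
    exact mul_left_cancel (mul_right_cancel h1)
  · exact hne (hiso y ⟨by rw [hd]; exact hyd, by rw [hc]; exact hyc⟩ hy hyz)

/-- the points moved by `z` -/
theorem card_moved [Finite Ω] (h : SSplit U) (a : Ω) (z : G) :
    Nat.card (U a) + 1 = Nat.card (fixedBy Ω z) + Nat.card {c : Ω // z • c ≠ c} := by
  classical
  have := Fintype.ofFinite Ω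
  rw [← h.card a]
  have h1 : Fintype.card {c : Ω // ¬ z • c = c} = Fintype.card Ω - Fintype.card {c : Ω // z • c = c} :=
    Fintype.card_subtype_compl _
  have h2 : Fintype.card {c : Ω // z • c = c} ≤ Fintype.card Ω := Fintype.card_subtype_le _
  have h3 : Nat.card (fixedBy Ω z) = Fintype.card {c : Ω // z • c = c} := by
    rw [Nat.card_eq_fintype_card]
    exact Fintype.card_congr (Equiv.refl _)
  have h4 : Nat.card {c : Ω // z • c ≠ c} = Fintype.card {c : Ω // ¬ z • c = c} :=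
    Nat.card_eq_fintype_card
  rw [h3, h4, h1, Nat.card_eq_fintype_card]
  omega

/-- (C1), the congruence. -/
theorem card_eq_of_isolated (h : SSplit U) [Finite G] [Finite Ω] (hab : b ≠ a) (hz : z ∈ Dab G a b)
    (hz2 : z * z = 1) (hodd : Odd (Nat.card (U a)))
    (hF : ∀ y : G, Swaps y a b → ∃! z', z' ∈ Dab G a b ∧ IsConj z z' ∧ y * z' = z' * y)
    (hiso : ∀ z' ∈ Dab G a b, IsConj z z' → z' * z = z * z' → z' = z) {q : ℕ}
    (hq : Nat.card (fixedBy Ω z) = q + 1) :
    ∃ m : ℕ, Nat.card (U a) = q + m * (q + 1) ∧ Nat.card {c : Ω // z • c ≠ c} = m * (q + 1) := by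
  classical
  have hfpf := fpf_of_isolated h hab hz hz2 hodd hiso
  let T := {y : G // IsConj z y ∧ y * z = z * y ∧ y ≠ z}
  have := Fintype.ofFinite T
  let f : (Σ y : T, fixedBy Ω (y : G)) → {c : Ω // z • c ≠ c} := fun y =>
    ⟨y.2.1, fun e => hfpf y.1.1 y.1.2.1 y.1.2.2.1 y.1.2.2.2 _ e y.2.2⟩
  have hf : Function.Bijective f := by
    constructor
    · rintro ⟨⟨y, hy1, hy2, hy3⟩, ⟨c, hc⟩⟩ ⟨⟨y', hy1', hy2', hy3'⟩, ⟨c', hc'⟩⟩ he
      have hcc : c = c' := congrArg Subtype.val he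
      subst hcc
      have hcz : z • c ≠ c := fun e => hfpf y hy1 hy2 hy3 c e hc
      have hyy : y = y' := (unique_fix h hab hz2 hF hcz).unique ⟨hy1, hy2, hc⟩ ⟨hy1', hy2', hc'⟩
      subst hyy
      rfl
    · rintro ⟨c, hc⟩
      obtain ⟨y, ⟨hy1, hy2, hy3⟩, -⟩ := unique_fix h hab hz2 hF hc
      exact ⟨⟨⟨y, hy1, hy2, fun e => hc (by rwa [e] at hy3)⟩, ⟨c, hy3⟩⟩, rfl⟩
  let e := (Equiv.ofBijective f hf).symm
  have h1 : Nat.card {c : Ω // z • c ≠ c} = Nat.card T * (q + 1) := by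
    rw [Nat.card_congr e, Nat.card_sigma]
    have h3 : ∀ y ∈ (Finset.univ : Finset T), Nat.card (fixedBy Ω (y : G)) = q + 1 := by
      intro y _
      rw [← hq]
      exact (SSplit.card_fixedBy_isConj y.2.1).symm
    rw [Finset.sum_congr rfl h3, Finset.sum_const, Finset.card_univ, smul_eq_mul,
      Nat.card_eq_fintype_card]
  have h2 := card_moved h a z
  refine ⟨Nat.card T, ?_, h1⟩
  rw [hq, h1] at h2
  omega

/-- (C1), second part. -/
theorem not_dvd (h : SSplit U) [Finite G] [Finite Ω] [FaithfulSMul G Ω] (hab : b ≠ a)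
    (hz : z ∈ Dab G a b) (hz2 : z * z = 1) (hz1 : z ≠ 1) (hodd : Odd (Nat.card (U a)))
    (hF : ∀ y : G, Swaps y a b → ∃! z', z' ∈ Dab G a b ∧ IsConj z z' ∧ y * z' = z' * y)
    (hiso : ∀ z' ∈ Dab G a b, IsConj z z' → z' * z = z * z' → z' = z) {q : ℕ}
    (hq : Nat.card (fixedBy Ω z) = q + 1) : ¬ Nat.card (U a) ∣ q ^ 2 := by
  intro hdvd
  obtain ⟨m, h1, h2⟩ := card_eq_of_isolated h hab hz hz2 hodd hF hiso hq
  have h3 := card_fixedBy_eq h hab hz
  have h4 : q = Nat.card (CU U a z) := by omega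
  have h5 : q ∣ Nat.card (U a) := by
    rw [h4]
    exact card_dvd_of_le inf_le_left
  have hq0 : 0 < q := by
    rcases Nat.eq_zero_or_pos q with h0 | h0
    · rw [h0, zero_dvd_iff] at h5
      rw [h5] at hodd
      exact absurd hodd (by decide)
    · exact h0
  obtain ⟨r, hr⟩ := h5
  have hrq : r ∣ q := by
    rw [hr, pow_two] at hdvd
    exact Nat.dvd_of_mul_dvd_mul_left hq0 hdvd
  have hr_le : r ≤ q := Nat.le_of_dvd hq0 hrq
  have hr0 : 0 < r := by
    rcases Nat.eq_zero_or_pos r with h0 | h0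
    · rw [h0, mul_zero] at hr
      rw [hr] at hodd
      exact absurd hodd (by decide)
    · exact h0
  -- `(q + 1) ∣ r - 1`
  have h6 : q * (r - 1) = m * (q + 1) := by
    have : q * (r - 1) + q = q * r := by
      rw [← Nat.mul_succ]
      congr 1
      omega
    rw [← hr, h1] at this
    omega
  have h7 : (q + 1) ∣ (r - 1) := by
    have h8 : (q + 1) ∣ q * (r - 1) := ⟨m, by rw [h6, mul_comm]⟩
    exact (Nat.Coprime.dvd_of_dvd_mul_left (by simp) h8)
  have h8 : r - 1 = 0 := Nat.eq_zero_of_dvd_of_lt h7 (by omega)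
  rw [h8, mul_zero] at h6
  have h9 : Nat.card {c : Ω // z • c ≠ c} = 0 := by rw [h2, ← h6]
  have h10 : ∀ c : Ω, z • c = c := by
    intro c
    by_contra hc
    have : Nonempty {c : Ω // z • c ≠ c} := ⟨⟨c, hc⟩⟩
    rw [Nat.card_eq_zero] at h9
    rcases h9 with h9 | h9
    · exact h9.false ⟨c, hc⟩
    · exact h9.not_finite (inferInstance : Finite {c : Ω // z • c ≠ c})
  exact hz1 (FaithfulSMul.eq_of_smul_eq_smul (α := Ω) fun c => by rw [h10 c, one_smul])

/-- (C2) -/
theorem count_cube (h : SSplit U) [Finite G] [Finite Ω] (hab : b ≠ a) (hz : z ∈ Dab G a b)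
    (hz2 : z * z = 1) (hz1 : z ≠ 1)
    (hF : ∀ y : G, Swaps y a b → ∃! z', z' ∈ Dab G a b ∧ IsConj z z' ∧ y * z' = z' * y) {q : ℕ}
    (hq : Nat.card (fixedBy Ω z) = q + 1) {e : G} (he : e ∈ Dab G a b) (hze : IsConj z e)
    (hzez : IsConj z (e * z)) (hc : e * z = z * e) (hne : e ≠ z) (hN : Nat.card (U a) = q ^ 3)
    (hfix : ∀ c : Ω, z • c = c → e • c = c → c = a ∨ c = b) (M : Subgroup G)
    (hM : ∀ g ∈ M, g * z = z * g)
    (hM2 : ∀ c d : Ω, z • c = c → z • d = d → c ≠ d → ∃ g ∈ M, g • a = c ∧ g • b = d) :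
    ∀ y : G, IsConj z y → y * z = z * y → y ≠ z →
      ∃ g ∈ M, y = g * e * g⁻¹ ∨ y = g * (e * z) * g⁻¹ := by
  classical
  have := Fintype.ofFinite Ω
  -- the numbering of the points
  let r : Ω → ℕ := fun c => (Fintype.equivFin Ω c : ℕ)
  have hr : ∀ c d, r c = r d → c = d := fun c d hcd =>
    (Fintype.equivFin Ω).injective (Fin.ext hcd)
  have hgg : ∀ c d : Ω, ∃ g : G, (z • c = c → z • d = d → c ≠ d → g ∈ M ∧ g • a = c ∧ g • b = d) := by
    intro c d
    by_cases hcd : z • c = c ∧ z • d = d ∧ c ≠ d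
    · obtain ⟨g, hg⟩ := hM2 c d hcd.1 hcd.2.1 hcd.2.2
      exact ⟨g, fun _ _ _ => hg⟩
    · exact ⟨1, fun h1 h2 h3 => absurd ⟨h1, h2, h3⟩ hcd⟩
  choose gg hgg using hgg
  let f : Ω × Ω → G := fun p => if r p.1 < r p.2 then gg p.1 p.2 * e * (gg p.1 p.2)⁻¹
    else gg p.2 p.1 * (e * z) * (gg p.2 p.1)⁻¹
  have hez2 : e * z ≠ z := by
    intro h1
    apply hz1
    have h2 : e = 1 := mul_eq_right.1 h1
    obtain ⟨g, hg⟩ := isConj_iff.1 hze
    rw [h2] at hg
    exact conj_eq_one_iff.1 hg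
  have hezD : e * z ∈ Dab G a b := mul_mem he hz
  -- the properties of conjugates of `e` and `e * z`
  have key : ∀ x ∈ Dab G a b, IsConj z x → x * z = z * x → x ≠ z →
      (∀ c : Ω, z • c = c → x • c = c → c = a ∨ c = b) → ∀ c d : Ω, z • c = c → z • d = d → c ≠ d →
      IsConj z (gg c d * x * (gg c d)⁻¹) ∧ gg c d * x * (gg c d)⁻¹ * z = z * (gg c d * x * (gg c d)⁻¹) ∧
      gg c d * x * (gg c d)⁻¹ ≠ z ∧ (∀ k : Ω, z • k = k → (gg c d * x * (gg c d)⁻¹) • k = k →
        k = c ∨ k = d) ∧ (gg c d * x * (gg c d)⁻¹) • c = c ∧ (gg c d * x * (gg c d)⁻¹) • d = d := by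
    intro x hxD hzx hxz hxne hxf c d hzc hzd hcd
    obtain ⟨hgM, hg1, hg2⟩ := hgg c d hzc hzd hcd
    have hgz := hM _ hgM
    set g := gg c d
    have hgz' : z * g⁻¹ = g⁻¹ * z := by
      calc z * g⁻¹ = g⁻¹ * (g * z) * g⁻¹ := by group
        _ = g⁻¹ * (z * g) * g⁻¹ := by rw [hgz]
        _ = _ := by group
    refine ⟨hzx.trans (isConj_iff.2 ⟨g, rfl⟩), ?_, ?_, ?_, ?_, ?_⟩
    · calc g * x * g⁻¹ * z = g * x * (g⁻¹ * z) := by group
        _ = g * x * (z * g⁻¹) := by rw [hgz']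
        _ = g * (x * z) * g⁻¹ := by group
        _ = (g * z) * x * g⁻¹ := by rw [hxz]; group
        _ = (z * g) * x * g⁻¹ := by rw [hgz]
        _ = _ := by group
    · intro h1
      apply hxne
      have h2 : z = g * z * g⁻¹ := by rw [hgz]; group
      rw [h2] at h1
      exact mul_left_cancel (mul_right_cancel h1)
    · intro k hzk hxk
      have h1 : z • g⁻¹ • k = g⁻¹ • k := by rw [← mul_smul, hgz', mul_smul, hzk]
      have h2 : x • g⁻¹ • k = g⁻¹ • k := by
        rw [mul_smul, mul_smul] at hxk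
        rw [eq_inv_smul_iff, hxk]
      rcases hxf _ h1 h2 with h3 | h3
      · left
        rw [inv_smul_eq_iff] at h3
        rw [h3, hg1]
      · right
        rw [inv_smul_eq_iff] at h3
        rw [h3, hg2]
    · rw [mul_smul, mul_smul, inv_smul_eq_iff.2 hg1.symm, show x • a = a from hxD.1, hg1]
    · rw [mul_smul, mul_smul, inv_smul_eq_iff.2 hg2.symm, show x • b = b from hxD.2, hg2]
  have hfixz : ∀ c : Ω, z • c = c → (e * z) • c = c → c = a ∨ c = b := by
    intro c h1 h2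
    rw [mul_smul, h1] at h2
    exact hfix c h1 h2
  have hf : ∀ c d : Ω, z • c = c → z • d = d → c ≠ d →
      IsConj z (f (c, d)) ∧ f (c, d) * z = z * f (c, d) ∧ f (c, d) ≠ z ∧
      (∀ k : Ω, z • k = k → f (c, d) • k = k → k = c ∨ k = d) ∧ f (c, d) • c = c ∧
      f (c, d) • d = d ∧ ∃ g ∈ M, f (c, d) = g * e * g⁻¹ ∨ f (c, d) = g * (e * z) * g⁻¹ := by
    intro c d hzc hzd hcd
    by_cases hlt : r c < r d
    · have h1 : f (c, d) = gg c d * e * (gg c d)⁻¹ := if_pos hlt
      rw [h1]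
      obtain ⟨k1, k2, k3, k4, k5, k6⟩ := key e he hze hc hne hfix c d hzc hzd hcd
      exact ⟨k1, k2, k3, k4, k5, k6, gg c d, (hgg c d hzc hzd hcd).1, Or.inl rfl⟩
    · have h1 : f (c, d) = gg d c * (e * z) * (gg d c)⁻¹ := if_neg hlt
      rw [h1]
      obtain ⟨k1, k2, k3, k4, k5, k6⟩ := key (e * z) hezD hzez (by rw [hc, mul_assoc, hc]) hez2 hfixz
        d c hzd hzc hcd.symm
      exact ⟨k1, k2, k3, fun k h2 h3 => (k4 k h2 h3).symm, k6, k5, gg d c,
        (hgg d c hzd hzc hcd.symm).1, Or.inr rfl⟩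
  have hinj : ∀ c d c' d' : Ω, z • c = c → z • d = d → c ≠ d → z • c' = c' → z • d' = d' → c' ≠ d' →
      f (c, d) = f (c', d') → c = c' ∧ d = d' := by
    intro c d c' d' hzc hzd hcd hzc' hzd' hcd' hff
    obtain ⟨-, -, -, k4, -, -, -⟩ := hf c d hzc hzd hcd
    obtain ⟨-, -, -, -, k5, k6, -⟩ := hf c' d' hzc' hzd' hcd'
    rw [← hff] at k5 k6
    have h1 := k4 c' hzc' k5
    have h2 := k4 d' hzd' k6
    by_cases h3 : c' = c
    · have h4 : d' ≠ c := fun e => hcd' (h3.trans e.symm)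
      exact ⟨h3.symm, (h2.resolve_left h4).symm⟩
    · exfalso
      have h4 : c' = d := h1.resolve_left h3
      have h5 : d' = c := h2.resolve_right (fun e => hcd' (h4.trans e.symm))
      subst h4 h5
      rcases lt_trichotomy (r d') (r c') with hlt | heq | hlt
      · have e1 : f (d', c') = gg d' c' * e * (gg d' c')⁻¹ := if_pos hlt
        have e2 : f (c', d') = gg d' c' * (e * z) * (gg d' c')⁻¹ := if_neg (not_lt.2 hlt.le)
        rw [e1, e2] at hff
        exact hz1 (mul_eq_left.1 (mul_left_cancel (mul_right_cancel hff)).symm)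
      · exact hcd' (hr _ _ heq).symm
      · have e1 : f (c', d') = gg c' d' * e * (gg c' d')⁻¹ := if_pos hlt
        have e2 : f (d', c') = gg c' d' * (e * z) * (gg c' d')⁻¹ := if_neg (not_lt.2 hlt.le)
        rw [e1, e2] at hff
        exact hz1 (mul_eq_left.1 (mul_left_cancel (mul_right_cancel hff)))
  -- the counting
  let F : Finset Ω := Finset.univ.filter fun c => z • c = c
  have hFcard : F.card = q + 1 := by
    rw [← hq, Nat.card_eq_fintype_card, Fintype.card_subtype]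
    congr 1
  have hmem : ∀ c, c ∈ F ↔ z • c = c := fun c => by simp [F]
  let A : Ω × Ω → Finset Ω := fun p => Finset.univ.filter fun k => f p • k = k ∧ z • k ≠ k
  have hAcard : ∀ p ∈ F.offDiag, (A p).card = q - 1 := by
    rintro ⟨c, d⟩ hp
    rw [Finset.mem_offDiag, hmem, hmem] at hp
    obtain ⟨hzc, hzd, hcd⟩ := hp
    obtain ⟨k1, -, -, k4, k5, k6, -⟩ := hf c d hzc hzd hcd
    have h1 : (Finset.univ.filter fun k : Ω => f (c, d) • k = k).card = q + 1 := by
      rw [← hq, SSplit.card_fixedBy_isConj k1, Nat.card_eq_fintype_card, Fintype.card_subtype]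
      congr 1
    have h2 : (Finset.univ.filter fun k : Ω => f (c, d) • k = k) = A (c, d) ∪ {c, d} := by
      ext k
      simp only [A, Finset.mem_filter, Finset.mem_univ, true_and, Finset.mem_union,
        Finset.mem_insert, Finset.mem_singleton]
      constructor
      · intro hk
        by_cases hzk : z • k = k
        · exact Or.inr (k4 k hzk hk)
        · exact Or.inl ⟨hk, hzk⟩
      · rintro (hk | rfl | rfl)
        · exact hk.1
        · exact k5
        · exact k6
    have h3 : Disjoint (A (c, d)) {c, d} := by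
      rw [Finset.disjoint_left]
      intro k hk hk'
      simp only [A, Finset.mem_filter, Finset.mem_univ, true_and] at hk
      simp only [Finset.mem_insert, Finset.mem_singleton] at hk'
      rcases hk' with rfl | rfl
      · exact hk.2 hzc
      · exact hk.2 hzd
    rw [h2, Finset.card_union_of_disjoint h3, Finset.card_pair hcd] at h1
    omega
  have hdisj : (F.offDiag : Set (Ω × Ω)).PairwiseDisjoint A := by
    rintro ⟨c, d⟩ hp ⟨c', d'⟩ hp' hne'
    rw [Finset.mem_coe, Finset.mem_offDiag, hmem, hmem] at hp hp'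
    obtain ⟨hzc, hzd, hcd⟩ := hp
    obtain ⟨hzc', hzd', hcd'⟩ := hp'
    rw [Function.onFun, Finset.disjoint_left]
    intro k hk hk'
    simp only [A, Finset.mem_filter, Finset.mem_univ, true_and] at hk hk'
    obtain ⟨k1, k2, -, -, -, -, -⟩ := hf c d hzc hzd hcd
    obtain ⟨l1, l2, -, -, -, -, -⟩ := hf c' d' hzc' hzd' hcd'
    have h1 := (unique_fix h hab hz2 hF hk.2).unique ⟨k1, k2, hk.1⟩ ⟨l1, l2, hk'.1⟩
    obtain ⟨rfl, rfl⟩ := hinj c d c' d' hzc hzd hcd hzc' hzd' hcd' h1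
    exact hne' rfl
  have hcardU : (F.offDiag.biUnion A).card = (q + 1) * q * (q - 1) := by
    rw [Finset.card_biUnion hdisj, Finset.sum_congr rfl hAcard, Finset.sum_const,
      Finset.offDiag_card, hFcard, smul_eq_mul]
    congr 1
    rw [Nat.mul_succ, Nat.add_sub_cancel]
  have hmoved : (Finset.univ.filter fun k : Ω => z • k ≠ k).card + q = q ^ 3 := by
    have h1 := card_moved h a z
    rw [hq, hN, Nat.card_eq_fintype_card, Fintype.card_subtype] at h1
    omega
  have hq1 : 1 ≤ q := by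
    rcases Nat.eq_zero_or_pos q with h0 | h0
    · have h1 := h.two_lt_card a
      rw [h.card a, hN, h0] at h1
      norm_num at h1
    · exact h0
  have hq2 : 2 ≤ q := by
    rcases Nat.lt_or_ge q 2 with h0 | h0
    · have h2 : q = 1 := by omega
      have h1 := h.two_lt_card a
      rw [h.card a, hN, h2] at h1
      norm_num at h1
    · exact h0
  have hcov : F.offDiag.biUnion A = Finset.univ.filter fun k : Ω => z • k ≠ k := by
    apply Finset.eq_of_subset_of_card_le
    · intro k hk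
      obtain ⟨p, -, hk⟩ := Finset.mem_biUnion.1 hk
      simp only [A, Finset.mem_filter, Finset.mem_univ, true_and] at hk
      simpa using hk.2
    · rw [hcardU]
      obtain ⟨s, rfl⟩ : ∃ s, q = s + 1 := ⟨q - 1, by omega⟩
      have h1 : (s + 1) ^ 3 = (s + 1 + 1) * (s + 1) * (s + 1 - 1) + (s + 1) := by
        rw [Nat.add_sub_cancel]; ring
      rw [h1] at hmoved
      omega
  -- the conclusion
  intro y hy hyz hyne
  by_cases hex : ∃ k : Ω, y • k = k ∧ z • k ≠ k
  · obtain ⟨k, hyk, hzk⟩ := hex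
    have h1 : k ∈ F.offDiag.biUnion A := by rw [hcov]; simpa using hzk
    obtain ⟨⟨c, d⟩, hp, hk⟩ := Finset.mem_biUnion.1 h1
    rw [Finset.mem_offDiag, hmem, hmem] at hp
    obtain ⟨hzc, hzd, hcd⟩ := hp
    simp only [A, Finset.mem_filter, Finset.mem_univ, true_and] at hk
    obtain ⟨k1, k2, -, -, -, -, k7⟩ := hf c d hzc hzd hcd
    have h2 := (unique_fix h hab hz2 hF hzk).unique ⟨hy, hyz, hyk⟩ ⟨k1, k2, hk.1⟩
    rw [h2]
    exact k7
  · exfalso
    push Not at hex
    -- `Fix y = Fix z`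
    have h1 : ∀ k : Ω, z • k = k → y • k = k := by
      have h2 : (Finset.univ.filter fun k : Ω => y • k = k) = F := by
        apply Finset.eq_of_subset_of_card_le
        · intro k hk
          rw [hmem]
          simp only [Finset.mem_filter, Finset.mem_univ, true_and] at hk
          exact hex k hk
        · rw [hFcard, ← hq, SSplit.card_fixedBy_isConj hy, Nat.card_eq_fintype_card,
            Fintype.card_subtype]
          apply le_of_eq
          congr 1
      intro k hk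
      have h3 : k ∈ F := (hmem k).2 hk
      rw [← h2] at h3
      simpa using h3
    have hyD : y ∈ Dab G a b := ⟨h1 a hz.1, h1 b hz.2⟩
    -- an element of `C_{U b}(z)`
    have hzD' : z ∈ Dab G b a := by rw [Dab_symm]; exact hz
    have h2 := card_fixedBy_eq h hab.symm hzD'
    have h3 : 2 ≤ Nat.card (CU U b z) := by omega
    obtain ⟨u, hu, hu1⟩ : ∃ u ∈ CU U b z, u ≠ 1 := by
      have : Nontrivial (CU U b z) := (Finite.one_lt_card_iff_nontrivial).1 (by omega)
      obtain ⟨u, hu⟩ := exists_ne (1 : CU U b z)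
      exact ⟨u, u.2, fun e => hu (Subtype.ext e)⟩
    have huc := mem_CU.1 hu
    have huy : y * u = u * y := by
      refine h.comm_of_fix (X := zpowers z) (a := b) (b := a) (zpowers_fix hz.2) (zpowers_fix hz.1)
        hab.symm (fun c hc => h1 c (hc z (mem_zpowers z))) huc.1 hu.2
    have hs := h.mu_swaps hab huc.1 hu1
    have hm1 := h.mu_comm hab huc.1 hu1 hz huc.2
    have hm2 := h.mu_comm hab huc.1 hu1 hyD huy
    exact hyne ((hF _ hs).unique ⟨hyD, hy, hm2.symm⟩ ⟨hz, IsConj.refl z, hm1.symm⟩)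

end

end Cfsg.Agent.HKS.AbelianCount
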