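import Mathlib
import Cfsg.Agent.HKS.RankOne
import Cfsg.Agent.Characters.Central
import Cfsg.Agent.Characters.Core

/-!
# Irreducible representations of a rank-one group with `Q`-fixed vectors `≅ λ`, `λ` invariant

`V` is an irreducible representation of `G`, the space `V^Q` is (via `φ`) the representation `σ|_D`,
where `σ` is a representation of `W` with `σ|_D` irreducible. Then `P ρ(w') φ(y) = x φ(σ(w') y)` for
all `w' ∈ W ∖ D`.
-/

set_option autoImplicit false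

open Cfsg Representation

namespace Cfsg.Agent.HKS

variable {G : Type*} [Group G] {B Q D W : Subgroup G} {w : G}
variable {V Y : Type*} [AddCommGroup V] [Module ℂ V] [AddCommGroup Y] [Module ℂ Y]

omit [AddCommGroup Y] [Module ℂ Y] in
theorem rr {H : Type*} [Group H] (τ : Representation ℂ H V) (a b : H) (v : V) :
    τ a (τ b v) = τ (a * b) v := by
  rw [map_mul, Module.End.mul_apply]

/-- The average over `Q`. -/
noncomputable def avg (ρ : Representation ℂ G V) (Q : Subgroup G) [Fintype Q] : Module.End ℂ V :=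
  (Nat.card Q : ℂ)⁻¹ • ∑ u : Q, ρ u

section avg

variable (ρ : Representation ℂ G V) [Fintype Q]

theorem avg_apply (v : V) : avg ρ Q v = (Nat.card Q : ℂ)⁻¹ • ∑ u : Q, ρ u v := by
  rw [avg, LinearMap.smul_apply, LinearMap.sum_apply]

theorem card_ne : (Nat.card Q : ℂ) ≠ 0 := by exact_mod_cast Nat.card_pos.ne'

theorem avg_rho (u : G) (hu : u ∈ Q) (v : V) : avg ρ Q (ρ u v) = avg ρ Q v := by
  rw [avg_apply, avg_apply]
  congr 1
  refine Fintype.sum_equiv (Equiv.mulRight ⟨u, hu⟩) _ _ fun g => ?_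
  rw [← Module.End.mul_apply, ← map_mul]
  rfl

theorem rho_avg (u : G) (hu : u ∈ Q) (v : V) : ρ u (avg ρ Q v) = avg ρ Q v := by
  rw [avg_apply, map_smul, map_sum]
  congr 1
  refine Fintype.sum_equiv (Equiv.mulLeft ⟨u, hu⟩) _ _ fun g => ?_
  rw [← Module.End.mul_apply, ← map_mul]
  rfl

theorem avg_of_fixed {v : V} (hv : ∀ u ∈ Q, ρ u v = v) : avg ρ Q v = v := by
  have h0 : ∀ u ∈ (Finset.univ : Finset Q), ρ (u : G) v = v := fun u _ => hv _ u.2
  rw [avg_apply, Finset.sum_congr rfl h0, Finset.sum_const, Finset.card_univ,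
    ← Nat.card_eq_fintype_card, ← Nat.cast_smul_eq_nsmul ℂ, smul_smul, inv_mul_cancel₀ card_ne,
    one_smul]

theorem avg_avg (v : V) : avg ρ Q (avg ρ Q v) = avg ρ Q v :=
  avg_of_fixed ρ fun u hu => rho_avg ρ u hu v

/-- `ρ b` commutes with the average over `Q` for `b` normalising `Q`. -/
theorem avg_comm (b : G) (hb : ∀ u ∈ Q, b * u * b⁻¹ ∈ Q) (hb' : ∀ u ∈ Q, b⁻¹ * u * b ∈ Q)
    (v : V) : avg ρ Q (ρ b v) = ρ b (avg ρ Q v) := by
  rw [avg_apply, avg_apply, map_smul, map_sum]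
  congr 1
  refine Fintype.sum_equiv
    ⟨fun u => ⟨b⁻¹ * u * b, hb' u u.2⟩, fun u => ⟨b * u * b⁻¹, hb u u.2⟩, fun u => by
      apply Subtype.ext; simp only []; group, fun u => by
      apply Subtype.ext; simp only []; group⟩ _ _ fun g => ?_
  simp only [Equiv.coe_fn_mk]
  rw [← Module.End.mul_apply, ← map_mul, ← Module.End.mul_apply, ← map_mul]
  congr 2
  group

end avg

/-- The set-up: `φ : Y → V` is an embedding of `σ|_D` onto `V^Q`. -/
structure FixRep (h : RankOne B Q D W w) [Fintype Q] (ρ : Representation ℂ G V)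
    (σ : Representation ℂ W Y) (φ : Y →ₗ[ℂ] V) : Prop where
  inj : Function.Injective φ
  fixQ : ∀ u ∈ Q, ∀ y, ρ u (φ y) = φ y
  equiD : ∀ d (hd : d ∈ D), ∀ y, ρ d (φ y) = φ (σ ⟨d, h.DW hd⟩ y)
  range : ∀ v, ∃ y, avg ρ Q v = φ y
  schur : ∀ f : Module.End ℂ Y, (∀ d (hd : d ∈ D), ∀ y, f (σ ⟨d, h.DW hd⟩ y) =
    σ ⟨d, h.DW hd⟩ (f y)) → ∃ c : ℂ, f = c • (1 : Module.End ℂ Y)

namespace FixRep

variable {h : RankOne B Q D W w} [Fintype Q] {ρ : Representation ℂ G V}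
    {σ : Representation ℂ W Y} {φ : Y →ₗ[ℂ] V}

theorem avg_phi (H : FixRep h ρ σ φ) (y : Y) : avg ρ Q (φ y) = φ y :=
  avg_of_fixed ρ fun u hu => H.fixQ u hu y

theorem avg_comm_B (h : RankOne B Q D W w) (ρ : Representation ℂ G V) {b : G} (hb : b ∈ B)
    (v : V) : avg ρ Q (ρ b v) = ρ b (avg ρ Q v) :=
  avg_comm ρ b (h.Qn b hb) (fun _ hu => h.Qn' hb hu) v

/-- **The scalar `x`.** -/
theorem exists_scalar (H : FixRep h ρ σ φ) :
    ∃ x : ℂ, ∀ w' (hw' : w' ∈ W), w' ∉ D → ∀ y,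
      avg ρ Q (ρ w' (φ y)) = x • φ (σ ⟨w', hw'⟩ y) := by
  obtain ⟨κ, hκ⟩ := φ.exists_leftInverse_of_injective (LinearMap.ker_eq_bot.2 H.inj)
  have hκ' : ∀ y, κ (φ y) = y := fun y => by
    rw [← LinearMap.comp_apply, hκ, LinearMap.id_apply]
  have hA : ∀ y, avg ρ Q (ρ w (φ y)) = φ (κ (avg ρ Q (ρ w (φ y)))) := by
    intro y
    obtain ⟨z, hz⟩ := H.range (ρ w (φ y))
    rw [hz, hκ']
  obtain ⟨A, hA'⟩ : ∃ A : Module.End ℂ Y, ∀ y, φ (A y) = avg ρ Q (ρ w (φ y)) :=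
    ⟨κ ∘ₗ (avg ρ Q) ∘ₗ (ρ w) ∘ₗ φ, fun y => (hA y).symm⟩
  have hsemi : ∀ d (hd : d ∈ D), ∀ y, A (σ ⟨d, h.DW hd⟩ y) =
      σ ⟨w * d * w⁻¹, h.DW (h.w_conj hd)⟩ (A y) := by
    intro d hd y
    apply H.inj
    rw [hA', ← H.equiD d hd, ← H.equiD _ (h.w_conj hd), hA', ← avg_comm_B h ρ (h.DB (h.w_conj hd))]
    congr 1
    rw [← Module.End.mul_apply, ← map_mul, ← Module.End.mul_apply, ← map_mul]
    congr 2
    group
  obtain ⟨x, hx⟩ := H.schur (σ ⟨w, h.wW⟩⁻¹ ∘ₗ A) (by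
    intro d hd y
    rw [LinearMap.comp_apply, LinearMap.comp_apply, hsemi d hd, rr, rr]
    congr 2
    apply Subtype.ext
    simp only [Subgroup.coe_mul, Subgroup.coe_inv]
    group)
  have hAx : ∀ y, A y = x • σ ⟨w, h.wW⟩ y := by
    intro y
    have h1 := LinearMap.congr_fun hx y
    rw [LinearMap.comp_apply, LinearMap.smul_apply, Module.End.one_apply] at h1
    have h2 := congrArg (σ ⟨w, h.wW⟩) h1
    rw [← Module.End.mul_apply, ← map_mul, mul_inv_cancel, map_one, Module.End.one_apply,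
      map_smul] at h2
    exact h2
  refine ⟨x, fun w' hw' hD y => ?_⟩
  obtain ⟨d, hd, rfl⟩ := h.Wmul w' hw' hD
  rw [← rr, H.equiD d hd, ← hA', hAx, map_smul, rr]
  rfl

end FixRep

/-- An eigenvalue of a sum of group elements is an algebraic integer. -/
theorem isIntegral_eigen {H : Type*} [Group H] [Finite H] [FiniteDimensional ℂ V]
    (τ : Representation ℂ H V) {ι : Type*} [Fintype ι] (g : ι → H) (c : ℂ) (v : V) (hv : v ≠ 0)
    (hc : ∑ i, τ (g i) v = c • v) : IsIntegral ℤ c := by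
  classical
  have := Fintype.ofFinite H
  let Φ : MonoidAlgebra ℤ H →ₐ[ℤ] Module.End ℂ V := MonoidAlgebra.lift ℤ (Module.End ℂ V) H τ
  let z : MonoidAlgebra ℤ H := ∑ i, MonoidAlgebra.single (g i) 1
  have hz : Φ z = ∑ i, τ (g i) := by
    simp only [z, Φ, map_sum, MonoidAlgebra.lift_single, one_smul]
  have hint : IsIntegral ℤ (Φ z) := by
    have : IsIntegral ℤ z := Algebra.IsIntegral.isIntegral z
    exact this.map Φ
  obtain ⟨p, hp, hp0⟩ := hint
  refine ⟨p, hp, ?_⟩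
  have hev : (Φ z) v = c • v := by rw [hz, LinearMap.sum_apply, hc]
  have hpow : ∀ n : ℕ, ((Φ z) ^ n) v = c ^ n • v := by
    intro n
    induction n with
    | zero => simp
    | succ n ih => rw [pow_succ, Module.End.mul_apply, hev, map_smul, ih, smul_smul, pow_succ,
        mul_comm]
  have h1 : (Polynomial.eval₂ (algebraMap ℤ (Module.End ℂ V)) (Φ z) p) v =
      (Polynomial.eval₂ (algebraMap ℤ ℂ) c p) • v := by
    rw [Polynomial.eval₂_eq_sum_range, Polynomial.eval₂_eq_sum_range, LinearMap.sum_apply,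
      Finset.sum_smul]
    refine Finset.sum_congr rfl fun n _ => ?_
    rw [Module.End.mul_apply, hpow, map_smul, eq_intCast, eq_intCast, mul_smul, smul_comm]
    congr 1
    rw [← Int.smul_one_eq_cast, LinearMap.smul_apply, Module.End.one_apply, Int.cast_smul_eq_zsmul]
  rw [hp0, LinearMap.zero_apply] at h1
  rcases smul_eq_zero.1 h1.symm with h2 | h2
  · exact h2
  · exact absurd h2 hv

/-- `F χ Q g = |Q|⁻¹ ∑_{u ∈ Q} χ(g u)`. -/
noncomputable def Fq (χ : G → ℂ) (Q : Subgroup G) [Fintype Q] (g : G) : ℂ :=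
  (Nat.card Q : ℂ)⁻¹ * ∑ u : Q, χ (g * u)

namespace FixRep

variable {h : RankOne B Q D W w} [Fintype Q] {ρ : Representation ℂ G V}
    {σ : Representation ℂ W Y} {φ : Y →ₗ[ℂ] V}

theorem Fq_eq_trace (g : G) : Fq ρ.character Q g = LinearMap.trace ℂ V (ρ g * avg ρ Q) := by
  rw [Fq, avg, mul_smul_comm, map_smul, smul_eq_mul]
  congr 1
  rw [Finset.mul_sum, map_sum]
  refine Finset.sum_congr rfl fun u _ => ?_
  rw [← map_mul]
  rfl

/-- `P ρ(w) P ρ(w⁻¹) φ(y) = x² φ(y)`. -/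
theorem avg_w_avg {x : ℂ} (hx : ∀ w' (hw' : w' ∈ W), w' ∉ D → ∀ y,
      avg ρ Q (ρ w' (φ y)) = x • φ (σ ⟨w', hw'⟩ y)) (h : RankOne B Q D W w) (y : Y) :
    avg ρ Q (ρ w (avg ρ Q (ρ w⁻¹ (φ y)))) = (x ^ 2) • φ y := by
  have hw1 : w⁻¹ ∉ D := fun hc => h.wD (by simpa using D.inv_mem hc)
  rw [hx w⁻¹ (W.inv_mem h.wW) hw1, map_smul, map_smul, hx w h.wW h.wD, rr, smul_smul, ← sq]
  congr 2
  have : (⟨w, h.wW⟩ * ⟨w⁻¹, W.inv_mem h.wW⟩ : W) = 1 := by
    apply Subtype.ext; simp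
  rw [this, map_one, Module.End.one_apply]

theorem exists_ne [FiniteDimensional ℂ Y] (H : FixRep h ρ σ φ) (hY : σ.character 1 ≠ 0) :
    ∃ y : Y, φ y ≠ 0 := by
  rw [char_one] at hY
  have : Nontrivial Y := by
    apply Module.nontrivial_of_finrank_pos (R := ℂ)
    exact Nat.pos_of_ne_zero (by exact_mod_cast hY)
  obtain ⟨y, hy⟩ := _root_.exists_ne (0 : Y)
  exact ⟨y, fun hc => hy (H.inj (by rw [hc, map_zero]))⟩

/-- `x ≠ 0`, `N x` and `1/x` are algebraic integers. -/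
theorem integral [Finite G] [FiniteDimensional ℂ V] [FiniteDimensional ℂ Y]
    (H : FixRep h ρ σ φ) {x : ℂ}
    (hx : ∀ w' (hw' : w' ∈ W), w' ∉ D → ∀ y,
      avg ρ Q (ρ w' (φ y)) = x • φ (σ ⟨w', hw'⟩ y)) (hY : σ.character 1 ≠ 0) :
    x ≠ 0 ∧ IsIntegral ℤ ((Nat.card Q : ℂ) * x) ∧ IsIntegral ℤ x⁻¹ := by
  classical
  obtain ⟨y, hy⟩ := H.exists_ne hY
  have hN : (Nat.card Q : ℂ) ≠ 0 := card_ne
  -- the middle elements
  have hm : ∀ u : {u : Q // u ≠ 1}, ∃ m : W, (m : G) ∉ D ∧ ∃ u₁ ∈ Q, ∃ u₂ ∈ Q,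
      w * (u.1 : G) * w⁻¹ = u₁ * m * u₂ := by
    intro u
    obtain ⟨u₁, hu₁, w', hw', hwD, u₂, hu₂, he⟩ := h.exists_mid
      (h.not_mem_of_Q' u.1.2 (fun hc => u.2 (Subtype.ext hc)))
    exact ⟨⟨w', hw'⟩, hwD, u₁, hu₁, u₂, hu₂, he⟩
  choose m hmD u₁ hu₁ u₂ hu₂ hmu using hm
  have key : ∀ y : Y, ((Nat.card Q : ℂ) * x ^ 2) • φ y = φ y + x • φ (∑ u, σ (m u) y) := by
    intro y
    have h1 := avg_w_avg hx h y
    have h2 : avg ρ Q (ρ w (avg ρ Q (ρ w⁻¹ (φ y)))) =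
        (Nat.card Q : ℂ)⁻¹ • ∑ u : Q, avg ρ Q (ρ (w * u * w⁻¹) (φ y)) := by
      rw [avg_apply ρ (ρ w⁻¹ (φ y)), map_smul, map_smul, map_sum, map_sum]
      congr 1
      refine Finset.sum_congr rfl fun u _ => ?_
      rw [rr, rr, mul_assoc]
    rw [h2] at h1
    have h3 : ∑ u : Q, avg ρ Q (ρ (w * u * w⁻¹) (φ y)) = φ y + x • φ (∑ u, σ (m u) y) := by
      rw [← Finset.add_sum_erase _ _ (Finset.mem_univ (1 : Q))]
      congr 1
      · rw [OneMemClass.coe_one, mul_one, mul_inv_cancel, map_one, Module.End.one_apply,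
          H.avg_phi]
      · rw [map_sum, Finset.smul_sum]
        symm
        refine Finset.sum_bij (fun u _ => u.1) (fun u _ => by simp [u.2])
          (fun a _ b _ hab => Subtype.ext hab) (fun b hb => ⟨⟨b, by simpa using hb⟩, by simp⟩)
          (fun u _ => ?_)
        rw [hmu u, ← rr ρ _ (u₂ u), H.fixQ _ (hu₂ u), ← rr ρ (u₁ u), avg_rho ρ _ (hu₁ u),
          hx (m u) (m u).2 (hmD u)]
    rw [h3] at h1
    rw [mul_smul, ← h1, smul_inv_smul₀ hN]
  have hx0 : x ≠ 0 := by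
    rintro rfl
    have h1 := key y
    simp only [ne_eq, OfNat.ofNat_ne_zero, not_false_eq_true, zero_pow, mul_zero, zero_smul,
      add_zero] at h1
    exact hy h1.symm
  have hy0 : y ≠ 0 := fun hc => hy (by rw [hc, map_zero])
  set c : ℂ := (Nat.card Q : ℂ) * x - x⁻¹ with hc
  have hcy : ∑ u, σ (m u) y = c • y := by
    apply H.inj
    have h1 := key y
    have h2 : x • φ (∑ u, σ (m u) y) = x • φ (c • y) := by
      rw [map_smul, smul_smul, hc, mul_sub, mul_inv_cancel₀ hx0, sub_smul, one_smul,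
        show x * ((Nat.card Q : ℂ) * x) = (Nat.card Q : ℂ) * x ^ 2 by ring, h1, add_sub_cancel_left]
    exact (smul_right_injective V hx0) h2
  have hcint : IsIntegral ℤ c := isIntegral_eigen σ m c y hy0 hcy
  have hN2 : IsIntegral ℤ (((Nat.card Q : ℂ) * x) ^ 2) := by
    refine isIntegral_eigen ρ (fun p : Q × Q => (p.1 : G) * w * p.2 * w⁻¹) _ (φ y) hy ?_
    have h1 : ∀ v : V, ∑ u : Q, ρ u v = (Nat.card Q : ℂ) • avg ρ Q v := fun v => by
      rw [avg_apply, smul_inv_smul₀ hN]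
    rw [Fintype.sum_prod_type]
    have h2 : ∀ u : Q, ∑ v : Q, ρ ((u : G) * w * v * w⁻¹) (φ y) =
        ρ u ((Nat.card Q : ℂ) • ρ w (avg ρ Q (ρ w⁻¹ (φ y)))) := by
      intro u
      rw [← map_smul, ← h1, map_sum, map_sum]
      refine Finset.sum_congr rfl fun v _ => ?_
      rw [rr, rr, rr]
    rw [Finset.sum_congr rfl fun u _ => h2 u, h1, map_smul, avg_w_avg hx h, smul_smul, smul_smul]
    congr 1
    ring
  have hNx : IsIntegral ℤ ((Nat.card Q : ℂ) * x) := IsIntegral.of_pow (by norm_num) hN2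
  refine ⟨hx0, hNx, ?_⟩
  have : x⁻¹ = (Nat.card Q : ℂ) * x - c := by rw [hc]; ring
  rw [this]
  exact hNx.sub hcint

variable [FiniteDimensional ℂ V] [FiniteDimensional ℂ Y]

/-- traces on `V^Q`. -/
theorem Fq_eq (H : FixRep h ρ σ φ) (g : G) (A : Module.End ℂ Y)
    (hA : ∀ y, avg ρ Q (ρ g (φ y)) = φ (A y)) :
    Fq ρ.character Q g = LinearMap.trace ℂ Y A := by
  obtain ⟨κ, hκ⟩ := φ.exists_leftInverse_of_injective (LinearMap.ker_eq_bot.2 H.inj)
  have hκ' : ∀ y, κ (φ y) = y := fun y => by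
    rw [← LinearMap.comp_apply, hκ, LinearMap.id_apply]
  have h1 : ρ g * avg ρ Q = (ρ g ∘ₗ φ) ∘ₗ (κ ∘ₗ avg ρ Q) := by
    ext v
    obtain ⟨y, hy⟩ := H.range v
    simp only [Module.End.mul_apply, LinearMap.comp_apply, hy, hκ']
  have h2 : (κ ∘ₗ avg ρ Q) ∘ₗ (ρ g ∘ₗ φ) = A := by
    ext y
    simp only [LinearMap.comp_apply, hA, hκ']
  rw [Fq_eq_trace, h1, LinearMap.trace_comp_comm', h2]

theorem Fq_D (H : FixRep h ρ σ φ) (d : G) (hd : d ∈ D) :
    Fq ρ.character Q d = σ.character ⟨d, h.DW hd⟩ :=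
  H.Fq_eq d _ fun y => by rw [H.equiD d hd, H.avg_phi]

theorem Fq_one (H : FixRep h ρ σ φ) : Fq ρ.character Q 1 = σ.character 1 := by
  rw [H.Fq_D 1 D.one_mem]
  rfl

theorem Fq_W (H : FixRep h ρ σ φ) {x : ℂ} (hx : ∀ w' (hw' : w' ∈ W), w' ∉ D → ∀ y,
      avg ρ Q (ρ w' (φ y)) = x • φ (σ ⟨w', hw'⟩ y)) (w' : G) (hw' : w' ∈ W) (hD : w' ∉ D) :
    Fq ρ.character Q w' = x * σ.character ⟨w', hw'⟩ := by
  rw [H.Fq_eq w' (x • σ ⟨w', hw'⟩) fun y => by
    rw [hx w' hw' hD, LinearMap.smul_apply, map_smul], map_smul, smul_eq_mul]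
  rfl

/-- **Degree formula** `n (1 + N x²) = (N + 1) ℓ`. -/
theorem degree [Finite G] (H : FixRep h ρ σ φ) (hρ : ρ.IsIrreducible) {x : ℂ}
    (hx : ∀ w' (hw' : w' ∈ W), w' ∉ D → ∀ y,
      avg ρ Q (ρ w' (φ y)) = x • φ (σ ⟨w', hw'⟩ y)) (hY : σ.character 1 ≠ 0) :
    ρ.character 1 * (1 + Nat.card Q * x ^ 2) = (Nat.card Q + 1) * σ.character 1 := by
  classical
  have := Fintype.ofFinite G
  have := Fintype.ofFinite B
  set f : Module.End ℂ V := ∑ g : G, ρ g * avg ρ Q * ρ g⁻¹ with hf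
  have hcomm : ∀ y, f * ρ y = ρ y * f := by
    intro y
    rw [hf, Finset.sum_mul, Finset.mul_sum]
    refine Fintype.sum_equiv (Equiv.mulLeft y⁻¹) _ _ fun a => ?_
    simp only [Equiv.coe_mulLeft]
    rw [← mul_assoc, ← mul_assoc, ← map_mul, mul_assoc, ← map_mul]
    congr 2
    · congr 1; group
    · group
  have h1 := Characters.Central.eq_trace_smul_of_comm ρ hρ f hcomm
  have htr : LinearMap.trace ℂ V f = Nat.card G * σ.character 1 := by
    rw [hf, map_sum, Finset.sum_congr rfl fun g _ => ?_, Finset.sum_const, Finset.card_univ,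
      nsmul_eq_mul, ← Nat.card_eq_fintype_card]
    rw [LinearMap.trace_mul_comm, ← mul_assoc, ← map_mul, inv_mul_cancel, ← Fq_eq_trace, H.Fq_one]
  have hn : ρ.character 1 ≠ 0 := Characters.Central.char_one_ne_zero ρ hρ
  obtain ⟨y, hy⟩ := H.exists_ne hY
  have h2 : avg ρ Q (f (φ y)) = ((Nat.card B : ℂ) + Nat.card Q * Nat.card B * x ^ 2) • φ y := by
    rw [hf, LinearMap.sum_apply, map_sum, h.sum_eq, add_smul]
    congr 1
    · have h3 : ∀ b ∈ (Finset.univ : Finset B),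
          avg ρ Q ((ρ (b : G) * avg ρ Q * ρ (b : G)⁻¹) (φ y)) = φ y := by
        intro b _
        rw [Module.End.mul_apply, Module.End.mul_apply, avg_comm_B h ρ b.2, avg_avg,
          avg_comm_B h ρ (B.inv_mem b.2), rr, mul_inv_cancel, map_one, Module.End.one_apply,
          H.avg_phi]
      rw [Finset.sum_congr rfl h3, Finset.sum_const, Finset.card_univ,
        ← Nat.card_eq_fintype_card, ← Nat.cast_smul_eq_nsmul ℂ]
    · have h3 : ∀ u ∈ (Finset.univ : Finset Q), ∀ b ∈ (Finset.univ : Finset B),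
          avg ρ Q ((ρ ((u : G) * w * b) * avg ρ Q * ρ ((u : G) * w * b)⁻¹) (φ y)) =
            (x ^ 2) • φ y := by
        intro u _ b _
        rw [Module.End.mul_apply, Module.End.mul_apply, mul_inv_rev, mul_inv_rev, ← mul_assoc,
          ← rr ρ _ (u : G)⁻¹, H.fixQ _ (Q.inv_mem u.2), ← rr ρ (b : G)⁻¹,
          avg_comm_B h ρ (B.inv_mem b.2), rr, mul_inv_cancel_right, ← rr ρ (u : G) w,
          avg_rho ρ _ u.2, avg_w_avg hx h]
      rw [Finset.sum_congr rfl fun u hu => Finset.sum_congr rfl fun b hb => h3 u hu b hb,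
        Finset.sum_const, Finset.sum_const, Finset.card_univ, Finset.card_univ,
        ← Nat.card_eq_fintype_card, ← Nat.card_eq_fintype_card, ← Nat.cast_smul_eq_nsmul ℂ,
        ← Nat.cast_smul_eq_nsmul ℂ, smul_smul, smul_smul]
  rw [h1, LinearMap.smul_apply, Module.End.one_apply, map_smul, H.avg_phi, htr] at h2
  have h4 : (Nat.card G : ℂ) * σ.character 1 / ρ.character 1 =
    (Nat.card B : ℂ) + Nat.card Q * Nat.card B * x ^ 2 := smul_left_injective ℂ hy h2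
  have hc := h.card_eq
  have hc' : (Nat.card G : ℂ) = (Nat.card Q + 1) * Nat.card B := by
    rw [hc]; push_cast; ring
  have hB : (Nat.card B : ℂ) ≠ 0 := by exact_mod_cast Nat.card_pos.ne'
  rw [hc', div_eq_iff hn] at h4
  apply mul_left_cancel₀ hB
  linear_combination -h4

end FixRep

section Fq

variable {χ : G → ℂ} [Fintype Q]

theorem Fq_mul_right (u : G) (hu : u ∈ Q) (g : G) : Fq χ Q (g * u) = Fq χ Q g := by
  rw [Fq, Fq]
  congr 1
  refine Fintype.sum_equiv (Equiv.mulLeft ⟨u, hu⟩) _ _ fun v => ?_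
  simp [mul_assoc]

theorem Fq_conj (hχ : IsClassFunction G χ) (b : G) (hb : ∀ u ∈ Q, b * u * b⁻¹ ∈ Q)
    (hb' : ∀ u ∈ Q, b⁻¹ * u * b ∈ Q) (g : G) : Fq χ Q (b * g * b⁻¹) = Fq χ Q g := by
  rw [Fq, Fq]
  congr 1
  refine Fintype.sum_equiv
    ⟨fun u => ⟨b⁻¹ * u * b, hb' u u.2⟩, fun u => ⟨b * u * b⁻¹, hb u u.2⟩, fun u => by
      apply Subtype.ext; simp only []; group, fun u => by
      apply Subtype.ext; simp only []; group⟩ _ _ fun v => ?_
  simp only [Equiv.coe_fn_mk]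
  have := hχ (g * (b⁻¹ * v * b)) b
  rw [← this]
  congr 1
  group

theorem Fq_conj_B (h : RankOne B Q D W w) (hχ : IsClassFunction G χ) {b : G} (hb : b ∈ B)
    (g : G) : Fq χ Q (b * g * b⁻¹) = Fq χ Q g :=
  Fq_conj hχ b (h.Qn b hb) (fun _ hu => h.Qn' hb hu) g

theorem Fq_mul_left (h : RankOne B Q D W w) (hχ : IsClassFunction G χ) {u : G} (hu : u ∈ Q)
    (g : G) : Fq χ Q (u * g) = Fq χ Q g := by
  have h1 := Fq_conj_B h hχ (h.QB hu) g
  rw [← h1, Fq_mul_right _ (Q.inv_mem hu)]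

theorem sum_Fq_conj [Finite G] [Fintype G] (χ : G → ℂ) (hχ : IsIrrCharacter G χ) (x : G) :
    ∑ a : G, Fq χ Q (a * x * a⁻¹) = (Nat.card G : ℂ) * χ x * Fq χ Q 1 / χ 1 := by
  simp only [Fq]
  rw [← Finset.mul_sum, Finset.sum_comm]
  have h1 : ∀ u ∈ (Finset.univ : Finset Q), ∑ a : G, χ (a * x * a⁻¹ * u) =
      (Nat.card G : ℂ) * χ x * χ u / χ 1 := fun u _ =>
    Characters.Central.sum_char_conj_mul hχ x u
  rw [Finset.sum_congr rfl h1, ← Finset.sum_div, ← Finset.mul_sum]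
  simp only [one_mul]
  ring

/-- The basic averaging identity over `G = B ∪ Q w B`. -/
theorem average (h : RankOne B Q D W w) [Finite G] [Fintype B] {χ : G → ℂ}
    (hχ : IsIrrCharacter G χ) (x : G) :
    (Nat.card B : ℂ) * Fq χ Q x + Nat.card Q * ∑ b : B, Fq χ Q (w * (b * x * (b : G)⁻¹) * w⁻¹) =
      (Nat.card G : ℂ) * χ x * Fq χ Q 1 / χ 1 := by
  classical
  have := Fintype.ofFinite G
  have hcl : IsClassFunction G χ := Characters.Core.isIrr_isClassFunction hχ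
  rw [← sum_Fq_conj χ hχ x, h.sum_eq]
  congr 1
  · rw [Finset.sum_congr rfl fun b _ => Fq_conj_B h hcl b.2 x, Finset.sum_const, Finset.card_univ,
      nsmul_eq_mul, Nat.card_eq_fintype_card]
  · have h1 : ∀ u ∈ (Finset.univ : Finset Q),
        ∑ b : B, Fq χ Q ((u : G) * w * b * x * ((u : G) * w * b)⁻¹) =
          ∑ b : B, Fq χ Q (w * (b * x * (b : G)⁻¹) * w⁻¹) := by
      intro u _
      refine Finset.sum_congr rfl fun b _ => ?_
      rw [← Fq_conj_B h hcl (h.QB u.2) (w * (b * x * (b : G)⁻¹) * w⁻¹)]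
      congr 1
      group
    rw [Finset.sum_congr rfl h1, Finset.sum_const, Finset.card_univ, nsmul_eq_mul,
      Nat.card_eq_fintype_card]

/-- **Trace formula** at a central element of `Q`. -/
theorem trace_formula (h : RankOne B Q D W w) [Finite G] {χ : G → ℂ}
    (hχ : IsIrrCharacter G χ) {u : G} (hu : u ∈ Q) (hc : ∀ v ∈ Q, v * u = u * v) :
    χ 1 * (Fq χ Q 1 + Nat.card Q * Fq χ Q (w * u * w⁻¹)) =
      ((Nat.card Q : ℂ) + 1) * χ u * Fq χ Q 1 := by
  classical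
  have := Fintype.ofFinite B
  have hcl : IsClassFunction G χ := Characters.Core.isIrr_isClassFunction hχ
  have h1 := average h hχ u
  have h2 : ∀ b ∈ (Finset.univ : Finset B), Fq χ Q (w * (b * u * (b : G)⁻¹) * w⁻¹) =
      Fq χ Q (w * u * w⁻¹) := by
    intro b _
    obtain ⟨d, hd, v, hv, hb⟩ := h.Bmul' b.2
    have h3 : (b : G) * u * (b : G)⁻¹ = d * u * d⁻¹ := by
      rw [hb]
      calc d * v * u * (d * v)⁻¹ = d * (v * u) * v⁻¹ * d⁻¹ := by group
        _ = d * u * d⁻¹ := by rw [hc v hv]; group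
    rw [h3, ← Fq_conj_B h hcl (h.DB (h.w_conj hd)) (w * u * w⁻¹)]
    congr 1
    group
  have h4 : Fq χ Q u = Fq χ Q 1 := by
    have := Fq_mul_right (χ := χ) u hu 1
    rwa [one_mul] at this
  have h1' := h1
  rw [Finset.sum_congr rfl h2, Finset.sum_const, Finset.card_univ, nsmul_eq_mul, h4,
    ← Nat.card_eq_fintype_card, h.card_eq] at h1'
  have hB : (Nat.card B : ℂ) ≠ 0 := by exact_mod_cast Nat.card_pos.ne'
  have hn : χ 1 ≠ 0 := Characters.Core.isIrr_apply_one_ne_zero hχ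
  rw [eq_div_iff hn] at h1'
  apply mul_left_cancel₀ hB
  push_cast at h1'
  linear_combination h1'

end Fq

end Cfsg.Agent.HKS
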