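import Mathlib
import Cfsg.Agent.HKS.RankOneRep
import Cfsg.Agent.OddOrderCharacters.Clifford
import Cfsg.Agent.OddOrderCharacters.NormTwo
import Cfsg.Agent.OddOrderCharacters.IndRes

/-!
# The two constituents of `λ^G`, `λ ∈ Irr(D)` extendible to `W`
-/

set_option autoImplicit false

open Cfsg Representation
open scoped ComplexConjugate

namespace Cfsg.Agent.HKS

open Characters.Core OddOrderCharacters

/-- A character of norm two is a sum of two distinct irreducible characters. -/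
theorem exists_add_of_norm_two {G : Type*} [Group G] [Fintype G] {Θ : G → ℂ}
    (hΘ : IsCharacter G Θ) (h2 : classInner Θ Θ = 2) :
    ∃ μ ν : G → ℂ, IsIrrCharacter G μ ∧ IsIrrCharacter G ν ∧ μ ≠ ν ∧ Θ = μ + ν := by
  classical
  have : Finite (IrrCharacter G) := finite_irr
  have : Fintype (IrrCharacter G) := Fintype.ofFinite _
  obtain ⟨m, rfl⟩ := exists_nat_comb hΘ
  have hz : (∑ ψ : IrrCharacter G, m ψ • (ψ : G → ℂ)) =
      ∑ ψ : IrrCharacter G, (m ψ : ℤ) • (ψ : G → ℂ) := by simp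
  rw [hz, NormTwo.classInner_intSum] at h2
  have h2' : ∑ ψ, (m ψ : ℤ) ^ 2 = 2 := by
    have : (∑ ψ, (m ψ : ℤ) * m ψ : ℤ) = 2 := by exact_mod_cast h2
    simpa [sq] using this
  obtain ⟨i, j, hij, hi, hj, hk⟩ := NormTwo.exists_of_sum_sq_eq_two _ h2'
  have hi' : m i = 1 := by
    have h3 := (pow_eq_one_iff_of_nonneg (by positivity) two_ne_zero).1 hi
    exact_mod_cast h3
  have hj' : m j = 1 := by
    have h3 := (pow_eq_one_iff_of_nonneg (by positivity) two_ne_zero).1 hj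
    exact_mod_cast h3
  refine ⟨i, j, i.2, j.2, fun h => hij (Subtype.ext h), ?_⟩
  have hsum : ∑ ψ : IrrCharacter G, m ψ • (ψ : G → ℂ) = m i • (i : G → ℂ) + m j • (j : G → ℂ) := by
    rw [← Finset.sum_pair (f := fun ψ : IrrCharacter G => m ψ • (ψ : G → ℂ)) hij]
    symm
    apply Finset.sum_subset (Finset.subset_univ _)
    intro k _ hk'
    simp only [Finset.mem_insert, Finset.mem_singleton, not_or] at hk'
    have h3 := hk k hk'.1 hk'.2
    have h4 : m k = 0 := by exact_mod_cast h3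
    rw [h4, zero_smul]
  rw [hsum, hi', hj', one_smul, one_smul]

namespace RankOne

variable {G : Type*} [Group G] {B Q D W : Subgroup G} {w : G}

theorem exists_proj (h : RankOne B Q D W w) : ∃ π : B →* D, ∀ u (hu : u ∈ Q) d (hd : d ∈ D),
    π ⟨u * d, B.mul_mem (h.QB hu) (h.DB hd)⟩ = ⟨d, hd⟩ := by
  have key : ∀ b : B, ∃ d : D, ∃ u ∈ Q, (b : G) = u * d := by
    intro b
    obtain ⟨u, hu, d, hd, hb⟩ := h.Bmul b b.2
    exact ⟨⟨d, hd⟩, u, hu, hb⟩
  choose π u hu hπ using key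
  have huniq : ∀ (b : B) (v : G) (_ : v ∈ Q) (d : D), (b : G) = v * d → π b = d := by
    intro b v hv d he
    have h1 : (u b) * (π b : G) = v * d := by rw [← hπ, he]
    have h2 : v⁻¹ * u b = d * (π b : G)⁻¹ := by
      have h3 : u b = v * d * (π b : G)⁻¹ := by rw [← h1]; group
      rw [h3]; group
    have h3 : v⁻¹ * u b = 1 := h.QD _ (Q.mul_mem (Q.inv_mem hv) (hu b)) (by
      rw [h2]; exact D.mul_mem d.2 (D.inv_mem (π b).2))
    have h4 : u b = v := (inv_mul_eq_one.1 h3).symm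
    rw [h4] at h1
    exact Subtype.ext (mul_left_cancel h1)
  refine ⟨MonoidHom.mk' π fun a b => ?_, fun u hu d hd => huniq _ u hu _ rfl⟩
  refine huniq _ (u a * (π a * u b * (π a : G)⁻¹)) (Q.mul_mem (hu a)
    (h.Qn _ (h.DB (π a).2) _ (hu b))) _ ?_
  rw [Subgroup.coe_mul, Subgroup.coe_mul, hπ a, hπ b]
  group

/-- The projection `B → D` with kernel `Q`. -/
noncomputable def proj (h : RankOne B Q D W w) : B →* D := h.exists_proj.choose

theorem proj_mul (h : RankOne B Q D W w) {u d : G} (hu : u ∈ Q) (hd : d ∈ D)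
    (hb : u * d ∈ B) : h.proj ⟨u * d, hb⟩ = ⟨d, hd⟩ :=
  h.exists_proj.choose_spec u hu d hd

theorem proj_D (h : RankOne B Q D W w) {d : G} (hd : d ∈ D) (hb : d ∈ B) :
    h.proj ⟨d, hb⟩ = ⟨d, hd⟩ := by
  have := h.proj_mul Q.one_mem hd (by rwa [one_mul])
  convert this using 3
  rw [one_mul]

theorem proj_Q (h : RankOne B Q D W w) {u : G} (hu : u ∈ Q) (hb : u ∈ B) :
    h.proj ⟨u, hb⟩ = 1 := by
  have := h.proj_mul hu D.one_mem (by rwa [mul_one])
  have h2 : (⟨u, hb⟩ : B) = ⟨u * 1, by rwa [mul_one]⟩ := Subtype.ext (mul_one u).symm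
  rw [h2, this]
  rfl

theorem proj_surjective (h : RankOne B Q D W w) : Function.Surjective h.proj :=
  fun d => ⟨⟨d, h.DB d.2⟩, h.proj_D d.2 _⟩

/-- The inflation to `B` of the restriction to `D` of a function on `W`. -/
noncomputable def lam (h : RankOne B Q D W w) (χ : W → ℂ) : B → ℂ :=
  fun b => χ (Subgroup.inclusion h.DW (h.proj b))

theorem lam_mul (h : RankOne B Q D W w) (χ : W → ℂ) {u d : G} (hu : u ∈ Q) (hd : d ∈ D)
    (hb : u * d ∈ B) : h.lam χ ⟨u * d, hb⟩ = χ ⟨d, h.DW hd⟩ := by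
  rw [lam, h.proj_mul hu hd]
  rfl

theorem lam_D (h : RankOne B Q D W w) (χ : W → ℂ) {d : G} (hd : d ∈ D) (hb : d ∈ B) :
    h.lam χ ⟨d, hb⟩ = χ ⟨d, h.DW hd⟩ := by
  rw [lam, h.proj_D hd]
  rfl

theorem lam_Q (h : RankOne B Q D W w) (χ : W → ℂ) {u : G} (hu : u ∈ Q) (hb : u ∈ B) :
    h.lam χ ⟨u, hb⟩ = χ 1 := by
  rw [lam, h.proj_Q hu, map_one]

theorem isIrr_lam (h : RankOne B Q D W w) {χ : W → ℂ}
    (hirr : IsIrrCharacter D (fun d => χ (Subgroup.inclusion h.DW d))) :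
    IsIrrCharacter B (h.lam χ) :=
  isIrr_comp h.proj h.proj_surjective hirr

theorem ext_lam_conj (h : RankOne B Q D W w) {χ : W → ℂ}
    (hirr : IsIrrCharacter D (fun d => χ (Subgroup.inclusion h.DW d))) {b : G} (hb : b ∈ B)
    (y : G) : extendByZero B (h.lam χ) (b⁻¹ * y * b) = extendByZero B (h.lam χ) y := by
  by_cases hy : y ∈ B
  · have hy' : b⁻¹ * y * b ∈ B := B.mul_mem (B.mul_mem (B.inv_mem hb) hy) hb
    rw [extendByZero_of_mem B _ hy, extendByZero_of_mem B _ hy']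
    have := isIrr_isClassFunction (h.isIrr_lam hirr) ⟨y, hy⟩ ⟨b, hb⟩⁻¹
    rw [← this]
    congr 1
    apply Subtype.ext
    simp
  · have hy' : b⁻¹ * y * b ∉ B := by
      intro hc
      apply hy
      have := B.mul_mem (B.mul_mem hb hc) (B.inv_mem hb)
      have h1 : b * (b⁻¹ * y * b) * b⁻¹ = y := by group
      rwa [h1] at this
    rw [extendByZero_of_notMem B _ hy, extendByZero_of_notMem B _ hy']

/-- `⟨λ^G, λ^G⟩ = 2`. -/
theorem norm_two (h : RankOne B Q D W w) [Fintype G] {χ : W → ℂ} (hχ : IsClassFunction W χ)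
    (hirr : IsIrrCharacter D (fun d => χ (Subgroup.inclusion h.DW d))) :
    classInner (indFun B (h.lam χ)) (indFun B (h.lam χ)) = 2 := by
  classical
  have := Fintype.ofFinite B
  have := Fintype.ofFinite Q
  have := Fintype.ofFinite D
  have hcl : IsClassFunction B (h.lam χ) := isIrr_isClassFunction (h.isIrr_lam hirr)
  have h1 : ∀ b : B, Clifford.twist B (h.lam χ) (h.lam χ) (b : G) = (Nat.card B : ℂ) := by
    intro b
    rw [Clifford.twist_of_mem B _ _ hcl _ b.2, classInner_irr_self (h.isIrr_lam hirr), mul_one]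
  have h2 : ∀ (u : Q) (b : B), Clifford.twist B (h.lam χ) (h.lam χ) ((u : G) * w * b) =
      (Nat.card D : ℂ) := by
    intro u b
    rw [Clifford.twist_def]
    have e1 : ∑ t : B, h.lam χ t * conj (extendByZero B (h.lam χ)
        (((u : G) * w * b)⁻¹ * t * ((u : G) * w * b))) =
        ∑ t : B, h.lam χ t * conj (extendByZero B (h.lam χ) (w⁻¹ * t * w)) := by
      symm
      refine Fintype.sum_equiv (MulAut.conj (⟨u, h.QB u.2⟩ : B)).toEquiv _ _ fun t => ?_
      simp only [MulEquiv.toEquiv_eq_coe, EquivLike.coe_coe, MulAut.conj_apply]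
      rw [hcl t ⟨u, h.QB u.2⟩]
      congr 2
      rw [← h.ext_lam_conj hirr b.2]
      congr 1
      simp only [Subgroup.coe_mul, Subgroup.coe_inv]
      group
    rw [e1, ← Fintype.sum_of_injective (fun d : D => (⟨d, h.DB d.2⟩ : B))
      (fun a b hab => Subtype.ext (congrArg (fun x : B => (x : G)) hab))
      (fun d : D => χ (Subgroup.inclusion h.DW d) * conj (χ (Subgroup.inclusion h.DW d)))]
    · have h3 := classInner_irr_self hirr
      rw [classInner_def, inv_mul_eq_iff_eq_mul₀ card_ne_zero_complex, mul_one] at h3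
      exact h3
    · intro t ht
      rw [extendByZero_of_notMem, map_zero, mul_zero]
      intro hc
      exact ht ⟨⟨t, h.conjD t t.2 hc⟩, rfl⟩
    · intro d
      have hd' := h.winv_conj d.2
      rw [h.lam_D χ d.2, extendByZero_of_mem B _ (h.DB hd'), h.lam_D χ hd']
      have := hχ ⟨d, h.DW d.2⟩ ⟨w, h.wW⟩⁻¹
      have e2 : (⟨w, h.wW⟩⁻¹ * ⟨d, h.DW d.2⟩ * (⟨w, h.wW⟩⁻¹)⁻¹ : W) =
          ⟨w⁻¹ * d * w, h.DW hd'⟩ := Subtype.ext (by simp)
      rw [e2] at this
      simp only [this]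
      rfl
  rw [Clifford.classInner_indFun_indFun, h.sum_eq, Finset.sum_congr rfl fun b _ => h1 b,
    Finset.sum_congr rfl fun u _ => Finset.sum_congr rfl fun b _ => h2 u b]
  simp only [Finset.sum_const, Finset.card_univ, nsmul_eq_mul]
  rw [← Nat.card_eq_fintype_card, ← Nat.card_eq_fintype_card]
  have hB : (Nat.card B : ℂ) ≠ 0 := card_ne_zero_complex
  have hc : (Nat.card B : ℂ) = Nat.card Q * Nat.card D := by
    rw [h.card_B]; push_cast; ring
  have h4 : (Nat.card Q : ℂ) * (Nat.card B * Nat.card D) = Nat.card B * Nat.card B := by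
    rw [hc]; ring
  rw [h4]
  field_simp
  norm_num

/-- `λ^G (g) = λ(g) + ∑_{u ∈ Q} λ(w⁻¹ (u⁻¹ g u) w)`. -/
theorem ind_apply (h : RankOne B Q D W w) [Fintype G] [Fintype Q] {χ : W → ℂ}
    (hirr : IsIrrCharacter D (fun d => χ (Subgroup.inclusion h.DW d))) (g : G) :
    indFun B (h.lam χ) g = extendByZero B (h.lam χ) g +
      ∑ u : Q, extendByZero B (h.lam χ) (w⁻¹ * ((u : G)⁻¹ * g * u) * w) := by
  classical
  have := Fintype.ofFinite B
  rw [indFun_apply, h.sum_eq]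
  have h1 : ∀ b ∈ (Finset.univ : Finset B), extendByZero B (h.lam χ) ((b : G)⁻¹ * g * b) =
      extendByZero B (h.lam χ) g := fun b _ => h.ext_lam_conj hirr b.2 g
  have h2 : ∀ u ∈ (Finset.univ : Finset Q), ∑ b : B, extendByZero B (h.lam χ)
      (((u : G) * w * b)⁻¹ * g * ((u : G) * w * b)) =
      (Nat.card B : ℂ) * extendByZero B (h.lam χ) (w⁻¹ * ((u : G)⁻¹ * g * u) * w) := by
    intro u _
    have h3 : ∀ b ∈ (Finset.univ : Finset B), extendByZero B (h.lam χ)
        (((u : G) * w * b)⁻¹ * g * ((u : G) * w * b)) =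
        extendByZero B (h.lam χ) (w⁻¹ * ((u : G)⁻¹ * g * u) * w) := by
      intro b _
      rw [← h.ext_lam_conj hirr b.2 (w⁻¹ * ((u : G)⁻¹ * g * u) * w)]
      congr 1
      group
    rw [Finset.sum_congr rfl h3, Finset.sum_const, Finset.card_univ, nsmul_eq_mul,
      Nat.card_eq_fintype_card]
  rw [Finset.sum_congr rfl h1, Finset.sum_congr rfl h2, Finset.sum_const, Finset.card_univ,
    nsmul_eq_mul, ← Finset.mul_sum, ← Nat.card_eq_fintype_card, ← mul_add, inv_mul_cancel_left₀]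
  exact card_ne_zero_complex

theorem ext_lam_one (h : RankOne B Q D W w) (χ : W → ℂ) :
    extendByZero B (h.lam χ) 1 = χ 1 := by
  rw [extendByZero_of_mem B _ B.one_mem, h.lam_Q χ Q.one_mem]

theorem ind_one (h : RankOne B Q D W w) [Fintype G] {χ : W → ℂ}
    (hirr : IsIrrCharacter D (fun d => χ (Subgroup.inclusion h.DW d))) :
    indFun B (h.lam χ) 1 = (Nat.card Q + 1) * χ 1 := by
  classical
  have := Fintype.ofFinite Q
  rw [h.ind_apply hirr, h.ext_lam_one]
  have h1 : ∀ u ∈ (Finset.univ : Finset Q), extendByZero B (h.lam χ)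
      (w⁻¹ * ((u : G)⁻¹ * 1 * u) * w) = χ 1 := by
    intro u _
    have h2 : w⁻¹ * ((u : G)⁻¹ * 1 * u) * w = 1 := by group
    rw [h2, h.ext_lam_one]
  rw [Finset.sum_congr rfl h1, Finset.sum_const, Finset.card_univ, nsmul_eq_mul,
    ← Nat.card_eq_fintype_card]
  ring

theorem ind_Q (h : RankOne B Q D W w) [Fintype G] {χ : W → ℂ}
    (hirr : IsIrrCharacter D (fun d => χ (Subgroup.inclusion h.DW d))) {v : G} (hv : v ∈ Q)
    (hv1 : v ≠ 1) : indFun B (h.lam χ) v = χ 1 := by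
  classical
  have := Fintype.ofFinite Q
  rw [h.ind_apply hirr, extendByZero_of_mem B _ (h.QB hv), h.lam_Q χ hv, Finset.sum_eq_zero,
    add_zero]
  intro u _
  refine extendByZero_of_notMem B _ (h.not_mem_of_Q (Q.mul_mem (Q.mul_mem (Q.inv_mem u.2) hv) u.2)
    fun hc => hv1 ?_)
  have h1 : v = (u : G) * ((u : G)⁻¹ * v * u) * (u : G)⁻¹ := by group
  rw [h1, hc]
  group

theorem sum_ind_Q (h : RankOne B Q D W w) [Fintype G] [Fintype Q] {χ : W → ℂ}
    (hirr : IsIrrCharacter D (fun d => χ (Subgroup.inclusion h.DW d))) :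
    ∑ v : Q, indFun B (h.lam χ) v = 2 * Nat.card Q * χ 1 := by
  classical
  rw [← Finset.add_sum_erase _ _ (Finset.mem_univ (1 : Q))]
  have h1 : ∀ v ∈ (Finset.univ : Finset Q).erase 1, indFun B (h.lam χ) v = χ 1 := by
    intro v hv
    exact h.ind_Q hirr v.2 fun hc => (Finset.ne_of_mem_erase hv) (Subtype.ext hc)
  rw [Finset.sum_congr rfl h1, OneMemClass.coe_one, h.ind_one hirr, Finset.sum_const,
    Finset.card_erase_of_mem (Finset.mem_univ _), Finset.card_univ, nsmul_eq_mul,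
    ← Nat.card_eq_fintype_card, Nat.cast_sub Nat.card_pos]
  push_cast
  ring

theorem exists_phi (h : RankOne B Q D W w) [Finite G] [Fintype B] {V Y : Type*} [AddCommGroup V]
    [Module ℂ V] [AddCommGroup Y] [Module ℂ Y] [FiniteDimensional ℂ V] [FiniteDimensional ℂ Y]
    (ρ : Representation ℂ G V) (σ : Representation ℂ W Y)
    (hσ : IsIrreducible (σ.comp (Subgroup.inclusion h.DW)))
    (hne : classInner (fun b : B => ρ.character b) (h.lam σ.character) ≠ 0) :
    ∃ φ : Y →ₗ[ℂ] V, Function.Injective φ ∧ (∀ u ∈ Q, ∀ y, ρ u (φ y) = φ y) ∧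
      ∀ d (hd : d ∈ D), ∀ y, ρ d (φ y) = φ (σ ⟨d, h.DW hd⟩ y) := by
  have h1 := classInner_character (ρ.comp B.subtype)
    (σ.comp ((Subgroup.inclusion h.DW).comp h.proj))
  have h2 : classInner (Representation.character (ρ.comp B.subtype))
      (Representation.character (σ.comp ((Subgroup.inclusion h.DW).comp h.proj))) ≠ 0 := hne
  rw [h1] at h2
  have h3 : 0 < Module.finrank ℂ (IntertwiningMap (σ.comp ((Subgroup.inclusion h.DW).comp h.proj))
      (ρ.comp B.subtype)) := Nat.pos_of_ne_zero (by exact_mod_cast h2)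
  have h4 := Module.nontrivial_of_finrank_pos h3
  obtain ⟨f, hf⟩ := _root_.exists_ne (0 : IntertwiningMap
    (σ.comp ((Subgroup.inclusion h.DW).comp h.proj)) (ρ.comp B.subtype))
  have h5 : ∀ d (hd : d ∈ D), ∀ y, ρ d (f y) = f (σ ⟨d, h.DW hd⟩ y) := by
    intro d hd y
    have h6 := IntertwiningMap.isIntertwining _ _ f (⟨d, h.DB hd⟩ : B) y
    have h7 : (σ.comp ((Subgroup.inclusion h.DW).comp h.proj)) ⟨d, h.DB hd⟩ =
        σ ⟨d, h.DW hd⟩ := by
      change σ (Subgroup.inclusion h.DW (h.proj ⟨d, h.DB hd⟩)) = _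
      rw [h.proj_D hd]
      rfl
    rw [h7] at h6
    exact h6.symm
  have h6 : ∀ u ∈ Q, ∀ y, ρ u (f y) = f y := by
    intro u hu y
    have h6 := IntertwiningMap.isIntertwining _ _ f (⟨u, h.QB hu⟩ : B) y
    have h7 : (σ.comp ((Subgroup.inclusion h.DW).comp h.proj)) ⟨u, h.QB hu⟩ = 1 := by
      change σ (Subgroup.inclusion h.DW (h.proj ⟨u, h.QB hu⟩)) = _
      rw [h.proj_Q hu, map_one, map_one]
    rw [h7] at h6
    exact h6.symm
  let f' : IntertwiningMap (σ.comp (Subgroup.inclusion h.DW)) (ρ.comp D.subtype) :=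
    ⟨f.toLinearMap, fun d => LinearMap.ext fun y => (h5 d d.2 y).symm⟩
  have hf' : Function.Injective f' ∨ f' = 0 := IsIrreducible.injective_or_eq_zero f'
  refine ⟨f.toLinearMap, ?_, h6, h5⟩
  rcases hf' with h7 | h7
  · exact h7
  · exfalso
    apply hf
    apply IntertwiningMap.ext
    have h8 : ∀ y, f y = 0 := fun y => congrArg (fun F : IntertwiningMap
      (σ.comp (Subgroup.inclusion h.DW)) (ρ.comp D.subtype) => F y) h7
    exact LinearMap.ext h8

end RankOne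

theorem finrank_range_avg {G V : Type*} [Group G] {Q : Subgroup G} [Fintype Q] [AddCommGroup V]
    [Module ℂ V] [FiniteDimensional ℂ V] (ρ : Representation ℂ G V) :
    (Nat.card Q : ℂ) * Module.finrank ℂ (LinearMap.range (avg ρ Q)) =
      ∑ u : Q, ρ.character u := by
  have h1 : LinearMap.IsProj (LinearMap.range (avg ρ Q)) (avg ρ Q) :=
    ⟨fun x => ⟨x, rfl⟩, by rintro _ ⟨x, rfl⟩; exact avg_avg ρ x⟩
  rw [← h1.trace, avg, map_smul, smul_eq_mul, map_sum, ← mul_assoc, mul_inv_cancel₀ card_ne,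
    one_mul]
  rfl

namespace RankOne

variable {G : Type*} [Group G] {B Q D W : Subgroup G} {w : G}

/-- **The two constituents.** -/
theorem exists_pair (h : RankOne B Q D W w) [Fintype G] [Fintype Q] {n : ℕ}
    (σ : Representation ℂ W (Fin n → ℂ))
    (hσ : IsIrreducible (σ.comp (Subgroup.inclusion h.DW))) :
    ∃ (n₁ n₂ : ℕ) (ρ₁ : Representation ℂ G (Fin n₁ → ℂ)) (ρ₂ : Representation ℂ G (Fin n₂ → ℂ))
      (φ₁ : (Fin n → ℂ) →ₗ[ℂ] (Fin n₁ → ℂ)) (φ₂ : (Fin n → ℂ) →ₗ[ℂ] (Fin n₂ → ℂ)),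
      ρ₁.IsIrreducible ∧ ρ₂.IsIrreducible ∧ ρ₁.character ≠ ρ₂.character ∧
      FixRep h ρ₁ σ φ₁ ∧ FixRep h ρ₂ σ φ₂ ∧
      indFun B (h.lam σ.character) = ρ₁.character + ρ₂.character := by
  classical
  have := Fintype.ofFinite B
  have hirr : IsIrrCharacter D (fun d => σ.character (Subgroup.inclusion h.DW d)) :=
    ⟨n, σ.comp (Subgroup.inclusion h.DW), hσ, rfl⟩
  have hχ : IsClassFunction W σ.character := isCharacter_isClassFunction (isCharacter_of_rep σ)
  have hΛ : IsCharacter G (indFun B (h.lam σ.character)) :=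
    IndRes.isCharacter_indFun B (isIrr_isCharacter (h.isIrr_lam hirr))
  have hnorm := h.norm_two hχ hirr
  obtain ⟨μ, ν, hμ, hν, hne, hsum⟩ := exists_add_of_norm_two hΛ hnorm
  have hμΛ : classInner (fun b : B => μ b) (h.lam σ.character) ≠ 0 := by
    have h1 := IndRes.classInner_indFun_right B (h.lam σ.character) (isIrr_isClassFunction hμ)
    have h2 : classInner μ (indFun B (h.lam σ.character)) = 1 := by
      rw [hsum, classInner_add_right, classInner_irr_self hμ, classInner_irr_ne hμ hν hne,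
        add_zero]
    rw [h2] at h1
    intro hc
    exact one_ne_zero (h1.trans hc)
  have hνΛ : classInner (fun b : B => ν b) (h.lam σ.character) ≠ 0 := by
    have h1 := IndRes.classInner_indFun_right B (h.lam σ.character) (isIrr_isClassFunction hν)
    have h2 : classInner ν (indFun B (h.lam σ.character)) = 1 := by
      rw [hsum, classInner_add_right, classInner_irr_self hν, classInner_irr_ne hν hμ hne.symm,
        zero_add]
    rw [h2] at h1
    intro hc
    exact one_ne_zero (h1.trans hc)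
  obtain ⟨n₁, ρ₁, hρ₁, rfl⟩ := hμ
  obtain ⟨n₂, ρ₂, hρ₂, rfl⟩ := hν
  obtain ⟨φ₁, hi₁, hQ₁, hD₁⟩ := h.exists_phi ρ₁ σ hσ hμΛ
  obtain ⟨φ₂, hi₂, hQ₂, hD₂⟩ := h.exists_phi ρ₂ σ hσ hνΛ
  have hle₁ : LinearMap.range φ₁ ≤ LinearMap.range (avg ρ₁ Q) := by
    rintro _ ⟨y, rfl⟩
    exact ⟨φ₁ y, avg_of_fixed ρ₁ fun u hu => hQ₁ u hu y⟩
  have hle₂ : LinearMap.range φ₂ ≤ LinearMap.range (avg ρ₂ Q) := by
    rintro _ ⟨y, rfl⟩
    exact ⟨φ₂ y, avg_of_fixed ρ₂ fun u hu => hQ₂ u hu y⟩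
  have hr₁ : Module.finrank ℂ (LinearMap.range φ₁) = n := by
    rw [LinearMap.finrank_range_of_inj hi₁, Module.finrank_fin_fun]
  have hr₂ : Module.finrank ℂ (LinearMap.range φ₂) = n := by
    rw [LinearMap.finrank_range_of_inj hi₂, Module.finrank_fin_fun]
  have hf₁ := Submodule.finrank_mono hle₁
  have hf₂ := Submodule.finrank_mono hle₂
  rw [hr₁] at hf₁
  rw [hr₂] at hf₂
  have hcount : Module.finrank ℂ (LinearMap.range (avg ρ₁ Q)) +
      Module.finrank ℂ (LinearMap.range (avg ρ₂ Q)) = 2 * n := by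
    have h1 := finrank_range_avg (Q := Q) ρ₁
    have h2 := finrank_range_avg (Q := Q) ρ₂
    have h3 := h.sum_ind_Q hirr
    simp only [hsum, Pi.add_apply, Finset.sum_add_distrib] at h3
    rw [← h1, ← h2] at h3
    simp only [char_one, Module.finrank_fin_fun] at h3
    have hN : (Nat.card Q : ℂ) ≠ 0 := card_ne
    have h4 : (Nat.card Q : ℂ) * ((Module.finrank ℂ (LinearMap.range (avg ρ₁ Q)) : ℂ) +
      Module.finrank ℂ (LinearMap.range (avg ρ₂ Q))) = Nat.card Q * (2 * n) := by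
      linear_combination h3
    have h5 := mul_left_cancel₀ hN h4
    exact_mod_cast h5
  have he₁ : LinearMap.range φ₁ = LinearMap.range (avg ρ₁ Q) :=
    Submodule.eq_of_le_of_finrank_eq hle₁ (by rw [hr₁]; omega)
  have he₂ : LinearMap.range φ₂ = LinearMap.range (avg ρ₂ Q) :=
    Submodule.eq_of_le_of_finrank_eq hle₂ (by rw [hr₂]; omega)
  have hschur : ∀ f : Module.End ℂ (Fin n → ℂ), (∀ d (hd : d ∈ D), ∀ y,
      f (σ ⟨d, h.DW hd⟩ y) = σ ⟨d, h.DW hd⟩ (f y)) →
      ∃ c : ℂ, f = c • (1 : Module.End ℂ (Fin n → ℂ)) := by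
    intro f hf
    exact ⟨_, Characters.Central.eq_trace_smul_of_comm _ hσ f fun d =>
      LinearMap.ext fun y => hf d d.2 y⟩
  refine ⟨n₁, n₂, ρ₁, ρ₂, φ₁, φ₂, hρ₁, hρ₂, hne, ⟨hi₁, hQ₁, hD₁, fun v => ?_, hschur⟩,
    ⟨hi₂, hQ₂, hD₂, fun v => ?_, hschur⟩, hsum⟩
  · have h1 : avg ρ₁ Q v ∈ LinearMap.range φ₁ := by rw [he₁]; exact ⟨v, rfl⟩
    obtain ⟨y, hy⟩ := h1
    exact ⟨y, hy.symm⟩
  · have h1 : avg ρ₂ Q v ∈ LinearMap.range φ₂ := by rw [he₂]; exact ⟨v, rfl⟩
    obtain ⟨y, hy⟩ := h1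
    exact ⟨y, hy.symm⟩

end RankOne

end Cfsg.Agent.HKS
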