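import Mathlib
import Cfsg.Agent.HKS.Pair
import Cfsg.Agent.HKS.ModPMu
import Cfsg.Agent.Characters.GaloisBasic
import Cfsg.Agent.Characters.Linear

/-!
# Linear characters of `W` and the two constituents of the induced character

Every `g ∈ G` is `u₁ m u₂` with `u₁, u₂ ∈ Q` and a unique `m = pr g ∈ W`.

Let `lam : W →* ℂˣ` be nontrivial on `D`, `N = |Q| = p ^ k`, and suppose that some element `t` moving
a point has rational character values and `lam (pr (a t a⁻¹)) = 1` for all `a ∈ G`. Then there are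
`X Y > 1` with `X Y = N` and an irreducible character `ψ` of `G` such that
`(X + Y) ψ(g) = Y S₀(g) + S₁(g)` for all `g`, where `S₀(g)`, `S₁(g)` are the sums of
`lam (pr (a g a⁻¹))` over `a ∈ G` with `a g a⁻¹ ∈ B`, respectively `∉ B`, divided by `|B|`.
-/

set_option autoImplicit false
set_option linter.unusedSectionVars false

open Cfsg

namespace Cfsg.Agent.HKS.LinChar

variable {G : Type*} [Group G] {B Q D W : Subgroup G} {w : G}

/-! ### The projection `G → W` -/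

theorem exists_pr (h : RankOne B Q D W w) (g : G) :
    ∃ m : W, ∃ u₁ ∈ Q, ∃ u₂ ∈ Q, g = u₁ * m * u₂ := by
  by_cases hg : g ∈ B
  · obtain ⟨u, hu, d, hd, rfl⟩ := h.Bmul g hg
    exact ⟨⟨d, h.DW hd⟩, u, hu, 1, Q.one_mem, by simp⟩
  · obtain ⟨u₁, hu₁, m, hm, -, u₂, hu₂, he⟩ := h.exists_mid hg
    exact ⟨⟨m, hm⟩, u₁, hu₁, u₂, hu₂, he⟩

theorem mid_mem_B (h : RankOne B Q D W w) {u₁ u₂ m : G} (hu₁ : u₁ ∈ Q) (hu₂ : u₂ ∈ Q)
    (hm : m ∈ W) : u₁ * m * u₂ ∈ B ↔ m ∈ D := by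
  constructor
  · intro hb
    apply h.WB _ hm
    have := B.mul_mem (B.mul_mem (B.inv_mem (h.QB hu₁)) hb) (B.inv_mem (h.QB hu₂))
    have h1 : u₁⁻¹ * (u₁ * m * u₂) * u₂⁻¹ = m := by group
    rwa [h1] at this
  · intro hd
    exact B.mul_mem (B.mul_mem (h.QB hu₁) (h.DB hd)) (h.QB hu₂)

theorem pr_unique (h : RankOne B Q D W w) {u₁ u₂ v₁ v₂ m m' : G} (hu₁ : u₁ ∈ Q) (hu₂ : u₂ ∈ Q)
    (hv₁ : v₁ ∈ Q) (hv₂ : v₂ ∈ Q) (hm : m ∈ W) (hm' : m' ∈ W)
    (he : u₁ * m * u₂ = v₁ * m' * v₂) : m = m' := by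
  by_cases hD : m ∈ D
  · have hD' : m' ∈ D := by
      rw [← mid_mem_B h hv₁ hv₂ hm', ← he, mid_mem_B h hu₁ hu₂ hm]
      exact hD
    -- `m * m'⁻¹ ∈ Q`
    have h1 : m * m'⁻¹ = u₁⁻¹ * v₁ * (m' * (v₂ * u₂⁻¹) * m'⁻¹) := by
      calc m * m'⁻¹ = u₁⁻¹ * (u₁ * m * u₂) * u₂⁻¹ * m'⁻¹ := by group
        _ = u₁⁻¹ * (v₁ * m' * v₂) * u₂⁻¹ * m'⁻¹ := by rw [he]
        _ = _ := by group
    have h2 : m * m'⁻¹ ∈ Q := by
      rw [h1]
      exact Q.mul_mem (Q.mul_mem (Q.inv_mem hu₁) hv₁)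
        (h.Qn _ (h.DB hD') _ (Q.mul_mem hv₂ (Q.inv_mem hu₂)))
    exact mul_inv_eq_one.1 (h.QD _ h2 (D.mul_mem hD (D.inv_mem hD')))
  · have hD' : m' ∉ D := by
      rw [← mid_mem_B h hv₁ hv₂ hm', ← he, mid_mem_B h hu₁ hu₂ hm]
      exact hD
    exact (ModPMu.mid_unique h hu₁ hu₂ hv₁ hv₂ hm hD hm' hD' he).1

/-- The `W`-component of an element of `G = Q W Q`. -/
noncomputable def pr (h : RankOne B Q D W w) (g : G) : W := (exists_pr h g).choose

theorem pr_spec (h : RankOne B Q D W w) (g : G) :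
    ∃ u₁ ∈ Q, ∃ u₂ ∈ Q, g = u₁ * pr h g * u₂ := (exists_pr h g).choose_spec

theorem pr_eq (h : RankOne B Q D W w) {u₁ u₂ m : G} (hu₁ : u₁ ∈ Q) (hu₂ : u₂ ∈ Q) (hm : m ∈ W) :
    pr h (u₁ * m * u₂) = ⟨m, hm⟩ := by
  obtain ⟨v₁, hv₁, v₂, hv₂, he⟩ := pr_spec h (u₁ * m * u₂)
  exact Subtype.ext (pr_unique h hv₁ hv₂ hu₁ hu₂ (pr h _).2 hm he.symm)

theorem pr_of_mem (h : RankOne B Q D W w) {m : G} (hm : m ∈ W) : pr h m = ⟨m, hm⟩ := by
  have := pr_eq h Q.one_mem Q.one_mem hm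
  rwa [one_mul, mul_one] at this

theorem pr_mem_D (h : RankOne B Q D W w) (g : G) : (pr h g : G) ∈ D ↔ g ∈ B := by
  obtain ⟨u₁, hu₁, u₂, hu₂, he⟩ := pr_spec h g
  rw [← mid_mem_B h hu₁ hu₂ (pr h g).2, ← he]

/-! ### The two sums -/

open scoped Classical in
/-- The sum over the conjugates in `B`. -/
noncomputable def S₀ [Fintype G] (h : RankOne B Q D W w) (χ : W → ℂ) (g : G) : ℂ :=
  ∑ a : G, if a * g * a⁻¹ ∈ B then χ (pr h (a * g * a⁻¹)) else 0

open scoped Classical in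
/-- The sum over the conjugates outside `B`. -/
noncomputable def S₁ [Fintype G] (h : RankOne B Q D W w) (χ : W → ℂ) (g : G) : ℂ :=
  ∑ a : G, if a * g * a⁻¹ ∈ B then 0 else χ (pr h (a * g * a⁻¹))

/-- All conjugates of `g` have `χ (pr ·) = 1`. -/
def Good (h : RankOne B Q D W w) (χ : W → ℂ) (g : G) : Prop :=
  ∀ a : G, χ (pr h (a * g * a⁻¹)) = 1

theorem S₀_of_good [Fintype G] (h : RankOne B Q D W w) {χ : W → ℂ} {g : G} (hg : Good h χ g)
    {F : ℕ} (hF : Nat.card {a : G // a * g * a⁻¹ ∈ B} = F * Nat.card B) :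
    S₀ h χ g = F * Nat.card B := by
  classical
  have h1 : S₀ h χ g = ∑ a : G, if a * g * a⁻¹ ∈ B then (1 : ℂ) else 0 := by
    refine Finset.sum_congr rfl fun a _ => ?_
    rw [hg a]
  rw [h1, Finset.sum_boole, ← Fintype.card_subtype, ← Nat.card_eq_fintype_card, hF]
  push_cast
  rfl

theorem S₁_of_good [Fintype G] (h : RankOne B Q D W w) {χ : W → ℂ} {g : G} (hg : Good h χ g)
    {M : ℕ} (hM : Nat.card {a : G // a * g * a⁻¹ ∉ B} = M * Nat.card B) :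
    S₁ h χ g = M * Nat.card B := by
  classical
  have h1 : S₁ h χ g = ∑ a : G, if a * g * a⁻¹ ∉ B then (1 : ℂ) else 0 := by
    refine Finset.sum_congr rfl fun a _ => ?_
    rw [hg a, ite_not]
  rw [h1, Finset.sum_boole, ← Fintype.card_subtype, ← Nat.card_eq_fintype_card, hM]
  push_cast
  rfl

/-! ### The value formula -/

section value

variable {V Y : Type*} [AddCommGroup V] [Module ℂ V] [AddCommGroup Y] [Module ℂ Y]
  {h : RankOne B Q D W w} [Fintype Q] {ρ : Representation ℂ G V}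
  {σ : Representation ℂ W Y} {φ : Y →ₗ[ℂ] V}

open scoped Classical in
theorem Fq_pr [Finite G] [FiniteDimensional ℂ V] [FiniteDimensional ℂ Y] (H : FixRep h ρ σ φ) (hcl : IsClassFunction G ρ.character) {x : ℂ}
    (hx : ∀ w' (hw' : w' ∈ W), w' ∉ D → ∀ y, avg ρ Q (ρ w' (φ y)) = x • φ (σ ⟨w', hw'⟩ y))
    (g : G) : Fq ρ.character Q g =
      if g ∈ B then σ.character (pr h g) else x * σ.character (pr h g) := by
  obtain ⟨u₁, hu₁, u₂, hu₂, he⟩ := pr_spec h g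
  have h1 : Fq ρ.character Q g = Fq ρ.character Q (pr h g : G) := by
    conv_lhs => rw [he]
    rw [Fq_mul_right u₂ hu₂, Fq_mul_left h hcl hu₁]
  rw [h1]
  split_ifs with hg
  · rw [H.Fq_D _ ((pr_mem_D h g).2 hg)]
  · rw [H.Fq_W hx _ (pr h g).2 (fun hc => hg ((pr_mem_D h g).1 hc))]

/-- **The value formula.** -/
theorem value [Fintype G] [FiniteDimensional ℂ V] [FiniteDimensional ℂ Y] (H : FixRep h ρ σ φ)
    (hρ : IsIrrCharacter G ρ.character) (hρ' : ρ.IsIrreducible) {x : ℂ}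
    (hx : ∀ w' (hw' : w' ∈ W), w' ∉ D → ∀ y, avg ρ Q (ρ w' (φ y)) = x • φ (σ ⟨w', hw'⟩ y))
    (hY : σ.character 1 ≠ 0) (g : G) :
    (Nat.card B : ℂ) * (1 + Nat.card Q * x ^ 2) * ρ.character g =
      S₀ h σ.character g + x * S₁ h σ.character g := by
  classical
  have hcl : IsClassFunction G ρ.character := Characters.Core.isIrr_isClassFunction hρ
  have h1 := sum_Fq_conj (Q := Q) ρ.character hρ g
  have h2 : ∑ a : G, Fq ρ.character Q (a * g * a⁻¹) =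
      S₀ h σ.character g + x * S₁ h σ.character g := by
    rw [S₀, S₁, Finset.mul_sum, ← Finset.sum_add_distrib]
    refine Finset.sum_congr rfl fun a _ => ?_
    rw [Fq_pr H hcl hx]
    split_ifs
    · rw [mul_zero, add_zero]
    · rw [zero_add]
  rw [h2, H.Fq_one] at h1
  rw [h1]
  have hn : ρ.character 1 ≠ 0 := Characters.Core.isIrr_apply_one_ne_zero hρ
  have h3 := H.degree hρ' hx hY
  rw [h.card_eq]
  push_cast
  rw [eq_div_iff hn]
  linear_combination (Nat.card B : ℂ) * ρ.character g * h3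

end value

/-! ### Numbers -/

/-- The eigenvalue `ξ = N x` is an integer, `ξ ≠ 0`, `ξ ∣ N`, `ξ ≠ ± 1, ± N`. -/
theorem exists_eigen {p k : ℕ} (hp : p.Prime) {N : ℕ} (hN : N = p ^ k) {x : ℂ} (hx0 : x ≠ 0)
    (hx1 : IsIntegral ℤ ((N : ℂ) * x)) (hx2 : IsIntegral ℤ x⁻¹) {n F M : ℕ}
    (hn1 : 1 < n) (hnN : n < N) (hdeg : (n : ℂ) * (1 + N * x ^ 2) = N + 1) (hM : 0 < M) {c : ℤ}
    (hval : (1 + N * x ^ 2) * (c : ℂ) = F + x * M) :
    ∃ z : ℤ, (N : ℂ) * x = z ∧ z.natAbs ∣ N ∧ 1 < z.natAbs ∧ z.natAbs < N := by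
  have hp0 : 0 < N := by rw [hN]; exact pow_pos hp.pos k
  have hN0 : (N : ℂ) ≠ 0 := by exact_mod_cast hp0.ne'
  have hn0 : (n : ℂ) ≠ 0 := by exact_mod_cast (zero_lt_one.trans hn1).ne'
  have hM0 : (M : ℂ) ≠ 0 := by exact_mod_cast hM.ne'
  have h1 : 1 + N * x ^ 2 = ((N : ℂ) + 1) / n := by
    rw [eq_div_iff hn0]; linear_combination hdeg
  -- `x` is rational
  have h2 : x = (((((N : ℚ) + 1) / n * c - F) / M : ℚ) : ℂ) := by
    push_cast
    rw [eq_div_iff hM0]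
    rw [h1] at hval
    linear_combination -hval
  obtain ⟨z, hz⟩ := Characters.GaloisBasic.exists_int_of_isIntegral hx1
    ⟨(N : ℚ) * ((((N : ℚ) + 1) / n * c - F) / M), by rw [h2]; push_cast; ring⟩
  obtain ⟨y, hy⟩ := Characters.GaloisBasic.exists_int_of_isIntegral hx2
    ⟨((((N : ℚ) + 1) / n * c - F) / M)⁻¹, by rw [h2]; push_cast; ring⟩
  have hzy : z * y = N := by
    have : (z : ℂ) * y = N := by
      rw [← hz, ← hy, mul_assoc, mul_inv_cancel₀ hx0, mul_one]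
    exact_mod_cast this
  have hz2 : (n : ℤ) * (N + z ^ 2) = N * (N + 1) := by
    have : (n : ℂ) * (N + z ^ 2) = N * (N + 1) := by
      rw [← hz]
      linear_combination (N : ℂ) * hdeg
    exact_mod_cast this
  have hdvd : z.natAbs ∣ N := by
    have h3 : z ∣ (N : ℤ) := ⟨y, hzy.symm⟩
    exact Int.natAbs_dvd_natAbs.2 h3
  have hz0 : z ≠ 0 := by
    rintro rfl
    rw [zero_mul] at hzy
    exact hp0.ne' (by exact_mod_cast hzy.symm)
  have hsq : ((z.natAbs : ℕ) : ℤ) ^ 2 = z ^ 2 := Int.natAbs_sq z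
  refine ⟨z, hz, hdvd, ?_, ?_⟩
  · by_contra hc
    have h3 : 0 < z.natAbs := Int.natAbs_pos.2 hz0
    have h4 : z.natAbs = 1 := by omega
    rw [← hsq, h4] at hz2
    have h5 : ((n : ℤ) - N) * (N + 1) = 0 := by push_cast at hz2; linear_combination hz2
    rcases mul_eq_zero.1 h5 with h6 | h6
    · have : n = N := by
        have := sub_eq_zero.1 h6
        exact_mod_cast this
      omega
    · omega
  · by_contra hc
    have h3 := Nat.le_of_dvd hp0 hdvd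
    have h4 : z.natAbs = N := by omega
    rw [← hsq, h4] at hz2
    have h5 : ((n : ℤ) - 1) * (N * (N + 1)) = 0 := by linear_combination hz2
    rcases mul_eq_zero.1 h5 with h6 | h6
    · omega
    · have : (N : ℤ) * (N + 1) ≠ 0 := by positivity
      exact this h6

/-- The two eigenvalues multiply to `- N`. -/
theorem mul_eigen {N n₁ n₂ F M : ℕ} {z₁ z₂ : ℤ} {c₁ c₂ : ℤ} (hN : 0 < N) (hM : 0 < M)
    (hn : n₁ + n₂ = N + 1) (h1 : (n₁ : ℤ) * (N + z₁ ^ 2) = N * (N + 1))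
    (h2 : (n₂ : ℤ) * (N + z₂ ^ 2) = N * (N + 1)) (hc : c₁ + c₂ = F)
    (h3 : (N + z₁ ^ 2) * c₁ = N * F + z₁ * M) (h4 : (N + z₂ ^ 2) * c₂ = N * F + z₂ * M) :
    z₁ * z₂ = - N := by
  have hN' : (0 : ℤ) < N := by exact_mod_cast hN
  have hM' : (M : ℤ) ≠ 0 := by exact_mod_cast hM.ne'
  have hn' : (n₁ : ℤ) + n₂ = N + 1 := by exact_mod_cast hn
  have hN1 : ((N : ℤ) + 1) ≠ 0 := by positivity
  have e1 : (N : ℤ) * (2 * N + z₁ ^ 2 + z₂ ^ 2) = (N + z₁ ^ 2) * (N + z₂ ^ 2) := by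
    apply mul_left_cancel₀ hN1
    linear_combination ((N : ℤ) + z₁ ^ 2) * (N + z₂ ^ 2) * hn' - (N + z₂ ^ 2) * h1 -
      (N + z₁ ^ 2) * h2
  have e2 : (z₁ * z₂) ^ 2 = (N : ℤ) ^ 2 := by linear_combination -e1
  have e3 : (M : ℤ) * ((z₁ + z₂) * (N + z₁ * z₂)) = 0 := by
    linear_combination (-(N + z₂ ^ 2)) * h3 - (N + z₁ ^ 2) * h4 +
      (N + z₁ ^ 2) * (N + z₂ ^ 2) * hc - F * e1
  rcases mul_eq_zero.1 e3 with e4 | e4
  · exact absurd e4 hM'
  · rcases mul_eq_zero.1 e4 with e5 | e5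
    · rcases sq_eq_sq_iff_eq_or_eq_neg.1 e2 with e6 | e6
      · have e7 : z₂ = - z₁ := by linear_combination e5
        rw [e7] at e6
        nlinarith [sq_nonneg z₁]
      · exact e6
    · linear_combination e5

/-! ### The theorem -/

section main

theorem one_of_deg_one {h : RankOne B Q D W w} [Finite G] [Fintype Q]
    (hnc : Subgroup.normalClosure (Q : Set G) = ⊤) {lam : W →* ℂˣ} {n : ℕ}
    {ρ : Representation ℂ G (Fin n → ℂ)} {φ : (Fin 1 → ℂ) →ₗ[ℂ] (Fin n → ℂ)}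
    (H : FixRep h ρ (Characters.Linear.repOfHom lam) φ) (h1 : ρ.character 1 = 1) {d : G}
    (hd : d ∈ D) : lam ⟨d, h.DW hd⟩ = 1 := by
  obtain ⟨f, hf⟩ := Characters.Linear.exists_hom_of_isCharacter
    (Characters.Core.isCharacter_of_rep ρ) h1
  have hFq : ∀ g : G, Fq ρ.character Q g = (f g : ℂ) * Fq ρ.character Q 1 := by
    intro g
    rw [Fq, Fq, hf, Finset.mul_sum, Finset.mul_sum, Finset.mul_sum]
    refine Finset.sum_congr rfl fun u _ => ?_
    change (Nat.card Q : ℂ)⁻¹ * (f (g * u) : ℂ) = f g * ((Nat.card Q : ℂ)⁻¹ * (f (1 * u) : ℂ))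
    rw [map_mul, one_mul]
    push_cast
    ring
  have h2 : Fq ρ.character Q 1 = 1 := by
    rw [H.Fq_one, Characters.Linear.character_repOfHom]
    simp
  have h3 : ∀ u ∈ Q, f u = 1 := by
    intro u hu
    have h4 := Fq_mul_right (χ := ρ.character) u hu 1
    rw [one_mul, hFq, h2, mul_one] at h4
    exact Units.ext h4
  have h4 : ∀ g : G, f g = 1 := by
    intro g
    have h5 : Subgroup.normalClosure (Q : Set G) ≤ f.ker :=
      Subgroup.normalClosure_le_normal fun u hu => h3 u hu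
    rw [hnc] at h5
    exact h5 (Subgroup.mem_top g)
  have h5 := H.Fq_D d hd
  rw [hFq, h2, h4, Characters.Linear.character_repOfHom] at h5
  simp only [Units.val_one, mul_one] at h5
  exact Units.ext h5.symm

theorem lam_eq_pr (h : RankOne B Q D W w) (χ : W → ℂ) {g : G} (hg : g ∈ B) :
    h.lam χ ⟨g, hg⟩ = χ (pr h g) := by
  obtain ⟨u, hu, d, hd, rfl⟩ := h.Bmul g hg
  rw [h.lam_mul χ hu hd]
  have h1 := pr_eq h hu Q.one_mem (h.DW hd)
  rw [mul_one] at h1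
  rw [h1]

theorem indFun_lam [Fintype G] (h : RankOne B Q D W w) (χ : W → ℂ) (g : G) :
    (Nat.card B : ℂ) * indFun B (h.lam χ) g = S₀ h χ g := by
  classical
  have hB : (Nat.card B : ℂ) ≠ 0 := by exact_mod_cast Nat.card_pos.ne'
  rw [indFun, mul_inv_cancel_left₀ hB, S₀]
  refine Fintype.sum_equiv (Equiv.inv G) _ _ fun a => ?_
  rw [Equiv.inv_apply, inv_inv]
  split_ifs with hg
  · rw [Characters.Core.extendByZero_of_mem B _ hg, lam_eq_pr h χ hg]
  · exact Characters.Core.extendByZero_of_notMem B _ hg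

/-- The data of one constituent. -/
theorem constituent {h : RankOne B Q D W w} [Fintype G] [Fintype Q]
    (hnc : Subgroup.normalClosure (Q : Set G) = ⊤) {lam : W →* ℂˣ} {n : ℕ}
    {ρ : Representation ℂ G (Fin n → ℂ)} {φ : (Fin 1 → ℂ) →ₗ[ℂ] (Fin n → ℂ)}
    (H : FixRep h ρ (Characters.Linear.repOfHom lam) φ) (hρ : ρ.IsIrreducible)
    {d : G} (hd : d ∈ D) (hlam : lam ⟨d, h.DW hd⟩ ≠ 1) :
    1 < n ∧ ∃ x : ℂ, x ≠ 0 ∧ IsIntegral ℤ ((Nat.card Q : ℂ) * x) ∧ IsIntegral ℤ x⁻¹ ∧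
      (n : ℂ) * (1 + Nat.card Q * x ^ 2) = Nat.card Q + 1 ∧
      ∀ g, (Nat.card B : ℂ) * (1 + Nat.card Q * x ^ 2) * ρ.character g =
        S₀ h (fun m => (lam m : ℂ)) g + x * S₁ h (fun m => (lam m : ℂ)) g := by
  have hirr : IsIrrCharacter G ρ.character := ⟨n, ρ, hρ, rfl⟩
  have hn : ρ.character 1 = n := by rw [Representation.char_one]; simp
  have h1 : n ≠ 1 := by
    rintro rfl
    exact hlam (one_of_deg_one hnc H (by rw [hn]; simp) hd)
  have h0 : n ≠ 0 := by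
    rintro rfl
    exact Characters.Core.isIrr_apply_one_ne_zero hirr (by rw [hn]; simp)
  have hY : (Characters.Linear.repOfHom lam).character 1 ≠ 0 := by
    rw [Characters.Linear.character_repOfHom]
    simp
  have hY' : (Characters.Linear.repOfHom lam).character 1 = 1 := by
    rw [Characters.Linear.character_repOfHom]
    simp
  obtain ⟨x, hx⟩ := H.exists_scalar
  obtain ⟨hx0, hx1, hx2⟩ := H.integral hx hY
  refine ⟨by omega, x, hx0, hx1, hx2, ?_, fun g => ?_⟩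
  · have := H.degree hρ hx hY
    rw [hn, hY', mul_one] at this
    exact this
  · have := value H hirr hρ hx hY g
    rw [Characters.Linear.character_repOfHom] at this
    exact this

/-- **Linear characters.** -/
theorem exists_psi (h : RankOne B Q D W w) [Fintype G]
    (hnc : Subgroup.normalClosure (Q : Set G) = ⊤) {p k : ℕ} (hp : p.Prime)
    (hN : Nat.card Q = p ^ k) (lam : W →* ℂˣ) {d : G} (hd : d ∈ D)
    (hlam : lam ⟨d, h.DW hd⟩ ≠ 1) {t : G}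
    (hrat : ∀ χ : G → ℂ, IsIrrCharacter G χ → ∃ c : ℤ, χ t = c)
    (ht : Good h (fun m => (lam m : ℂ)) t) {F M : ℕ}
    (hF : Nat.card {a : G // a * t * a⁻¹ ∈ B} = F * Nat.card B)
    (hM : Nat.card {a : G // a * t * a⁻¹ ∉ B} = M * Nat.card B) (hM0 : 0 < M) :
    ∃ X Y : ℕ, X * Y = Nat.card Q ∧ 1 < X ∧ 1 < Y ∧ ∃ ψ : G → ℂ, IsIrrCharacter G ψ ∧
      ((X : ℂ) + Y) * ψ 1 = Y * (Nat.card Q + 1) ∧
      ∀ g, (Nat.card B : ℂ) * (X + Y) * ψ g =
        Y * S₀ h (fun m => (lam m : ℂ)) g + S₁ h (fun m => (lam m : ℂ)) g := by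
  classical
  have := Fintype.ofFinite Q
  have := Fintype.ofFinite B
  have := Fintype.ofFinite D
  have hB : (Nat.card B : ℂ) ≠ 0 := by exact_mod_cast Nat.card_pos.ne'
  have hQ0 : 0 < Nat.card Q := Nat.card_pos
  have hσ : Representation.IsIrreducible
      ((Characters.Linear.repOfHom lam).comp (Subgroup.inclusion h.DW)) :=
    Characters.Linear.isIrreducible_of_finrank_eq_one _ (by simp)
  obtain ⟨n₁, n₂, ρ₁, ρ₂, φ₁, φ₂, hρ₁, hρ₂, -, H₁, H₂, hsum⟩ :=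
    h.exists_pair (Characters.Linear.repOfHom lam) hσ
  have hirr₁ : IsIrrCharacter G ρ₁.character := ⟨n₁, ρ₁, hρ₁, rfl⟩
  have hirr₂ : IsIrrCharacter G ρ₂.character := ⟨n₂, ρ₂, hρ₂, rfl⟩
  rw [Characters.Linear.character_repOfHom] at hsum
  obtain ⟨hn₁, x₁, hx₁0, hx₁1, hx₁2, hdeg₁, hval₁⟩ := constituent hnc H₁ hρ₁ hd hlam
  obtain ⟨hn₂, x₂, hx₂0, hx₂1, hx₂2, hdeg₂, hval₂⟩ := constituent hnc H₂ hρ₂ hd hlam
  obtain ⟨c₁, hc₁⟩ := hrat _ hirr₁
  obtain ⟨c₂, hc₂⟩ := hrat _ hirr₂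
  -- the degrees
  have hn : n₁ + n₂ = Nat.card Q + 1 := by
    have h1 : indFun B (h.lam fun m => (lam m : ℂ)) 1 = (Nat.card Q + 1 : ℂ) := by
      have h2 : IsIrrCharacter D (fun d => (fun m => (lam m : ℂ)) (Subgroup.inclusion h.DW d)) :=
        Characters.Linear.isIrrCharacter_hom (lam.comp (Subgroup.inclusion h.DW))
      rw [h.ind_one h2]
      simp
    rw [hsum, Pi.add_apply, Representation.char_one, Representation.char_one] at h1
    simp only [Module.finrank_fin_fun] at h1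
    exact_mod_cast h1
  -- the values at `t`
  have hv₁ : (1 + Nat.card Q * x₁ ^ 2) * (c₁ : ℂ) = F + x₁ * M := by
    have h1 := hval₁ t
    rw [S₀_of_good h ht hF, S₁_of_good h ht hM, hc₁] at h1
    apply mul_left_cancel₀ hB
    linear_combination h1
  have hv₂ : (1 + Nat.card Q * x₂ ^ 2) * (c₂ : ℂ) = F + x₂ * M := by
    have h1 := hval₂ t
    rw [S₀_of_good h ht hF, S₁_of_good h ht hM, hc₂] at h1
    apply mul_left_cancel₀ hB
    linear_combination h1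
  have hc : c₁ + c₂ = F := by
    have h1 := indFun_lam h (fun m => (lam m : ℂ)) t
    rw [S₀_of_good h ht hF, hsum, Pi.add_apply, hc₁, hc₂, mul_comm (F : ℂ)] at h1
    have h2 := mul_left_cancel₀ hB h1
    exact_mod_cast h2
  obtain ⟨z₁, hz₁, hz₁d, hz₁1, hz₁N⟩ := exists_eigen hp hN hx₁0 hx₁1 hx₁2 hn₁ (by omega) hdeg₁
    hM0 hv₁
  obtain ⟨z₂, hz₂, hz₂d, hz₂1, hz₂N⟩ := exists_eigen hp hN hx₂0 hx₂1 hx₂2 hn₂ (by omega) hdeg₂
    hM0 hv₂
  have hz : z₁ * z₂ = - (Nat.card Q : ℤ) := by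
    refine mul_eigen (c₁ := c₁) (c₂ := c₂) hQ0 hM0 hn ?_ ?_ hc ?_ ?_
    · have : (n₁ : ℂ) * (Nat.card Q + z₁ ^ 2) = Nat.card Q * (Nat.card Q + 1) := by
        rw [← hz₁]
        linear_combination (Nat.card Q : ℂ) * hdeg₁
      exact_mod_cast this
    · have : (n₂ : ℂ) * (Nat.card Q + z₂ ^ 2) = Nat.card Q * (Nat.card Q + 1) := by
        rw [← hz₂]
        linear_combination (Nat.card Q : ℂ) * hdeg₂
      exact_mod_cast this
    · have : ((Nat.card Q : ℂ) + z₁ ^ 2) * c₁ = Nat.card Q * F + z₁ * M := by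
        rw [← hz₁]
        linear_combination (Nat.card Q : ℂ) * hv₁
      exact_mod_cast this
    · have : ((Nat.card Q : ℂ) + z₂ ^ 2) * c₂ = Nat.card Q * F + z₂ * M := by
        rw [← hz₂]
        linear_combination (Nat.card Q : ℂ) * hv₂
      exact_mod_cast this
  -- the constituent with positive eigenvalue
  have key : ∀ (n : ℕ) (ρ : Representation ℂ G (Fin n → ℂ)) (x : ℂ) (z z' : ℤ),
      IsIrrCharacter G ρ.character → (Nat.card Q : ℂ) * x = z → z * z' = - (Nat.card Q : ℤ) →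
      1 < z'.natAbs → 1 < z.natAbs → 0 < z →
      ((n : ℂ) * (1 + Nat.card Q * x ^ 2) = Nat.card Q + 1) →
      (∀ g, (Nat.card B : ℂ) * (1 + Nat.card Q * x ^ 2) * ρ.character g =
        S₀ h (fun m => (lam m : ℂ)) g + x * S₁ h (fun m => (lam m : ℂ)) g) →
      ∃ X Y : ℕ, X * Y = Nat.card Q ∧ 1 < X ∧ 1 < Y ∧ ∃ ψ : G → ℂ, IsIrrCharacter G ψ ∧
      ((X : ℂ) + Y) * ψ 1 = Y * (Nat.card Q + 1) ∧
      ∀ g, (Nat.card B : ℂ) * (X + Y) * ψ g =
        Y * S₀ h (fun m => (lam m : ℂ)) g + S₁ h (fun m => (lam m : ℂ)) g := by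
    intro n ρ x z z' hirr hz hzz hz'1 hz1 hpos hdeg hval
    have hX : ((z.natAbs : ℕ) : ℤ) = z := Int.natAbs_of_nonneg hpos.le
    have hneg : z' < 0 := by
      by_contra hc'
      have h1 : 0 ≤ z * z' := mul_nonneg hpos.le (not_lt.1 hc')
      rw [hzz] at h1
      have : (0 : ℤ) < Nat.card Q := by exact_mod_cast hQ0
      omega
    have hY : ((z'.natAbs : ℕ) : ℤ) = - z' := Int.ofNat_natAbs_of_nonpos hneg.le
    have hXY : z.natAbs * z'.natAbs = Nat.card Q := by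
      have : ((z.natAbs : ℕ) : ℤ) * (z'.natAbs : ℕ) = (Nat.card Q : ℤ) := by
        rw [hX, hY]; linear_combination -hzz
      exact_mod_cast this
    have hXC : ((z.natAbs : ℕ) : ℂ) = z := by rw [← Int.cast_natCast, hX]
    have hXYC : ((z.natAbs : ℕ) : ℂ) * (z'.natAbs : ℕ) = Nat.card Q := by
      exact_mod_cast hXY
    have hX0 : ((z.natAbs : ℕ) : ℂ) ≠ 0 := by
      exact_mod_cast (zero_lt_one.trans hz1).ne'
    have hxY : x * (z'.natAbs : ℕ) = 1 := by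
      apply mul_left_cancel₀ hX0
      rw [mul_one]
      calc ((z.natAbs : ℕ) : ℂ) * (x * (z'.natAbs : ℕ)) =
          (((z.natAbs : ℕ) : ℂ) * (z'.natAbs : ℕ)) * x := by ring
        _ = Nat.card Q * x := by rw [hXYC]
        _ = _ := by rw [hz, hXC]
    have hxX : (Nat.card Q : ℂ) * x ^ 2 * (z'.natAbs : ℕ) = (z.natAbs : ℕ) := by
      calc (Nat.card Q : ℂ) * x ^ 2 * (z'.natAbs : ℕ) =
          ((Nat.card Q : ℂ) * x) * (x * (z'.natAbs : ℕ)) := by ring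
        _ = _ := by rw [hxY, mul_one, hz, hXC]
    refine ⟨z.natAbs, z'.natAbs, hXY, hz1, hz'1, ρ.character, hirr, ?_, fun g => ?_⟩
    · rw [Representation.char_one]
      simp only [Module.finrank_fin_fun]
      linear_combination ((z'.natAbs : ℕ) : ℂ) * hdeg - (n : ℂ) * hxX
    · linear_combination ((z'.natAbs : ℕ) : ℂ) * hval g -
        (Nat.card B : ℂ) * ρ.character g * hxX +
        S₁ h (fun m => (lam m : ℂ)) g * hxY
  rcases lt_trichotomy z₁ 0 with h1 | h1 | h1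
  · have h2 : 0 < z₂ := by
      by_contra hc'
      have h3 : 0 ≤ z₁ * z₂ := mul_nonneg_of_nonpos_of_nonpos h1.le (not_lt.1 hc')
      rw [hz] at h3
      have : (0 : ℤ) < Nat.card Q := by exact_mod_cast hQ0
      omega
    exact key n₂ ρ₂ x₂ z₂ z₁ hirr₂ hz₂ (by rw [mul_comm]; exact hz) hz₁1 hz₂1 h2 hdeg₂ hval₂
  · rw [h1] at hz₁1
    exact absurd hz₁1 (by simp)
  · exact key n₁ ρ₁ x₁ z₁ z₂ hirr₁ hz₁ hz hz₂1 hz₁1 h1 hdeg₁ hval₁

end main

end Cfsg.Agent.HKS.LinChar
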