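import Mathlib
import Cfsg.Agent.HKS.LinChar

/-!
# The two constituents of the induced character, any degree

Let `σ` be a representation of `W`, irreducible on `D`, with character `χ`, `N = |Q| = p ^ k`.
There are real algebraic integers `X Y > 0` with `X Y = N`, `X ^ 2` and `Y ^ 2` powers of `p`, and
irreducible characters `ψ₁ ≠ ψ₂` of `G` such that for all `g`
`|B| (X + Y) ψ₁(g) = Y S₀(g) + S₁(g)` and `|B| (X + Y) ψ₂(g) = X S₀(g) - S₁(g)`.
If `G` is the normal closure of `Q` and `σ` is not trivial on `D`, then `X, Y > 1`.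

Values: `(X + Y) ψ₁(1) = Y n (N + 1)`, `(X + Y) ψ₁(u) = Y (n + X χ(μ_u))` for `1 ≠ u ∈ Z(Q)`.
-/

set_option autoImplicit false
set_option linter.unusedSectionVars false

open Cfsg

namespace Cfsg.Agent.HKS.CharPair

open LinChar Characters.Core

variable {G : Type*} [Group G] {B Q D W : Subgroup G} {w : G}

/-- The two constituents, their eigenvalues and values. -/
structure Data [Fintype G] (h : RankOne B Q D W w) (χ : W → ℂ) (p k : ℕ) (X Y : ℝ)
    (ψ₁ ψ₂ : G → ℂ) : Prop where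
  irr₁ : IsIrrCharacter G ψ₁
  irr₂ : IsIrrCharacter G ψ₂
  ne : ψ₁ ≠ ψ₂
  posX : 0 < X
  posY : 0 < Y
  mul : X * Y = p ^ k
  intX : IsIntegral ℤ (X : ℂ)
  intY : IsIntegral ℤ (Y : ℂ)
  sqX : ∃ i : ℕ, X ^ 2 = p ^ i
  sqY : ∃ j : ℕ, Y ^ 2 = p ^ j
  val₁ : ∀ g, (Nat.card B : ℂ) * (X + Y) * ψ₁ g = Y * S₀ h χ g + S₁ h χ g
  val₂ : ∀ g, (Nat.card B : ℂ) * (X + Y) * ψ₂ g = X * S₀ h χ g - S₁ h χ g

/-! ### Numbers -/

theorem sq_eigen {p k : ℕ} (hp : p.Prime) {N : ℕ} (hN : N = p ^ k) {x : ℂ} (hx0 : x ≠ 0)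
    (hx1 : IsIntegral ℤ ((N : ℂ) * x)) (hx2 : IsIntegral ℤ x⁻¹) {m l : ℕ} (hm : 0 < m)
    (hml : m < (N + 1) * l) (hdeg : (m : ℂ) * (1 + N * x ^ 2) = (N + 1) * l) :
    ∃ i : ℕ, ((N : ℂ) * x) ^ 2 = p ^ i := by
  have hp0 : 0 < N := by rw [hN]; exact pow_pos hp.pos k
  have hN0 : (N : ℂ) ≠ 0 := by exact_mod_cast hp0.ne'
  have hm0 : (m : ℂ) ≠ 0 := by exact_mod_cast hm.ne'
  have h1 : ((N : ℂ) * x) ^ 2 = (((N : ℚ) * (((N : ℚ) + 1) * l / m - 1) : ℚ) : ℂ) := by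
    push_cast
    have h2 : 1 + (N : ℂ) * x ^ 2 = ((N : ℂ) + 1) * l / m := by
      rw [eq_div_iff hm0]; linear_combination hdeg
    linear_combination (N : ℂ) * h2
  have hne : ((N : ℂ) * x) ^ 2 ≠ 0 := pow_ne_zero _ (mul_ne_zero hN0 hx0)
  obtain ⟨z, hz⟩ := Characters.GaloisBasic.exists_int_of_isIntegral (hx1.pow 2) ⟨_, h1⟩
  obtain ⟨y, hy⟩ := Characters.GaloisBasic.exists_int_of_isIntegral (hx2.pow 2)
    ⟨(N : ℚ) ^ 2 * ((N : ℚ) * (((N : ℚ) + 1) * l / m - 1))⁻¹, by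
      have h2 : (x⁻¹) ^ 2 = (N : ℂ) ^ 2 * (((N : ℂ) * x) ^ 2)⁻¹ := by
        field_simp
      rw [h2, h1]
      push_cast
      ring⟩
  have hzy : z * y = N ^ 2 := by
    have : (z : ℂ) * y = N ^ 2 := by
      rw [← hz, ← hy]
      field_simp
    exact_mod_cast this
  have hz2 : (m : ℤ) * (N + z) = N * ((N + 1) * l) := by
    have : (m : ℂ) * (N + z) = N * ((N + 1) * l) := by
      rw [← hz]
      linear_combination (N : ℂ) * hdeg
    exact_mod_cast this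
  have hzpos : 0 < z := by
    by_contra hc
    have h2 : (m : ℤ) * (N + z) ≤ m * N := by
      apply mul_le_mul_of_nonneg_left _ (by positivity)
      linarith
    rw [hz2] at h2
    have h3 : (N : ℤ) * m < N * ((N + 1) * l) := by
      apply mul_lt_mul_of_pos_left _ (by exact_mod_cast hp0)
      exact_mod_cast hml
    linarith [mul_comm (N : ℤ) m]
  have hdvd : z.natAbs ∣ p ^ (k * 2) := by
    have h2 : z ∣ ((N ^ 2 : ℕ) : ℤ) := ⟨y, by push_cast; exact hzy.symm⟩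
    have h3 := Int.natAbs_dvd_natAbs.2 h2
    rw [Int.natAbs_natCast, hN, ← pow_mul] at h3
    exact h3
  obtain ⟨i, -, hi⟩ := (Nat.dvd_prime_pow hp).1 hdvd
  refine ⟨i, ?_⟩
  rw [hz]
  have h2 : ((z.natAbs : ℕ) : ℤ) = z := Int.natAbs_of_nonneg hzpos.le
  rw [← h2, hi]
  push_cast
  rfl

theorem exists_real {ξ : ℂ} {p i : ℕ} (h : ξ ^ 2 = p ^ i) :
    ∃ r : ℝ, ξ = r ∧ r ^ 2 = p ^ i := by
  have h1 : (0 : ℝ) ≤ (p : ℝ) ^ i := by positivity
  have h2 : (Real.sqrt ((p : ℝ) ^ i)) ^ 2 = (p : ℝ) ^ i := Real.sq_sqrt h1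
  have h3 : ξ ^ 2 = ((Real.sqrt ((p : ℝ) ^ i) : ℝ) : ℂ) ^ 2 := by
    rw [h, ← Complex.ofReal_pow, h2]; push_cast; rfl
  rcases sq_eq_sq_iff_eq_or_eq_neg.1 h3 with h4 | h4
  · exact ⟨_, h4, h2⟩
  · exact ⟨-Real.sqrt ((p : ℝ) ^ i), by rw [h4]; push_cast; rfl, by rw [neg_sq, h2]⟩

/-! ### The sums at `1` -/

theorem pr_one (h : RankOne B Q D W w) : pr h 1 = 1 := by
  have := pr_of_mem h W.one_mem
  exact this

theorem S₀_one [Fintype G] (h : RankOne B Q D W w) (χ : W → ℂ) :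
    S₀ h χ 1 = Nat.card G * χ 1 := by
  have h1 : ∀ a ∈ (Finset.univ : Finset G), (open scoped Classical in
      if a * 1 * a⁻¹ ∈ B then χ (pr h (a * 1 * a⁻¹)) else 0) = χ 1 := by
    intro a _
    have h2 : a * 1 * a⁻¹ = 1 := by group
    rw [h2, pr_one, if_pos B.one_mem]
  rw [S₀, Finset.sum_congr rfl h1, Finset.sum_const, Finset.card_univ, nsmul_eq_mul,
    Nat.card_eq_fintype_card]

theorem S₁_one [Fintype G] (h : RankOne B Q D W w) (χ : W → ℂ) : S₁ h χ 1 = 0 := by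
  refine Finset.sum_eq_zero fun a _ => ?_
  have h2 : a * 1 * a⁻¹ = 1 := by group
  rw [h2, if_pos B.one_mem]

/-! ### Existence -/

theorem constituent {h : RankOne B Q D W w} [Fintype G] [Fintype Q] {l n : ℕ}
    {σ : Representation ℂ W (Fin l → ℂ)} (hσ0 : l ≠ 0)
    {ρ : Representation ℂ G (Fin n → ℂ)} {φ : (Fin l → ℂ) →ₗ[ℂ] (Fin n → ℂ)}
    (H : FixRep h ρ σ φ) (hρ : ρ.IsIrreducible) :
    ∃ x : ℂ, x ≠ 0 ∧ IsIntegral ℤ ((Nat.card Q : ℂ) * x) ∧ IsIntegral ℤ x⁻¹ ∧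
      (n : ℂ) * (1 + Nat.card Q * x ^ 2) = (Nat.card Q + 1) * l ∧
      ∀ g, (Nat.card B : ℂ) * (1 + Nat.card Q * x ^ 2) * ρ.character g =
        S₀ h σ.character g + x * S₁ h σ.character g := by
  have hirr : IsIrrCharacter G ρ.character := ⟨n, ρ, hρ, rfl⟩
  have hn : ρ.character 1 = n := by rw [Representation.char_one]; simp
  have hl : σ.character 1 = l := by rw [Representation.char_one]; simp
  have hY : σ.character 1 ≠ 0 := by rw [hl]; exact_mod_cast hσ0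
  obtain ⟨x, hx⟩ := H.exists_scalar
  obtain ⟨hx0, hx1, hx2⟩ := H.integral hx hY
  refine ⟨x, hx0, hx1, hx2, ?_, fun g => value H hirr hρ hx hY g⟩
  have := H.degree hρ hx hY
  rwa [hn, hl] at this

/-- If the constituent has the same degree as `σ`, then `σ` is trivial on `D`. -/
theorem trivial_of_degree {h : RankOne B Q D W w} [Fintype G] [Fintype Q]
    (hnc : Subgroup.normalClosure (Q : Set G) = ⊤) {l n : ℕ}
    {σ : Representation ℂ W (Fin l → ℂ)}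
    {ρ : Representation ℂ G (Fin n → ℂ)} {φ : (Fin l → ℂ) →ₗ[ℂ] (Fin n → ℂ)}
    (H : FixRep h ρ σ φ) (hln : l = n) {d : G} (hd : d ∈ D) : σ ⟨d, h.DW hd⟩ = 1 := by
  subst hln
  have hsur : Function.Surjective φ := LinearMap.injective_iff_surjective.1 H.inj
  have h1 : ∀ u ∈ Q, ρ u = 1 := by
    intro u hu
    refine LinearMap.ext fun v => ?_
    obtain ⟨y, rfl⟩ := hsur v
    rw [H.fixQ u hu y]
    rfl
  have h2 : ∀ g : G, ρ g = 1 := by
    intro g
    have h5 : Subgroup.normalClosure (Q : Set G) ≤ (MonoidHom.ker ρ) :=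
      Subgroup.normalClosure_le_normal fun u hu => h1 u hu
    rw [hnc] at h5
    exact h5 (Subgroup.mem_top g)
  refine LinearMap.ext fun y => H.inj ?_
  rw [← H.equiD d hd y, h2]
  rfl

/-- **Existence of the data.** -/
theorem exists_data (h : RankOne B Q D W w) [Fintype G] {p k : ℕ} (hp : p.Prime)
    (hN : Nat.card Q = p ^ k) {l : ℕ} (σ : Representation ℂ W (Fin l → ℂ))
    (hσ : Representation.IsIrreducible (σ.comp (Subgroup.inclusion h.DW))) :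
    ∃ X Y : ℝ, ∃ ψ₁ ψ₂ : G → ℂ, Data h σ.character p k X Y ψ₁ ψ₂ ∧
      (Subgroup.normalClosure (Q : Set G) = ⊤ → (∃ d, ∃ hd : d ∈ D, σ ⟨d, h.DW hd⟩ ≠ 1) →
        1 < X ∧ 1 < Y) := by
  classical
  have := Fintype.ofFinite Q
  have := Fintype.ofFinite B
  have := Fintype.ofFinite D
  have hB : (Nat.card B : ℂ) ≠ 0 := by exact_mod_cast Nat.card_pos.ne'
  have hQ0 : 0 < Nat.card Q := Nat.card_pos
  have hQC : (Nat.card Q : ℂ) ≠ 0 := by exact_mod_cast hQ0.ne'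
  obtain ⟨n₁, n₂, ρ₁, ρ₂, φ₁, φ₂, hρ₁, hρ₂, hne, H₁, H₂, hsum⟩ := h.exists_pair σ hσ
  have hirrD : IsIrrCharacter D (fun d => σ.character (Subgroup.inclusion h.DW d)) :=
    ⟨l, σ.comp (Subgroup.inclusion h.DW), hσ, rfl⟩
  have hl1 : σ.character 1 = l := by rw [Representation.char_one]; simp
  have hl0 : l ≠ 0 := by
    rintro rfl
    have := isIrr_apply_one_ne_zero hirrD
    simp only [map_one] at this
    rw [hl1] at this
    exact this (by simp)
  have hirr₁ : IsIrrCharacter G ρ₁.character := ⟨n₁, ρ₁, hρ₁, rfl⟩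
  have hirr₂ : IsIrrCharacter G ρ₂.character := ⟨n₂, ρ₂, hρ₂, rfl⟩
  obtain ⟨x₁, hx₁0, hx₁1, hx₁2, hdeg₁, hval₁⟩ := constituent hl0 H₁ hρ₁
  obtain ⟨x₂, hx₂0, hx₂1, hx₂2, hdeg₂, hval₂⟩ := constituent hl0 H₂ hρ₂
  -- the degrees
  have hn₁ : ρ₁.character 1 = n₁ := by rw [Representation.char_one]; simp
  have hn₂ : ρ₂.character 1 = n₂ := by rw [Representation.char_one]; simp
  have hn₁0 : 0 < n₁ := by
    refine Nat.pos_of_ne_zero fun hc => isIrr_apply_one_ne_zero hirr₁ ?_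
    rw [hn₁, hc, Nat.cast_zero]
  have hn₂0 : 0 < n₂ := by
    refine Nat.pos_of_ne_zero fun hc => isIrr_apply_one_ne_zero hirr₂ ?_
    rw [hn₂, hc, Nat.cast_zero]
  have hn : n₁ + n₂ = (Nat.card Q + 1) * l := by
    have h1 : indFun B (h.lam σ.character) 1 = (Nat.card Q + 1) * l := by
      rw [h.ind_one hirrD, hl1]
    rw [hsum, Pi.add_apply, hn₁, hn₂] at h1
    exact_mod_cast h1
  -- the product of the eigenvalues
  have hS : ∀ g, S₀ h σ.character g = Nat.card B * (ρ₁.character g + ρ₂.character g) := by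
    intro g
    rw [← indFun_lam h, hsum, Pi.add_apply]
  have hlin : (x₂ * (1 + Nat.card Q * x₁ ^ 2)) • ρ₁.character -
      (x₁ * (1 + Nat.card Q * x₂ ^ 2)) • ρ₂.character =
      (x₂ - x₁) • (ρ₁.character + ρ₂.character) := by
    funext g
    simp only [Pi.sub_apply, Pi.smul_apply, Pi.add_apply, smul_eq_mul]
    apply mul_left_cancel₀ hB
    linear_combination x₂ * hval₁ g - x₁ * hval₂ g + (x₂ - x₁) * hS g
  have hcoef : x₂ * (1 + Nat.card Q * x₁ ^ 2) = x₂ - x₁ := by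
    have h1 := congrArg (fun f => classInner f ρ₁.character) hlin
    simp only [classInner_sub_left, classInner_smul_left, classInner_add_left,
      classInner_irr_self hirr₁, classInner_irr_ne hirr₂ hirr₁ hne.symm] at h1
    linear_combination h1
  have hx12 : (Nat.card Q : ℂ) * x₁ * x₂ = -1 := by
    have h1 : x₁ * ((Nat.card Q : ℂ) * x₁ * x₂ + 1) = 0 := by linear_combination hcoef
    rcases mul_eq_zero.1 h1 with h2 | h2
    · exact absurd h2 hx₁0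
    · linear_combination h2
  obtain ⟨i₁, hi₁⟩ := sq_eigen hp hN hx₁0 hx₁1 hx₁2 hn₁0 (by omega) hdeg₁
  obtain ⟨i₂, hi₂⟩ := sq_eigen hp hN hx₂0 hx₂1 hx₂2 hn₂0 (by omega) hdeg₂
  obtain ⟨r₁, hr₁, hr₁2⟩ := exists_real hi₁
  obtain ⟨r₂, hr₂, hr₂2⟩ := exists_real hi₂
  have hr12 : r₁ * r₂ = - Nat.card Q := by
    have : (r₁ : ℂ) * r₂ = - Nat.card Q := by
      rw [← hr₁, ← hr₂]
      linear_combination (Nat.card Q : ℂ) * hx12
    exact_mod_cast this
  -- the statement for a given choice of signs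
  have key : ∀ (n n' : ℕ) (ρ : Representation ℂ G (Fin n → ℂ))
      (ρ' : Representation ℂ G (Fin n' → ℂ)) (φ : (Fin l → ℂ) →ₗ[ℂ] (Fin n → ℂ))
      (φ' : (Fin l → ℂ) →ₗ[ℂ] (Fin n' → ℂ)) (x x' : ℂ) (r r' : ℝ) (i i' : ℕ),
      FixRep h ρ σ φ → FixRep h ρ' σ φ' →
      IsIrrCharacter G ρ.character → IsIrrCharacter G ρ'.character →
      ρ.character ≠ ρ'.character → (Nat.card Q : ℂ) * x = r → (Nat.card Q : ℂ) * x' = r' →
      r ^ 2 = p ^ i → r' ^ 2 = p ^ i' → r * r' = - Nat.card Q → 0 < r →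
      IsIntegral ℤ ((Nat.card Q : ℂ) * x) → IsIntegral ℤ ((Nat.card Q : ℂ) * x') →
      ((n : ℂ) * (1 + Nat.card Q * x ^ 2) = (Nat.card Q + 1) * l) →
      ((n' : ℂ) * (1 + Nat.card Q * x' ^ 2) = (Nat.card Q + 1) * l) →
      (∀ g, (Nat.card B : ℂ) * (1 + Nat.card Q * x ^ 2) * ρ.character g =
        S₀ h σ.character g + x * S₁ h σ.character g) →
      (∀ g, (Nat.card B : ℂ) * (1 + Nat.card Q * x' ^ 2) * ρ'.character g =
        S₀ h σ.character g + x' * S₁ h σ.character g) →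
      ∃ X Y : ℝ, ∃ ψ₁ ψ₂ : G → ℂ, Data h σ.character p k X Y ψ₁ ψ₂ ∧
      (Subgroup.normalClosure (Q : Set G) = ⊤ → (∃ d, ∃ hd : d ∈ D, σ ⟨d, h.DW hd⟩ ≠ 1) →
        1 < X ∧ 1 < Y) := by
    intro n n' ρ ρ' φ φ' x x' r r' i i' H H' hirr hirr' hne hr hr' hri hri' hrr hpos hint hint'
      hdeg hdeg' hval hval'
    have hQR : (0 : ℝ) < Nat.card Q := by exact_mod_cast hQ0
    have hneg : r' < 0 := by
      by_contra hc'
      have h1 : 0 ≤ r * r' := mul_nonneg hpos.le (not_lt.1 hc')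
      rw [hrr] at h1
      linarith
    have hr0 : (r : ℂ) ≠ 0 := by exact_mod_cast hpos.ne'
    have hr'0 : (r' : ℂ) ≠ 0 := by exact_mod_cast hneg.ne
    have hrrC : (r : ℂ) * r' = - Nat.card Q := by exact_mod_cast hrr
    -- `x = -1 / r'`, `x' = - 1 / r`
    have hx : x * r' = -1 := by
      apply mul_left_cancel₀ hQC
      calc (Nat.card Q : ℂ) * (x * r') = (Nat.card Q * x) * r' := by ring
        _ = _ := by rw [hr, hrrC]; ring
    have hx' : x' * r = -1 := by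
      apply mul_left_cancel₀ hQC
      calc (Nat.card Q : ℂ) * (x' * r) = (Nat.card Q * x') * r := by ring
        _ = _ := by rw [hr', mul_comm, hrrC]; ring
    have hxX : (Nat.card Q : ℂ) * x ^ 2 * r' = - r := by
      calc (Nat.card Q : ℂ) * x ^ 2 * r' = (Nat.card Q * x) * (x * r') := by ring
        _ = _ := by rw [hx, hr]; ring
    have hxX' : (Nat.card Q : ℂ) * x' ^ 2 * r = - r' := by
      calc (Nat.card Q : ℂ) * x' ^ 2 * r = (Nat.card Q * x') * (x' * r) := by ring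
        _ = _ := by rw [hx', hr']; ring
    have hXY : r * (-r') = p ^ k := by
      have h1 : r * (-r') = Nat.card Q := by linear_combination -hrr
      rw [h1, hN]; push_cast; rfl
    have h1 : ((n : ℝ)) * (r + -r') = -r' * ((Nat.card Q + 1) * l) := by
      have h2 : ((n : ℂ)) * (r + -r') = -r' * ((Nat.card Q + 1) * l) := by
        linear_combination (-(r' : ℂ)) * hdeg + (n : ℂ) * hxX
      exact_mod_cast h2
    have h2 : ((n' : ℝ)) * (r + -r') = r * ((Nat.card Q + 1) * l) := by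
      have h2 : ((n' : ℂ)) * (r + -r') = r * ((Nat.card Q + 1) * l) := by
        linear_combination (r : ℂ) * hdeg' - (n' : ℂ) * hxX'
      exact_mod_cast h2
    refine ⟨r, -r', ρ.character, ρ'.character, ⟨hirr, hirr', hne, hpos, by linarith, hXY, ?_, ?_,
      ⟨i, hri⟩, ⟨i', by rw [neg_sq]; exact hri'⟩, fun g => ?_, fun g => ?_⟩, fun hnc hσ1 => ?_⟩
    · rw [← hr]; exact hint
    · rw [Complex.ofReal_neg, ← hr']; exact hint'.neg
    · push_cast
      linear_combination (-(r' : ℂ)) * hval g + (Nat.card B : ℂ) * ρ.character g * hxX -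
        S₁ h σ.character g * hx
    · push_cast
      linear_combination (r : ℂ) * hval' g - (Nat.card B : ℂ) * ρ'.character g * hxX' +
        S₁ h σ.character g * hx'
    · obtain ⟨d, hd, hd1⟩ := hσ1
      have hX1 : r ^ 2 ≠ 1 := by
        intro hc
        have hc' : r = 1 := (pow_eq_one_iff_of_nonneg hpos.le two_ne_zero).1 hc
        -- `Y = N`
        have h3 : -r' = Nat.card Q := by
          rw [hc', one_mul] at hXY
          rw [hXY, hN]; push_cast; rfl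
        rw [h3, hc', one_mul] at h2
        have h4 : (n' : ℝ) = l := by
          have h5 : (1 + (Nat.card Q : ℝ)) ≠ 0 := by positivity
          apply mul_right_cancel₀ h5
          rw [h2]; ring
        exact hd1 (trivial_of_degree hnc H' (by exact_mod_cast h4.symm) hd)
      have hY1 : (-r') ^ 2 ≠ 1 := by
        intro hc
        have hc' : -r' = 1 := (pow_eq_one_iff_of_nonneg (by linarith) two_ne_zero).1 hc
        have h3 : r = Nat.card Q := by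
          rw [hc', mul_one] at hXY
          rw [hXY, hN]; push_cast; rfl
        rw [h3, hc', one_mul] at h1
        have h4 : (n : ℝ) = l := by
          have h5 : ((Nat.card Q : ℝ) + 1) ≠ 0 := by positivity
          apply mul_right_cancel₀ h5
          rw [h1]; ring
        exact hd1 (trivial_of_degree hnc H (by exact_mod_cast h4.symm) hd)
      constructor
      · have h3 : 1 ≤ r ^ 2 := by
          rw [hri]
          exact one_le_pow₀ (by exact_mod_cast hp.one_lt.le)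
        have h4 : 1 < r ^ 2 := lt_of_le_of_ne h3 (Ne.symm hX1)
        nlinarith
      · have h3 : 1 ≤ (-r') ^ 2 := by
          rw [neg_sq, hri']
          exact one_le_pow₀ (by exact_mod_cast hp.one_lt.le)
        have h4 : 1 < (-r') ^ 2 := lt_of_le_of_ne h3 (Ne.symm hY1)
        nlinarith
  rcases lt_trichotomy r₁ 0 with h1 | h1 | h1
  · have h2 : 0 < r₂ := by
      by_contra hc'
      have h3 : 0 ≤ r₁ * r₂ := mul_nonneg_of_nonpos_of_nonpos h1.le (not_lt.1 hc')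
      rw [hr12] at h3
      have : (0 : ℝ) < Nat.card Q := by exact_mod_cast hQ0
      linarith
    exact key n₂ n₁ ρ₂ ρ₁ φ₂ φ₁ x₂ x₁ r₂ r₁ i₂ i₁ H₂ H₁ hirr₂ hirr₁ hne.symm hr₂ hr₁ hr₂2 hr₁2
      (by rw [mul_comm]; exact hr12) h2 hx₂1 hx₁1 hdeg₂ hdeg₁ hval₂ hval₁
  · exfalso
    rw [h1, zero_mul] at hr12
    have : (0 : ℝ) < Nat.card Q := by exact_mod_cast hQ0
    linarith
  · exact key n₁ n₂ ρ₁ ρ₂ φ₁ φ₂ x₁ x₂ r₁ r₂ i₁ i₂ H₁ H₂ hirr₁ hirr₂ hne hr₁ hr₂ hr₁2 hr₂2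
      hr12 h1 hx₁1 hx₂1 hdeg₁ hdeg₂ hval₁ hval₂

/-! ### Values -/

theorem pr_conj_B (h : RankOne B Q D W w) {χ : W → ℂ} (hχ : IsClassFunction W χ) {b : G}
    (hb : b ∈ B) (g : G) : χ (pr h (b * g * b⁻¹)) = χ (pr h g) := by
  obtain ⟨v, hv, d, hd, rfl⟩ := h.Bmul b hb
  obtain ⟨u₁, hu₁, u₂, hu₂, he⟩ := pr_spec h g
  have hm : d * (pr h g : G) * d⁻¹ ∈ W :=
    W.mul_mem (W.mul_mem (h.DW hd) (pr h g).2) (W.inv_mem (h.DW hd))
  have h1 : v * d * g * (v * d)⁻¹ =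
      (v * (d * u₁ * d⁻¹)) * (d * (pr h g : G) * d⁻¹) * ((d * u₂ * d⁻¹) * v⁻¹) := by
    conv_lhs => rw [he]
    group
  have h2 : pr h (v * d * g * (v * d)⁻¹) = ⟨d, h.DW hd⟩ * pr h g * ⟨d, h.DW hd⟩⁻¹ := by
    rw [h1, pr_eq h (Q.mul_mem hv (h.Qn d (h.DB hd) _ hu₁))
      (Q.mul_mem (h.Qn d (h.DB hd) _ hu₂) (Q.inv_mem hv)) hm]
    rfl
  rw [h2, hχ]

theorem conj_mem_B_iff (h : RankOne B Q D W w) {u : G} (hu : u ∈ Q) (hu1 : u ≠ 1) (a : G) :
    a * u * a⁻¹ ∈ B ↔ a ∈ B := by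
  constructor
  · intro hc
    by_contra ha
    obtain ⟨b, hb, v, hv, rfl⟩ := h.bruhat' ha
    have h1 : w * (v * u * v⁻¹) * w⁻¹ = b⁻¹ * (b * w * v * u * (b * w * v)⁻¹) * b := by group
    have h2 : w * (v * u * v⁻¹) * w⁻¹ ∈ B := by
      rw [h1]
      exact B.mul_mem (B.mul_mem (B.inv_mem hb) hc) hb
    refine h.not_mem_of_Q' (Q.mul_mem (Q.mul_mem hv hu) (Q.inv_mem hv)) (fun hc' => hu1 ?_) h2
    have h3 : u = v⁻¹ * (v * u * v⁻¹) * v := by group
    rw [h3, hc']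
    group
  · intro ha
    exact B.mul_mem (B.mul_mem ha (h.QB hu)) (B.inv_mem ha)

theorem S₀_Q [Fintype G] (h : RankOne B Q D W w) (χ : W → ℂ) {u : G} (hu : u ∈ Q)
    (hu1 : u ≠ 1) : S₀ h χ u = Nat.card B * χ 1 := by
  classical
  have h1 : ∀ a ∈ (Finset.univ : Finset G), (if a * u * a⁻¹ ∈ B then χ (pr h (a * u * a⁻¹)) else 0)
      = if a ∈ B then χ 1 else 0 := by
    intro a _
    by_cases ha : a ∈ B
    · rw [if_pos ha, if_pos ((conj_mem_B_iff h hu hu1 a).2 ha)]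
      have h2 : a * u * a⁻¹ ∈ Q := h.Qn a ha u hu
      have h3 := pr_eq h h2 Q.one_mem W.one_mem
      rw [mul_one, mul_one] at h3
      rw [h3]
      rfl
    · rw [if_neg ha, if_neg (fun hc => ha ((conj_mem_B_iff h hu hu1 a).1 hc))]
  rw [S₀]
  rw [Finset.sum_congr rfl fun a ha => by
    convert h1 a ha using 1]
  rw [← Finset.sum_filter, Finset.sum_const, nsmul_eq_mul, ← Fintype.card_subtype,
    ← Nat.card_eq_fintype_card]

theorem S₁_central [Fintype G] (h : RankOne B Q D W w) {χ : W → ℂ} (hχ : IsClassFunction W χ)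
    {u : G} (hu : u ∈ Q) (hu1 : u ≠ 1) (hc : ∀ v ∈ Q, v * u = u * v) :
    S₁ h χ u = Nat.card B * Nat.card Q * χ (pr h (w * u * w⁻¹)) := by
  classical
  have h1 : ∀ a ∈ (Finset.univ : Finset G), (if a * u * a⁻¹ ∈ B then 0 else χ (pr h (a * u * a⁻¹)))
      = if a ∉ B then χ (pr h (w * u * w⁻¹)) else 0 := by
    intro a _
    by_cases ha : a ∈ B
    · rw [if_neg (not_not.2 ha), if_pos ((conj_mem_B_iff h hu hu1 a).2 ha)]
    · rw [if_pos ha, if_neg (fun hc => ha ((conj_mem_B_iff h hu hu1 a).1 hc))]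
      obtain ⟨b, hb, v, hv, rfl⟩ := h.bruhat' ha
      have h2 : b * w * v * u * (b * w * v)⁻¹ = b * (w * u * w⁻¹) * b⁻¹ := by
        calc b * w * v * u * (b * w * v)⁻¹ = b * w * (v * u) * v⁻¹ * w⁻¹ * b⁻¹ := by group
          _ = b * w * (u * v) * v⁻¹ * w⁻¹ * b⁻¹ := by rw [hc v hv]
          _ = _ := by group
      rw [h2, pr_conj_B h hχ hb]
  rw [S₁]
  rw [Finset.sum_congr rfl fun a ha => by
    convert h1 a ha using 1]
  rw [← Finset.sum_filter, Finset.sum_const, nsmul_eq_mul, ← Fintype.card_subtype,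
    ← Nat.card_eq_fintype_card]
  congr 1
  have h2 : Nat.card {a : G // a ∉ B} + Nat.card B = Nat.card G := by
    rw [Nat.card_eq_fintype_card, Nat.card_eq_fintype_card, Nat.card_eq_fintype_card,
      Fintype.card_subtype_compl]
    exact Nat.sub_add_cancel (Fintype.card_subtype_le _)
  rw [h.card_eq] at h2
  have h3 : Nat.card {a : G // a ∉ B} = Nat.card B * Nat.card Q := by
    have h4 : (Nat.card Q + 1) * Nat.card B = Nat.card B * Nat.card Q + Nat.card B := by ring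
    omega
  rw [h3]
  push_cast
  rfl

namespace Data

variable [Fintype G] {h : RankOne B Q D W w} {χ : W → ℂ} {p k : ℕ} {X Y : ℝ} {ψ₁ ψ₂ : G → ℂ}

theorem one₁ (hd : Data h χ p k X Y ψ₁ ψ₂) :
    ((X : ℂ) + Y) * ψ₁ 1 = Y * ((Nat.card Q + 1) * χ 1) := by
  have hB : (Nat.card B : ℂ) ≠ 0 := by exact_mod_cast Nat.card_pos.ne'
  have h1 := hd.val₁ 1
  rw [S₀_one, S₁_one, h.card_eq] at h1
  push_cast at h1
  apply mul_left_cancel₀ hB
  linear_combination h1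

theorem one₂ (hd : Data h χ p k X Y ψ₁ ψ₂) :
    ((X : ℂ) + Y) * ψ₂ 1 = X * ((Nat.card Q + 1) * χ 1) := by
  have hB : (Nat.card B : ℂ) ≠ 0 := by exact_mod_cast Nat.card_pos.ne'
  have h1 := hd.val₂ 1
  rw [S₀_one, S₁_one, h.card_eq] at h1
  push_cast at h1
  apply mul_left_cancel₀ hB
  linear_combination h1

theorem central₁ (hd : Data h χ p k X Y ψ₁ ψ₂) (hN : Nat.card Q = p ^ k)
    (hχ : IsClassFunction W χ) {u : G} (hu : u ∈ Q) (hu1 : u ≠ 1) (hc : ∀ v ∈ Q, v * u = u * v) :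
    ((X : ℂ) + Y) * ψ₁ u = Y * (χ 1 + X * χ (pr h (w * u * w⁻¹))) := by
  have hB : (Nat.card B : ℂ) ≠ 0 := by exact_mod_cast Nat.card_pos.ne'
  have h1 := hd.val₁ u
  rw [S₀_Q h χ hu hu1, S₁_central h hχ hu hu1 hc, hN] at h1
  have h2 : (X : ℂ) * Y = p ^ k := by exact_mod_cast hd.mul
  push_cast at h1
  apply mul_left_cancel₀ hB
  linear_combination h1 - (Nat.card B : ℂ) * χ (pr h (w * u * w⁻¹)) * h2

theorem central₂ (hd : Data h χ p k X Y ψ₁ ψ₂) (hN : Nat.card Q = p ^ k)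
    (hχ : IsClassFunction W χ) {u : G} (hu : u ∈ Q) (hu1 : u ≠ 1) (hc : ∀ v ∈ Q, v * u = u * v) :
    ((X : ℂ) + Y) * ψ₂ u = X * (χ 1 - Y * χ (pr h (w * u * w⁻¹))) := by
  have hB : (Nat.card B : ℂ) ≠ 0 := by exact_mod_cast Nat.card_pos.ne'
  have h1 := hd.val₂ u
  rw [S₀_Q h χ hu hu1, S₁_central h hχ hu hu1 hc, hN] at h1
  have h2 : (X : ℂ) * Y = p ^ k := by exact_mod_cast hd.mul
  push_cast at h1
  apply mul_left_cancel₀ hB
  linear_combination h1 + (Nat.card B : ℂ) * χ (pr h (w * u * w⁻¹)) * h2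

/-- The quotient of the eigenvalues is a power of `p`. -/
theorem ratio (hd : Data h χ p k X Y ψ₁ ψ₂) (hp : p.Prime) :
    ∃ m : ℕ, X = Y * p ^ m ∨ Y = X * p ^ m := by
  obtain ⟨i, hi⟩ := hd.sqX
  obtain ⟨j, hj⟩ := hd.sqY
  have hij : i + j = 2 * k := by
    have h1 : (p : ℝ) ^ (i + j) = p ^ (2 * k) := by
      rw [pow_add, ← hi, ← hj, ← mul_pow, hd.mul, ← pow_mul, mul_comm k]
    have h2 : p ^ (i + j) = p ^ (2 * k) := by exact_mod_cast h1
    exact Nat.pow_right_injective hp.two_le h2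
  have hpR : (0 : ℝ) < p := by exact_mod_cast hp.pos
  rcases le_total i j with h1 | h1
  · refine ⟨(j - i) / 2, Or.inr ?_⟩
    have h2 : i + 2 * ((j - i) / 2) = j := by omega
    have h3 : Y ^ 2 = (X * p ^ ((j - i) / 2)) ^ 2 := by
      rw [mul_pow, hi, hj, ← pow_mul, ← pow_add]
      congr 1
      omega
    exact (pow_left_inj₀ hd.posY.le (by have := hd.posX; positivity) two_ne_zero).1 h3
  · refine ⟨(i - j) / 2, Or.inl ?_⟩
    have h3 : X ^ 2 = (Y * p ^ ((i - j) / 2)) ^ 2 := by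
      rw [mul_pow, hi, hj, ← pow_mul, ← pow_add]
      congr 1
      omega
    exact (pow_left_inj₀ hd.posX.le (by have := hd.posY; positivity) two_ne_zero).1 h3

theorem cent₁ (hd : Data h χ p k X Y ψ₁ ψ₂) (hN : Nat.card Q = p ^ k)
    (hχ : IsClassFunction W χ) {m : ℕ} (hm : X = Y * p ^ m) {u : G} (hu : u ∈ Q) (hu1 : u ≠ 1)
    (hc : ∀ v ∈ Q, v * u = u * v) :
    (1 + (p : ℂ) ^ m) * ψ₁ u = χ 1 + X * χ (pr h (w * u * w⁻¹)) := by
  have h1 := hd.central₁ hN hχ hu hu1 hc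
  have hY : (Y : ℂ) ≠ 0 := by exact_mod_cast hd.posY.ne'
  have h2 : (X : ℂ) = Y * p ^ m := by exact_mod_cast hm
  apply mul_left_cancel₀ hY
  linear_combination h1 - ψ₁ u * h2

theorem cent₂ (hd : Data h χ p k X Y ψ₁ ψ₂) (hN : Nat.card Q = p ^ k)
    (hχ : IsClassFunction W χ) {m : ℕ} (hm : Y = X * p ^ m) {u : G} (hu : u ∈ Q) (hu1 : u ≠ 1)
    (hc : ∀ v ∈ Q, v * u = u * v) :
    (1 + (p : ℂ) ^ m) * ψ₂ u = χ 1 - Y * χ (pr h (w * u * w⁻¹)) := by
  have h1 := hd.central₂ hN hχ hu hu1 hc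
  have hX : (X : ℂ) ≠ 0 := by exact_mod_cast hd.posX.ne'
  have h2 : (Y : ℂ) = X * p ^ m := by exact_mod_cast hm
  apply mul_left_cancel₀ hX
  linear_combination h1 - ψ₂ u * h2

/-- From `(1 + p ^ m) δ = Z c`, `Z ^ 2 = p ^ i`: `1 + p ^ m` divides `c`. -/
theorem dvd_aux {p m i : ℕ} (hp : p.Prime) (hp2 : p ≠ 2) {Z c δ : ℂ} (hZ : IsIntegral ℤ Z)
    (hc : IsIntegral ℤ c) (hδ : IsIntegral ℤ δ) (hZi : Z ^ 2 = p ^ i)
    (he : (1 + (p : ℂ) ^ m) * δ = Z * c) : ∃ z : ℂ, IsIntegral ℤ z ∧ c = (1 + (p : ℂ) ^ m) * z := by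
  have hcop : Nat.Coprime (1 + p ^ m) (p ^ i) := by
    apply Nat.Coprime.pow_right
    rcases Nat.eq_zero_or_pos m with hm | hm
    · rw [hm, pow_zero]
      rw [Nat.coprime_comm]
      exact (Nat.coprime_primes hp Nat.prime_two).2 hp2
    · have h2 : Nat.Coprime (1 + p ^ m) (p ^ m) := by
        rw [Nat.coprime_iff_gcd_eq_one]
        simp
      exact Nat.Coprime.coprime_dvd_right (dvd_pow_self p hm.ne') h2
  obtain ⟨a, b, hab⟩ : ∃ a b : ℤ, a * (1 + (p : ℤ) ^ m) + b * (p : ℤ) ^ i = 1 := by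
    have h1 : IsCoprime ((1 + p ^ m : ℕ) : ℤ) ((p ^ i : ℕ) : ℤ) := Nat.isCoprime_iff_coprime.2 hcop
    obtain ⟨a, b, hab⟩ := h1
    exact ⟨a, b, by push_cast at hab; exact hab⟩
  have hab' : (a : ℂ) * (1 + (p : ℂ) ^ m) + b * (p : ℂ) ^ i = 1 := by exact_mod_cast hab
  have ha : IsIntegral ℤ (a : ℂ) := isIntegral_algebraMap (R := ℤ) (A := ℂ) (x := a)
  have hb : IsIntegral ℤ (b : ℂ) := isIntegral_algebraMap (R := ℤ) (A := ℂ) (x := b)
  refine ⟨a * c + b * (Z * δ), (ha.mul hc).add (hb.mul (hZ.mul hδ)), ?_⟩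
  linear_combination (-c) * hab' - (b : ℂ) * c * hZi - (b : ℂ) * Z * he

/-- **Divisibility.** -/
theorem dvd (hd : Data h χ p k X Y ψ₁ ψ₂) (hN : Nat.card Q = p ^ k) (hp : p.Prime) (hp2 : p ≠ 2)
    (hχ : IsCharacter W χ) {m : ℕ} (hm : X = Y * p ^ m ∨ Y = X * p ^ m) {u u' : G} (hu : u ∈ Q)
    (hu1 : u ≠ 1) (hc : ∀ v ∈ Q, v * u = u * v) (hu' : u' ∈ Q) (hu1' : u' ≠ 1)
    (hc' : ∀ v ∈ Q, v * u' = u' * v) :
    ∃ z : ℂ, IsIntegral ℤ z ∧
      χ (pr h (w * u * w⁻¹)) - χ (pr h (w * u' * w⁻¹)) = (1 + (p : ℂ) ^ m) * z := by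
  have hcl := isCharacter_isClassFunction hχ
  have hint : ∀ g, IsIntegral ℤ (χ g) := by
    intro g
    exact Characters.GaloisBasic.isIntegral_apply hχ g
  have hint₁ : ∀ g, IsIntegral ℤ (ψ₁ g) := fun g =>
    Characters.GaloisBasic.isIntegral_apply (isIrr_isCharacter hd.irr₁) g
  have hint₂ : ∀ g, IsIntegral ℤ (ψ₂ g) := fun g =>
    Characters.GaloisBasic.isIntegral_apply (isIrr_isCharacter hd.irr₂) g
  rcases hm with hm | hm
  · obtain ⟨i, hi⟩ := hd.sqX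
    have h1 := hd.cent₁ hN hcl hm hu hu1 hc
    have h2 := hd.cent₁ hN hcl hm hu' hu1' hc'
    exact dvd_aux hp hp2 (Z := (X : ℂ)) (δ := ψ₁ u - ψ₁ u') hd.intX ((hint _).sub (hint _))
      ((hint₁ _).sub (hint₁ _)) (by exact_mod_cast hi) (by linear_combination h1 - h2)
  · obtain ⟨j, hj⟩ := hd.sqY
    have h1 := hd.cent₂ hN hcl hm hu hu1 hc
    have h2 := hd.cent₂ hN hcl hm hu' hu1' hc'
    exact dvd_aux hp hp2 (Z := (Y : ℂ)) (δ := ψ₂ u' - ψ₂ u) hd.intY ((hint _).sub (hint _))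
      ((hint₂ _).sub (hint₂ _)) (by exact_mod_cast hj) (by linear_combination h2 - h1)

end Data

end Cfsg.Agent.HKS.CharPair
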