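import Mathlib

/-!
# Arithmetic for the linear character argument
-/

set_option autoImplicit false

namespace Cfsg.Agent.HKS.LinNum

/-- `p ^ f + 1 ∣ p ^ k + 1` implies that `k / f` is an odd integer. -/
theorem odd_of_dvd {p f k : ℕ} (hp : 1 < p) (hf : 0 < f) (h : p ^ f + 1 ∣ p ^ k + 1) :
    ∃ l, k = f * (2 * l + 1) := by
  obtain ⟨q, r, hr, rfl⟩ : ∃ q r, r < f ∧ k = f * q + r :=
    ⟨k / f, k % f, Nat.mod_lt _ hf, (Nat.div_add_mod k f).symm⟩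
  have h1 : ((p ^ f + 1 : ℕ) : ℤ) ∣ (p : ℤ) ^ (f * q + r) + 1 := by
    have := Int.natCast_dvd_natCast.2 h
    push_cast at this ⊢
    exact this
  have h2 : ((p ^ f + 1 : ℕ) : ℤ) ∣ ((p : ℤ) ^ f) ^ q - (-1) ^ q := by
    have h3 := sub_dvd_pow_sub_pow ((p : ℤ) ^ f) (-1) q
    have h4 : (p : ℤ) ^ f - (-1) = ((p ^ f + 1 : ℕ) : ℤ) := by push_cast; ring
    rwa [h4] at h3
  have h3 : ((p ^ f + 1 : ℕ) : ℤ) ∣ (-1) ^ q * (p : ℤ) ^ r + 1 := by
    have h4 : (-1) ^ q * (p : ℤ) ^ r + 1 = ((p : ℤ) ^ (f * q + r) + 1) -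
        (p : ℤ) ^ r * (((p : ℤ) ^ f) ^ q - (-1) ^ q) := by
      rw [pow_add, pow_mul]; ring
    rw [h4]
    exact dvd_sub h1 (Dvd.dvd.mul_left h2 _)
  have hlt : p ^ r < p ^ f := Nat.pow_lt_pow_right hp hr
  have hpos : 0 < p ^ r := pow_pos (by omega) r
  rcases Nat.even_or_odd q with hq | hq
  · exfalso
    rw [hq.neg_one_pow, one_mul] at h3
    have h4 : p ^ f + 1 ∣ p ^ r + 1 := by
      have h5 : ((p ^ f + 1 : ℕ) : ℤ) ∣ ((p ^ r + 1 : ℕ) : ℤ) := by push_cast at h3 ⊢; exact h3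
      exact Int.natCast_dvd_natCast.1 h5
    have := Nat.le_of_dvd (by omega) h4
    omega
  · rw [hq.neg_one_pow] at h3
    have h4 : p ^ f + 1 ∣ p ^ r - 1 := by
      have h5 : ((p ^ f + 1 : ℕ) : ℤ) ∣ ((p ^ r - 1 : ℕ) : ℤ) := by
        rw [Nat.cast_sub hpos]
        push_cast at h3 ⊢
        have h6 := dvd_neg.2 h3
        have h7 : -(-1 * (p : ℤ) ^ r + 1) = (p : ℤ) ^ r - 1 := by ring
        rwa [h7] at h6
      exact Int.natCast_dvd_natCast.1 h5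
    have h5 : p ^ r - 1 = 0 := Nat.eq_zero_of_dvd_of_lt h4 (by omega)
    have h6 : p ^ r = 1 := by omega
    have h7 : r = 0 := by
      rcases Nat.eq_zero_or_pos r with hr0 | hr0
      · exact hr0
      · exact absurd h6 (Nat.one_lt_pow hr0.ne' hp).ne'
    obtain ⟨l, hl⟩ := hq
    exact ⟨l, by rw [h7, hl, add_zero]⟩

/-- The arithmetic of the linear character argument. -/
theorem main {p k e X Y c₁ : ℕ} {c : ℤ} (hp : p.Prime) (hXY : X * Y = p ^ k) (hX : 1 < X)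
    (hY : 1 < Y) (h1 : (X + Y) * c₁ = Y * (p ^ k + 1))
    (hc : ((X : ℤ) + Y) * c = Y * (p ^ e + 1) + (p ^ k - p ^ e)) :
    (X = Y ∧ k ≤ 2 * e) ∨ ∃ f l, 1 ≤ f ∧ 1 ≤ l ∧ k = f * (2 * l + 1) ∧ f * l ≤ e ∧
      ((X = p ^ (f * l) ∧ Y = p ^ (f * l + f)) ∨ (Y = p ^ (f * l) ∧ X = p ^ (f * l + f))) := by
  obtain ⟨i, hi, rfl⟩ := (Nat.dvd_prime_pow hp).1 ⟨Y, hXY.symm⟩
  obtain ⟨j, hj, rfl⟩ := (Nat.dvd_prime_pow hp).1 ⟨p ^ i, by rw [mul_comm]; exact hXY.symm⟩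
  have hij : i + j = k := by
    rw [← pow_add] at hXY
    exact Nat.pow_right_injective hp.two_le hXY
  have hi0 : 0 < i := by
    rcases Nat.eq_zero_or_pos i with h | h
    · rw [h, pow_zero] at hX; exact absurd hX (lt_irrefl _)
    · exact h
  have hj0 : 0 < j := by
    rcases Nat.eq_zero_or_pos j with h | h
    · rw [h, pow_zero] at hY; exact absurd hY (lt_irrefl _)
    · exact h
  have hpi : ∀ m : ℕ, m ≤ i → m ≤ j → m ≤ e := by
    intro m hmi hmj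
    have h2 : (p : ℤ) ^ m ∣ p ^ e := by
      have h3 : (p : ℤ) ^ e = ((p ^ j : ℕ) : ℤ) * (p ^ e + 1) + p ^ k -
          (((p ^ i : ℕ) : ℤ) + (p ^ j : ℕ)) * c := by rw [hc]; ring
      rw [h3]
      have h4 : (p : ℤ) ^ m ∣ ((p ^ i : ℕ) : ℤ) := by push_cast; exact pow_dvd_pow _ hmi
      have h5 : (p : ℤ) ^ m ∣ ((p ^ j : ℕ) : ℤ) := by push_cast; exact pow_dvd_pow _ hmj
      have h6 : (p : ℤ) ^ m ∣ (p : ℤ) ^ k := pow_dvd_pow _ (by omega)
      exact dvd_sub (dvd_add (Dvd.dvd.mul_right h5 _) h6) (Dvd.dvd.mul_right (dvd_add h4 h5) _)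
    have h3 : p ^ m ∣ p ^ e := by exact_mod_cast h2
    exact (Nat.pow_dvd_pow_iff_le_right hp.one_lt).1 h3
  have hcop : ∀ f : ℕ, 0 < f → Nat.Coprime (p ^ f + 1) p := by
    intro f hf
    have h2 : Nat.Coprime (p ^ f + 1) (p ^ f) := by
      rw [Nat.coprime_iff_gcd_eq_one]
      simp
    exact Nat.Coprime.coprime_dvd_right (dvd_pow_self p hf.ne') h2
  rcases lt_trichotomy i j with h | h | h
  · right
    obtain ⟨f, hf0, rfl⟩ : ∃ f, 0 < f ∧ j = i + f := ⟨j - i, by omega, by omega⟩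
    have h2 : p ^ f + 1 ∣ p ^ k + 1 := by
      have h3 : p ^ i * ((p ^ f + 1) * c₁) = p ^ i * (p ^ f * (p ^ k + 1)) := by
        calc p ^ i * ((p ^ f + 1) * c₁) = (p ^ i + p ^ (i + f)) * c₁ := by rw [pow_add]; ring
          _ = p ^ (i + f) * (p ^ k + 1) := h1
          _ = _ := by rw [pow_add]; ring
      have h4 := Nat.eq_of_mul_eq_mul_left (pow_pos hp.pos i) h3
      have h5 : p ^ f + 1 ∣ p ^ f * (p ^ k + 1) := ⟨c₁, h4.symm⟩
      exact (Nat.Coprime.pow_right _ (hcop _ hf0)).dvd_of_dvd_mul_left h5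
    obtain ⟨l, hl⟩ := odd_of_dvd hp.one_lt hf0 h2
    have hil : i = f * l := by
      have h5 : f * (2 * l + 1) = 2 * (f * l) + f := by ring
      omega
    refine ⟨f, l, hf0, ?_, hl, ?_, Or.inl ⟨by rw [← hil], by rw [← hil]⟩⟩
    · rcases Nat.eq_zero_or_pos l with h3 | h3
      · rw [h3, mul_zero] at hil; omega
      · exact h3
    · rw [← hil]; exact hpi i le_rfl (by omega)
  · left
    refine ⟨by rw [h], ?_⟩
    have := hpi i le_rfl (by omega)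
    omega
  · right
    obtain ⟨f, hf0, rfl⟩ : ∃ f, 0 < f ∧ i = j + f := ⟨i - j, by omega, by omega⟩
    have h2 : p ^ f + 1 ∣ p ^ k + 1 := by
      have h3 : p ^ j * ((p ^ f + 1) * c₁) = p ^ j * (p ^ k + 1) := by
        calc p ^ j * ((p ^ f + 1) * c₁) = (p ^ (j + f) + p ^ j) * c₁ := by rw [pow_add]; ring
          _ = _ := h1
      have h4 := Nat.eq_of_mul_eq_mul_left (pow_pos hp.pos j) h3
      exact ⟨c₁, h4.symm⟩
    obtain ⟨l, hl⟩ := odd_of_dvd hp.one_lt hf0 h2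
    have hil : j = f * l := by
      have h5 : f * (2 * l + 1) = 2 * (f * l) + f := by ring
      omega
    refine ⟨f, l, hf0, ?_, hl, ?_, Or.inr ⟨by rw [← hil], by rw [← hil]⟩⟩
    · rcases Nat.eq_zero_or_pos l with h3 | h3
      · rw [h3, mul_zero] at hil; omega
      · exact h3
    · rw [← hil]; exact hpi j (by omega) le_rfl

/-- If moreover `k / e` is odd, then `k = 3 e` and `{X, Y} = {p ^ e, p ^ (2 e)}`. -/
theorem cube {p k e X Y c₁ : ℕ} {c : ℤ} (hp : p.Prime) (hXY : X * Y = p ^ k) (hX : 1 < X)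
    (hY : 1 < Y) (h1 : (X + Y) * c₁ = Y * (p ^ k + 1))
    (hc : ((X : ℤ) + Y) * c = Y * (p ^ e + 1) + (p ^ k - p ^ e)) (he : 0 < e) {l' : ℕ}
    (hk : k = e * (2 * l' + 1)) (hl' : 0 < l') :
    k = 3 * e ∧ ((X = p ^ e ∧ Y = p ^ (2 * e)) ∨ (Y = p ^ e ∧ X = p ^ (2 * e))) := by
  have h3 : 3 * e ≤ k := by
    rw [hk]
    calc 3 * e = e * 3 := by ring
      _ ≤ e * (2 * l' + 1) := Nat.mul_le_mul_left _ (by omega)
  rcases main hp hXY hX hY h1 hc with ⟨-, h4⟩ | ⟨f, l, hf, hl, hk', hfl, h5⟩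
  · omega
  · have h6 : k ≤ 3 * (f * l) := by
      rw [hk']
      calc f * (2 * l + 1) ≤ f * (3 * l) := Nat.mul_le_mul_left _ (by omega)
        _ = _ := by ring
    have h7 : f * l = e := by omega
    have h8 : k = 3 * e := by omega
    have h9 : f = f * l := by
      have h10 : f * (2 * l + 1) = 2 * (f * l) + f := by ring
      omega
    refine ⟨h8, ?_⟩
    have h11 : f * l + f = 2 * e := by omega
    rw [h11, h7] at h5
    exact h5

end Cfsg.Agent.HKS.LinNum
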