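import Mathlib
import Cfsg.Agent.HKS.ModPSplit
import Cfsg.Agent.HKS.LinChar
import Cfsg.Agent.HKS.LinNum

/-!
# The linear character argument in permutation form

`SSplit U`, `G = ⟨U c⟩`, `|U a| = p ^ k`, `p` odd, `t` an involution moving a point, `n_t + 1` its
number of fixed points. Let `lam : D →* ℂˣ` be a nontrivial linear character of `D = Dab a b`,
invariant under the elements interchanging `a` and `b`, trivial on `t^G ∩ D` and on the products of
two conjugates of `t` interchanging `a` and `b` (automatic if `lam` has odd order). Then there are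
`X Y > 1` with `X Y = |U a|` and `ψ ∈ Irr(G)` with `(X + Y) ψ(1) = Y (N + 1)` and
`(X + Y) ψ(t) = Y (n_t + 1) + N - n_t`.

If `n_t = p ^ e` and `k / e` is odd then `k = 3 e` and `{X, Y} = {p ^ e, p ^ (2 e)}`.
-/

set_option autoImplicit false

namespace Cfsg.Agent.HKS.LinSplit

open Subgroup MulAction LinChar

/-! ### Extension of invariant characters -/

section ext

variable {G Ω : Type*} [Group G] [MulAction G Ω]

theorem mul_inv_mem {a b : Ω} {g m : G} (hg : Swaps g a b) (hm : Swaps m a b) :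
    g * m⁻¹ ∈ Dab G a b := hg.mul hm.inv

open scoped Classical in
/-- A linear character of `D` invariant under the involution `m` interchanging `a` and `b` extends
to `W`, with value `1` at `m`. -/
noncomputable def extend {a b : Ω} (hab : b ≠ a) (lam : Dab G a b →* ℂˣ) {m : G}
    (hm : Swaps m a b) (hm2 : m * m = 1)
    (hinv : ∀ d e : Dab G a b, (e : G) = m * d * m⁻¹ → lam e = lam d) : Wab G a b →* ℂˣ where
  toFun g := if h : (g : G) ∈ Dab G a b then lam ⟨g, h⟩ else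
    lam ⟨(g : G) * m⁻¹, mul_inv_mem ((mem_Wab_not_mem_Dab hab).1 ⟨g.2, h⟩) hm⟩
  map_one' := by
    rw [dif_pos (by rw [OneMemClass.coe_one]; exact one_mem _)]
    exact map_one lam
  map_mul' := by
    have hmi : m⁻¹ = m := inv_eq_of_mul_eq_one_left hm2
    intro g g'
    have hcoe : ((g * g' : Wab G a b) : G) = (g : G) * g' := rfl
    by_cases hg : (g : G) ∈ Dab G a b
    · by_cases hg' : (g' : G) ∈ Dab G a b
      · have h1 : ((g * g' : Wab G a b) : G) ∈ Dab G a b := mul_mem hg hg'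
        rw [dif_pos h1, dif_pos hg, dif_pos hg', ← map_mul]
        rfl
      · have hs' := (mem_Wab_not_mem_Dab hab).1 ⟨g'.2, hg'⟩
        have h1 : ((g * g' : Wab G a b) : G) ∉ Dab G a b := fun hc => hg' (by
          have := mul_mem (inv_mem hg) hc
          rwa [hcoe, inv_mul_cancel_left] at this)
        rw [dif_neg h1, dif_pos hg, dif_neg hg', ← map_mul]
        congr 1
        apply Subtype.ext
        change (g : G) * g' * m⁻¹ = g * (g' * m⁻¹)
        group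
    · have hs := (mem_Wab_not_mem_Dab hab).1 ⟨g.2, hg⟩
      by_cases hg' : (g' : G) ∈ Dab G a b
      · have h1 : ((g * g' : Wab G a b) : G) ∉ Dab G a b := fun hc => hg (by
          have := mul_mem hc (inv_mem hg')
          rwa [hcoe, mul_inv_cancel_right] at this)
        rw [dif_neg h1, dif_neg hg, dif_pos hg']
        have h2 : m * (g' : G) * m⁻¹ ∈ Dab G a b := by
          have := (hm.mul_D hg').mul hm.inv
          exact this
        rw [← hinv ⟨g', hg'⟩ ⟨m * (g' : G) * m⁻¹, h2⟩ rfl, ← map_mul]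
        congr 1
        apply Subtype.ext
        change (g : G) * g' * m⁻¹ = g * m⁻¹ * (m * g' * m⁻¹)
        group
      · have hs' := (mem_Wab_not_mem_Dab hab).1 ⟨g'.2, hg'⟩
        have h1 : ((g * g' : Wab G a b) : G) ∈ Dab G a b := hs.mul hs'
        rw [dif_pos h1, dif_neg hg, dif_neg hg']
        have h2 : m * ((g' : G) * m⁻¹) * m⁻¹ ∈ Dab G a b := by
          have := (hm.mul_D (mul_inv_mem hs' hm)).mul hm.inv
          exact this
        rw [← hinv ⟨(g' : G) * m⁻¹, mul_inv_mem hs' hm⟩ ⟨m * ((g' : G) * m⁻¹) * m⁻¹, h2⟩ rfl,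
          ← map_mul]
        congr 1
        apply Subtype.ext
        change (g : G) * g' = g * m⁻¹ * (m * (g' * m⁻¹) * m⁻¹)
        rw [hmi]
        calc (g : G) * g' = g * g' * 1 := by rw [mul_one]
          _ = g * g' * (m * m) := by rw [hm2]
          _ = g * 1 * (g' * m) * m := by group
          _ = g * (m * m) * (g' * m) * m := by rw [hm2]
          _ = _ := by group

theorem extend_D {a b : Ω} (hab : b ≠ a) (lam : Dab G a b →* ℂˣ) {m : G}
    (hm : Swaps m a b) (hm2 : m * m = 1)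
    (hinv : ∀ d e : Dab G a b, (e : G) = m * d * m⁻¹ → lam e = lam d) {g : Wab G a b}
    (hg : (g : G) ∈ Dab G a b) : extend hab lam hm hm2 hinv g = lam ⟨g, hg⟩ := dif_pos hg

theorem extend_swaps {a b : Ω} (hab : b ≠ a) (lam : Dab G a b →* ℂˣ) {m : G}
    (hm : Swaps m a b) (hm2 : m * m = 1)
    (hinv : ∀ d e : Dab G a b, (e : G) = m * d * m⁻¹ → lam e = lam d) {g : Wab G a b}
    (hg : Swaps (g : G) a b) :
    extend hab lam hm hm2 hinv g = lam ⟨(g : G) * m⁻¹, mul_inv_mem hg hm⟩ :=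
  dif_neg ((mem_Wab_not_mem_Dab hab).2 hg).2

end ext

/-! ### Involutions are good -/

section good

variable {G : Type*} [Group G] {B Q D W : Subgroup G} {w : G}

/-- An involution `u d ∈ B` is conjugate to `d` if `|Q|` is odd. -/
theorem conj_of_inv (h : RankOne B Q D W w) [Finite G] (hodd : Odd (Nat.card Q)) {u d : G}
    (hu : u ∈ Q) (hd : d ∈ D) (he : (u * d) * (u * d) = 1) : ∃ v ∈ Q, v * d * v⁻¹ = u * d := by
  -- `d * d = 1`
  have h1 : u * (d * u * d⁻¹) * (d * d) = 1 := by rw [← he]; group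
  have h2 : u * (d * u * d⁻¹) ∈ Q := Q.mul_mem hu (h.Qn d (h.DB hd) u hu)
  have h3 : d * d = 1 := by
    have h4 : (u * (d * u * d⁻¹))⁻¹ = d * d := inv_eq_of_mul_eq_one_right h1
    exact h.QD _ (by rw [← h4]; exact Q.inv_mem h2) (D.mul_mem hd hd)
  rw [h3, mul_one] at h1
  have h4 : d * u * d⁻¹ = u⁻¹ := (inv_eq_of_mul_eq_one_right h1).symm
  obtain ⟨c, hc⟩ := hodd
  have h5 : u ^ (2 * c + 1) = 1 := by
    have h6 : (⟨u, hu⟩ : Q) ^ Nat.card Q = 1 := pow_card_eq_one'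
    have h7 := congrArg Subtype.val h6
    rw [hc] at h7
    exact h7
  refine ⟨u ^ (c + 1), Q.pow_mem hu _, ?_⟩
  have h6 : d * (u ^ (c + 1))⁻¹ * d⁻¹ = u ^ (c + 1) := by
    have h7 : d * (u ^ (c + 1))⁻¹ * d⁻¹ = ((d * u * d⁻¹) ^ (c + 1))⁻¹ := by
      rw [conj_pow]; group
    rw [h7, h4, inv_pow, inv_inv]
  calc u ^ (c + 1) * d * (u ^ (c + 1))⁻¹ = u ^ (c + 1) * (d * (u ^ (c + 1))⁻¹ * d⁻¹) * d := by
        group
    _ = u ^ (c + 1) * u ^ (c + 1) * d := by rw [h6]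
    _ = u ^ (2 * c + 1) * u * d := by
        rw [← pow_add, ← pow_succ]; congr 2; omega
    _ = u * d := by rw [h5, one_mul]

/-- The `W`-component of an involution is conjugate to it. -/
theorem isConj_pr (h : RankOne B Q D W w) [Finite G] (hodd : Odd (Nat.card Q)) {g : G}
    (hg : g * g = 1) : IsConj g (pr h g : G) := by
  obtain ⟨u₁, hu₁, u₂, hu₂, he⟩ := pr_spec h g
  have h1 : u₂ * g * u₂⁻¹ = (u₂ * u₁) * (pr h g : G) := by
    conv_lhs => rw [he]
    group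
  have h2 : ((u₂ * u₁) * (pr h g : G)) * ((u₂ * u₁) * (pr h g : G)) = 1 := by
    rw [← h1]
    calc u₂ * g * u₂⁻¹ * (u₂ * g * u₂⁻¹) = u₂ * (g * g) * u₂⁻¹ := by group
      _ = 1 := by rw [hg]; group
  have h3 : IsConj g ((u₂ * u₁) * (pr h g : G)) := isConj_iff.2 ⟨u₂, h1⟩
  by_cases hD : (pr h g : G) ∈ D
  · obtain ⟨v, hv, hvd⟩ := conj_of_inv h hodd (Q.mul_mem hu₂ hu₁) hD h2
    exact h3.trans (isConj_iff.2 ⟨v, hvd⟩).symm
  · have h4 := ModPInv.eq_one_of_inv h (Q.mul_mem hu₂ hu₁) (pr h g).2 hD h2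
    rwa [h4, one_mul] at h3

theorem good_of_inv (h : RankOne B Q D W w) [Finite G] (hodd : Odd (Nat.card Q)) {χ : W → ℂ}
    {t : G} (ht : t * t = 1) (hχ : ∀ m : W, IsConj t (m : G) → χ m = 1) : Good h χ t := by
  intro a
  have h1 : (a * t * a⁻¹) * (a * t * a⁻¹) = 1 := by
    calc a * t * a⁻¹ * (a * t * a⁻¹) = a * (t * t) * a⁻¹ := by group
      _ = 1 := by rw [ht]; group
  have h2 : IsConj t (a * t * a⁻¹) := isConj_iff.2 ⟨a, rfl⟩
  exact hχ _ (h2.trans (isConj_pr h hodd h1))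

/-- Characters take integer values at involutions. -/
theorem exists_int [Finite G] {χ : G → ℂ} (hχ : IsIrrCharacter G χ) {t : G} (ht : t * t = 1) :
    ∃ c : ℤ, χ t = c := by
  have hch := Characters.Core.isIrr_isCharacter hχ
  apply Characters.GaloisBasic.exists_int_of_rat hch
  rw [Characters.GaloisBasic.exists_rat_iff hch]
  intro m hm
  by_cases ht1 : t = 1
  · rw [ht1, one_pow]
  · have h2 : orderOf t = 2 := by
      rw [orderOf_eq_prime_iff]
      exact ⟨by rw [sq, ht], ht1⟩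
    have h3 : 2 ∣ Nat.card G := by rw [← h2]; exact orderOf_dvd_natCard t
    have h4 : Odd m := by
      rw [← Nat.not_even_iff_odd]
      intro hc
      have h5 : 2 ∣ Nat.gcd m (Nat.card G) := Nat.dvd_gcd hc.two_dvd h3
      rw [hm] at h5
      exact absurd h5 (by norm_num)
    obtain ⟨c, hc⟩ := h4
    have h6 : t ^ m = t := by
      rw [hc, pow_add, pow_mul, sq, ht, one_pow, one_mul, pow_one]
    rw [h6]

end good

/-! ### Counting -/

section count

variable {G Ω : Type*} [Group G] [MulAction G Ω] {U : Ω → Subgroup G}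

theorem card_stab (h : SSplit U) {a c : Ω} :
    Nat.card {y : G // y • c = a} = Nat.card (stabilizer G a) := by
  obtain ⟨g, hg⟩ := h.tr c a
  refine Nat.card_congr ⟨fun y => ⟨y.1 * g⁻¹, ?_⟩, fun y => ⟨y.1 * g, ?_⟩, fun y => ?_,
    fun y => ?_⟩
  · rw [mem_stabilizer_iff, mul_smul, inv_smul_eq_iff.2 hg.symm, y.2]
  · rw [mul_smul, hg]
    exact y.2
  · apply Subtype.ext
    simp
  · apply Subtype.ext
    simp

/-- The number of `y` with `P (y⁻¹ • a)`. -/
theorem card_sigma (h : SSplit U) [Finite G] [Finite Ω] (a : Ω) (P : Ω → Prop) :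
    Nat.card {y : G // P (y⁻¹ • a)} = Nat.card {c : Ω // P c} * Nat.card (stabilizer G a) := by
  classical
  have e : (Σ c : {c : Ω // P c}, {y : G // y • (c : Ω) = a}) ≃ {y : G // P (y⁻¹ • a)} := by
    refine Equiv.ofBijective (fun x => ⟨x.2.1, ?_⟩) ⟨?_, ?_⟩
    · have h2 : x.2.1⁻¹ • a = (x.1 : Ω) := inv_smul_eq_iff.2 x.2.2.symm
      rw [h2]
      exact x.1.2
    · rintro ⟨⟨c, hc⟩, ⟨y, hy⟩⟩ ⟨⟨c', hc'⟩, ⟨y', hy'⟩⟩ he
      have h2 : y = y' := congrArg Subtype.val he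
      subst h2
      have h3 : c = c' := MulAction.injective y (hy.trans hy'.symm)
      subst h3
      rfl
    · rintro ⟨y, hy⟩
      exact ⟨⟨⟨y⁻¹ • a, hy⟩, ⟨y, smul_inv_smul _ _⟩⟩, rfl⟩
  have := Fintype.ofFinite {c : Ω // P c}
  rw [← Nat.card_congr e, Nat.card_sigma]
  have h3 : ∀ c ∈ (Finset.univ : Finset {c : Ω // P c}),
      Nat.card {y : G // y • (c : Ω) = a} = Nat.card (stabilizer G a) := fun c _ => card_stab h
  rw [Finset.sum_congr rfl h3, Finset.sum_const, Finset.card_univ, smul_eq_mul,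
    ← Nat.card_eq_fintype_card]

theorem conj_mem_stab (a : Ω) (y t : G) :
    y * t * y⁻¹ ∈ stabilizer G a ↔ t • (y⁻¹ • a) = y⁻¹ • a := by
  rw [mem_stabilizer_iff, mul_smul, mul_smul, eq_inv_smul_iff]

theorem card_fix (h : SSplit U) [Finite G] [Finite Ω] (a : Ω) (t : G) :
    Nat.card {y : G // y * t * y⁻¹ ∈ stabilizer G a} =
      Nat.card (fixedBy Ω t) * Nat.card (stabilizer G a) := by
  have h1 := card_sigma h a (fun c => t • c = c)
  have h2 : Nat.card {y : G // y * t * y⁻¹ ∈ stabilizer G a} =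
      Nat.card {y : G // t • (y⁻¹ • a) = y⁻¹ • a} :=
    Nat.card_congr (Equiv.subtypeEquivRight fun y => conj_mem_stab a y t)
  rw [h2]
  exact h1

theorem card_move (h : SSplit U) [Finite G] [Finite Ω] (a : Ω) (t : G) :
    Nat.card {y : G // y * t * y⁻¹ ∉ stabilizer G a} =
      (Nat.card Ω - Nat.card (fixedBy Ω t)) * Nat.card (stabilizer G a) := by
  have h1 := card_sigma h a (fun c => ¬ t • c = c)
  have h2 : Nat.card {y : G // y * t * y⁻¹ ∉ stabilizer G a} =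
      Nat.card {y : G // ¬ t • (y⁻¹ • a) = y⁻¹ • a} :=
    Nat.card_congr (Equiv.subtypeEquivRight fun y => not_congr (conj_mem_stab a y t))
  have h3 : Nat.card Ω - Nat.card (fixedBy Ω t) = Nat.card {c : Ω // ¬ t • c = c} := by
    classical
    have := Fintype.ofFinite Ω
    rw [Nat.card_eq_fintype_card, Nat.card_eq_fintype_card, Nat.card_eq_fintype_card,
      Fintype.card_subtype_compl]
    rfl
  rw [h2, h3]
  exact h1

end count

/-! ### The theorem -/

section main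

variable {G Ω : Type*} [Group G] [MulAction G Ω] {U : Ω → Subgroup G}

/-- **Linear characters of `W`**. -/
theorem lin_char (h : SSplit U) [Finite G] [Finite Ω] (hgen : (⨆ c, U c) = ⊤) {a b : Ω}
    (hab : b ≠ a) {p k : ℕ} (hp : p.Prime) (hp2 : p ≠ 2) (hN : Nat.card (U a) = p ^ k)
    (lam : Wab G a b →* ℂˣ) {d : Wab G a b} (hd : (d : G) ∈ Dab G a b) (hlam : lam d ≠ 1) {t : G}
    (ht : t * t = 1) {c₀ : Ω} (hc₀ : t • c₀ ≠ c₀)
    (hone : ∀ m : Wab G a b, IsConj t (m : G) → lam m = 1) :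
    ∃ X Y : ℕ, X * Y = Nat.card (U a) ∧ 1 < X ∧ 1 < Y ∧ ∃ ψ : G → ℂ, IsIrrCharacter G ψ ∧
      ((X : ℂ) + Y) * ψ 1 = Y * (Nat.card (U a) + 1) ∧
      ((X : ℂ) + Y) * ψ t = Y * Nat.card (fixedBy Ω t) +
        (Nat.card Ω - Nat.card (fixedBy Ω t)) := by
  classical
  obtain ⟨w, hw⟩ := h.exists_swaps hab
  have := Fintype.ofFinite G
  have := Fintype.ofFinite Ω
  have hodd : Odd (Nat.card (U a)) := by
    rw [hN]
    exact (hp.odd_of_ne_two hp2).pow
  have hle : Nat.card (fixedBy Ω t) < Nat.card Ω := by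
    rw [Nat.card_eq_fintype_card, Nat.card_eq_fintype_card]
    exact Fintype.card_subtype_lt (p := fun c => t • c = c) hc₀
  have hgood : Good (h.rankOne hab hw) (fun m => (lam m : ℂ)) t :=
    good_of_inv _ hodd ht fun m hm => by simp only [hone m hm, Units.val_one]
  obtain ⟨X, Y, hXY, hX, hY, ψ, hψ, h1, hval⟩ := exists_psi (h.rankOne hab hw)
    (h.normalClosure_U hgen a) hp hN lam (d := (d : G)) hd hlam
    (fun χ hχ => exists_int hχ ht) hgood (card_fix h a t) (card_move h a t) (by omega)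
  refine ⟨X, Y, hXY, hX, hY, ψ, hψ, h1, ?_⟩
  have hB : (Nat.card (stabilizer G a) : ℂ) ≠ 0 := by exact_mod_cast Nat.card_pos.ne'
  have h2 := hval t
  rw [S₀_of_good _ hgood (card_fix h a t), S₁_of_good _ hgood (card_move h a t),
    Nat.cast_sub hle.le] at h2
  apply mul_left_cancel₀ hB
  linear_combination h2

/-- **Linear characters of `D`**. -/
theorem lin_char' (h : SSplit U) [Finite G] [Finite Ω] (hgen : (⨆ c, U c) = ⊤) {a b : Ω}
    (hab : b ≠ a) {p k : ℕ} (hp : p.Prime) (hp2 : p ≠ 2) (hN : Nat.card (U a) = p ^ k)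
    (lam : Dab G a b →* ℂˣ) (hlam : lam ≠ 1) {t : G}
    (ht : t * t = 1) {c₀ : Ω} (hc₀ : t • c₀ ≠ c₀)
    (hinv : ∀ (m : G), Swaps m a b → IsConj t m → ∀ d e : Dab G a b, (e : G) = m * d * m⁻¹ →
      lam e = lam d)
    (hD : ∀ d : Dab G a b, IsConj t (d : G) → lam d = 1)
    (hW : ∀ (m m' : G), Swaps m a b → Swaps m' a b → IsConj t m → IsConj t m' →
      ∀ d : Dab G a b, (d : G) = m' * m⁻¹ → lam d = 1) :
    ∃ X Y : ℕ, X * Y = Nat.card (U a) ∧ 1 < X ∧ 1 < Y ∧ ∃ ψ : G → ℂ, IsIrrCharacter G ψ ∧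
      ((X : ℂ) + Y) * ψ 1 = Y * (Nat.card (U a) + 1) ∧
      ((X : ℂ) + Y) * ψ t = Y * Nat.card (fixedBy Ω t) +
        (Nat.card Ω - Nat.card (fixedBy Ω t)) := by
  obtain ⟨m, hm, hms⟩ := h.exists_conj_swaps hab ht hc₀
  have hm2 : m * m = 1 := by
    obtain ⟨g, rfl⟩ := isConj_iff.1 hm
    calc g * t * g⁻¹ * (g * t * g⁻¹) = g * (t * t) * g⁻¹ := by group
      _ = 1 := by rw [ht]; group
  obtain ⟨d, hd⟩ : ∃ d, lam d ≠ 1 := by
    by_contra hc
    push Not at hc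
    exact hlam (MonoidHom.ext hc)
  refine lin_char h hgen hab hp hp2 hN (extend hab lam hms hm2 (hinv m hms hm))
    (d := ⟨d, Dab_le_Wab a b d.2⟩) d.2 ?_ ht hc₀ ?_
  · rw [extend_D hab lam hms hm2 (hinv m hms hm) (g := ⟨d, Dab_le_Wab a b d.2⟩) d.2]
    exact hd
  · intro g hg
    by_cases hgD : (g : G) ∈ Dab G a b
    · rw [extend_D hab lam hms hm2 _ hgD]
      exact hD _ hg
    · have hgs := (mem_Wab_not_mem_Dab hab).1 ⟨g.2, hgD⟩
      rw [extend_swaps hab lam hms hm2 _ hgs]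
      exact hW m g hms hgs hm hg _ rfl

/-- **Linear characters of odd order of `D`.** -/
theorem lin_char_odd (h : SSplit U) [Finite G] [Finite Ω] (hgen : (⨆ c, U c) = ⊤) {a b : Ω}
    (hab : b ≠ a) {p k : ℕ} (hp : p.Prime) (hp2 : p ≠ 2) (hN : Nat.card (U a) = p ^ k)
    (lam : Dab G a b →* ℂˣ) (hlam : lam ≠ 1) {r : ℕ} (hr : Odd r) (hlr : ∀ d, lam d ^ r = 1)
    {t : G} (ht : t * t = 1) {c₀ : Ω} (hc₀ : t • c₀ ≠ c₀)
    (hinv : ∀ (m : G), Swaps m a b → IsConj t m → ∀ d e : Dab G a b, (e : G) = m * d * m⁻¹ →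
      lam e = lam d) :
    ∃ X Y : ℕ, X * Y = Nat.card (U a) ∧ 1 < X ∧ 1 < Y ∧ ∃ ψ : G → ℂ, IsIrrCharacter G ψ ∧
      ((X : ℂ) + Y) * ψ 1 = Y * (Nat.card (U a) + 1) ∧
      ((X : ℂ) + Y) * ψ t = Y * Nat.card (fixedBy Ω t) +
        (Nat.card Ω - Nat.card (fixedBy Ω t)) := by
  have hsq : ∀ s : G, IsConj t s → s * s = 1 := by
    intro s hs
    obtain ⟨g, rfl⟩ := isConj_iff.1 hs
    calc g * t * g⁻¹ * (g * t * g⁻¹) = g * (t * t) * g⁻¹ := by group
      _ = 1 := by rw [ht]; group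
  have key : ∀ x : ℂˣ, x ^ r = 1 → x * x = 1 → x = 1 := by
    intro x hx1 hx2
    obtain ⟨c, rfl⟩ := hr
    rwa [pow_add, pow_mul, sq, hx2, one_pow, one_mul, pow_one] at hx1
  refine lin_char' h hgen hab hp hp2 hN lam hlam ht hc₀ hinv ?_ ?_
  · intro d hd
    refine key _ (hlr d) ?_
    rw [← map_mul]
    have h1 : d * d = 1 := Subtype.ext (hsq _ hd)
    rw [h1, map_one]
  · intro m m' hms hms' hm hm' d hd
    refine key _ (hlr d) ?_
    -- `m` inverts `d = m' m⁻¹`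
    have h1 : m⁻¹ = m := inv_eq_of_mul_eq_one_left (hsq m hm)
    have h2 : m'⁻¹ = m' := inv_eq_of_mul_eq_one_left (hsq m' hm')
    have h3 : ((d⁻¹ : Dab G a b) : G) = m * d * m⁻¹ := by
      rw [Subgroup.coe_inv, hd]
      calc (m' * m⁻¹)⁻¹ = m * m'⁻¹ := by group
        _ = m * m' := by rw [h2]
        _ = m * m' * (m * m) := by rw [hsq m hm, mul_one]
        _ = m * (m' * m) * m := by group
        _ = _ := by rw [h1]
    have h4 := hinv m hms hm d d⁻¹ h3
    rw [map_inv] at h4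
    have h5 := mul_inv_cancel (lam d)
    rwa [h4] at h5

/-- The arithmetic conclusion. -/
theorem arith (h : SSplit U) [Finite G] [Finite Ω] {a : Ω} {p k e : ℕ} (hp : p.Prime)
    (hN : Nat.card (U a) = p ^ k) {t : G} (ht : t * t = 1)
    (hF : Nat.card (fixedBy Ω t) = p ^ e + 1) {X Y : ℕ} (hXY : X * Y = Nat.card (U a))
    (hX : 1 < X) (hY : 1 < Y) {ψ : G → ℂ} (hψ : IsIrrCharacter G ψ)
    (h1 : ((X : ℂ) + Y) * ψ 1 = Y * (Nat.card (U a) + 1))
    (h2 : ((X : ℂ) + Y) * ψ t = Y * Nat.card (fixedBy Ω t) +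
        (Nat.card Ω - Nat.card (fixedBy Ω t))) :
    (X = Y ∧ k ≤ 2 * e) ∨ ∃ f l, 1 ≤ f ∧ 1 ≤ l ∧ k = f * (2 * l + 1) ∧ f * l ≤ e ∧
      ((X = p ^ (f * l) ∧ Y = p ^ (f * l + f)) ∨ (Y = p ^ (f * l) ∧ X = p ^ (f * l + f))) := by
  obtain ⟨n, ρ, hρ, rfl⟩ := hψ
  have hψ : IsIrrCharacter G ρ.character := ⟨n, ρ, hρ, rfl⟩
  obtain ⟨c, hc⟩ := exists_int hψ ht
  rw [Representation.char_one] at h1
  simp only [Module.finrank_fin_fun] at h1
  rw [hc, h.card a, hF, hN] at h2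
  rw [hN] at h1 hXY
  refine LinNum.main (c₁ := n) (c := c) hp hXY hX hY ?_ ?_
  · exact_mod_cast h1
  · have : ((X : ℂ) + Y) * c = Y * ((p : ℂ) ^ e + 1) + ((p : ℂ) ^ k - (p : ℂ) ^ e) := by
      rw [h2]; push_cast; ring
    exact_mod_cast this

/-- The arithmetic conclusion if `k / e` is odd. -/
theorem arith_cube (h : SSplit U) [Finite G] [Finite Ω] {a : Ω} {p k e : ℕ} (hp : p.Prime)
    (hN : Nat.card (U a) = p ^ k) {t : G} (ht : t * t = 1)
    (hF : Nat.card (fixedBy Ω t) = p ^ e + 1) {X Y : ℕ} (hXY : X * Y = Nat.card (U a))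
    (hX : 1 < X) (hY : 1 < Y) {ψ : G → ℂ} (hψ : IsIrrCharacter G ψ)
    (h1 : ((X : ℂ) + Y) * ψ 1 = Y * (Nat.card (U a) + 1))
    (h2 : ((X : ℂ) + Y) * ψ t = Y * Nat.card (fixedBy Ω t) +
        (Nat.card Ω - Nat.card (fixedBy Ω t)))
    (he : 0 < e) {l' : ℕ} (hk : k = e * (2 * l' + 1)) (hl' : 0 < l') :
    k = 3 * e ∧ ((X = p ^ e ∧ Y = p ^ (2 * e)) ∨ (Y = p ^ e ∧ X = p ^ (2 * e))) := by
  obtain ⟨n, ρ, hρ, rfl⟩ := hψ
  have hψ : IsIrrCharacter G ρ.character := ⟨n, ρ, hρ, rfl⟩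
  obtain ⟨c, hc⟩ := exists_int hψ ht
  rw [Representation.char_one] at h1
  simp only [Module.finrank_fin_fun] at h1
  rw [hc, h.card a, hF, hN] at h2
  rw [hN] at h1 hXY
  refine LinNum.cube (c₁ := n) (c := c) hp hXY hX hY ?_ ?_ he hk hl'
  · exact_mod_cast h1
  · have : ((X : ℂ) + Y) * c = Y * ((p : ℂ) ^ e + 1) + ((p : ℂ) ^ k - (p : ℂ) ^ e) := by
      rw [h2]; push_cast; ring
    exact_mod_cast this

end main

end Cfsg.Agent.HKS.LinSplit
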