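import Mathlib
import Cfsg.Agent.HKS.CharPair
import Cfsg.Agent.HKS.LinSplit

/-!
# The two constituents in permutation form

* `pr_mu`: every `m` interchanging `a` and `b` is `pr (w u w⁻¹)` for some `1 ≠ u ∈ U a`;
* `dvd_split`: if `U a` is abelian, `1 + p ^ m` divides `χ(y') - χ(y'')` for all `y', y''`
  interchanging `a` and `b`;
* `S₁_inv`: `S₁(z) = |Q| |C_G(z)| ∑ χ(y)` over the conjugates `y` of the involution `z` in `W ∖ D`;
* `S₀_const`: `S₀(z) = |Fix z| |B| c` if `χ = c` on the conjugates of the involution `z` in `D`.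
-/

set_option autoImplicit false

open Cfsg

namespace Cfsg.Agent.HKS.CharPairSplit

open Subgroup MulAction LinChar LinSplit CharPair

section split

variable {G Ω : Type*} [Group G] [MulAction G Ω] {U : Ω → Subgroup G}

/-- Every `m` interchanging `a` and `b` is `pr (w u w⁻¹)` for some `1 ≠ u ∈ U a`. -/
theorem pr_mu (h : SSplit U) [Finite G] [Finite Ω] (hgen : (⨆ c, U c) = ⊤) {a b : Ω}
    (hab : b ≠ a) {p k : ℕ} (hp : p.Prime) (hp2 : p ≠ 2) (hN : Nat.card (U a) = p ^ k) {w : G}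
    (hw : Swaps w a b) {m : G} (hm : Swaps m a b) :
    ∃ u ∈ U a, u ≠ 1 ∧ pr (h.rankOne hab hw) (w * u * w⁻¹) = ⟨m, hm.mem_W⟩ := by
  obtain ⟨v, hv, hv1, hvm⟩ := h.exists_mu_eq hgen hab hp hp2 hN hm
  obtain ⟨hs, x, hx, y, hy, -, -, he⟩ := h.mu_spec hab hv hv1
  refine ⟨w⁻¹ * v * w, h.conj_of_eq' hw.1 hv, fun hc => hv1 ?_, ?_⟩
  · calc v = w * (w⁻¹ * v * w) * w⁻¹ := by group
      _ = 1 := by rw [hc]; group
  · have h1 : w * (w⁻¹ * v * w) * w⁻¹ = v := by group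
    rw [h1]
    conv_lhs => rw [he]
    rw [pr_eq (h.rankOne hab hw) hx hy hs.mem_W]
    exact Subtype.ext hvm

/-- **Divisibility**, for `U a` abelian. -/
theorem dvd_split (h : SSplit U) [Fintype G] [Finite Ω] (hgen : (⨆ c, U c) = ⊤) {a b : Ω}
    (hab : b ≠ a) {p k : ℕ} (hp : p.Prime) (hp2 : p ≠ 2) (hN : Nat.card (U a) = p ^ k) {w : G}
    (hw : Swaps w a b) (hcomm : ∀ x ∈ U a, ∀ y ∈ U a, x * y = y * x)
    {χ : Wab G a b → ℂ} (hχ : IsCharacter (Wab G a b) χ) {X Y : ℝ} {ψ₁ ψ₂ : G → ℂ}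
    (hd : Data (h.rankOne hab hw) χ p k X Y ψ₁ ψ₂) {m : ℕ}
    (hm : X = Y * p ^ m ∨ Y = X * p ^ m) {y y' : Wab G a b} (hy : Swaps (y : G) a b)
    (hy' : Swaps (y' : G) a b) :
    ∃ z : ℂ, IsIntegral ℤ z ∧ χ y - χ y' = (1 + (p : ℂ) ^ m) * z := by
  obtain ⟨u, hu, hu1, hup⟩ := pr_mu h hgen hab hp hp2 hN hw hy
  obtain ⟨u', hu', hu1', hup'⟩ := pr_mu h hgen hab hp hp2 hN hw hy'
  have h1 := hd.dvd hN hp hp2 hχ hm hu hu1 (fun v hv => hcomm v hv u hu) hu' hu1'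
    (fun v hv => hcomm v hv u' hu')
  rw [hup, hup'] at h1
  exact h1

end split

section inv

variable {G : Type*} [Group G] {B Q D W : Subgroup G} {w : G}

open scoped Classical in
/-- Sums over conjugates. -/
theorem sum_conj [Fintype G] (z : G) (F : G → ℂ) :
    ∑ a : G, F (a * z * a⁻¹) =
      Nat.card (Subgroup.centralizer ({z} : Set G)) *
        ∑ s ∈ Finset.univ.filter (fun s => IsConj z s), F s := by
  rw [← Finset.sum_fiberwise_of_maps_to (g := fun a : G => a * z * a⁻¹)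
    (t := Finset.univ.filter (fun s => IsConj z s))
    (fun a _ => Finset.mem_filter.2 ⟨Finset.mem_univ _, isConj_iff.2 ⟨a, rfl⟩⟩), Finset.mul_sum]
  refine Finset.sum_congr rfl fun s hs => ?_
  have hs' := (Finset.mem_filter.1 hs).2
  rw [Finset.sum_congr rfl (g := fun _ => F s) (fun a ha => by
    rw [(Finset.mem_filter.1 ha).2]), Finset.sum_const, nsmul_eq_mul,
    ← Characters.ClassMul.card_fiber_conj z s hs', Nat.card_eq_fintype_card,
    Fintype.card_subtype]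

open scoped Classical in
/-- `S₁` at an involution. -/
theorem S₁_inv [Fintype G] [Fintype W] (h : RankOne B Q D W w) (χ : W → ℂ) {z : G}
    (hz : z * z = 1) :
    S₁ h χ z = Nat.card Q * Nat.card (Subgroup.centralizer ({z} : Set G)) *
      ∑ y ∈ Finset.univ.filter (fun y : W => (y : G) ∉ D ∧ IsConj z (y : G)), χ y := by
  have := Fintype.ofFinite Q
  have hsq : ∀ s : G, IsConj z s → s * s = 1 := by
    intro s hs
    obtain ⟨g, rfl⟩ := isConj_iff.1 hs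
    calc g * z * g⁻¹ * (g * z * g⁻¹) = g * (z * z) * g⁻¹ := by group
      _ = 1 := by rw [hz]; group
  have h1 : S₁ h χ z = ∑ a : G, (fun s => if s ∈ B then 0 else χ (pr h s)) (a * z * a⁻¹) := by
    rw [S₁]
  rw [h1, sum_conj z (fun s => if s ∈ B then 0 else χ (pr h s)), mul_comm (Nat.card Q : ℂ),
    mul_assoc]
  congr 1
  rw [Finset.sum_congr rfl (g := fun s => if s ∉ B then χ (pr h s) else 0)
    (fun s _ => by rw [ite_not]), ← Finset.sum_filter, Finset.filter_filter]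
  have h2 : (Nat.card Q : ℂ) * ∑ y ∈ Finset.univ.filter
      (fun y : W => (y : G) ∉ D ∧ IsConj z (y : G)), χ y =
      ∑ x ∈ (Finset.univ : Finset Q) ×ˢ Finset.univ.filter
        (fun y : W => (y : G) ∉ D ∧ IsConj z (y : G)), χ x.2 := by
    rw [Finset.sum_product]
    simp only [Finset.sum_const, Finset.card_univ, nsmul_eq_mul, Nat.card_eq_fintype_card]
  rw [h2]
  symm
  refine Finset.sum_bij (fun x _ => (x.1 : G) * x.2 * (x.1 : G)⁻¹) ?_ ?_ ?_ ?_
  · rintro ⟨q, y⟩ hx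
    have hx' := (Finset.mem_filter.1 (Finset.mem_product.1 hx).2).2
    refine Finset.mem_filter.2 ⟨Finset.mem_univ _, hx'.2.trans (isConj_iff.2 ⟨q, rfl⟩), ?_⟩
    change (q : G) * y * (q : G)⁻¹ ∉ B
    rw [mid_mem_B h q.2 (Q.inv_mem q.2) y.2]
    exact hx'.1
  · rintro ⟨q, y⟩ hx ⟨q', y'⟩ hx' he
    have h3 := (Finset.mem_filter.1 (Finset.mem_product.1 hx).2).2
    have h4 := (Finset.mem_filter.1 (Finset.mem_product.1 hx').2).2
    obtain ⟨h5, h6, -⟩ := ModPMu.mid_unique h q.2 (Q.inv_mem q.2) q'.2 (Q.inv_mem q'.2) y.2 h3.1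
      y'.2 h4.1 he
    exact Prod.ext (Subtype.ext h6) (Subtype.ext h5)
  · intro s hs
    obtain ⟨hs1, hs2⟩ := (Finset.mem_filter.1 hs).2
    obtain ⟨u₁, hu₁, m, hm, hmD, u₂, hu₂, he⟩ := h.exists_mid hs2
    have h3 : u₂ * s * u₂⁻¹ = (u₂ * u₁) * m := by
      rw [he]; group
    have h4 : (u₂ * s * u₂⁻¹) * (u₂ * s * u₂⁻¹) = 1 := by
      calc u₂ * s * u₂⁻¹ * (u₂ * s * u₂⁻¹) = u₂ * (s * s) * u₂⁻¹ := by group
        _ = 1 := by rw [hsq s hs1]; group
    have h5 : u₂ * u₁ = 1 := ModPInv.eq_one_of_inv h (Q.mul_mem hu₂ hu₁) hm hmD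
      (by rw [← h3]; exact h4)
    rw [h5, one_mul] at h3
    refine ⟨(⟨u₂⁻¹, Q.inv_mem hu₂⟩, ⟨m, hm⟩), Finset.mem_product.2 ⟨Finset.mem_univ _,
      Finset.mem_filter.2 ⟨Finset.mem_univ _, hmD, hs1.trans (isConj_iff.2 ⟨u₂, h3⟩)⟩⟩, ?_⟩
    change u₂⁻¹ * m * u₂⁻¹⁻¹ = s
    rw [← h3]
    group
  · rintro ⟨q, y⟩ -
    change χ y = χ (pr h ((q : G) * y * (q : G)⁻¹))
    rw [pr_eq h q.2 (Q.inv_mem q.2) y.2]

/-- `S₀` at an involution, if `χ` is constant on its conjugates in `D`. -/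
theorem S₀_const [Fintype G] (h : RankOne B Q D W w) (hodd : Odd (Nat.card Q)) {χ : W → ℂ}
    {z : G} (hz : z * z = 1) {c : ℂ} (hc : ∀ d : W, (d : G) ∈ D → IsConj z (d : G) → χ d = c)
    {F : ℕ} (hF : Nat.card {a : G // a * z * a⁻¹ ∈ B} = F * Nat.card B) :
    S₀ h χ z = F * Nat.card B * c := by
  classical
  have h1 : S₀ h χ z = ∑ a : G, if a * z * a⁻¹ ∈ B then c else 0 := by
    refine Finset.sum_congr rfl fun a _ => ?_
    have hconv : ∀ (P : Prop) [Decidable P] (x y : ℂ), (P → x = y) →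
        (if P then x else 0) = if P then y else 0 := by
      intro P _ x y hxy
      by_cases hP : P
      · rw [if_pos hP, if_pos hP, hxy hP]
      · rw [if_neg hP, if_neg hP]
    have h2 : a * z * a⁻¹ ∈ B → χ (pr h (a * z * a⁻¹)) = c := by
      intro hb
      have h3 : (a * z * a⁻¹) * (a * z * a⁻¹) = 1 := by
        calc a * z * a⁻¹ * (a * z * a⁻¹) = a * (z * z) * a⁻¹ := by group
          _ = 1 := by rw [hz]; group
      exact hc _ ((pr_mem_D h _).2 hb)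
        ((isConj_iff.2 ⟨a, rfl⟩ : IsConj z (a * z * a⁻¹)).trans (isConj_pr h hodd h3))
    convert hconv _ _ _ h2
  rw [h1, ← Finset.sum_filter, Finset.sum_const, nsmul_eq_mul, ← Fintype.card_subtype,
    ← Nat.card_eq_fintype_card, hF]
  push_cast
  rfl

end inv

end Cfsg.Agent.HKS.CharPairSplit
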