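import Mathlib
import Cfsg.Agent.Characters.Brauer
import Cfsg.Agent.Characters.MonomialVec
import Cfsg.Agent.Characters.Linear
import Cfsg.Agent.Characters.GaloisBasic

/-!
# Characters on the outer coset of a subgroup of index two

`D` is a subgroup of index `2` of the finite group `W`.

* `exists_irr`: a character `Φ` of `W` with `|Φ| = 1` on `W ∖ D` coincides on `W ∖ D` with an
  irreducible character;
* `isIrr_restrict`: an irreducible character not vanishing on `W ∖ D` is irreducible on `D`;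
* `pow_two_of_even`: if all irreducible characters of `W` are constant modulo `2` on `W ∖ D`, then
  the elements of `W ∖ D` are `2`-elements;
* `existsUnique_comm`: in that case, if `z` has an odd number of conjugates and is centralised by
  an element of `W ∖ D`, every element of `W ∖ D` commutes with exactly one conjugate of `z`;
* `exists_irr_hom`: in that case, for a linear character `θ` of `C_W(z)` there is an irreducible
  character of `W` which agrees with `θ` on `C_W(z) ∖ D`.
-/

set_option autoImplicit false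

open Cfsg ComplexConjugate

namespace Cfsg.Agent.HKS.CosetTwo

open Characters.Core Characters.Brauer

universe u

variable {W : Type u} [Group W] {D : Subgroup W}

/-! ### The sign character -/

open scoped Classical in
/-- The sign homomorphism `W → {±1}` with kernel `D`. -/
noncomputable def sgn (hD : D.index = 2) : W →* ℂˣ where
  toFun g := if g ∈ D then 1 else -1
  map_one' := if_pos D.one_mem
  map_mul' a b := by
    have := Subgroup.mul_mem_iff_of_index_two hD (a := a) (b := b)
    by_cases ha : a ∈ D <;> by_cases hb : b ∈ D <;> simp [this, ha, hb]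

/-- The sign character. -/
noncomputable def sg (hD : D.index = 2) : W → ℂ := fun g => (sgn hD g : ℂ)

theorem sg_of_mem (hD : D.index = 2) {g : W} (hg : g ∈ D) : sg hD g = 1 := by
  change ((sgn hD g : ℂˣ) : ℂ) = 1
  rw [show sgn hD g = 1 from if_pos hg, Units.val_one]

theorem sg_of_notMem (hD : D.index = 2) {g : W} (hg : g ∉ D) : sg hD g = -1 := by
  change ((sgn hD g : ℂˣ) : ℂ) = -1
  rw [show sgn hD g = -1 from if_neg hg, Units.val_neg, Units.val_one]

theorem isIrr_sg (hD : D.index = 2) : IsIrrCharacter W (sg hD) :=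
  Characters.Linear.isIrrCharacter_hom (sgn hD)

theorem sg_mul_self (hD : D.index = 2) (g : W) : sg hD g * sg hD g = 1 := by
  by_cases hg : g ∈ D
  · rw [sg_of_mem hD hg, one_mul]
  · rw [sg_of_notMem hD hg]; norm_num

theorem conj_sg (hD : D.index = 2) (g : W) : conj (sg hD g) = sg hD g := by
  by_cases hg : g ∈ D
  · rw [sg_of_mem hD hg, map_one]
  · rw [sg_of_notMem hD hg, map_neg, map_one]

theorem isChar_mul_sg (hD : D.index = 2) {χ : W → ℂ} (hχ : IsCharacter W χ) :
    IsCharacter W (χ * sg hD) :=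
  isCharacter_mul hχ (isIrr_isCharacter (isIrr_sg hD))

theorem classInner_mul_sg [Fintype W] (hD : D.index = 2) (f g : W → ℂ) :
    classInner (f * sg hD) g = classInner f (g * sg hD) := by
  rw [classInner_def, classInner_def]
  congr 1
  refine Finset.sum_congr rfl fun x _ => ?_
  rw [Pi.mul_apply, Pi.mul_apply, map_mul, conj_sg]
  ring

theorem mul_sg_mul_sg (hD : D.index = 2) (f : W → ℂ) : f * sg hD * sg hD = f := by
  funext x
  rw [Pi.mul_apply, Pi.mul_apply, mul_assoc, sg_mul_self, mul_one]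

theorem isIrr_mul_sg [Finite W] (hD : D.index = 2) {χ : W → ℂ} (hχ : IsIrrCharacter W χ) :
    IsIrrCharacter W (χ * sg hD) := by
  classical
  have := Fintype.ofFinite W
  rw [isIrr_iff_classInner_self (isChar_mul_sg hD (isIrr_isCharacter hχ)), classInner_mul_sg,
    mul_sg_mul_sg, classInner_irr_self hχ]

/-! ### The outer coset trick -/

theorem card_eq [Finite W] (hD : D.index = 2) : Nat.card W = 2 * Nat.card D := by
  rw [← D.card_mul_index, hD, mul_comm]

open scoped Classical in
theorem card_outer [Fintype W] (hD : D.index = 2) :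
    (Finset.univ.filter (fun g : W => g ∉ D)).card = Nat.card D := by
  have h1 := Finset.card_filter_add_card_filter_not (s := (Finset.univ : Finset W))
    (fun g : W => g ∈ D)
  have h2 : (Finset.univ.filter (fun g : W => g ∈ D)).card = Nat.card D := by
    rw [← Fintype.card_subtype, ← Nat.card_eq_fintype_card]
  rw [Finset.card_univ, ← Nat.card_eq_fintype_card, card_eq hD, h2] at h1
  omega

/-- A character of `W` with absolute value `1` on `W ∖ D` coincides there with an irreducible
character. -/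
theorem exists_irr [Fintype W] (hD : D.index = 2) {Φ : W → ℂ} (hΦ : IsCharacter W Φ)
    (h1 : ∀ y, y ∉ D → Φ y * conj (Φ y) = 1) :
    ∃ χ : W → ℂ, IsIrrCharacter W χ ∧ ∀ y, y ∉ D → χ y = Φ y := by
  classical
  set F : W → ℂ := Φ - Φ * sg hD with hF
  have hFc : IsClassFunction W F := by
    intro g x
    rw [hF, Pi.sub_apply, Pi.sub_apply, isCharacter_isClassFunction hΦ g x,
      isCharacter_isClassFunction (isChar_mul_sg hD hΦ) g x]
  have hFin : ∀ g, g ∈ D → F g = 0 := fun g hg => by
    rw [hF, Pi.sub_apply, Pi.mul_apply, sg_of_mem hD hg, mul_one, sub_self]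
  have hFout : ∀ g, g ∉ D → F g = 2 * Φ g := fun g hg => by
    rw [hF, Pi.sub_apply, Pi.mul_apply, sg_of_notMem hD hg]; ring
  have hFsg : F * sg hD = -F := by
    rw [hF, sub_mul, mul_sg_mul_sg, neg_sub]
  have hc0 : (Nat.card D : ℂ) ≠ 0 := by
    have : Finite D := inferInstance
    exact_mod_cast Nat.card_pos.ne'
  have hnorm : classInner F F = 2 := by
    rw [classInner_def, card_eq hD]
    have h2 : ∑ g : W, F g * conj (F g) = ∑ g ∈ Finset.univ.filter (fun g : W => g ∉ D), (4 : ℂ) := by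
      rw [Finset.sum_filter]
      refine Finset.sum_congr rfl fun g _ => ?_
      by_cases hg : g ∈ D
      · rw [if_neg (not_not.2 hg), hFin g hg, zero_mul]
      · rw [if_pos hg, hFout g hg, map_mul]
        have h3 : conj (2 : ℂ) = 2 := map_ofNat _ _
        rw [h3]
        linear_combination 4 * h1 g hg
    rw [h2, Finset.sum_const, card_outer hD, nsmul_eq_mul]
    push_cast
    field_simp
    norm_num
  obtain ⟨χ, hχ, hne⟩ : ∃ χ : W → ℂ, IsIrrCharacter W χ ∧ classInner F χ ≠ 0 := by
    by_contra hc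
    push Not at hc
    have h2 := classFunction_eq_zero hFc hc
    rw [h2, classInner_zero_left] at hnorm
    norm_num at hnorm
  obtain ⟨n₁, hn₁⟩ := classInner_isNat hΦ (isIrr_isCharacter hχ)
  obtain ⟨n₂, hn₂⟩ := classInner_isNat (isChar_mul_sg hD hΦ) (isIrr_isCharacter hχ)
  obtain ⟨n, hn⟩ : ∃ n : ℤ, classInner F χ = n :=
    ⟨(n₁ : ℤ) - n₂, by rw [hF, classInner_sub_left, hn₁, hn₂]; push_cast; rfl⟩
  have hn0 : n ≠ 0 := by
    rintro rfl
    exact hne (by rw [hn, Int.cast_zero])
  have hn' : classInner F (χ * sg hD) = -n := by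
    rw [← classInner_mul_sg, hFsg, classInner_neg_left, hn]
  have hχ' := isIrr_mul_sg hD hχ
  have hnn : χ ≠ χ * sg hD := by
    intro hc
    rw [← hc, hn] at hn'
    have h2 : (n : ℂ) = 0 := by linear_combination hn' / 2
    exact hn0 (by exact_mod_cast h2)
  -- the rest vanishes
  set F' : W → ℂ := F - (n : ℂ) • χ + (n : ℂ) • (χ * sg hD) with hF'
  have hconj : ∀ c : ℤ, conj (c : ℂ) = c := fun c => map_intCast _ _
  have e1 : classInner χ F = n := by
    rw [← classInner_conj_symm, hn, hconj]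
  have e2 : classInner (χ * sg hD) F = -n := by
    rw [← classInner_conj_symm, hn', map_neg, hconj]
  have hF'norm : classInner F' F' = 2 - 2 * (n : ℂ) ^ 2 := by
    rw [hF']
    simp only [classInner_add_left, classInner_sub_left, classInner_add_right,
      classInner_sub_right, classInner_smul_left, classInner_smul_right, hnorm, hn, hn', e1, e2,
      classInner_irr_self hχ, classInner_irr_self hχ', classInner_irr_ne hχ hχ' hnn,
      classInner_irr_ne hχ' hχ hnn.symm, hconj]
    ring
  have hn2 : n ^ 2 = 1 := by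
    have h2 := classInner_self_eq_ofReal F'
    rw [hF'norm] at h2
    have h3 : (2 : ℝ) - 2 * (n : ℝ) ^ 2 =
        (Nat.card W : ℝ)⁻¹ * ∑ g : W, Complex.normSq (F' g) := by
      exact_mod_cast h2
    have h4 : (0 : ℝ) ≤ 2 - 2 * (n : ℝ) ^ 2 := by
      rw [h3]
      exact mul_nonneg (by positivity) (Finset.sum_nonneg fun _ _ => Complex.normSq_nonneg _)
    have h5 : (n : ℝ) ^ 2 ≤ 1 := by linarith
    have h6 : n ^ 2 ≤ 1 := by exact_mod_cast h5
    have h7 : 0 < n ^ 2 := by positivity
    omega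
  have hF'0 : F' = 0 := by
    apply classInner_self_eq_zero
    rw [hF'norm]
    have : (n : ℂ) ^ 2 = 1 := by exact_mod_cast hn2
    rw [this]
    norm_num
  have hval : ∀ y, y ∉ D → Φ y = n * χ y := by
    intro y hy
    have h2 := congrFun hF'0 y
    rw [hF', Pi.add_apply, Pi.sub_apply, Pi.smul_apply, Pi.smul_apply, Pi.mul_apply,
      sg_of_notMem hD hy, hFout y hy, Pi.zero_apply, smul_eq_mul, smul_eq_mul] at h2
    linear_combination h2 / 2
  rcases (sq_eq_one_iff.1 hn2) with h2 | h2
  · refine ⟨χ, hχ, fun y hy => ?_⟩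
    rw [hval y hy, h2, Int.cast_one, one_mul]
  · refine ⟨χ * sg hD, hχ', fun y hy => ?_⟩
    rw [hval y hy, h2, Pi.mul_apply, sg_of_notMem hD hy]
    push_cast
    ring

/-- An irreducible character of `W` not vanishing on `W ∖ D` is irreducible on `D`. -/
theorem isIrr_restrict [Finite W] (hD : D.index = 2) {χ : W → ℂ} (hχ : IsIrrCharacter W χ)
    {y : W} (hy : y ∉ D) (hne : χ y ≠ 0) : IsIrrCharacter D (fun d : D => χ d) := by
  classical
  have := Fintype.ofFinite W
  have := Fintype.ofFinite D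
  have hne' : χ ≠ χ * sg hD := by
    intro hc
    have h1 := congrFun hc y
    rw [Pi.mul_apply, sg_of_notMem hD hy] at h1
    exact hne (by linear_combination h1 / 2)
  rw [isIrr_iff_classInner_self (isCharacter_restrict (isIrr_isCharacter hχ) D)]
  have h1 := classInner_irr_self hχ
  have h2 := classInner_irr_ne hχ (isIrr_mul_sg hD hχ) hne'
  have hc0 : (Nat.card D : ℂ) ≠ 0 := by exact_mod_cast Nat.card_pos.ne'
  have h3 : ∑ g : W, χ g * conj (χ g) + ∑ g : W, χ g * conj ((χ * sg hD) g) =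
      2 * ∑ d : D, χ d * conj (χ d) := by
    rw [← Finset.sum_add_distrib]
    have h4 : ∑ d : D, χ d * conj (χ d) =
        ∑ g ∈ Finset.univ.filter (fun g : W => g ∈ D), χ g * conj (χ g) := by
      rw [← Finset.sum_subtype (Finset.univ.filter (fun g : W => g ∈ D))
        (p := fun g => g ∈ D) (by simp) (fun g => χ g * conj (χ g))]
    rw [h4, Finset.sum_filter, Finset.mul_sum]
    refine Finset.sum_congr rfl fun g _ => ?_
    rw [Pi.mul_apply, map_mul, conj_sg]
    by_cases hg : g ∈ D
    · rw [if_pos hg, sg_of_mem hD hg]; ring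
    · rw [if_neg hg, sg_of_notMem hD hg]; ring
  rw [classInner_def, card_eq hD] at h1 h2
  rw [classInner_def]
  push_cast at h1 h2
  field_simp at h1 h2 ⊢
  linear_combination (h1 + h2 - h3) / 2

/-! ### Characters modulo `2` -/

/-- `f` is constant modulo `2` on `W ∖ D`. -/
def Even2 (D : Subgroup W) (f : W → ℂ) : Prop :=
  ∀ y y', y ∉ D → y' ∉ D → ∃ z : ℂ, IsIntegral ℤ z ∧ f y - f y' = 2 * z

/-- If the irreducible characters are constant modulo `2` on `W ∖ D`, so are all characters. -/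
theorem even2_of_irr [Finite W] (hev : ∀ χ : W → ℂ, IsIrrCharacter W χ → Even2 D χ) {Φ : W → ℂ}
    (hΦ : IsCharacter W Φ) : Even2 D Φ := by
  classical
  have := finite_irr (G := W)
  have := Fintype.ofFinite (IrrCharacter W)
  intro y y' hy hy'
  obtain ⟨m, rfl⟩ := exists_nat_comb hΦ
  choose z hz hzz using fun ψ : IrrCharacter W => hev ψ ψ.2 y y' hy hy'
  refine ⟨∑ ψ, m ψ * z ψ, IsIntegral.sum _ fun ψ _ => ?_, ?_⟩
  · exact IsIntegral.mul (isIntegral_natCast _) (hz ψ)
  · rw [Finset.sum_apply, Finset.sum_apply, ← Finset.sum_sub_distrib, Finset.mul_sum]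
    refine Finset.sum_congr rfl fun ψ _ => ?_
    rw [Pi.smul_apply, Pi.smul_apply, nsmul_eq_mul, nsmul_eq_mul]
    linear_combination (m ψ : ℂ) * hzz ψ

/-- An odd number is not `2` times an algebraic integer. -/
theorem not_odd_of_integral {n : ℤ} {z : ℂ} (hz : IsIntegral ℤ z) (h : (n : ℂ) = 2 * z) :
    Even n := by
  have h1 : ∃ q : ℚ, z = q := ⟨(n : ℚ) / 2, by push_cast; linear_combination -h / 2⟩
  obtain ⟨c, hc⟩ := Characters.GaloisBasic.exists_int_of_isIntegral hz h1
  rw [hc] at h
  exact ⟨c, by have : n = 2 * c := by exact_mod_cast h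
               omega⟩

/-- The permutation character on the cosets of `H` counts the fixed cosets. -/
theorem indFun_one [Fintype W] (H : Subgroup W) (g : W) :
    indFun H (1 : H → ℂ) g = Nat.card {q : W ⧸ H // g • q = q} := by
  classical
  have := Fintype.ofFinite (W ⧸ H)
  rw [Characters.MonomialVec.indFun_eq_sum_quotient H _ (fun _ _ => rfl), Nat.card_eq_fintype_card,
    Fintype.card_subtype, Finset.card_filter]
  push_cast
  refine Finset.sum_congr rfl fun q _ => ?_
  have h1 : g • q = q ↔ q.out⁻¹ * g * q.out ∈ H := by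
    conv_lhs => rw [← QuotientGroup.out_eq' q]
    rw [MulAction.Quotient.smul_mk, eq_comm, QuotientGroup.eq, smul_eq_mul, mul_assoc]
  by_cases hq : g • q = q
  · rw [if_pos hq, extendByZero_mem H _ (h1.1 hq)]
    rfl
  · rw [if_neg hq, extendByZero_notMem H _ (fun hc => hq (h1.2 hc))]

/-- A `2`-element fixes an odd number of points of a set with an odd number of points. -/
theorem odd_fixed {X : Type*} [Finite X] [MulAction W X] (hX : Odd (Nat.card X)) {s : W} {n : ℕ}
    (hs : s ^ 2 ^ n = 1) : Odd (Nat.card {x : X // s • x = x}) := by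
  classical
  have := Fintype.ofFinite X
  have hP : IsPGroup 2 (Subgroup.zpowers s) := by
    rintro ⟨g, hg⟩
    obtain ⟨k, rfl⟩ := hg
    refine ⟨n, Subtype.ext ?_⟩
    change (s ^ k) ^ 2 ^ n = 1
    rw [← zpow_natCast, ← zpow_mul, mul_comm, zpow_mul, zpow_natCast, hs, one_zpow]
  have h1 := hP.card_modEq_card_fixedPoints X
  have h2 : Nat.card (MulAction.fixedPoints (Subgroup.zpowers s) X) =
      Nat.card {x : X // s • x = x} := by
    refine Nat.card_congr (Equiv.subtypeEquivRight fun x => ?_)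
    rw [MulAction.mem_fixedPoints]
    constructor
    · intro h
      exact h ⟨s, Subgroup.mem_zpowers s⟩
    · rintro h ⟨g, hg⟩
      have h3 : Subgroup.zpowers s ≤ MulAction.stabilizer W x := by
        rw [Subgroup.zpowers_le]; exact h
      exact h3 hg
  rw [h2] at h1
  rw [Nat.odd_iff] at hX ⊢
  rw [← hX]
  exact h1.symm

/-- `W ∖ D` contains a `2`-element. -/
theorem exists_two_element [Finite W] (hD : D.index = 2) : ∃ s, s ∉ D ∧ ∃ n, s ^ 2 ^ n = 1 := by
  obtain ⟨y, hy⟩ : ∃ y, y ∉ D := by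
    by_contra hc
    push Not at hc
    have : D = ⊤ := by rw [eq_top_iff]; exact fun x _ => hc x
    rw [this, Subgroup.index_top] at hD
    omega
  obtain ⟨n, m, hm, he⟩ := Nat.exists_eq_two_pow_mul_odd (orderOf_pos y).ne'
  refine ⟨y ^ m, ?_, n, ?_⟩
  · obtain ⟨c, rfl⟩ := hm
    rw [pow_succ, pow_mul]
    intro hc
    apply hy
    have h1 : y ^ 2 ∈ D := by
      rw [pow_two]
      exact (Subgroup.mul_mem_iff_of_index_two hD).2 Iff.rfl
    exact (D.mul_mem_cancel_left (D.pow_mem h1 c)).1 hc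
  · rw [← pow_mul, mul_comm, ← he, pow_orderOf_eq_one]

/-- If the irreducible characters of `W` are constant modulo `2` on `W ∖ D`, then the elements of
`W ∖ D` are `2`-elements. -/
theorem pow_two_of_even [Finite W] (hD : D.index = 2)
    (hev : ∀ χ : W → ℂ, IsIrrCharacter W χ → Even2 D χ) {y : W} (hy : y ∉ D) :
    ∃ n, y ^ 2 ^ n = 1 := by
  classical
  have := Fintype.ofFinite W
  obtain ⟨s, hs, n, hsn⟩ := exists_two_element hD
  obtain ⟨P⟩ : Nonempty (Sylow 2 W) := inferInstance
  have hchar : IsCharacter W (indFun (P : Subgroup W) (1 : ↥(P : Subgroup W) → ℂ)) :=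
    isCharacter_indFun _ isCharacter_one
  obtain ⟨z, hz, he⟩ := even2_of_irr hev hchar y s hy hs
  rw [indFun_one, indFun_one] at he
  have hodd : Odd (Nat.card {q : W ⧸ (P : Subgroup W) // s • q = q}) := by
    refine odd_fixed ?_ hsn
    have h1 : ¬ 2 ∣ (P : Subgroup W).index := P.not_dvd_index
    exact Nat.not_even_iff_odd.1 fun hc => h1 hc.two_dvd
  have hne : Nat.card {q : W ⧸ (P : Subgroup W) // y • q = q} ≠ 0 := by
    intro hc
    rw [hc] at he
    have h1 : ((-(Nat.card {q : W ⧸ (P : Subgroup W) // s • q = q} : ℤ) : ℤ) : ℂ) = 2 * z := by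
      rw [← he]; push_cast; ring
    have h2 := not_odd_of_integral hz h1
    rw [even_neg, Int.even_coe_nat] at h2
    exact Nat.not_even_iff_odd.2 hodd h2
  obtain ⟨⟨q, hq⟩⟩ : Nonempty {q : W ⧸ (P : Subgroup W) // y • q = q} := by
    by_contra hc
    rw [not_nonempty_iff] at hc
    exact hne Nat.card_of_isEmpty
  obtain ⟨x, rfl⟩ := QuotientGroup.mk_surjective q
  rw [MulAction.Quotient.smul_mk, eq_comm, QuotientGroup.eq, smul_eq_mul] at hq
  obtain ⟨m, hm⟩ := P.isPGroup' ⟨_, hq⟩
  refine ⟨m, ?_⟩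
  have h1 : (x⁻¹ * (y * x)) ^ 2 ^ m = 1 := congrArg Subtype.val hm
  have h2 : x⁻¹ * (y * x) = x⁻¹ * y * x⁻¹⁻¹ := by group
  rw [h2, conj_pow] at h1
  have h3 : y ^ 2 ^ m = x * (x⁻¹ * y ^ 2 ^ m * x⁻¹⁻¹) * x⁻¹ := by group
  rw [h3, h1]
  group

/-! ### The outer coset is distributed over the centralisers -/

theorem index_subgroupOf (hD : D.index = 2) {C : Subgroup W} {c : W} (hc : c ∈ C) (hcD : c ∉ D) :
    (D.subgroupOf C).index = 2 := by
  rw [Subgroup.index_eq_two_iff]
  refine ⟨⟨c, hc⟩, fun b => ?_⟩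
  rw [Subgroup.mem_subgroupOf, Subgroup.mem_subgroupOf, Subgroup.coe_mul,
    Subgroup.mul_mem_iff_of_index_two hD]
  by_cases hb : (b : W) ∈ D
  · right
    exact ⟨hb, fun hc' => hcD (hc'.1 hb)⟩
  · left
    exact ⟨⟨fun hc' => absurd hc' hb, fun hc' => absurd hc' hcD⟩, hb⟩

theorem smul_eq_iff (C : Subgroup W) (y : W) (q : W ⧸ C) :
    y • q = q ↔ q.out⁻¹ * y * q.out ∈ C := by
  conv_lhs => rw [← QuotientGroup.out_eq' q]
  rw [MulAction.Quotient.smul_mk, eq_comm, QuotientGroup.eq, smul_eq_mul, mul_assoc]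

theorem mem_conj_iff (hD : D.index = 2) (x y : W) : x⁻¹ * y * x ∈ D ↔ y ∈ D := by
  have := Subgroup.normal_of_index_eq_two hD
  have h1 := this.mem_comm_iff (a := x) (b := x⁻¹ * y)
  rw [← h1, mul_inv_cancel_left]

/-- If the elements of `W ∖ D` are `2`-elements and `C` is a subgroup of odd index not contained in
`D`, then every element of `W ∖ D` fixes exactly one coset of `C`. -/
theorem card_fixed_eq_one [Finite W] (hD : D.index = 2) (h2 : ∀ y, y ∉ D → ∃ n, y ^ 2 ^ n = 1)
    {C : Subgroup W} (hodd : Odd C.index) {c : W} (hc : c ∈ C) (hcD : c ∉ D) {y : W}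
    (hy : y ∉ D) : Nat.card {q : W ⧸ C // y • q = q} = 1 := by
  classical
  have := Fintype.ofFinite W
  have := Fintype.ofFinite (W ⧸ C)
  have := Fintype.ofFinite C
  set f : W → ℕ := fun y => (Finset.univ.filter (fun q : W ⧸ C => y • q = q)).card with hf
  have hfc : ∀ y, Nat.card {q : W ⧸ C // y • q = q} = f y := fun y => by
    rw [hf, Nat.card_eq_fintype_card, Fintype.card_subtype]
  have hf1 : ∀ y, y ∉ D → 1 ≤ f y := by
    intro y hy
    obtain ⟨n, hn⟩ := h2 y hy
    have h3 := odd_fixed (X := W ⧸ C) hodd hn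
    rw [hfc] at h3
    obtain ⟨k, hk⟩ := h3
    omega
  -- the number of elements of `C ∖ D` and of its conjugates
  have hCo : ∀ q : W ⧸ C, ((Finset.univ.filter (fun y : W => y ∉ D)).filter
      (fun y => y • q = q)).card = Nat.card (D.subgroupOf C) := by
    intro q
    rw [← card_outer (index_subgroupOf hD hc hcD)]
    symm
    refine Finset.card_bij (fun x _ => q.out * (x : W) * q.out⁻¹) ?_ ?_ ?_
    · intro x hx
      rw [Finset.mem_filter] at hx
      rw [Finset.mem_filter, Finset.mem_filter, smul_eq_iff]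
      have h3 : q.out⁻¹ * (q.out * (x : W) * q.out⁻¹) * q.out = x := by group
      refine ⟨⟨Finset.mem_univ _, fun hc' => hx.2 ?_⟩, ?_⟩
      · rw [Subgroup.mem_subgroupOf, ← h3, mem_conj_iff hD]
        exact hc'
      · rw [h3]
        exact x.2
    · intro x _ x' _ he
      exact Subtype.ext (mul_left_cancel (mul_right_cancel he))
    · intro y hy
      rw [Finset.mem_filter, Finset.mem_filter, smul_eq_iff] at hy
      refine ⟨⟨_, hy.2⟩, ?_, ?_⟩
      · rw [Finset.mem_filter, Subgroup.mem_subgroupOf]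
        exact ⟨Finset.mem_univ _, fun hc' => hy.1.2 ((mem_conj_iff hD _ _).1 hc')⟩
      · change q.out * (q.out⁻¹ * y * q.out) * q.out⁻¹ = y
        group
  have hsum : ∑ y ∈ Finset.univ.filter (fun y : W => y ∉ D), f y =
      (Finset.univ.filter (fun y : W => y ∉ D)).card := by
    have h3 : ∑ y ∈ Finset.univ.filter (fun y : W => y ∉ D), f y =
        ∑ q : W ⧸ C, ((Finset.univ.filter (fun y : W => y ∉ D)).filter
          (fun y => y • q = q)).card := by
      rw [hf]
      simp only [Finset.card_filter (fun q : W ⧸ C => _)]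
      rw [Finset.sum_comm]
      refine Finset.sum_congr rfl fun q _ => ?_
      rw [Finset.card_filter]
    rw [h3, Finset.sum_congr rfl (fun q _ => hCo q), Finset.sum_const, smul_eq_mul, card_outer hD,
      Finset.card_univ, ← Nat.card_eq_fintype_card]
    have h4 : Nat.card (W ⧸ C) * Nat.card C = Nat.card W := by
      rw [mul_comm]; exact C.card_mul_index
    rw [card_eq (index_subgroupOf hD hc hcD), card_eq hD] at h4
    have h5 : 2 * (Nat.card (W ⧸ C) * Nat.card (D.subgroupOf C)) = 2 * Nat.card D := by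
      rw [← h4]; ring
    exact mul_left_cancel₀ two_ne_zero h5
  rw [hfc]
  by_contra hne
  have hlt : 1 < f y := lt_of_le_of_ne (hf1 y hy) (Ne.symm hne)
  have h6 : ∑ y ∈ Finset.univ.filter (fun y : W => y ∉ D), 1 <
      ∑ y ∈ Finset.univ.filter (fun y : W => y ∉ D), f y :=
    Finset.sum_lt_sum (fun i hi => hf1 i (Finset.mem_filter.1 hi).2)
      ⟨y, Finset.mem_filter.2 ⟨Finset.mem_univ _, hy⟩, hlt⟩
  rw [hsum, Finset.sum_const, smul_eq_mul, mul_one] at h6
  exact lt_irrefl _ h6

/-- The unique fixed coset. -/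
theorem exists_coset [Finite W] (hD : D.index = 2) (h2 : ∀ y, y ∉ D → ∃ n, y ^ 2 ^ n = 1)
    {C : Subgroup W} (hodd : Odd C.index) {c : W} (hc : c ∈ C) (hcD : c ∉ D) {y : W}
    (hy : y ∉ D) : ∃! q : W ⧸ C, q.out⁻¹ * y * q.out ∈ C := by
  have h1 := card_fixed_eq_one hD h2 hodd hc hcD hy
  rw [Nat.card_eq_one_iff_unique] at h1
  obtain ⟨h3, ⟨q, hq⟩⟩ := h1
  refine ⟨q, (smul_eq_iff C y q).1 hq, fun q' hq' => ?_⟩
  exact congrArg Subtype.val (h3.elim ⟨q', (smul_eq_iff C y q').2 hq'⟩ ⟨q, hq⟩)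

/-- Every element of `W ∖ D` commutes with exactly one conjugate of `z`. -/
theorem existsUnique_comm [Finite W] (hD : D.index = 2) (h2 : ∀ y, y ∉ D → ∃ n, y ^ 2 ^ n = 1)
    {z : W} (hodd : Odd (Subgroup.centralizer {z}).index) {c : W}
    (hc : c ∈ Subgroup.centralizer {z}) (hcD : c ∉ D) {y : W} (hy : y ∉ D) :
    ∃! z', IsConj z z' ∧ y * z' = z' * y := by
  obtain ⟨q, hq, huq⟩ := exists_coset hD h2 hodd hc hcD hy
  have key : ∀ x : W, x⁻¹ * y * x ∈ Subgroup.centralizer {z} ↔
      y * (x * z * x⁻¹) = (x * z * x⁻¹) * y := by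
    intro x
    rw [Subgroup.mem_centralizer_singleton_iff]
    constructor
    · intro h
      calc y * (x * z * x⁻¹) = x * (x⁻¹ * y * x * z) * x⁻¹ := by group
        _ = x * (z * (x⁻¹ * y * x)) * x⁻¹ := by rw [h]
        _ = _ := by group
    · intro h
      calc x⁻¹ * y * x * z = x⁻¹ * (y * (x * z * x⁻¹)) * x := by group
        _ = x⁻¹ * (x * z * x⁻¹ * y) * x := by rw [h]
        _ = _ := by group
  refine ⟨q.out * z * q.out⁻¹, ⟨isConj_iff.2 ⟨q.out, rfl⟩, (key _).1 hq⟩, ?_⟩
  rintro z' ⟨hz', hyz'⟩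
  obtain ⟨x, rfl⟩ := isConj_iff.1 hz'
  have h3 := (key x).2 hyz'
  -- the coset of `x`
  have h4 : ((x : W ⧸ Subgroup.centralizer {z}).out)⁻¹ * x ∈ Subgroup.centralizer {z} := by
    rw [← QuotientGroup.eq, QuotientGroup.out_eq']
  set x' := (x : W ⧸ Subgroup.centralizer {z}).out with hx'
  have h5 : x'⁻¹ * y * x' ∈ Subgroup.centralizer {z} := by
    have e : x'⁻¹ * y * x' = (x'⁻¹ * x) * (x⁻¹ * y * x) * (x'⁻¹ * x)⁻¹ := by group
    rw [e]
    exact Subgroup.mul_mem _ (Subgroup.mul_mem _ h4 h3) (Subgroup.inv_mem _ h4)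
  have h6 := huq _ h5
  rw [← h6, ← hx']
  rw [Subgroup.mem_centralizer_singleton_iff] at h4
  calc x * z * x⁻¹ = x' * (x'⁻¹ * x * z) * x⁻¹ := by group
    _ = x' * (z * (x'⁻¹ * x)) * x⁻¹ := by rw [h4]
    _ = _ := by group

/-- **The `Φ` trick**: for a linear character `θ` of a subgroup `C` of odd index not contained in
`D` there is an irreducible character of `W` which agrees with `θ` on `C ∖ D`. -/
theorem exists_irr_hom [Finite W] (hD : D.index = 2) (h2 : ∀ y, y ∉ D → ∃ n, y ^ 2 ^ n = 1)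
    {C : Subgroup W} (hodd : Odd C.index) {c : W} (hc : c ∈ C) (hcD : c ∉ D) (θ : C →* ℂˣ) :
    ∃ χ : W → ℂ, IsIrrCharacter W χ ∧ (∀ y (hy : y ∈ C), y ∉ D → χ y = θ ⟨y, hy⟩) ∧
      ∀ y, y ∉ D → ∃ x : W, x⁻¹ * y * x ∈ C := by
  classical
  have := Fintype.ofFinite W
  have := Fintype.ofFinite (W ⧸ C)
  have := Fintype.ofFinite C
  have hval : ∀ (y : W) (q : W ⧸ C), y ∉ D → ∀ hq : q.out⁻¹ * y * q.out ∈ C,
      indFun C (fun g => (θ g : ℂ)) y = θ ⟨_, hq⟩ := by
    intro y q hy hq
    rw [Characters.MonomialVec.indFun_eq_sum_quotient C _ (fun g h => by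
      rw [map_mul, map_mul, map_inv, mul_inv_cancel_comm]), Finset.sum_eq_single q]
    · rw [extendByZero_mem C _ hq]
    · intro q' _ hq'
      rw [extendByZero_notMem]
      intro hc'
      exact hq' ((exists_coset hD h2 hodd hc hcD hy).unique hc' hq)
    · intro hc'
      exact absurd (Finset.mem_univ _) hc'
  obtain ⟨χ, hχ, hχv⟩ := exists_irr hD (Φ := indFun C (fun g => (θ g : ℂ)))
    (isCharacter_indFun C (Characters.Linear.isCharacter_hom θ)) (fun y hy => by
      obtain ⟨q, hq, -⟩ := exists_coset hD h2 hodd hc hcD hy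
      rw [hval y q hy hq, Complex.mul_conj, Complex.normSq_eq_norm_sq,
        Characters.Linear.norm_hom_apply]
      norm_num)
  refine ⟨χ, hχ, fun y hy hyD => ?_, fun y hy => ?_⟩
  · have h4 : ((1 : W) : W ⧸ C).out ∈ C := by
      have : ((1 : W) : W ⧸ C).out⁻¹ * 1 ∈ C := by
        rw [← QuotientGroup.eq, QuotientGroup.out_eq']
      rw [mul_one, inv_mem_iff] at this
      exact this
    have h5 : ((1 : W) : W ⧸ C).out⁻¹ * y * ((1 : W) : W ⧸ C).out ∈ C :=
      C.mul_mem (C.mul_mem (C.inv_mem h4) hy) h4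
    rw [hχv y hyD, hval y _ hyD h5]
    have h6 : (⟨_, h5⟩ : C) = (⟨_, h4⟩ : C)⁻¹ * ⟨y, hy⟩ * ⟨_, h4⟩ := rfl
    rw [h6, map_mul, map_mul, map_inv, mul_comm, mul_inv_cancel_left]
  · obtain ⟨q, hq, -⟩ := exists_coset hD h2 hodd hc hcD hy
    exact ⟨q.out, hq⟩

end Cfsg.Agent.HKS.CosetTwo
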