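import Mathlib
import Cfsg.Agent.HKS.FrameCount
import Cfsg.Agent.S0680
import Cfsg.Agent.S0040

/-!
# Strongly split 2-transitive groups with trivial two-point stabiliser

`h : SSplit U`, the action faithful, `Ω` finite of even order, `Dab G a b = ⊥`:

* `SSplit.sharp_stab`: `G_a = U a`; `SSplit.sharp_iSup`: `G = ⟨U c⟩`;
* `SSplit.sharp_card`: `|Ω| = 2 ^ s`, `s ≥ 2`;
* `SSplit.sharp_sq`: an element interchanging `a` and `b` is an involution;
* `SSplit.sharp_normal`: the fixed point free elements and `1` form a normal elementary abelian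
  2-subgroup `E`, regular on `Ω`, `G = E U a`;
* `SSplit.sharp_cyclic`: `U a` is cyclic.
-/

set_option autoImplicit false

namespace Cfsg.Agent.HKS

open Subgroup MulAction

variable {G Ω : Type*} [Group G] [MulAction G Ω] {U : Ω → Subgroup G}

namespace SSplit

theorem sharp_Dab (h : SSplit U) {a b : Ω} (hab : b ≠ a) (hD : Dab G a b = ⊥) {c d : Ω}
    (hcd : d ≠ c) : Dab G c d = ⊥ := by
  rw [eq_bot_iff]
  intro x hx
  obtain ⟨g, hg1, hg2⟩ := h.two hcd.symm hab.symm
  have h1 : g * x * g⁻¹ ∈ Dab G a b := by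
    constructor
    · change (g * x * g⁻¹) • a = a
      rw [mul_smul, mul_smul, inv_smul_eq_iff.2 hg1.symm, show x • c = c from hx.1, hg1]
    · change (g * x * g⁻¹) • b = b
      rw [mul_smul, mul_smul, inv_smul_eq_iff.2 hg2.symm, show x • d = d from hx.2, hg2]
  rw [hD, mem_bot] at h1
  have h2 : x = g⁻¹ * (g * x * g⁻¹) * g := by group
  rw [mem_bot, h2, h1]
  group

/-- `G_a = U a`. -/
theorem sharp_stab (h : SSplit U) {a b : Ω} (hab : b ≠ a) (hD : Dab G a b = ⊥) (c : Ω) :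
    stabilizer G c = U c := by
  apply le_antisymm
  · intro g hg
    obtain ⟨d, hd, -⟩ := h.three c c
    obtain ⟨w, hw⟩ := h.exists_swaps hd
    obtain ⟨x, hx, y, hy, he⟩ := (h.rankOne hd hw).Bmul g hg
    rw [h.sharp_Dab hab hD hd, mem_bot] at hy
    rw [he, hy, mul_one]
    exact hx
  · intro x hx
    exact h.fix hx

/-- Elements interchanging two points are involutions. -/
theorem sharp_sq (h : SSplit U) {a b : Ω} (hab : b ≠ a) (hD : Dab G a b = ⊥) {c d : Ω}
    (hcd : d ≠ c) {w : G} (hw : Swaps w c d) : w * w = 1 := by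
  have h1 := hw.mul hw
  rwa [h.sharp_Dab hab hD hcd, mem_bot] at h1

/-- `G` is generated by the `U c`. -/
theorem sharp_iSup (h : SSplit U) {a b : Ω} (hab : b ≠ a) (hD : Dab G a b = ⊥) :
    (⨆ c, U c) = ⊤ := by
  rw [eq_top_iff]
  intro g _
  obtain ⟨m, hm⟩ := h.gen.tr a (g • a)
  have h1 : (m : G)⁻¹ * g ∈ stabilizer G a := by
    change ((m : G)⁻¹ * g) • a = a
    rw [mul_smul, inv_smul_eq_iff]
    exact hm.symm
  rw [h.sharp_stab hab hD] at h1
  have h2 : g = (m : G) * ((m : G)⁻¹ * g) := by group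
  rw [h2]
  exact mul_mem m.2 (mem_iSup_of_mem a h1)

/-- The main facts on sharply 2-transitive groups of even degree. -/
theorem sharp_main (h : SSplit U) [FaithfulSMul G Ω] [Finite Ω] (heven : Even (Nat.card Ω))
    {a b : Ω} (hab : b ≠ a) (hD : Dab G a b = ⊥) :
    (∃ s : ℕ, 2 ≤ s ∧ Nat.card Ω = 2 ^ s) ∧ ∃ E : Subgroup G, E.Normal ∧
      (∀ x ∈ E, ∀ y ∈ E, x * y = y * x) ∧ (∀ x ∈ E, x * x = 1) ∧
      (∀ c d : Ω, ∃ x ∈ E, x • c = d) ∧ ∀ g : G, g ∈ E ↔ g = 1 ∨ ∀ c : Ω, g • c ≠ c := by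
  classical
  have := Fintype.ofFinite Ω
  set f := (toPermHom G Ω).rangeRestrict with hf
  have hfs : Function.Surjective f := (toPermHom G Ω).rangeRestrict_surjective
  have hfa : ∀ (g : G) (c : Ω), f g • c = g • c := fun g c => rfl
  have : IsMultiplyPretransitive (toPermHom G Ω).range Ω 2 := by
    rw [is_two_pretransitive_iff]
    intro c d c' d' hcd hcd'
    obtain ⟨g, h1, h2⟩ := h.two hcd hcd'
    exact ⟨f g, by rw [hfa, h1], by rw [hfa, h2]⟩
  have hsharp : ∀ x : Fin 2 ↪ Ω, stabilizer (toPermHom G Ω).range x = ⊥ := by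
    intro x
    rw [eq_bot_iff]
    intro k hk
    obtain ⟨g, rfl⟩ := hfs k
    have h1 : ∀ i, g • x i = x i := fun i => by
      have := DFunLike.congr_fun (show f g • x = x from hk) i
      exact this
    have h2 : g ∈ Dab G (x 0) (x 1) := ⟨h1 0, h1 1⟩
    rw [h.sharp_Dab hab hD (fun e => absurd (x.injective e) (by decide)), mem_bot] at h2
    rw [h2, map_one]
    exact one_mem _
  have h3 := h.two_lt_card a
  obtain ⟨p, j, hp, hj, hcard, hP⟩ := S0680.result (toPermHom G Ω).range hsharp (by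
    rw [← Nat.card_eq_fintype_card]; omega)
  rw [← Nat.card_eq_fintype_card] at hcard
  have hp2 : p = 2 := by
    have h4 : 2 ∣ p ^ j := by rw [← hcard]; exact heven.two_dvd
    have h5 := Nat.prime_two.dvd_of_dvd_pow h4
    exact ((Nat.prime_dvd_prime_iff_eq Nat.prime_two hp).1 h5).symm
  subst hp2
  refine ⟨⟨j, ?_, hcard⟩, ?_⟩
  · by_contra hc
    have : j = 1 := by omega
    rw [this, pow_one] at hcard
    omega
  have : Fact (Nat.Prime 2) := ⟨hp⟩
  obtain ⟨P⟩ : Nonempty (Sylow 2 (toPermHom G Ω).range) := inferInstance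
  obtain ⟨hn, hc, hx, ht, hs, hmem⟩ := hP ⟨hp⟩ P
  have hinj : Function.Injective f := by
    intro x y hxy
    apply FaithfulSMul.eq_of_smul_eq_smul (α := Ω)
    intro c
    rw [← hfa, hxy, hfa]
  refine ⟨(P : Subgroup _).comap f, hn.comap f, ?_, ?_, ?_, ?_⟩
  · intro x hx y hy
    apply hinj
    rw [map_mul, map_mul]
    exact congrArg Subtype.val (hc.is_comm.comm (⟨f x, hx⟩ : (P : Subgroup _)) ⟨f y, hy⟩)
  · intro x hx'
    apply hinj
    rw [map_mul, map_one, ← sq]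
    exact hx (f x) hx'
  · intro c d
    obtain ⟨⟨y, hy⟩, hyc⟩ := ht.exists_smul_eq c d
    obtain ⟨x, rfl⟩ := hfs y
    exact ⟨x, hy, hyc⟩
  · intro g
    rw [mem_comap, hmem]
    constructor
    · rintro (h1 | h1)
      · exact Or.inl (hinj (by rw [h1, map_one]))
      · exact Or.inr h1
    · rintro (h1 | h1)
      · exact Or.inl (by rw [h1, map_one])
      · exact Or.inr h1

/-- `|Ω| = 2 ^ s` with `s ≥ 2`. -/
theorem sharp_card (h : SSplit U) [FaithfulSMul G Ω] [Finite Ω] (heven : Even (Nat.card Ω))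
    {a b : Ω} (hab : b ≠ a) (hD : Dab G a b = ⊥) : ∃ s : ℕ, 2 ≤ s ∧ Nat.card Ω = 2 ^ s :=
  (h.sharp_main heven hab hD).1

/-- `|U c| + 1 = 2 ^ s` with `s ≥ 2`. -/
theorem sharp_card_U (h : SSplit U) [FaithfulSMul G Ω] [Finite Ω] (heven : Even (Nat.card Ω))
    {a b : Ω} (hab : b ≠ a) (hD : Dab G a b = ⊥) (c : Ω) :
    ∃ s : ℕ, 2 ≤ s ∧ Nat.card (U c) + 1 = 2 ^ s := by
  rw [← h.card c]
  exact h.sharp_card heven hab hD

/-- The elementary abelian regular normal subgroup. -/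
theorem sharp_normal (h : SSplit U) [FaithfulSMul G Ω] [Finite Ω] (heven : Even (Nat.card Ω))
    {a b : Ω} (hab : b ≠ a) (hD : Dab G a b = ⊥) : ∃ E : Subgroup G, E.Normal ∧
      (∀ x ∈ E, ∀ y ∈ E, x * y = y * x) ∧ (∀ x ∈ E, x * x = 1) ∧
      (∀ c d : Ω, ∃ x ∈ E, x • c = d) ∧ (∀ c : Ω, ∀ x ∈ E, x • c = c → x = 1) ∧
      (∀ g : G, g ∈ E ↔ g = 1 ∨ ∀ c : Ω, g • c ≠ c) ∧ (∀ c : Ω, E ⊔ U c = ⊤) ∧
      ∀ c : Ω, IsComplement' E (U c) := by
  obtain ⟨-, E, hn, hc, h2, ht, hE⟩ := h.sharp_main heven hab hD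
  have hfix : ∀ c : Ω, ∀ x ∈ E, x • c = c → x = 1 := by
    intro c x hx hxc
    rcases (hE x).1 hx with h1 | h1
    · exact h1
    · exact absurd hxc (h1 c)
  have hmul : ∀ (c : Ω) (g : G), ∃ x ∈ E, ∃ y ∈ U c, g = x * y := by
    intro c g
    obtain ⟨x, hx, hxc⟩ := ht c (g • c)
    refine ⟨x, hx, x⁻¹ * g, ?_, by group⟩
    rw [← h.sharp_stab hab hD]
    change (x⁻¹ * g) • c = c
    rw [mul_smul, inv_smul_eq_iff, hxc]
  have hsup : ∀ c : Ω, E ⊔ U c = ⊤ := by
    intro c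
    rw [eq_top_iff]
    intro g _
    obtain ⟨x, hx, y, hy, rfl⟩ := hmul c g
    exact mul_mem (le_sup_left (a := E) hx) (le_sup_right (a := E) hy)
  refine ⟨E, hn, hc, h2, ht, hfix, hE, hsup, fun c => ?_⟩
  apply isComplement'_of_disjoint_and_mul_eq_univ
  · rw [disjoint_iff, eq_bot_iff]
    intro x hx
    exact hfix c x hx.1 (h.fix hx.2)
  · rw [Set.eq_univ_iff_forall]
    intro g
    obtain ⟨x, hx, y, hy, rfl⟩ := hmul c g
    exact ⟨x, hx, y, hy, rfl⟩

/-- `U c` is cyclic. -/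
theorem sharp_cyclic (h : SSplit U) [FaithfulSMul G Ω] [Finite Ω] (heven : Even (Nat.card Ω))
    {a b : Ω} (hab : b ≠ a) (hD : Dab G a b = ⊥) (c : Ω) : IsCyclic (U c) := by
  classical
  have : Finite G := Finite.of_injective (toPermHom G Ω) (toPerm_injective)
  obtain ⟨E, hn, hc, h2, ht, hfix, hE, hsup, hcomp⟩ := h.sharp_normal heven hab hD
  have hodd : Odd (Nat.card (U c)) := by
    obtain ⟨s, hs, hs'⟩ := h.sharp_card_U heven hab hD c
    rw [← Nat.not_even_iff_odd]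
    intro he
    have h3 : Even (Nat.card (U c) + 1) := by
      rw [hs']
      exact (Nat.even_pow.2 ⟨even_two, by omega⟩)
    rw [Nat.even_add_one] at h3
    exact h3 he
  have hEb : E ≠ ⊥ := by
    intro hb
    obtain ⟨d, hd, -⟩ := h.three c c
    obtain ⟨x, hx, hxd⟩ := ht c d
    rw [hb, mem_bot] at hx
    rw [hx, one_smul] at hxd
    exact hd hxd.symm
  have hfpf : ∀ x ∈ U c, x ≠ 1 → E ⊓ centralizer ({x} : Set G) = ⊥ := by
    intro x hx hx1
    rw [eq_bot_iff]
    intro e he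
    have h3 : x * e = e * x := mem_centralizer_singleton_iff.1 he.2 |>.symm
    apply hfix c e he.1
    by_contra hne
    apply hx1
    refine h.free (a := c) (b := e • c) hne hx ?_
    rw [← mul_smul, h3, mul_smul, h.fix hx]
  have hZ : IsZGroup (U c) := by
    constructor
    intro p hp P
    have : Fact p.Prime := ⟨hp⟩
    rcases S0040.result E (U c) (hcomp c) hEb hfpf p P with h3 | ⟨n, ⟨e⟩⟩
    · exact h3
    · exfalso
      have h4 : Nat.card (P : Subgroup (U c)) ∣ Nat.card (U c) := card_subgroup_dvd_card _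
      rw [Nat.card_congr e.toEquiv] at h4
      have h5 : 2 ∣ Nat.card (QuaternionGroup (2 ^ n)) := by
        have : NeZero (2 ^ n) := ⟨by positivity⟩
        rw [Nat.card_eq_fintype_card, QuaternionGroup.card]
        exact ⟨2 * 2 ^ n, by ring⟩
      have h6 := h5.trans h4
      rw [← Nat.not_even_iff_odd] at hodd
      exact hodd (even_iff_two_dvd.2 h6)
  have := h.nil c
  infer_instance

end SSplit

end Cfsg.Agent.HKS
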