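import Mathlib
import Cfsg.Agent.HKS.Types

/-!
# Lifting involutions through central extensions
-/

set_option autoImplicit false

namespace Cfsg.Agent.HKS

open Subgroup MulAction

theorem comm_aux1 {C : Type*} [CommGroup C] (a b c d : C) :
    (a * (b * b))⁻¹ * (a * (d * d)) * (a * (c * c))⁻¹ =
      a⁻¹ * (d * b⁻¹ * c⁻¹ * (d * b⁻¹ * c⁻¹)) := by
  have h : ∀ {D : Type _} [AddCommGroup D] (a b c d : D),
      -(a + (b + b)) + (a + (d + d)) + -(a + (c + c)) = -a + (d + -b + -c + (d + -b + -c)) := by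
    intro D _ a b c d
    abel
  exact h (D := Additive C) a b c d

theorem comm_aux2 {C : Type*} [CommGroup C] (k a b c : C)
    (h : k⁻¹ * (c * c) = (k⁻¹ * (a * a)) * (k⁻¹ * (b * b))) :
    k = a * b * c⁻¹ * (a * b * c⁻¹) := by
  have h' : ∀ {D : Type _} [AddCommGroup D] (k a b c : D),
      -k + (c + c) = (-k + (a + a)) + (-k + (b + b)) → k = a + b + -c + (a + b + -c) := by
    intro D _ k a b c h
    have h7 : k = k + k + (-k + (c + c)) + (-c + -c) := by abel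
    rw [h] at h7
    rw [h7]
    abel
  exact h' (D := Additive C) k a b c h

/-- Seven commuting involutions with squares of lifts in one class modulo squares: the square is a
square. -/
theorem exists_sq_of_seven {A : Type*} [Group A] {Z : Subgroup A}
    (hZ : ∀ c ∈ Z, ∀ g, c * g = g * c) {κ x y z : A} (hκ : κ ∈ Z)
    (hx : ∃ l ∈ Z, x * x = κ * (l * l)) (hy : ∃ l ∈ Z, y * y = κ * (l * l))
    (hz : ∃ l ∈ Z, z * z = κ * (l * l))
    (hxy : ∃ l ∈ Z, (x * y) * (x * y) = κ * (l * l))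
    (hxz : ∃ l ∈ Z, (x * z) * (x * z) = κ * (l * l))
    (hyz : ∃ l ∈ Z, (y * z) * (y * z) = κ * (l * l))
    (hxyz : ∃ l ∈ Z, (x * (y * z)) * (x * (y * z)) = κ * (l * l)) :
    ∃ m ∈ Z, κ = m * m := by
  -- the key computation
  have hcen : ∀ c ∈ Z, c ∈ center A := fun c hc => mem_center_iff.2 fun g => (hZ c hc g).symm
  let _ : CommGroup (center A) :=
    { (inferInstance : Group (center A)) with
      mul_comm := fun a b => Subtype.ext ((mem_center_iff.1 b.2) (a : A)) }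
  have key : ∀ s t : A, (∃ l ∈ Z, s * s = κ * (l * l)) → (∃ l ∈ Z, t * t = κ * (l * l)) →
      (∃ l ∈ Z, (s * t) * (s * t) = κ * (l * l)) →
      ∃ l ∈ Z, s⁻¹ * t * s = t * (κ⁻¹ * (l * l)) := by
    rintro s t ⟨l₁, h₁, e₁⟩ ⟨l₂, h₂, e₂⟩ ⟨l₃, h₃, e₃⟩
    refine ⟨l₃ * l₁⁻¹ * l₂⁻¹, Z.mul_mem (Z.mul_mem h₃ (Z.inv_mem h₁)) (Z.inv_mem h₂), ?_⟩
    have h4 : s⁻¹ * t * s = (s * s)⁻¹ * ((s * t) * (s * t)) * (t * t)⁻¹ * t := by group
    rw [h4, e₁, e₂, e₃]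
    have h5 : (κ * (l₁ * l₁))⁻¹ * (κ * (l₃ * l₃)) * (κ * (l₂ * l₂))⁻¹ =
        κ⁻¹ * (l₃ * l₁⁻¹ * l₂⁻¹ * (l₃ * l₁⁻¹ * l₂⁻¹)) := by
      exact congrArg Subtype.val (comm_aux1 (C := center A) ⟨κ, hcen κ hκ⟩ ⟨l₁, hcen _ h₁⟩ ⟨l₂, hcen _ h₂⟩ ⟨l₃, hcen _ h₃⟩)
    rw [h5]
    exact hZ _ (Z.mul_mem (Z.inv_mem hκ) (Z.mul_mem (Z.mul_mem (Z.mul_mem h₃ (Z.inv_mem h₁))
      (Z.inv_mem h₂)) (Z.mul_mem (Z.mul_mem h₃ (Z.inv_mem h₁)) (Z.inv_mem h₂)))) _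
  obtain ⟨a, ha, ea⟩ := key x y hx hy hxy
  obtain ⟨b, hb, eb⟩ := key x z hx hz hxz
  obtain ⟨c, hc, ec⟩ := key x (y * z) hx hyz hxyz
  refine ⟨a * b * c⁻¹, Z.mul_mem (Z.mul_mem ha hb) (Z.inv_mem hc), ?_⟩
  have h1 : x⁻¹ * (y * z) * x = (x⁻¹ * y * x) * (x⁻¹ * z * x) := by group
  rw [ec, ea, eb] at h1
  have h2 : y * (κ⁻¹ * (a * a)) * (z * (κ⁻¹ * (b * b))) =
      y * z * ((κ⁻¹ * (a * a)) * (κ⁻¹ * (b * b))) := by
    have h3 := hZ _ (Z.mul_mem (Z.inv_mem hκ) (Z.mul_mem ha ha)) z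
    calc y * (κ⁻¹ * (a * a)) * (z * (κ⁻¹ * (b * b)))
        = y * ((κ⁻¹ * (a * a)) * z) * (κ⁻¹ * (b * b)) := by group
      _ = _ := by rw [h3]; group
  rw [h2] at h1
  have h4 : κ⁻¹ * (c * c) = (κ⁻¹ * (a * a)) * (κ⁻¹ * (b * b)) := mul_left_cancel h1
  have h8 := comm_aux2 (C := center A) ⟨κ, hcen κ hκ⟩ ⟨a, hcen _ ha⟩ ⟨b, hcen _ hb⟩ ⟨c, hcen _ hc⟩
    (Subtype.ext h4)
  exact congrArg Subtype.val h8

/-- type `PSU(3,q)`: involutions of the torus lift. -/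
theorem exists_lift_U {A B : Type*} [Group A] [Group B] {ρ : A →* B} (hρ : Function.Surjective ρ)
    (hZ : ∀ x, ρ x = 1 → ∀ y, x * y = y * x) {E' : Subgroup B} {q d : ℕ} {e' w' : B}
    (he' : e' ∈ E') (hcyc : ∀ d ∈ E', ∃ k : ℕ, d * e' ^ k = 1) (hq : Odd q) (hd : Odd d)
    (hcard : d * Nat.card E' = q ^ 2 - 1) (hw : w' * w' = 1) (hwe : w' * e' * w'⁻¹ * e' ^ q = 1)
    {z' : B} (hz : z' ∈ E') (hz2 : z' * z' = 1) : ∃ z : A, ρ z = z' ∧ z * z = 1 := by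
  obtain ⟨e, rfl⟩ := hρ e'
  obtain ⟨w, rfl⟩ := hρ w'
  obtain ⟨j, hj⟩ := hcyc z' hz
  have hz3 : z' = (ρ e ^ j)⁻¹ := eq_inv_of_mul_eq_one_left hj
  -- `κ₀`
  obtain ⟨κ₀, hκ₀⟩ : ∃ κ₀ : A, κ₀ = w * e * w⁻¹ * e ^ q := ⟨_, rfl⟩
  have hκ₀Z : ρ κ₀ = 1 := by
    rw [hκ₀]
    simpa using hwe
  have hwZ : ρ (w * w) = 1 := by rw [map_mul, hw]
  have h1 : w * e * w⁻¹ = κ₀ * (e ^ q)⁻¹ := by rw [hκ₀]; group
  have hc0 : ∀ y, κ₀ * y = y * κ₀ := hZ _ hκ₀Z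
  -- `w κ₀ w⁻¹ = κ₀`
  have h2 : e = κ₀ * (κ₀ ^ q)⁻¹ * e ^ (q * q) := by
    have h3 : w * (w * e * w⁻¹) * w⁻¹ = e := by
      have := hZ _ hwZ e
      calc w * (w * e * w⁻¹) * w⁻¹ = (w * w) * e * (w * w)⁻¹ := by group
        _ = e := by rw [this]; group
    have h4 : w * (κ₀ * (e ^ q)⁻¹) * w⁻¹ = κ₀ * ((w * e * w⁻¹) ^ q)⁻¹ := by
      rw [conj_pow]
      have := hc0 w
      calc w * (κ₀ * (e ^ q)⁻¹) * w⁻¹ = (w * κ₀) * ((e ^ q)⁻¹ * w⁻¹) := by group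
        _ = κ₀ * w * ((e ^ q)⁻¹ * w⁻¹) := by rw [this]
        _ = _ := by group
    have h5 : (κ₀ * (e ^ q)⁻¹) ^ q = κ₀ ^ q * ((e ^ q)⁻¹) ^ q :=
      (show Commute κ₀ ((e ^ q)⁻¹) from hc0 _).mul_pow q
    have h6 : (κ₀ ^ q)⁻¹ * e ^ (q * q) = e ^ (q * q) * (κ₀ ^ q)⁻¹ :=
      ((show Commute κ₀ (e ^ (q * q)) from hc0 _).pow_left q).inv_left
    calc e = w * (w * e * w⁻¹) * w⁻¹ := h3.symm
      _ = w * (κ₀ * (e ^ q)⁻¹) * w⁻¹ := by rw [h1]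
      _ = κ₀ * ((w * e * w⁻¹) ^ q)⁻¹ := h4
      _ = κ₀ * ((κ₀ * (e ^ q)⁻¹) ^ q)⁻¹ := by rw [h1]
      _ = κ₀ * (κ₀ ^ q)⁻¹ * e ^ (q * q) := by
        rw [h5, mul_inv_rev, inv_pow, inv_inv, ← pow_mul, mul_assoc, h6]
  have hqpos : 1 ≤ q := hq.pos
  have h7 : e ^ (q ^ 2 - 1) = κ₀ ^ (q - 1) := by
    have h8 : e ^ (q * q) = e * e ^ (q ^ 2 - 1) := by
      rw [← pow_succ']
      congr 1
      have : 1 ≤ q ^ 2 := Nat.one_le_pow _ _ hqpos
      rw [Nat.sub_add_cancel this]; ring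
    have h9 : κ₀ ^ q = κ₀ * κ₀ ^ (q - 1) := by
      rw [← pow_succ', Nat.sub_add_cancel hqpos]
    rw [h8, h9] at h2
    have h10 : e = (κ₀ ^ (q - 1))⁻¹ * (e * e ^ (q ^ 2 - 1)) := by
      conv_lhs => rw [h2]
      group
    have h11 : κ₀ ^ (q - 1) * e = e * e ^ (q ^ 2 - 1) := by
      conv_lhs => rw [h10]
      group
    have h12 : κ₀ ^ (q - 1) * e = e * κ₀ ^ (q - 1) :=
      (show Commute κ₀ e from hc0 _).pow_left _
    rw [h12] at h11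
    exact (mul_left_cancel h11).symm
  -- `κ = e ^ (2 j)`
  obtain ⟨κ, hκ⟩ : ∃ κ : A, κ = e ^ (2 * j) := ⟨_, rfl⟩
  have hz4 : ρ e ^ (2 * j) = 1 := by
    have h3 : (ρ e ^ j) * (ρ e ^ j) = 1 := by
      have := hz2
      rw [hz3, ← mul_inv_rev, inv_eq_one] at this
      exact this
    rw [two_mul, pow_add, h3]
  have hκZ : ρ κ = 1 := by rw [hκ, map_pow, hz4]
  obtain ⟨c, hc⟩ : Nat.card E' ∣ 2 * j := by
    have hE : zpowers (ρ e) = E' := by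
      apply le_antisymm
      · rw [zpowers_le]; exact he'
      · intro x hx
        obtain ⟨k, hk⟩ := hcyc x hx
        rw [eq_inv_of_mul_eq_one_left hk]
        exact inv_mem (pow_mem (mem_zpowers _) k)
    rw [← hE, Nat.card_zpowers]
    exact orderOf_dvd_of_pow_eq_one hz4
  -- `κ ^ d` is a square
  obtain ⟨r, hr⟩ := hd
  obtain ⟨m, hm⟩ : ∃ m : ℕ, q - 1 = 2 * m := by
    obtain ⟨m, hm⟩ := hq
    exact ⟨m, by omega⟩
  have h13 : κ ^ d = (κ₀ ^ (m * c)) * (κ₀ ^ (m * c)) := by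
    rw [hκ, ← pow_mul, ← pow_add]
    have h14 : 2 * j * d = (q ^ 2 - 1) * c := by
      rw [hc, ← hcard]; ring
    rw [h14, pow_mul, h7, ← pow_mul]
    congr 1
    rw [hm]; ring
  have hκc : ∀ y, κ * y = y * κ := hZ _ hκZ
  obtain ⟨μ, hμ⟩ : ∃ μ : A, μ = κ₀ ^ (m * c) * (κ ^ r)⁻¹ := ⟨_, rfl⟩
  have hμZ : ρ μ = 1 := by
    rw [hμ, map_mul, map_pow, hκ₀Z, map_inv, map_pow, hκZ, one_pow, one_pow, inv_one, mul_one]
  have hμ2 : μ * μ = κ := by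
    have h15 : (κ ^ r)⁻¹ * κ₀ ^ (m * c) = κ₀ ^ (m * c) * (κ ^ r)⁻¹ :=
      ((show Commute κ (κ₀ ^ (m * c)) from hκc _).pow_left r).inv_left
    calc μ * μ = κ₀ ^ (m * c) * ((κ ^ r)⁻¹ * κ₀ ^ (m * c)) * (κ ^ r)⁻¹ := by rw [hμ]; group
      _ = (κ₀ ^ (m * c) * κ₀ ^ (m * c)) * ((κ ^ r)⁻¹ * (κ ^ r)⁻¹) := by rw [h15]; group
      _ = κ ^ d * ((κ ^ r)⁻¹ * (κ ^ r)⁻¹) := by rw [h13]
      _ = κ := by
        rw [hr]
        have : κ ^ (2 * r + 1) = κ * (κ ^ r * κ ^ r) := by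
          rw [pow_succ', two_mul, pow_add]
        rw [this]
        group
  have hμc : ∀ y, μ * y = y * μ := hZ _ hμZ
  refine ⟨(e ^ j)⁻¹ * μ, ?_, ?_⟩
  · rw [map_mul, hμZ, mul_one, map_inv, map_pow, hz3]
  · have h16 := hμc (e ^ j)⁻¹
    calc (e ^ j)⁻¹ * μ * ((e ^ j)⁻¹ * μ) = (e ^ j)⁻¹ * (μ * (e ^ j)⁻¹) * μ := by group
      _ = (e ^ j)⁻¹ * (e ^ j)⁻¹ * (μ * μ) := by rw [h16]; group
      _ = 1 := by
        rw [hμ2, hκ, two_mul, pow_add]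
        group

/-- the involution of a cyclic group is unique -/
theorem eq_of_cyc {G : Type*} [Group G] [Finite G] {E : Subgroup G}
    (hcyc : ∃ e ∈ E, ∀ d ∈ E, ∃ k : ℕ, d * e ^ k ∈ (⊥ : Subgroup G)) {s t : G} (hs : s ∈ E)
    (ht : t ∈ E) (hs1 : s ≠ 1) (ht1 : t ≠ 1) (hs2 : s * s = 1) (ht2 : t * t = 1) : s = t := by
  obtain ⟨e, he, h⟩ := hcyc
  have key : ∀ x ∈ E, x ≠ 1 → x * x = 1 → ∃ k : ℕ, 2 * k = orderOf e ∧ x = e ^ k := by
    intro x hx hx1 hx2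
    obtain ⟨k, hk⟩ := h x⁻¹ (E.inv_mem hx)
    have hxk : x = e ^ k := by
      have := mem_bot.1 hk
      rw [inv_mul_eq_one] at this
      exact this
    have hpos : 0 < orderOf e := orderOf_pos e
    have h1 : orderOf e ∣ 2 * k := by
      apply orderOf_dvd_of_pow_eq_one
      rw [two_mul, pow_add, ← hxk, hx2]
    have h2 : ¬ orderOf e ∣ k := fun hc => hx1 (by rw [hxk]; exact orderOf_dvd_iff_pow_eq_one.1 hc)
    have h3 : orderOf e ∣ 2 * (k % orderOf e) := by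
      have h4 : 2 * k = 2 * (k % orderOf e) + orderOf e * (2 * (k / orderOf e)) := by
        have := Nat.mod_add_div k (orderOf e)
        nlinarith [this]
      rw [h4] at h1
      exact (Nat.dvd_add_iff_left (dvd_mul_right _ _)).2 h1
    have h5 : k % orderOf e < orderOf e := Nat.mod_lt _ hpos
    have h6 : k % orderOf e ≠ 0 := fun hc => h2 (Nat.dvd_of_mod_eq_zero hc)
    refine ⟨k % orderOf e, ?_, by rw [hxk, pow_mod_orderOf]⟩
    obtain ⟨c, hc⟩ := h3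
    have h7 : c < 2 := by
      by_contra hc2
      have : orderOf e * 2 ≤ orderOf e * c := Nat.mul_le_mul_left _ (by omega)
      omega
    have h8 : c ≠ 0 := by
      rintro rfl
      omega
    have : c = 1 := by omega
    rw [this] at hc
    omega
  obtain ⟨k, hk, rfl⟩ := key s hs hs1 hs2
  obtain ⟨l, hl, rfl⟩ := key t ht ht1 ht2
  congr 1
  omega

/-- In a group whose two-point stabilisers have one involution and whose involutions all have fixed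
points, all involutions are conjugate. -/
theorem SSplit.isConj_of_fix {G Ω : Type*} [Group G] [MulAction G Ω] [Finite Ω] {U : Ω → Subgroup G}
    (h : SSplit U) (hev : Even (Nat.card Ω)) {a b : Ω} (hab : b ≠ a)
    (huniq : ∀ s ∈ Dab G a b, ∀ t ∈ Dab G a b, s ≠ 1 → t ≠ 1 → s * s = 1 → t * t = 1 → s = t)
    {z t : G} (hz : z ∈ Dab G a b) (hz1 : z ≠ 1) (hz2 : z * z = 1) (ht1 : t ≠ 1)
    (ht2 : t * t = 1) (hfix : ∃ c : Ω, t • c = c) : ∃ g : G, t = g * z * g⁻¹ := by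
  classical
  obtain ⟨c, hc⟩ := hfix
  -- a second fixed point
  obtain ⟨d, hd, hdc⟩ : ∃ d : Ω, t • d = d ∧ d ≠ c := by
    by_contra hcon
    push Not at hcon
    have := Fintype.ofFinite Ω
    have h1 : (toPerm t : Equiv.Perm Ω) ^ 2 ^ 1 = 1 := by
      rw [pow_one, pow_two]
      ext x
      change t • t • x = x
      rw [← mul_smul, ht2, one_smul]
    have h2 := Equiv.Perm.card_fixedPoints_modEq (p := 2) (n := 1)
      (f := ((toPerm t : Equiv.Perm Ω) : Ω → Ω)) (by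
        funext x
        exact congrArg (fun σ : Equiv.Perm Ω => σ x) h1)
    have h3 : Fintype.card (Function.fixedPoints ((toPerm t : Equiv.Perm Ω) : Ω → Ω)) = 1 := by
      rw [Fintype.card_eq_one_iff]
      exact ⟨⟨c, hc⟩, fun y => Subtype.ext (hcon y y.2)⟩
    rw [h3, ← Nat.card_eq_fintype_card] at h2
    obtain ⟨m, hm⟩ := hev
    rw [hm, Nat.ModEq] at h2
    omega
  obtain ⟨g, hg1, hg2⟩ := h.two hdc.symm hab.symm
  have h4 : g * t * g⁻¹ ∈ Dab G a b := by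
    refine ⟨?_, ?_⟩
    · change (g * t * g⁻¹) • a = a
      rw [← hg1, mul_smul, mul_smul, inv_smul_smul, hc]
    · change (g * t * g⁻¹) • b = b
      rw [← hg2, mul_smul, mul_smul, inv_smul_smul, hd]
  have h5 : g * t * g⁻¹ = z := by
    refine huniq _ h4 _ hz ?_ hz1 ?_ hz2
    · intro hc'
      apply ht1
      have : t = g⁻¹ * (g * t * g⁻¹) * g := by group
      rw [this, hc']; group
    · calc g * t * g⁻¹ * (g * t * g⁻¹) = g * (t * t) * g⁻¹ := by group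
        _ = 1 := by rw [ht2]; group
  exact ⟨g⁻¹, by rw [← h5]; group⟩

/-- type `Ree(q)`: involutions lift through central extensions. -/
theorem exists_lift_R {A B Ω : Type*} [Group A] [Group B] [Finite B] [MulAction B Ω] [Finite Ω]
    {ρ : A →* B} (hρ : Function.Surjective ρ) (hZ : ∀ x, ρ x = 1 → ∀ y, x * y = y * x)
    {V : Ω → Subgroup B} (h : SSplit V) (hev : Even (Nat.card Ω)) {a b : Ω} (hab : b ≠ a)
    {n : ℕ} (hT : TR V a b n) {z' : B} (hz : z' ∈ Dab B a b) (hz1 : z' ≠ 1)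
    (hz2 : z' * z' = 1) : ∃ z : A, ρ z = z' ∧ z * z = 1 := by
  classical
  have hconj : ∀ t : B, t ≠ 1 → t * t = 1 → ∃ g : B, t = g * z' * g⁻¹ := fun t ht1 ht2 =>
    h.isConj_of_fix hev hab (fun s hs t ht hs1 ht1 hs2 ht2 =>
      eq_of_cyc hT.data.cyc hs ht hs1 ht1 hs2 ht2) hz hz1 hz2 ht1 ht2 (hT.fix t ht2)
  obtain ⟨z, rfl⟩ := hρ z'
  have hker : ∀ c ∈ ρ.ker, ∀ g, c * g = g * c := fun c hc => hZ c (MonoidHom.mem_ker.1 hc)
  -- squares of lifts of involutions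
  have hsq : ∀ s : A, ρ s ≠ 1 → ρ s * ρ s = 1 → ∃ l ∈ ρ.ker, s * s = (z * z) * (l * l) := by
    intro s hs1 hs2
    obtain ⟨g', hg⟩ := hconj (ρ s) hs1 hs2
    obtain ⟨g, rfl⟩ := hρ g'
    have h1 : (g * z * g⁻¹)⁻¹ * s ∈ ρ.ker := by
      rw [MonoidHom.mem_ker, map_mul, map_inv, map_mul, map_mul, map_inv, ← hg, inv_mul_cancel]
    obtain ⟨l, hl⟩ : ∃ l, l = (g * z * g⁻¹)⁻¹ * s := ⟨_, rfl⟩
    rw [← hl] at h1
    refine ⟨l, h1, ?_⟩
    have h2 : s = g * z * g⁻¹ * l := by rw [hl]; group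
    have h3 := hker l h1
    have hzz : ∀ y, (z * z) * y = y * (z * z) := hZ _ (by rw [map_mul]; exact hz2)
    calc s * s = g * z * g⁻¹ * (l * (g * z * g⁻¹)) * l := by rw [h2]; group
      _ = g * (z * z) * g⁻¹ * (l * l) := by rw [h3]; group
      _ = (z * z) * (l * l) := by rw [← hzz g]; group
  -- the elementary abelian group of order 8
  have hzp : IsPGroup 2 (zpowers (ρ z)) := by
    rw [IsPGroup.iff_orderOf]
    rintro ⟨x, hx⟩
    have h1 : orderOf (ρ z) ∣ 2 ^ 1 := orderOf_dvd_of_pow_eq_one (by rw [pow_one, pow_two]; exact hz2)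
    have h2 : orderOf (⟨x, hx⟩ : zpowers (ρ z)) ∣ 2 ^ 1 := by
      rw [Subgroup.orderOf_mk]
      exact (orderOf_dvd_of_mem_zpowers hx).trans h1
    obtain ⟨k, -, hk⟩ := (Nat.dvd_prime_pow Nat.prime_two).1 h2
    exact ⟨k, hk⟩
  obtain ⟨S, hS⟩ := hzp.exists_le_sylow
  have hzS : ρ z ∈ (S : Subgroup B) := hS (mem_zpowers _)
  obtain ⟨hS8, hSe⟩ := hT.syl S
  have hcomm : ∀ x ∈ (S : Subgroup B), ∀ y ∈ (S : Subgroup B), x * y = y * x := by
    intro x hx y hy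
    have h1 := hSe _ (S.mul_mem hx hy)
    have hx2 := hSe _ hx
    have hy2 := hSe _ hy
    calc x * y = x * ((x * y) * (x * y)) * y := by rw [h1, mul_one]
      _ = (x * x) * (y * x) * (y * y) := by group
      _ = y * x := by rw [hx2, hy2, one_mul, mul_one]
  obtain ⟨x', hx', hx1, hxz⟩ : ∃ x' ∈ (S : Subgroup B), x' ≠ 1 ∧ x' ≠ ρ z := by
    by_contra hcon
    push Not at hcon
    have h1 : (Set.univ : Set (S : Subgroup B)) ⊆ {1, ⟨ρ z, hzS⟩} := by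
      rintro ⟨x, hx⟩ -
      by_cases h1 : x = 1
      · left; exact Subtype.ext h1
      · right; exact Subtype.ext (hcon x hx h1)
    have h2 := Set.ncard_le_ncard h1 (Set.toFinite _)
    rw [Set.ncard_univ, hS8] at h2
    have h3 := Set.ncard_insert_le (1 : (S : Subgroup B)) {⟨ρ z, hzS⟩}
    rw [Set.ncard_singleton] at h3
    omega
  obtain ⟨y', hy', hy1, hyz, hyx, hyxz⟩ : ∃ y' ∈ (S : Subgroup B), y' ≠ 1 ∧ y' ≠ ρ z ∧ y' ≠ x' ∧
      y' ≠ x' * ρ z := by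
    by_contra hcon
    push Not at hcon
    have h1 : (Set.univ : Set (S : Subgroup B)) ⊆ {1, ⟨ρ z, hzS⟩, ⟨x', hx'⟩,
        ⟨x' * ρ z, S.mul_mem hx' hzS⟩} := by
      rintro ⟨x, hx⟩ -
      by_cases h1 : x = 1
      · left; exact Subtype.ext h1
      · by_cases h2 : x = ρ z
        · right; left; exact Subtype.ext h2
        · by_cases h3 : x = x'
          · right; right; left; exact Subtype.ext h3
          · right; right; right; exact Subtype.ext (hcon x hx h1 h2 h3)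
    have h2 := Set.ncard_le_ncard h1 (Set.toFinite _)
    rw [Set.ncard_univ, hS8] at h2
    have h3 := Set.ncard_insert_le (1 : (S : Subgroup B)) {⟨ρ z, hzS⟩, ⟨x', hx'⟩,
        ⟨x' * ρ z, S.mul_mem hx' hzS⟩}
    have h4 := Set.ncard_insert_le (⟨ρ z, hzS⟩ : (S : Subgroup B)) {⟨x', hx'⟩,
        ⟨x' * ρ z, S.mul_mem hx' hzS⟩}
    have h5 := Set.ncard_insert_le (⟨x', hx'⟩ : (S : Subgroup B)) {⟨x' * ρ z, S.mul_mem hx' hzS⟩}
    rw [Set.ncard_singleton] at h5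
    omega
  obtain ⟨x, rfl⟩ := hρ x'
  obtain ⟨y, rfl⟩ := hρ y'
  have hinv : ∀ s ∈ (S : Subgroup B), s⁻¹ = s := fun s hs => inv_eq_of_mul_eq_one_left (hSe s hs)
  have hne : ∀ s t : B, s ∈ (S : Subgroup B) → s ≠ t → s * t ≠ 1 := by
    intro s t hs hst hc
    apply hst
    rw [← hinv s hs]
    exact (eq_inv_of_mul_eq_one_right hc).symm
  obtain ⟨m, hm, hzm⟩ := exists_sq_of_seven hker (κ := z * z) (x := x) (y := y) (z := z)
    (MonoidHom.mem_ker.2 (by rw [map_mul]; exact hz2))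
    (hsq x hx1 (hSe _ hx')) (hsq y hy1 (hSe _ hy')) (hsq z hz1 (hSe _ hzS))
    (hsq (x * y) (by rw [map_mul]; exact hne _ _ hx' (Ne.symm hyx))
      (by rw [map_mul]; exact hSe _ (S.mul_mem hx' hy')))
    (hsq (x * z) (by rw [map_mul]; exact hne _ _ hx' hxz)
      (by rw [map_mul]; exact hSe _ (S.mul_mem hx' hzS)))
    (hsq (y * z) (by rw [map_mul]; exact hne _ _ hy' hyz)
      (by rw [map_mul]; exact hSe _ (S.mul_mem hy' hzS)))
    (hsq (x * (y * z)) (by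
        rw [map_mul, map_mul]
        refine hne _ _ hx' fun hc => hyxz ?_
        rw [hc]
        have := hSe _ hzS
        rw [mul_assoc, this, mul_one])
      (by rw [map_mul, map_mul]; exact hSe _ (S.mul_mem hx' (S.mul_mem hy' hzS))))
  refine ⟨z * m⁻¹, ?_, ?_⟩
  · rw [map_mul, map_inv, MonoidHom.mem_ker.1 hm, inv_one, mul_one]
  · have h1 := hker _ (inv_mem hm) z
    calc z * m⁻¹ * (z * m⁻¹) = z * (m⁻¹ * z) * m⁻¹ := by group
      _ = (z * z) * (m * m)⁻¹ := by rw [h1]; group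
      _ = 1 := by rw [← hzm]; group

end Cfsg.Agent.HKS
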