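import Mathlib
import Cfsg.Agent.HKS.LiftInvol

/-!
# Transfer of the list to the fixed points of a subgroup
-/

set_option autoImplicit false

namespace Cfsg.Agent.HKS

open Subgroup MulAction

/-- `ρ : A → B` is surjective, `ι : A → G` injective with image `M`; `P, E, K` of `G` correspond to
`P', E', 1` of `B`. -/
structure Lift {A B G : Type*} [Group A] [Group B] [Group G] (ι : A →* G) (ρ : A →* B)
    (M P E K : Subgroup G) (P' E' : Subgroup B) (Sw : G → Prop) (Sw' : B → Prop) : Prop where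
  inj : Function.Injective ι
  surj : Function.Surjective ρ
  rangeM : ι.range = M
  P_le : P ≤ M
  E_le : E ≤ M
  P_map : ∀ x, ι x ∈ P → ρ x ∈ P'
  P_lift : ∀ y ∈ P', ∃ x, ι x ∈ P ∧ ρ x = y
  P_inj : ∀ x, ι x ∈ P → ρ x = 1 → x = 1
  E_iff : ∀ x, ι x ∈ E ↔ ρ x ∈ E'
  K_iff : ∀ x, ι x ∈ K ↔ ρ x = 1
  central : ∀ x, ρ x = 1 → ∀ y, x * y = y * x
  lift_sw : ∀ x, Sw' (ρ x) → Sw (ι x)
  EP : ∀ d ∈ E, ∀ u ∈ P, d * u * d⁻¹ ∈ P
  sw : ∀ g, Sw g → ∃ x, ι x = g ∧ Sw' (ρ x)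

namespace Lift

variable {A B G : Type*} [Group A] [Group B] [Group G] {ι : A →* G} {ρ : A →* B}
  {M P E K : Subgroup G} {P' E' : Subgroup B} {Sw : G → Prop} {Sw' : B → Prop}

theorem exists_of_P (L : Lift ι ρ M P E K P' E' Sw Sw') {g : G} (hg : g ∈ P) :
    ∃ x, ι x = g ∧ ρ x ∈ P' := by
  have h1 := L.P_le hg
  rw [← L.rangeM] at h1
  obtain ⟨x, rfl⟩ := h1
  exact ⟨x, rfl, L.P_map x hg⟩

theorem exists_of_E (L : Lift ι ρ M P E K P' E' Sw Sw') {g : G} (hg : g ∈ E) :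
    ∃ x, ι x = g ∧ ρ x ∈ E' := by
  have h1 := L.E_le hg
  rw [← L.rangeM] at h1
  obtain ⟨x, rfl⟩ := h1
  exact ⟨x, rfl, (L.E_iff x).1 hg⟩

theorem lift_E (L : Lift ι ρ M P E K P' E' Sw Sw') {y : B} (hy : y ∈ E') :
    ∃ x, ι x ∈ E ∧ ρ x = y := by
  obtain ⟨x, rfl⟩ := L.surj y
  exact ⟨x, (L.E_iff x).2 hy, rfl⟩

theorem eq_of_P (L : Lift ι ρ M P E K P' E' Sw Sw') {x y : A} (hx : ι x ∈ P) (hy : ι y ∈ P)
    (h : ρ x = ρ y) : x = y := by
  have h1 : x * y⁻¹ = 1 := L.P_inj _ (by rw [map_mul, map_inv]; exact P.mul_mem hx (P.inv_mem hy))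
    (by rw [map_mul, map_inv, h, mul_inv_cancel])
  exact mul_inv_eq_one.1 h1

theorem comm_P (L : Lift ι ρ M P E K P' E' Sw Sw') {x y : A} (hx : ι x ∈ P) (hy : ι y ∈ P) :
    ι x * ι y = ι y * ι x ↔ ρ x * ρ y = ρ y * ρ x := by
  constructor
  · intro h
    rw [← map_mul, ← map_mul] at h
    have := L.inj h
    rw [← map_mul, this, map_mul]
  · intro h
    rw [← map_mul, ← map_mul] at h
    have := L.eq_of_P (x := x * y) (y := y * x) (by rw [map_mul]; exact P.mul_mem hx hy)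
      (by rw [map_mul]; exact P.mul_mem hy hx) h
    rw [← map_mul, this, map_mul]

theorem comm_E (L : Lift ι ρ M P E K P' E' Sw Sw') {x y : A} (hx : ι x ∈ E) (hy : ι y ∈ P) :
    ι x * ι y = ι y * ι x ↔ ρ x * ρ y = ρ y * ρ x := by
  constructor
  · intro h
    rw [← map_mul, ← map_mul] at h
    have := L.inj h
    rw [← map_mul, this, map_mul]
  · intro h
    have h1 : ι (x * y * x⁻¹) ∈ P := by
      rw [map_mul, map_mul, map_inv]; exact L.EP _ hx _ hy
    have := L.eq_of_P h1 hy (by rw [map_mul, map_mul, map_inv, h, mul_inv_cancel_right])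
    have h2 : x * y = y * x := by
      calc x * y = x * y * x⁻¹ * x := by group
        _ = y * x := by rw [this]
    rw [← map_mul, h2, map_mul]

/-- `P ≃ P'` -/
theorem exists_equiv (L : Lift ι ρ M P E K P' E' Sw Sw') :
    ∃ e : P ≃* P', ∀ (x : A) (hx : ι x ∈ P), (e ⟨ι x, hx⟩ : B) = ρ x := by
  classical
  choose φ hφ hφ' using fun g : P => L.exists_of_P g.2
  have hmul : ∀ g h : P, φ (g * h) = φ g * φ h := fun g h => L.inj (by
    rw [map_mul, hφ, hφ, hφ, coe_mul])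
  let f : P →* P' := MonoidHom.mk' (fun g => ⟨ρ (φ g), hφ' g⟩) (fun g h => Subtype.ext (by
    change ρ (φ (g * h)) = ρ (φ g) * ρ (φ h)
    rw [hmul, map_mul]))
  have hf : Function.Bijective f := by
    constructor
    · intro g h hgh
      have h1 : ρ (φ g) = ρ (φ h) := congrArg Subtype.val hgh
      have h2 := L.eq_of_P (by rw [hφ]; exact g.2) (by rw [hφ]; exact h.2) h1
      apply Subtype.ext
      rw [← hφ g, ← hφ h, h2]
    · rintro ⟨y, hy⟩
      obtain ⟨x, hx, hxy⟩ := L.P_lift y hy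
      refine ⟨⟨ι x, hx⟩, Subtype.ext ?_⟩
      change ρ (φ ⟨ι x, hx⟩) = y
      rw [← hxy]
      congr 1
      exact L.inj (hφ _)
  refine ⟨MulEquiv.ofBijective f hf, fun x hx => ?_⟩
  change ρ (φ ⟨ι x, hx⟩) = ρ x
  congr 1
  exact L.inj (hφ _)

theorem card_P (L : Lift ι ρ M P E K P' E' Sw Sw') : Nat.card P = Nat.card P' := by
  obtain ⟨e, -⟩ := L.exists_equiv
  exact Nat.card_congr e.toEquiv

theorem relIndex_E (L : Lift ι ρ M P E K P' E' Sw Sw') : K.relIndex E = Nat.card E' := by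
  have h1 : (E'.comap ρ).map ι = E := by
    ext g
    constructor
    · rintro ⟨x, hx, rfl⟩
      exact (L.E_iff x).2 hx
    · intro hg
      obtain ⟨x, rfl, hx⟩ := L.exists_of_E hg
      exact ⟨x, hx, rfl⟩
  have h2 : K.comap ι = (⊥ : Subgroup B).comap ρ := by
    ext x
    rw [mem_comap, mem_comap, mem_bot]
    exact L.K_iff x
  rw [← h1, ← relIndex_comap, h2, relIndex_comap, map_comap_eq_self_of_surjective L.surj,
    relIndex_bot_left]

theorem cyc (L : Lift ι ρ M P E K P' E' Sw Sw')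
    (h : ∃ e ∈ E', ∀ d ∈ E', ∃ k : ℕ, d * e ^ k ∈ (⊥ : Subgroup B)) :
    ∃ e ∈ E, ∀ d ∈ E, ∃ k : ℕ, d * e ^ k ∈ K := by
  obtain ⟨e, he, h⟩ := h
  obtain ⟨x, hx, rfl⟩ := L.lift_E he
  refine ⟨ι x, hx, fun d hd => ?_⟩
  obtain ⟨y, rfl, hy⟩ := L.exists_of_E hd
  obtain ⟨k, hk⟩ := h _ hy
  refine ⟨k, ?_⟩
  rw [← map_pow, ← map_mul, L.K_iff, map_mul, map_pow]
  exact mem_bot.1 hk

theorem iso (L : Lift ι ρ M P E K P' E' Sw Sw') {H : Type*} [Group H]
    (h : ∃ f : (⊤ : Subgroup B) →* H, Function.Surjective f ∧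
      ∀ x : (⊤ : Subgroup B), f x = 1 ↔ (x : B) ∈ (⊥ : Subgroup B)) :
    ∃ f : M →* H, Function.Surjective f ∧ ∀ x : M, f x = 1 ↔ (x : G) ∈ K := by
  obtain ⟨f, hf, hf1⟩ := h
  have hr := L.rangeM
  subst hr
  let φ : ι.range ≃* A := (MonoidHom.ofInjective L.inj).symm
  have hφ : ∀ x : ι.range, ι (φ x) = x := fun x => by
    have := (MonoidHom.ofInjective L.inj).apply_symm_apply x
    exact congrArg Subtype.val this
  let g : B →* (⊤ : Subgroup B) := (Subgroup.topEquiv (G := B)).symm.toMonoidHom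
  refine ⟨(f.comp g).comp (ρ.comp φ.toMonoidHom), ?_, ?_⟩
  · refine (hf.comp (Subgroup.topEquiv (G := B)).symm.surjective).comp (L.surj.comp φ.surjective)
  · intro x
    change f (g (ρ (φ x))) = 1 ↔ _
    rw [hf1, mem_bot]
    change ρ (φ x) = 1 ↔ _
    rw [← L.K_iff, hφ]

theorem toDL (L : Lift ι ρ M P E K P' E' Sw Sw') {q : ℕ} (h : DL ⊤ P' E' ⊥ Sw' q) :
    DL M P E K Sw q where
  pow := h.pow
  odd := h.odd
  three := h.three
  card := by rw [L.card_P, h.card]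
  comm := by
    intro u hu v hv
    obtain ⟨x, rfl, hx⟩ := L.exists_of_P hu
    obtain ⟨y, rfl, hy⟩ := L.exists_of_P hv
    exact (L.comm_P hu hv).2 (h.comm _ hx _ hy)
  cyc := L.cyc h.cyc
  cardE := by rw [L.relIndex_E, ← h.cardE, relIndex_bot_left]
  free := by
    intro d hd u hu hdu
    obtain ⟨x, rfl, hx⟩ := L.exists_of_E hd
    obtain ⟨y, rfl, hy⟩ := L.exists_of_P hu
    rcases h.free _ hx _ hy ((L.comm_E hd hu).1 hdu) with h1 | h1
    · left
      exact (L.K_iff x).2 (mem_bot.1 h1)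
    · right
      rw [L.P_inj y hu h1, map_one]
  inv := by
    intro w hw d hd
    obtain ⟨x, rfl, hx⟩ := L.sw w hw
    obtain ⟨y, rfl, hy⟩ := L.exists_of_E hd
    have h1 := h.inv _ hx _ hy
    rw [← map_inv, ← map_mul, ← map_mul, ← map_mul, L.K_iff, map_mul, map_mul, map_mul, map_inv]
    exact mem_bot.1 h1
  iso := by
    obtain ⟨F, i1, i2, hF, hf⟩ := h.iso
    exact ⟨F, i1, i2, hF, L.iso hf⟩

theorem center_iff (L : Lift ι ρ M P E K P' E' Sw Sw') {x : A} (hx : ι x ∈ P) :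
    (∀ v ∈ P, ι x * v = v * ι x) ↔ ∀ v ∈ P', ρ x * v = v * ρ x := by
  constructor
  · intro h v hv
    obtain ⟨y, hy, rfl⟩ := L.P_lift v hv
    exact (L.comm_P hx hy).1 (h _ hy)
  · intro h v hv
    obtain ⟨y, rfl, hy⟩ := L.exists_of_P hv
    exact (L.comm_P hx hv).2 (h _ hy)

theorem card_inf (L : Lift ι ρ M P E K P' E' Sw Sw') {Q : Subgroup G} {Q' : Subgroup B}
    (hQ : ∀ x, ι x ∈ P → (ι x ∈ Q ↔ ρ x ∈ Q')) :
    Nat.card (P ⊓ Q : Subgroup G) = Nat.card (P' ⊓ Q' : Subgroup B) := by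
  obtain ⟨e, he⟩ := L.exists_equiv
  refine Nat.card_congr ?_
  have key : ∀ g : P, ((g : G) ∈ Q) ↔ ((e g : B) ∈ Q') := by
    intro g
    obtain ⟨x, hx, -⟩ := L.exists_of_P g.2
    have hxP : ι x ∈ P := by rw [hx]; exact g.2
    have hg : g = ⟨ι x, hxP⟩ := Subtype.ext hx.symm
    rw [hg, he x hxP]
    exact hQ x hxP
  exact
    { toFun := fun g => ⟨(e ⟨g, g.2.1⟩ : B), ⟨(e ⟨g, g.2.1⟩).2, (key ⟨g, g.2.1⟩).1 g.2.2⟩⟩
      invFun := fun g => ⟨(e.symm ⟨g, g.2.1⟩ : G), ⟨(e.symm ⟨g, g.2.1⟩).2,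
        (key _).2 (by rw [e.apply_symm_apply]; exact g.2.2)⟩⟩
      left_inv := fun g => Subtype.ext (by
        change ((e.symm ⟨(e ⟨g, g.2.1⟩ : B), _⟩ : P) : G) = g
        rw [show (⟨(e ⟨(g : G), g.2.1⟩ : B), (e ⟨g, g.2.1⟩).2⟩ : P') = e ⟨g, g.2.1⟩ from rfl,
          e.symm_apply_apply])
      right_inv := fun g => Subtype.ext (by
        change ((e ⟨(e.symm ⟨g, g.2.1⟩ : G), _⟩ : P') : B) = g
        rw [show (⟨(e.symm ⟨(g : B), g.2.1⟩ : G), (e.symm ⟨g, g.2.1⟩).2⟩ : P) = e.symm ⟨g, g.2.1⟩ from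
          rfl, e.apply_symm_apply]) }

theorem toDU (L : Lift ι ρ M P E K P' E' Sw Sw') {q : ℕ} (h : DU ⊤ P' E' ⊥ Sw' q) :
    DU M P E K Sw q where
  pow := h.pow
  odd := h.odd
  card := by rw [L.card_P, h.card]
  cyc := L.cyc h.cyc
  cardE := by rw [L.relIndex_E, ← h.cardE, relIndex_bot_left]
  cardZ := by
    rw [← h.cardZ]
    apply L.card_inf
    intro x hx
    rw [mem_centralizer_iff, mem_centralizer_iff]
    constructor
    · intro h1 v hv
      exact ((L.center_iff hx).1 (fun v hv => (h1 v hv).symm) v hv).symm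
    · intro h1 v hv
      exact ((L.center_iff hx).2 (fun v hv => (h1 v hv).symm) v hv).symm
  invol := by
    obtain ⟨z, hz, hz1, hz2, h3⟩ := h.invol
    obtain ⟨e, he, hcyc⟩ := h.cyc
    obtain ⟨w, hw, hw2, hwe⟩ := h.swE
    have hd : Odd (Nat.gcd 3 (q + 1)) := Odd.of_dvd_nat (by decide) (Nat.gcd_dvd_left 3 (q + 1))
    have hcard := h.cardE
    rw [relIndex_bot_left] at hcard
    obtain ⟨x, rfl, hx2⟩ := exists_lift_U L.surj L.central he
      (fun d hd => (hcyc d hd).imp fun k hk => mem_bot.1 hk) h.odd hd hcard (mem_bot.1 hw2)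
      (mem_bot.1 (hwe e he)) hz hz2
    have hx : ι x ∈ E := (L.E_iff x).2 hz
    refine ⟨ι x, hx, ?_, ?_, ?_⟩
    · rw [L.K_iff]
      exact fun hc => hz1 (mem_bot.2 hc)
    · rw [← map_mul, hx2, map_one]
    · intro u hu
      obtain ⟨y, rfl, hy⟩ := L.exists_of_P hu
      rw [L.comm_E hx hu, h3 _ hy, L.center_iff hu]
  swE := by
    obtain ⟨w, hw, hw2, hwe⟩ := h.swE
    obtain ⟨x, rfl⟩ := L.surj w
    refine ⟨ι x, L.lift_sw x hw, ?_, ?_⟩
    · rw [← map_mul, L.K_iff, map_mul]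
      exact mem_bot.1 hw2
    · intro e he
      obtain ⟨y, rfl, hy⟩ := L.exists_of_E he
      rw [← map_inv, ← map_pow, ← map_mul, ← map_mul, ← map_mul, L.K_iff, map_mul, map_mul,
        map_mul, map_inv, map_pow]
      exact mem_bot.1 (hwe _ hy)
  free := by
    intro d hd u hu hdu
    obtain ⟨x, rfl, hx⟩ := L.exists_of_E hd
    obtain ⟨y, rfl, hy⟩ := L.exists_of_P hu
    rcases h.free _ hx _ hy ((L.comm_E hd hu).1 hdu) with h1 | h1
    · left
      exact (L.K_iff x).2 (mem_bot.1 h1)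
    · right
      exact (L.center_iff hu).2 h1
  transZ := by
    intro u hu u' hu' hc hc' h1 h1'
    obtain ⟨x, rfl, hx⟩ := L.exists_of_P hu
    obtain ⟨x', rfl, hx'⟩ := L.exists_of_P hu'
    obtain ⟨d, hd, hdx⟩ := h.transZ _ hx _ hx' ((L.center_iff hu).1 hc) ((L.center_iff hu').1 hc')
      (fun e => h1 (by rw [L.P_inj x hu e, map_one]))
      (fun e => h1' (by rw [L.P_inj x' hu' e, map_one]))
    obtain ⟨y, hy, rfl⟩ := L.lift_E hd
    refine ⟨ι y, hy, ?_⟩
    have h2 : ι (y * x * y⁻¹) ∈ P := by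
      rw [map_mul, map_mul, map_inv]; exact L.EP _ hy _ hu
    have h3 := L.eq_of_P h2 hu' (by rw [map_mul, map_mul, map_inv, hdx])
    rw [← h3, map_mul, map_mul, map_inv]
  iso := by
    obtain ⟨F, i1, i2, hF, hf⟩ := h.iso
    exact ⟨F, i1, i2, hF, L.iso hf⟩

theorem toDR (L : Lift ι ρ M P E K P' E' Sw Sw') {n : ℕ} (h : DR P' E' ⊥ n)
    (hlift : ∀ z' ∈ E', z' ≠ 1 → z' * z' = 1 → ∃ z, ρ z = z' ∧ z * z = 1) :
    DR P E K n where
  odd := h.odd
  card := by rw [L.card_P, h.card]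
  cyc := L.cyc h.cyc
  cardE := by rw [L.relIndex_E, ← h.cardE, relIndex_bot_left]
  ncomm := by
    obtain ⟨u, hu, v, hv, huv⟩ := h.ncomm
    obtain ⟨x, hx, rfl⟩ := L.P_lift u hu
    obtain ⟨y, hy, rfl⟩ := L.P_lift v hv
    exact ⟨ι x, hx, ι y, hy, fun hc => huv ((L.comm_P hx hy).1 hc)⟩
  fpf := by
    intro d hd k hk hdk u hu hdu
    obtain ⟨x, rfl, hx⟩ := L.exists_of_E hd
    obtain ⟨y, rfl, hy⟩ := L.exists_of_P hu
    rw [← map_pow, L.K_iff, map_pow] at hdk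
    rcases h.fpf _ hx k hk (mem_bot.2 hdk) _ hy ((L.comm_E hd hu).1 hdu) with h1 | h1
    · left
      exact (L.K_iff x).2 (mem_bot.1 h1)
    · right
      rw [L.P_inj y hu h1, map_one]
  invol := by
    obtain ⟨z, hz, hz1, hz2, h3⟩ := h.invol
    obtain ⟨x, rfl, hx2⟩ := hlift z hz (fun hc => hz1 (mem_bot.2 hc)) hz2
    have hx : ι x ∈ E := (L.E_iff x).2 hz
    refine ⟨ι x, hx, ?_, ?_, ?_⟩
    · rw [L.K_iff]
      exact fun hc => hz1 (mem_bot.2 hc)
    · rw [← map_mul, hx2, map_one]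
    · rw [← h3]
      apply L.card_inf
      intro y hy
      rw [mem_centralizer_singleton_iff, mem_centralizer_singleton_iff]
      constructor
      · intro h1
        exact ((L.comm_E hx hy).1 h1.symm).symm
      · intro h1
        exact ((L.comm_E hx hy).2 h1.symm).symm

theorem toDA (L : Lift ι ρ M P E K P' E' Sw Sw') (h : DA P' E' ⊥ Sw') : DA P E K Sw where
  triv := by
    intro d hd
    obtain ⟨x, rfl, hx⟩ := L.exists_of_E hd
    exact (L.K_iff x).2 (mem_bot.1 (h.triv hx))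
  card := by
    obtain ⟨s, hs, h1⟩ := h.card
    exact ⟨s, hs, by rw [L.card_P, h1]⟩
  cyc := by
    obtain ⟨e, -⟩ := L.exists_equiv
    have := h.cyc
    exact isCyclic_of_injective e.toMonoidHom e.injective
  sw := by
    intro w hw
    obtain ⟨x, rfl, hx⟩ := L.sw w hw
    rw [← map_mul, L.K_iff, map_mul]
    exact mem_bot.1 (h.sw _ hx)

end Lift

section Fixed

variable {G Ω : Type*} [Group G] [MulAction G Ω] {U : Ω → Subgroup G}

/-- `C_{U a}(X)` as a subgroup of `centralizer X`. -/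
def famFix (U : Ω → Subgroup G) (X : Subgroup G) (a : fixSub Ω X) :
    Subgroup (centralizer (X : Set G)) := (U (a : Ω)).subgroupOf (centralizer (X : Set G))

theorem map_famFix (U : Ω → Subgroup G) (X : Subgroup G) (a : fixSub Ω X) :
    (famFix U X a).map (centralizer (X : Set G)).subtype = U (a : Ω) ⊓ centralizer (X : Set G) :=
  subgroupOf_map_subtype _ _

theorem map_iSup_famFix (U : Ω → Subgroup G) (X : Subgroup G) :
    (⨆ c, famFix U X c).map (centralizer (X : Set G)).subtype = genFix U X := by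
  rw [Subgroup.map_iSup]
  simp only [map_famFix]
  rfl

/-- the permutation group induced by `genFix U X` on the fixed points of `X` -/
abbrev permFix (U : Ω → Subgroup G) (X : Subgroup G) : Subgroup (Equiv.Perm (fixSub Ω X)) :=
  (toPermHom (⨆ c, famFix U X c : Subgroup (centralizer (X : Set G))) (fixSub Ω X)).range

/-- the unipotent groups of `permFix U X` -/
def famPerm (U : Ω → Subgroup G) (X : Subgroup G) (c : fixSub Ω X) : Subgroup (permFix U X) :=
  ((famFix U X c).subgroupOf (⨆ c, famFix U X c)).map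
    (toPermHom (⨆ c, famFix U X c : Subgroup (centralizer (X : Set G)))
      (fixSub Ω X)).rangeRestrict

theorem SSplit.permFix (h : SSplit U) (X : Subgroup G)
    (h3 : ∀ a b : fixSub Ω X, ∃ c : fixSub Ω X, c ≠ a ∧ c ≠ b) :
    SSplit (G := permFix U X) (Ω := fixSub Ω X) (famPerm U X) :=
  (h.fixed X h3).gen.image

theorem iSup_famPerm (U : Ω → Subgroup G) (X : Subgroup G) : (⨆ c, famPerm U X c) = ⊤ := by
  simp only [famPerm]
  rw [← Subgroup.map_iSup, SSplit.gen_iSup _ rfl, ← MonoidHom.range_eq_map,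
    MonoidHom.range_eq_top]
  exact MonoidHom.rangeRestrict_surjective _

/-- The embedding of the group generated by the `famFix U X c`. -/
def embFix (U : Ω → Subgroup G) (X : Subgroup G) :
    (⨆ c, famFix U X c : Subgroup (centralizer (X : Set G))) →* G :=
  (centralizer (X : Set G)).subtype.comp (Subgroup.subtype _)

theorem SSplit.lift (h : SSplit U) (X : Subgroup G) {a b : Ω} (ha : ∀ x ∈ X, x • a = a)
    (hb : ∀ x ∈ X, x • b = b) (hab : b ≠ a)
    (h3 : ∀ a b : fixSub Ω X, ∃ c : fixSub Ω X, c ≠ a ∧ c ≠ b) :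
    Lift (embFix U X)
      (toPermHom (⨆ c, famFix U X c : Subgroup (centralizer (X : Set G)))
        (fixSub Ω X)).rangeRestrict
      (genFix U X) (U a ⊓ centralizer (X : Set G)) (Dab G a b ⊓ genFix U X) (kerFix Ω X)
      (famPerm U X ⟨a, ha⟩) (Dab (Cfsg.Agent.HKS.permFix U X) (⟨a, ha⟩ : fixSub Ω X) ⟨b, hb⟩)
      (fun w => w ∈ genFix U X ∧ Swaps w a b)
      (fun w => Swaps w (⟨a, ha⟩ : fixSub Ω X) ⟨b, hb⟩) := by
  have hinj : Function.Injective (embFix U X) :=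
    (Subgroup.subtype_injective _).comp (Subgroup.subtype_injective _)
  have hrange : (embFix U X).range = genFix U X := by
    rw [← map_iSup_famFix, embFix, MonoidHom.range_eq_map, ← Subgroup.map_map,
      ← MonoidHom.range_eq_map, range_subtype]
  have hsm : ∀ (x : (⨆ c, famFix U X c : Subgroup (centralizer (X : Set G)))) (c : fixSub Ω X),
      (((toPermHom (⨆ c, famFix U X c : Subgroup (centralizer (X : Set G)))
        (fixSub Ω X)).rangeRestrict x • c : fixSub Ω X) : Ω) = embFix U X x • (c : Ω) :=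
    fun x c => rfl
  have hsm' : ∀ (x : (⨆ c, famFix U X c : Subgroup (centralizer (X : Set G))))
      (c d : fixSub Ω X), (toPermHom (⨆ c, famFix U X c : Subgroup (centralizer (X : Set G)))
        (fixSub Ω X)).rangeRestrict x • c = d ↔ embFix U X x • (c : Ω) = d := by
    intro x c d
    rw [← hsm, ← Subtype.ext_iff]
  refine
    { inj := hinj
      surj := MonoidHom.rangeRestrict_surjective _
      rangeM := hrange
      P_le := le_iSup (fun c : {c : Ω // ∀ x ∈ X, x • c = c} => U (c : Ω) ⊓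
        centralizer (X : Set G)) ⟨a, ha⟩
      E_le := inf_le_right
      P_map := ?_
      P_lift := ?_
      P_inj := ?_
      E_iff := ?_
      K_iff := ?_
      central := ?_
      lift_sw := ?_
      EP := ?_
      sw := ?_ }
  · intro x hx
    exact ⟨x, hx.1, rfl⟩
  · rintro _ ⟨x, hx, rfl⟩
    exact ⟨x, ⟨hx, (x : centralizer (X : Set G)).2⟩, rfl⟩
  · intro x hx h1
    apply hinj
    rw [map_one]
    refine h.free hab hx.1 ?_
    have := (hsm' x ⟨b, hb⟩ ⟨b, hb⟩).1 (by rw [h1, one_smul])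
    exact this
  · intro x
    constructor
    · rintro ⟨⟨h1, h2⟩, -⟩
      exact ⟨(hsm' x ⟨a, ha⟩ ⟨a, ha⟩).2 h1, (hsm' x ⟨b, hb⟩ ⟨b, hb⟩).2 h2⟩
    · rintro ⟨h1, h2⟩
      refine ⟨⟨(hsm' x ⟨a, ha⟩ ⟨a, ha⟩).1 h1, (hsm' x ⟨b, hb⟩ ⟨b, hb⟩).1 h2⟩, ?_⟩
      rw [← hrange]
      exact ⟨x, rfl⟩
  · intro x
    constructor
    · intro h1
      apply Subtype.ext
      apply Equiv.ext
      intro c
      exact Subtype.ext (h1 c c.2)
    · intro h1 c hc
      have := (hsm' x ⟨c, hc⟩ ⟨c, hc⟩).1 (by rw [h1, one_smul])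
      exact this
  · intro x hx y
    have h5 : (⊤ : Subgroup (⨆ c, famFix U X c : Subgroup (centralizer (X : Set G)))) ≤
        centralizer {x} := by
      rw [← SSplit.gen_iSup (U := famFix U X) _ rfl, iSup_le_iff]
      intro c u hu
      rw [mem_centralizer_singleton_iff]
      refine ((h.fixed X h3).gen.comm_kernel (k := x) (a := c) ?_ hu).symm
      intro d
      have := congrArg (fun σ : Cfsg.Agent.HKS.permFix U X => σ • d) hx
      simp only [one_smul] at this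
      exact this
    exact (mem_centralizer_singleton_iff.1 (h5 (mem_top y))).symm
  · rintro x ⟨h1, h2⟩
    refine ⟨?_, (hsm' x ⟨a, ha⟩ ⟨b, hb⟩).1 h1, (hsm' x ⟨b, hb⟩ ⟨a, ha⟩).1 h2⟩
    rw [← hrange]
    exact ⟨x, rfl⟩
  · rintro d ⟨hd, hd'⟩ u ⟨hu, hu'⟩
    refine ⟨h.conj_of_fix hd.1 hu, ?_⟩
    have h1 : genFix U X ≤ centralizer (X : Set G) := iSup_le fun _ => inf_le_right
    exact (centralizer (X : Set G)).mul_mem ((centralizer (X : Set G)).mul_mem (h1 hd') hu')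
      ((centralizer (X : Set G)).inv_mem (h1 hd'))
  · rintro g ⟨hg, hg1, hg2⟩
    rw [← hrange] at hg
    obtain ⟨x, rfl⟩ := hg
    exact ⟨x, rfl, (hsm' x ⟨a, ha⟩ ⟨b, hb⟩).2 hg1, (hsm' x ⟨b, hb⟩ ⟨a, ha⟩).2 hg2⟩

end Fixed

end Cfsg.Agent.HKS
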