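import Mathlib
import Cfsg.Agent.HKS.Transfer
import Cfsg.Agent.HKS.Affine

/-!
# The induction hypothesis on the fixed points of a subgroup

`HKSBelow.xtype` : if the list holds in all even degrees `< |Ω|`, then `XType U X a b` for every
subgroup `X` fixing `a` and `b`, not acting trivially, with `C_{U a}(X) ≠ 1`.
-/

set_option autoImplicit false

namespace Cfsg.Agent.HKS

open Subgroup MulAction

/-- The facts about the affine case. -/
theorem SSplit.toDA {G Ω : Type*} [Group G] [MulAction G Ω] [FaithfulSMul G Ω] [Finite Ω]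
    {U : Ω → Subgroup G} (h : SSplit U) (hev : Even (Nat.card Ω)) {a b : Ω} (hab : b ≠ a)
    (hD : Dab G a b = ⊥) : DA (U a) (Dab G a b) ⊥ (fun w => Swaps w a b) where
  triv := by rw [hD]
  card := h.sharp_card_U hev hab hD a
  cyc := h.sharp_cyclic hev hab hD a
  sw := fun w hw => by rw [h.sharp_sq hab hD hab hw]; exact one_mem _

section

universe v

variable {G Ω : Type v} [Group G] [MulAction G Ω] {U : Ω → Subgroup G}

theorem card_fixSub_lt [Finite Ω] {X : Subgroup G} (hX : ∃ x ∈ X, ∃ c : Ω, x • c ≠ c) :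
    Nat.card (fixSub Ω X) < Nat.card Ω := by
  obtain ⟨x, hx, c, hc⟩ := hX
  refine lt_of_le_of_ne (Nat.card_le_card_of_injective _ Subtype.val_injective) fun he => ?_
  have h1 : Function.Bijective (Subtype.val : fixSub Ω X → Ω) :=
    (Nat.bijective_iff_injective_and_card _).2 ⟨Subtype.val_injective, he⟩
  obtain ⟨⟨d, hd⟩, rfl⟩ := h1.2 c
  exact hc (hd x hx)

theorem SSplit.card_fixU_dvd [Finite Ω] (h : SSplit U) (a : Ω) (X : Subgroup G) :
    Nat.card (U a ⊓ centralizer (X : Set G) : Subgroup G) ∣ Nat.card (U a) :=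
  card_dvd_of_le inf_le_left

theorem SSplit.fix_card [Finite Ω] (h : SSplit U) (hev : Even (Nat.card Ω)) {X : Subgroup G}
    {a b : Ω} (ha : ∀ x ∈ X, x • a = a) (hb : ∀ x ∈ X, x • b = b) (hab : b ≠ a)
    (hU : U a ⊓ centralizer (X : Set G) ≠ ⊥) :
    Odd (Nat.card (U a ⊓ centralizer (X : Set G) : Subgroup G)) ∧
    Even (Nat.card (fixSub Ω X)) ∧ 2 < Nat.card (fixSub Ω X) := by
  have hfin := h.finite_U a
  have h1 : Odd (Nat.card (U a)) := by
    rw [h.card a] at hev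
    rcases Nat.even_or_odd (Nat.card (U a)) with h2 | h2
    · exfalso
      exact (Nat.not_even_iff_odd.2 h2.add_one) hev
    · exact h2
  have h2 : Odd (Nat.card (U a ⊓ centralizer (X : Set G) : Subgroup G)) :=
    Odd.of_dvd_nat h1 (h.card_fixU_dvd a X)
  have h3 := h.card_fixSub hab ha hb
  have h4 : Nat.card (U a ⊓ centralizer (X : Set G) : Subgroup G) ≠ 1 := fun hc =>
    hU (card_eq_one.1 hc)
  refine ⟨h2, by rw [h3]; exact h2.add_one, ?_⟩
  obtain ⟨k, hk⟩ := h2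
  omega

/-- The induction hypothesis on the fixed points of `X`. -/
theorem HKSBelow.xtype [Finite Ω] (IH : HKSBelow.{v} (Nat.card Ω))
    (h : SSplit U) (hev : Even (Nat.card Ω)) {X : Subgroup G} {a b : Ω}
    (ha : ∀ x ∈ X, x • a = a) (hb : ∀ x ∈ X, x • b = b) (hab : b ≠ a)
    (hX : ∃ x ∈ X, ∃ c : Ω, x • c ≠ c) (hU : U a ⊓ centralizer (X : Set G) ≠ ⊥) :
    XType U X a b := by
  obtain ⟨-, hev', h3⟩ := h.fix_card hev ha hb hab hU
  have h4 := SSplit.three_of_card h3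
  have hS := h.permFix X h4
  have hab' : (⟨b, hb⟩ : fixSub Ω X) ≠ ⟨a, ha⟩ := fun e => hab (congrArg Subtype.val e)
  have hL := h.lift X ha hb hab h4
  have hT := IH (permFix U X) (fixSub Ω X) (famPerm U X) hS (iSup_famPerm U X) hev'
    (card_fixSub_lt hX) ⟨a, ha⟩ ⟨b, hb⟩ hab'
  rcases hT with hT | ⟨q, hT⟩ | ⟨q, hT⟩ | ⟨n, hT⟩
  · left
    exact hL.toDA (hS.toDA hev' hab' hT)
  · exact Or.inr (Or.inl ⟨q, hL.toDL hT⟩)
  · exact Or.inr (Or.inr (Or.inl ⟨q, hL.toDU hT⟩))
  · refine Or.inr (Or.inr (Or.inr ⟨n, hL.toDR hT.data ?_⟩))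
    intro z hz hz1 hz2
    exact exists_lift_R hL.surj hL.central hS hev' hab' hT hz hz1 hz2

/-- Version for a faithful action and `1 ≠ X ≤ G_ab`. -/
theorem HKSBelow.xtype' [Finite Ω] [FaithfulSMul G Ω] (IH : HKSBelow.{v} (Nat.card Ω))
    (h : SSplit U) (hev : Even (Nat.card Ω)) {X : Subgroup G} {a b : Ω}
    (hab : b ≠ a) (hXD : X ≤ Dab G a b) (hX : X ≠ ⊥)
    (hU : U a ⊓ centralizer (X : Set G) ≠ ⊥) : XType U X a b := by
  refine IH.xtype h hev (fun x hx => (hXD hx).1) (fun x hx => (hXD hx).2) hab ?_ hU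
  by_contra hc
  push Not at hc
  apply hX
  rw [eq_bot_iff]
  intro x hx
  exact mem_bot.2 (eq_of_smul_eq_smul (α := Ω) fun c => by rw [hc x hx c, one_smul])

end

end Cfsg.Agent.HKS
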