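import Mathlib
import Cfsg.Agent.HKS.Induct

/-!
# The induction step: context and the intermediate goals

`Ctx U a b` : the context of the induction step (faithful generated group of even degree, the list for
the fixed points of all `1 ≠ X ≤ G_ab` with `C_{U a}(X) ≠ 1`).
`CtxE U a b p k` : moreover `|U a| = p^k`, `|G_ab|` even, every involution has at least three fixed
points.
`HKSBelow.all` : the theorem from the intermediate goals.
-/

set_option autoImplicit false

namespace Cfsg.Agent.HKS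

open Subgroup MulAction

section

variable {G Ω : Type*} [Group G] [MulAction G Ω]

/-- the context of the induction step -/
structure Ctx (U : Ω → Subgroup G) (a b : Ω) : Prop where
  split : SSplit U
  gen : (⨆ c, U c) = ⊤
  even : Even (Nat.card Ω)
  ne : b ≠ a
  IH : ∀ X : Subgroup G, X ≤ Dab G a b → X ≠ ⊥ → U a ⊓ centralizer (X : Set G) ≠ ⊥ →
    XType U X a b

/-- `|U a| = p ^ k`, `|G_ab|` even, every involution has at least three fixed points -/
structure CtxE (U : Ω → Subgroup G) (a b : Ω) (p k : ℕ) : Prop extends Ctx U a b where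
  prime : p.Prime
  p_ne_two : p ≠ 2
  cardU : Nat.card (U a) = p ^ k
  two : 2 ∣ Nat.card (Dab G a b)
  fix : ∀ t : G, t ≠ 1 → t * t = 1 → 2 < Nat.card (fixedBy Ω t)

/-- `G_ab` has no four-group -/
def RankOneD (G : Type*) {Ω : Type*} [Group G] [MulAction G Ω] (a b : Ω) : Prop :=
  ∀ s ∈ Dab G a b, ∀ t ∈ Dab G a b, s ≠ 1 → t ≠ 1 → s * s = 1 → t * t = 1 → s * t = t * s → s = t

/-- `C_{U a}(V) = 1` for every four-group `V` of `G_ab` -/
def NoFourFix (U : Ω → Subgroup G) (a b : Ω) : Prop :=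
  ∀ s ∈ Dab G a b, ∀ t ∈ Dab G a b, s ≠ 1 → t ≠ 1 → s ≠ t → s * s = 1 → t * t = 1 →
    s * t = t * s → ∀ u ∈ U a, s * u = u * s → t * u = u * t → u = 1

end

/-- **Goal 1** (`|G_ab|` odd). -/
def GoalOdd.{v} : Prop := ∀ (G Ω : Type v) [Group G] [Finite G] [MulAction G Ω] [FaithfulSMul G Ω]
  [Finite Ω] (U : Ω → Subgroup G) (a b : Ω), Ctx U a b → Odd (Nat.card (Dab G a b)) → HType U a b

/-- **Goal 2** (`|G_ab|` even: `|U a|` is a prime power). -/
def GoalPow.{v} : Prop := ∀ (G Ω : Type v) [Group G] [Finite G] [MulAction G Ω] [FaithfulSMul G Ω]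
  [Finite Ω] (U : Ω → Subgroup G) (a b : Ω), Ctx U a b → 2 ∣ Nat.card (Dab G a b) →
  ∃ p k : ℕ, p.Prime ∧ Nat.card (U a) = p ^ k

/-- **Goal 3** (an involution with at most two fixed points: Zassenhaus groups). -/
def GoalZass.{v} : Prop := ∀ (G Ω : Type v) [Group G] [Finite G] [MulAction G Ω] [FaithfulSMul G Ω]
  [Finite Ω] (U : Ω → Subgroup G) (a b : Ω) (p k : ℕ), Ctx U a b → p.Prime → p ≠ 2 →
  Nat.card (U a) = p ^ k → 2 ∣ Nat.card (Dab G a b) →
  ∀ t : G, t ≠ 1 → t * t = 1 → Nat.card (fixedBy Ω t) ≤ 2 → HType U a b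

/-- **Goal 4** (T5: `C_{U a}(V) = 1` for all four-groups `V ≤ G_ab`). -/
def GoalFour.{v} : Prop := ∀ (G Ω : Type v) [Group G] [Finite G] [MulAction G Ω] [FaithfulSMul G Ω]
  [Finite Ω] (U : Ω → Subgroup G) (a b : Ω) (p k : ℕ), CtxE U a b p k → NoFourFix U a b

/-- **Goal 5** ((I): no four-groups in `G_ab`). -/
def GoalRank.{v} : Prop := ∀ (G Ω : Type v) [Group G] [Finite G] [MulAction G Ω] [FaithfulSMul G Ω]
  [Finite Ω] (U : Ω → Subgroup G) (a b : Ω) (p k : ℕ), CtxE U a b p k → NoFourFix U a b →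
  RankOneD G a b

/-- **Goal 6** ((II), `t ∉ L_t`: Ree type). -/
def GoalRee.{v} : Prop := ∀ (G Ω : Type v) [Group G] [Finite G] [MulAction G Ω] [FaithfulSMul G Ω]
  [Finite Ω] (U : Ω → Subgroup G) (a b : Ω) (p k : ℕ), CtxE U a b p k → RankOneD G a b →
  ∀ t ∈ Dab G a b, t ≠ 1 → t * t = 1 → t ∉ genFix U (zpowers t) → HType U a b

/-- **Goal 7** ((II), `t ∈ L_t`: unitary type). -/
def GoalUni.{v} : Prop := ∀ (G Ω : Type v) [Group G] [Finite G] [MulAction G Ω] [FaithfulSMul G Ω]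
  [Finite Ω] (U : Ω → Subgroup G) (a b : Ω) (p k : ℕ), CtxE U a b p k → RankOneD G a b →
  ∀ t ∈ Dab G a b, t ≠ 1 → t * t = 1 → t ∈ genFix U (zpowers t) → HType U a b

section

universe v

theorem finite_of_faithful {G Ω : Type*} [Group G] [MulAction G Ω] [FaithfulSMul G Ω] [Finite Ω] :
    Finite G := Finite.of_injective _ (toPerm_injective (α := G) (β := Ω))

theorem HKSBelow.step (g1 : GoalOdd.{v}) (g2 : GoalPow.{v}) (g3 : GoalZass.{v}) (g4 : GoalFour.{v})
    (g5 : GoalRank.{v}) (g6 : GoalRee.{v}) (g7 : GoalUni.{v}) {n : ℕ} (IH : HKSBelow.{v} n) :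
    HKSBelow.{v} (n + 1) := by
  intro G Ω _ _ _ _ U h hgen hev hlt a b hab
  have : Finite G := finite_of_faithful (Ω := Ω)
  rcases Nat.lt_succ_iff_lt_or_eq.1 hlt with hlt' | hn
  · exact IH G Ω U h hgen hev hlt' a b hab
  have IH' : HKSBelow.{v} (Nat.card Ω) := by rw [hn]; exact IH
  have hC : Ctx U a b := ⟨h, hgen, hev, hab, fun X hX hX1 hU => IH'.xtype' h hev hab hX hX1 hU⟩
  rcases Nat.even_or_odd (Nat.card (Dab G a b)) with heD | hoD
  swap
  · exact g1 G Ω U a b hC hoD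
  have h2 : 2 ∣ Nat.card (Dab G a b) := heD.two_dvd
  obtain ⟨p, k, hp, hN⟩ := g2 G Ω U a b hC h2
  have hodd : Odd (Nat.card (U a)) := by
    rw [h.card a] at hev
    rcases Nat.even_or_odd (Nat.card (U a)) with h3 | h3
    · exact absurd hev (Nat.not_even_iff_odd.2 h3.add_one)
    · exact h3
  have hp2 : p ≠ 2 := by
    rintro rfl
    have h3 := h.two_lt_card a
    rw [h.card a, hN] at h3
    have hk : k ≠ 0 := by
      rintro rfl
      norm_num at h3
    rw [hN] at hodd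
    exact (Nat.not_even_iff_odd.2 hodd) ((Nat.even_pow.2 ⟨even_two, hk⟩))
  by_cases hfix : ∀ t : G, t ≠ 1 → t * t = 1 → 2 < Nat.card (fixedBy Ω t)
  · have hE : CtxE U a b p k := ⟨hC, hp, hp2, hN, h2, hfix⟩
    have h4 := g4 G Ω U a b p k hE
    have h5 := g5 G Ω U a b p k hE h4
    obtain ⟨t, ht⟩ := exists_prime_orderOf_dvd_card' 2 h2
    have ht1 : (t : G) ≠ 1 := by
      intro hc
      have : t = 1 := Subtype.ext hc
      rw [this, orderOf_one] at ht
      omega
    have ht2 : (t : G) * t = 1 := by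
      have := pow_orderOf_eq_one t
      rw [ht, pow_two] at this
      exact congrArg Subtype.val this
    by_cases hL : (t : G) ∈ genFix U (zpowers (t : G))
    · exact g7 G Ω U a b p k hE h5 t t.2 ht1 ht2 hL
    · exact g6 G Ω U a b p k hE h5 t t.2 ht1 ht2 hL
  · push Not at hfix
    obtain ⟨t, ht1, ht2, ht3⟩ := hfix
    exact g3 G Ω U a b p k hC hp hp2 hN h2 t ht1 ht2 ht3

/-- **The Hering–Kantor–Seitz theorem in even degree** from the seven goals. -/
theorem HKSBelow.all (g1 : GoalOdd.{v}) (g2 : GoalPow.{v}) (g3 : GoalZass.{v}) (g4 : GoalFour.{v})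
    (g5 : GoalRank.{v}) (g6 : GoalRee.{v}) (g7 : GoalUni.{v}) (n : ℕ) : HKSBelow.{v} n := by
  induction n with
  | zero =>
    intro G Ω _ _ _ _ U h hgen hev hlt
    omega
  | succ n ih => exact HKSBelow.step g1 g2 g3 g4 g5 g6 g7 ih

end

end Cfsg.Agent.HKS
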