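import Mathlib
import Cfsg.Agent.HKS.FrameCount
import Cfsg.Agent.HKS.PP1

/-!
# The sign of the permutation induced on a set of fixed points

For a subgroup `X` the centraliser of `X` acts on the fixed points of `X`; `sgn X` is the sign of
the permutation. Elements of odd order have sign `1`, an involution (modulo the kernel) with `f`
fixed points on the `n` points has sign `(-1) ^ ((n - f) / 2)`.
-/

set_option autoImplicit false

namespace Cfsg.Agent.HKS.SignFix

open Subgroup MulAction

variable {G Ω : Type*} [Group G] [MulAction G Ω] {U : Ω → Subgroup G}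

/-- A permutation of order at most 2 moving exactly `2 * m` points has sign `(-1) ^ m`. -/
theorem sign_of_sq {α : Type*} [Fintype α] [DecidableEq α] {σ : Equiv.Perm α} (h2 : σ ^ 2 = 1)
    {m : ℕ} (hm : Nat.card {c : α // σ c = c} + 2 * m = Nat.card α) :
    Equiv.Perm.sign σ = (-1) ^ m := by
  have : Fact (Nat.Prime 2) := ⟨Nat.prime_two⟩
  have h3 := Equiv.Perm.cycleType_of_pow_prime_eq_one h2
  have h4 := σ.sum_cycleType
  rw [h3, Multiset.sum_replicate, smul_eq_mul] at h4
  have h5 : Nat.card {c : α // σ c = c} + σ.support.card = Nat.card α := by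
    have h6 : σ.support.card = Fintype.card {c : α // ¬ σ c = c} := by
      rw [Fintype.card_subtype]
      congr 1
    rw [h6, Fintype.card_subtype_compl, Nat.card_eq_fintype_card, Nat.card_eq_fintype_card]
    have := Fintype.card_subtype_le (fun c : α => σ c = c)
    omega
  have h6 : σ.cycleType.card = m := by omega
  rw [Equiv.Perm.sign_of_cycleType, h3, Multiset.sum_replicate, Multiset.card_replicate,
    smul_eq_mul, h6, pow_add, pow_mul, Int.units_sq, one_mul]

open scoped Classical in
/-- The sign of the permutation induced on the fixed points of `X`. -/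
noncomputable def sgn [Finite Ω] (X : Subgroup G) : centralizer (X : Set G) →* ℤˣ :=
  letI : Fintype (fixSub Ω X) := Fintype.ofFinite _
  Equiv.Perm.sign.comp (toPermHom (centralizer (X : Set G)) (fixSub Ω X))

variable (Ω) in
theorem sgn_odd [Finite Ω] {X : Subgroup G} {g : centralizer (X : Set G)} {n : ℕ} (hn : Odd n)
    (hg : g ^ n = 1) : sgn (Ω := Ω) X g = 1 := by
  have h1 : sgn (Ω := Ω) X g ^ n = 1 := by rw [← map_pow, hg, map_one]
  rcases Int.units_eq_one_or (sgn (Ω := Ω) X g) with h2 | h2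
  · exact h2
  · rw [h2, hn.neg_one_pow] at h1
    rw [h2, h1]

theorem sgn_triv [Finite Ω] {X : Subgroup G} {g : centralizer (X : Set G)}
    (hg : ∀ c : Ω, (∀ x ∈ X, x • c = c) → (g : G) • c = c) : sgn (Ω := Ω) X g = 1 := by
  classical
  have h1 : toPermHom (centralizer (X : Set G)) (fixSub Ω X) g = 1 := by
    ext c
    exact hg c c.2
  simp only [sgn, MonoidHom.comp_apply, h1, map_one]

theorem sgn_sq [Finite Ω] {X : Subgroup G} {g : centralizer (X : Set G)}
    (hg : ∀ c : Ω, (∀ x ∈ X, x • c = c) → (g : G) • (g : G) • c = c) {m : ℕ}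
    (hm : Nat.card {c : Ω // (∀ x ∈ X, x • c = c) ∧ (g : G) • c = c} + 2 * m =
      Nat.card (fixSub Ω X)) : sgn (Ω := Ω) X g = (-1) ^ m := by
  classical
  simp only [sgn, MonoidHom.comp_apply]
  have h2 : toPermHom (centralizer (X : Set G)) (fixSub Ω X) g ^ 2 = 1 := by
    rw [sq]
    ext c
    exact hg c c.2
  have h3 : Nat.card {c : fixSub Ω X // toPermHom (centralizer (X : Set G)) (fixSub Ω X) g c = c} =
      Nat.card {c : Ω // (∀ x ∈ X, x • c = c) ∧ (g : G) • c = c} := by
    refine Nat.card_congr ⟨fun c => ⟨c.1.1, c.1.2, congrArg Subtype.val c.2⟩,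
      fun c => ⟨⟨c.1, c.2.1⟩, Subtype.ext c.2.2⟩, fun _ => rfl, fun _ => rfl⟩
  letI : Fintype (fixSub Ω X) := Fintype.ofFinite _
  exact sign_of_sq h2 (by rw [h3]; exact hm)

/-- The elements of `genFix U X` have sign `1`. -/
theorem sgn_genFix [Finite Ω] (hodd : ∀ c, Odd (Nat.card (U c))) {X : Subgroup G} {g : G}
    (hg : g ∈ genFix U X) : sgn (Ω := Ω) X ⟨g, PP1.genFix_le_centralizer X hg⟩ = 1 := by
  have h1 : genFix U X ≤ (sgn (Ω := Ω) X).ker.map (centralizer (X : Set G)).subtype := by
    refine PP1.genFix_le fun c _ u hu huX => ⟨⟨u, huX⟩, ?_, rfl⟩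
    rw [SetLike.mem_coe, MonoidHom.mem_ker]
    have h2 : (⟨u, hu⟩ : U c) ^ Nat.card (U c) = 1 := pow_card_eq_one'
    have h3 : u ^ Nat.card (U c) = 1 := congrArg Subtype.val h2
    exact sgn_odd Ω (hodd c) (Subtype.ext h3)
  obtain ⟨⟨g', hg'⟩, hk, rfl⟩ := h1 hg
  exact hk

end Cfsg.Agent.HKS.SignFix
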