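import Mathlib
import Cfsg.Agent.HKS.CosetTwo
import Cfsg.Agent.HKS.CharPairSplit
import Cfsg.Agent.HKS.SignFix
import Cfsg.Agent.HKS.Goals

/-!
# Abelian unipotent groups: the modulo `2` argument

`SSplit U`, `G = ⟨U c⟩`, `|U a| = p ^ k`, `p` odd, `U a` abelian.

* `two_element`: the elements interchanging `a` and `b` are `2`-elements;
* `data_hom`: let `C ≤ W` be of odd index, not contained in `D`, and `θ : C → {±1}` a homomorphism not
  trivial on `C ∩ D`. Then `|U a| = 1 mod 4`, and if `θ` is constant on `z^G ∩ C ∖ D` for an involution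
  `z`, then `|U a|` divides `q ^ 2`, where `q + 1` is the number of fixed points of `z`.
-/

set_option autoImplicit false

open Cfsg ComplexConjugate

namespace Cfsg.Agent.HKS.AbelianQ

open Subgroup MulAction LinChar LinSplit CharPair CharPairSplit CosetTwo Characters.Core

variable {G Ω : Type*} [Group G] [MulAction G Ω] {U : Ω → Subgroup G} {a b : Ω}

/-- `D` as a subgroup of `W`. -/
abbrev DW (G : Type*) {Ω : Type*} [Group G] [MulAction G Ω] (a b : Ω) : Subgroup (Wab G a b) :=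
  (Dab G a b).subgroupOf (Wab G a b)

theorem notMem_DW (hab : b ≠ a) {y : Wab G a b} : y ∉ DW G a b ↔ Swaps (y : G) a b := by
  rw [← mem_Wab_not_mem_Dab hab, mem_subgroupOf]
  exact ⟨fun h => ⟨y.2, h⟩, fun h => h.2⟩

theorem index_DW (h : SSplit U) (hab : b ≠ a) : (DW G a b).index = 2 := by
  obtain ⟨w, hw⟩ := h.exists_swaps hab
  rw [index_eq_two_iff]
  refine ⟨⟨w, hw.mem_W⟩, fun g => ?_⟩
  by_cases hg : g ∈ DW G a b
  · right
    refine ⟨hg, ?_⟩
    rw [notMem_DW hab]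
    exact hw.D_mul hg
  · left
    refine ⟨?_, hg⟩
    exact ((notMem_DW hab).1 hg).mul hw

section

variable (h : SSplit U) [Finite G] [Finite Ω] (hgen : (⨆ c, U c) = ⊤) (hab : b ≠ a)
  {p k : ℕ} (hp : p.Prime) (hp2 : p ≠ 2) (hN : Nat.card (U a) = p ^ k)
  (hcomm : ∀ x ∈ U a, ∀ y ∈ U a, x * y = y * x)

include hp hN in
omit [Finite Ω] in
/-- The data for an irreducible character of `W` not vanishing outside `D`. -/
theorem exists_data' [Fintype G] {w : G} (hw : Swaps w a b) {χ : Wab G a b → ℂ}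
    (hχ : IsIrrCharacter (Wab G a b) χ) {y : Wab G a b} (hy : y ∉ DW G a b) (hne : χ y ≠ 0) :
    ∃ X Y : ℝ, ∃ ψ₁ ψ₂ : G → ℂ, Data (h.rankOne hab hw) χ p k X Y ψ₁ ψ₂ := by
  obtain ⟨l, σ, hσ, rfl⟩ := hχ
  have hr := h.rankOne hab hw
  have h1 := isIrr_restrict (index_DW h hab) ⟨l, σ, hσ, rfl⟩ hy hne
  have h2 := isIrr_comp ((subgroupOfEquivOfLe hr.DW).symm.toMonoidHom)
    (subgroupOfEquivOfLe hr.DW).symm.surjective h1
  have h3 : Representation.IsIrreducible (σ.comp (Subgroup.inclusion hr.DW)) := by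
    rw [isIrreducible_iff_isIrrCharacter]
    exact h2
  obtain ⟨X, Y, ψ₁, ψ₂, hd, -⟩ := exists_data hr hp hN σ h3
  exact ⟨X, Y, ψ₁, ψ₂, hd⟩

include h hgen hab hp hp2 hN hcomm

/-- **Irreducible characters of `W` are constant modulo `2` on `W ∖ D`.** -/
theorem even2_irr {χ : Wab G a b → ℂ} (hχ : IsIrrCharacter (Wab G a b) χ) :
    Even2 (DW G a b) χ := by
  classical
  have := Fintype.ofFinite G
  intro y y' hy hy'
  by_cases hex : ∃ y₀, y₀ ∉ DW G a b ∧ χ y₀ ≠ 0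
  · obtain ⟨y₀, hy₀, hne⟩ := hex
    obtain ⟨w, hw⟩ := h.exists_swaps hab
    obtain ⟨X, Y, ψ₁, ψ₂, hd⟩ := exists_data' h hab hp hN hw hχ hy₀ hne
    obtain ⟨m, hm⟩ := hd.ratio hp
    obtain ⟨z, hz, he⟩ := dvd_split h hgen hab hp hp2 hN hw hcomm (isIrr_isCharacter hχ) hd hm
      ((notMem_DW hab).1 hy) ((notMem_DW hab).1 hy')
    have h2 : Odd (p ^ m) := (hp.odd_of_ne_two hp2).pow
    obtain ⟨c, hc⟩ := h2
    refine ⟨(c + 1 : ℕ) * z, (isIntegral_natCast _).mul hz, ?_⟩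
    have h3 : (p : ℂ) ^ m = 2 * c + 1 := by exact_mod_cast hc
    rw [he, h3]
    push_cast
    ring
  · push Not at hex
    exact ⟨0, isIntegral_zero, by rw [hex y hy, hex y' hy']; ring⟩

/-- **The elements interchanging `a` and `b` are `2`-elements.** -/
theorem two_element {y : G} (hy : Swaps y a b) : ∃ n, y ^ 2 ^ n = 1 := by
  obtain ⟨n, hn⟩ := pow_two_of_even (index_DW h hab)
    (fun χ hχ => even2_irr h hgen hab hp hp2 hN hcomm hχ) (y := ⟨y, hy.mem_W⟩)
    ((notMem_DW hab).2 hy)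
  exact ⟨n, congrArg Subtype.val hn⟩

theorem two_element' {y : Wab G a b} (hy : y ∉ DW G a b) : ∃ n, y ^ 2 ^ n = 1 :=
  pow_two_of_even (index_DW h hab) (fun χ hχ => even2_irr h hgen hab hp hp2 hN hcomm hχ) hy

/-- **The character argument.** -/
theorem data_hom {C : Subgroup (Wab G a b)} (hodd : Odd C.index) {c : Wab G a b} (hc : c ∈ C)
    (hcs : Swaps (c : G) a b) (θ : C →* ℤˣ) {d : Wab G a b} (hd : d ∈ C)
    (hdD : (d : G) ∈ Dab G a b) (hθ : θ ⟨d, hd⟩ = -1) :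
    p ^ k % 4 = 1 ∧ ∀ z : G, z * z = 1 → ∀ q : ℕ, Nat.card (fixedBy Ω z) = q + 1 →
      (∃ ε : ℤˣ, ∀ y (hy : y ∈ C), Swaps (y : G) a b → IsConj z (y : G) → θ ⟨y, hy⟩ = ε) →
      p ^ k ∣ q ^ 2 := by
  classical
  have := Fintype.ofFinite G
  have := Fintype.ofFinite Ω
  have hD := index_DW h hab
  have hcD : c ∉ DW G a b := (notMem_DW hab).2 hcs
  obtain ⟨χ, hχ, hχv, hconj⟩ := exists_irr_hom hD
    (fun y hy => two_element' h hgen hab hp hp2 hN hcomm hy) hodd hc hcD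
    ((Units.map (Int.castRingHom ℂ : ℤ →* ℂ)).comp θ)
  have hval : ∀ y (hy : y ∈ C), Swaps (y : G) a b → χ y = ((θ ⟨y, hy⟩ : ℤ) : ℂ) := by
    intro y hy hys
    rw [hχv y hy ((notMem_DW hab).2 hys)]
    rfl
  have hunit : ∀ ε : ℤˣ, ((ε : ℤ) : ℂ) * ((ε : ℤ) : ℂ) = 1 := by
    intro ε
    rcases Int.units_eq_one_or ε with h1 | h1 <;> rw [h1] <;> norm_num
  have hne : χ c ≠ 0 := by
    rw [hval c hc hcs]
    intro h1
    have := hunit (θ ⟨c, hc⟩)
    rw [h1, zero_mul] at this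
    exact zero_ne_one this
  obtain ⟨w, hw⟩ := h.exists_swaps hab
  obtain ⟨X, Y, ψ₁, ψ₂, hdat⟩ := exists_data' h hab hp hN hw hχ hcD hne
  obtain ⟨m, hm⟩ := hdat.ratio hp
  have hch := isIrr_isCharacter hχ
  -- the two values
  have hdc : d * c ∈ C := C.mul_mem hd hc
  have hdcs : Swaps ((d * c : Wab G a b) : G) a b := hcs.D_mul hdD
  have hv2 : χ (d * c) = -χ c := by
    rw [hval _ hdc hdcs, hval c hc hcs]
    have h1 : (⟨d * c, hdc⟩ : C) = ⟨d, hd⟩ * ⟨c, hc⟩ := rfl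
    rw [h1, map_mul, hθ]
    push_cast
    ring
  have hcc : χ c * χ c = 1 := by rw [hval c hc hcs]; exact hunit _
  have hintχ : IsIntegral ℤ (χ c) := Characters.GaloisBasic.isIntegral_apply hch c
  -- `m = 0`
  have hm0 : m = 0 := by
    obtain ⟨z, hz, he⟩ := dvd_split h hgen hab hp hp2 hN hw hcomm hch hdat hm hcs hdcs
    have h1 : (1 + (p : ℂ) ^ m) * (z * χ c) = 2 := by
      rw [hv2] at he
      linear_combination (-χ c) * he + 2 * hcc
    have hne0 : (1 + (p : ℂ) ^ m) ≠ 0 := by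
      have : (1 + p ^ m : ℕ) ≠ 0 := by positivity
      exact_mod_cast this
    have h2 : ∃ r : ℚ, z * χ c = r := ⟨2 / (1 + (p : ℚ) ^ m), by
      push_cast
      field_simp
      linear_combination h1⟩
    obtain ⟨t, ht⟩ := Characters.GaloisBasic.exists_int_of_isIntegral (hz.mul hintχ) h2
    rw [ht] at h1
    have h3 : (1 + (p : ℤ) ^ m) * t = 2 := by exact_mod_cast h1
    by_contra hm0
    have h4 : 3 ≤ p := by
      have := hp.two_le
      omega
    have h5 : 3 ≤ p ^ m := h4.trans (Nat.le_self_pow hm0 p)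
    have h6 : (3 : ℤ) ≤ (p : ℤ) ^ m := by exact_mod_cast h5
    have h7 : 0 < t := by nlinarith
    nlinarith
  have hXY : X = Y := by
    rcases hm with hm | hm
    · rw [hm, hm0, pow_zero, mul_one]
    · rw [hm, hm0, pow_zero, mul_one]
  have hXX : (X : ℂ) * X = p ^ k := by
    have h1 := hdat.mul
    rw [← hXY] at h1
    exact_mod_cast h1
  have hint₁ : ∀ g, IsIntegral ℤ (ψ₁ g) := fun g =>
    Characters.GaloisBasic.isIntegral_apply (isIrr_isCharacter hdat.irr₁) g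
  have hint₂ : ∀ g, IsIntegral ℤ (ψ₂ g) := fun g =>
    Characters.GaloisBasic.isIntegral_apply (isIrr_isCharacter hdat.irr₂) g
  constructor
  · -- the values at the elements of `U a`
    have key : ∀ y : Wab G a b, Swaps (y : G) a b → ∃ δ, IsIntegral ℤ δ ∧ 2 * δ = χ 1 + X * χ y := by
      intro y hy
      obtain ⟨u, hu, hu1, hup⟩ := pr_mu h hgen hab hp hp2 hN hw hy
      have h1 := hdat.cent₁ (m := 0) hN (isCharacter_isClassFunction hch)
        (by rw [pow_zero, mul_one]; exact hXY) hu hu1 (fun v hv => hcomm v hv u hu)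
      rw [hup, pow_zero] at h1
      exact ⟨ψ₁ u, hint₁ u, by rw [← h1]; ring⟩
    obtain ⟨δ₁, hδ₁, he₁⟩ := key c hcs
    obtain ⟨δ₂, hδ₂, he₂⟩ := key _ hdcs
    rw [hv2] at he₂
    obtain ⟨n, hn⟩ := isCharacter_apply_one hch
    have h1 : 4 * (δ₁ * δ₂) = (n : ℂ) ^ 2 - p ^ k := by
      rw [← hXX, ← hn]
      linear_combination 2 * δ₂ * he₁ + (χ 1 + X * χ c) * he₂ - (X : ℂ) * X * hcc
    obtain ⟨t, ht⟩ := Characters.GaloisBasic.exists_int_of_isIntegral (hδ₁.mul hδ₂)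
      ⟨((n : ℚ) ^ 2 - p ^ k) / 4, by push_cast; linear_combination h1 / 4⟩
    rw [ht] at h1
    have h2 : 4 * t = (n : ℤ) ^ 2 - p ^ k := by exact_mod_cast h1
    have h3 : Odd (p ^ k) := (hp.odd_of_ne_two hp2).pow
    have h4 : ((p ^ k : ℕ) : ℤ) = (n : ℤ) ^ 2 - 4 * t := by push_cast; linarith
    obtain ⟨s, hs⟩ := h3
    have h5 : Odd n := by
      by_contra hc'
      rw [Nat.not_odd_iff_even] at hc'
      obtain ⟨r, hr⟩ := hc'
      rw [hs, hr] at h4
      push_cast at h4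
      have : (2 : ℤ) * (s - (2 * r * r - 2 * t)) = -1 := by linear_combination h4
      omega
    obtain ⟨r, hr⟩ := h5
    have h6 : ((p ^ k : ℕ) : ℤ) = 4 * (r * r + r - t) + 1 := by
      rw [h4, hr]
      push_cast
      ring
    omega
  · rintro z hz q hq ⟨ε, hε⟩
    by_cases hzt : ∃ c₀ : Ω, z • c₀ ≠ c₀
    swap
    · -- `z` acts trivially
      push Not at hzt
      have h1 : Nat.card (fixedBy Ω z) = Nat.card Ω := by
        have : fixedBy Ω z = Set.univ := Set.eq_univ_of_forall hzt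
        rw [this, Nat.card_coe_set_eq, Set.ncard_univ]
      rw [hq, h.card a, hN] at h1
      have h2 : q = p ^ k := by omega
      rw [h2, pow_two]
      exact dvd_mul_right _ _
    obtain ⟨c₀, hc₀⟩ := hzt
    have hB : (Nat.card (stabilizer G a) : ℂ) ≠ 0 := by exact_mod_cast Nat.card_pos.ne'
    have hoddU : Odd (Nat.card (U a)) := by
      rw [hN]
      exact (hp.odd_of_ne_two hp2).pow
    -- the value of `χ` at the conjugates of `z` outside `D`
    have hχz : ∀ y : Wab G a b, Swaps (y : G) a b → IsConj z (y : G) → χ y = ((ε : ℤ) : ℂ) := by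
      intro y hy hyz
      obtain ⟨x, hx⟩ := hconj y ((notMem_DW hab).2 hy)
      have h1 : x⁻¹ * y * x ∉ DW G a b := by
        rw [mem_conj_iff hD]
        exact (notMem_DW hab).2 hy
      have h2 : IsConj z ((x⁻¹ * y * x : Wab G a b) : G) := by
        refine hyz.trans (isConj_iff.2 ⟨((x⁻¹ : Wab G a b) : G), ?_⟩)
        push_cast
        group
      have h3 := hε _ hx ((notMem_DW hab).1 h1) h2
      have h4 := isCharacter_isClassFunction hch y x⁻¹
      rw [inv_inv] at h4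
      rw [← h4, hval _ hx ((notMem_DW hab).1 h1), h3]
    have hS₁ : S₁ (h.rankOne hab hw) χ z = ((ε : ℤ) : ℂ) *
        ((Nat.card Ω - Nat.card (fixedBy Ω z) : ℕ) * Nat.card (stabilizer G a)) := by
      have h1 : S₁ (h.rankOne hab hw) χ z =
          ∑ g : G, if g * z * g⁻¹ ∉ stabilizer G a then ((ε : ℤ) : ℂ) else 0 := by
        refine Finset.sum_congr rfl fun g _ => ?_
        by_cases hg : g * z * g⁻¹ ∈ stabilizer G a
        · rw [if_pos hg, if_neg (not_not.2 hg)]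
        · rw [if_neg hg, if_pos hg]
          have h3 : (g * z * g⁻¹) * (g * z * g⁻¹) = 1 := by
            calc g * z * g⁻¹ * (g * z * g⁻¹) = g * (z * z) * g⁻¹ := by group
              _ = 1 := by rw [hz]; group
          refine hχz _ ((mem_Wab_not_mem_Dab hab).1 ⟨(pr _ _).2, fun hc' => hg ?_⟩)
            ((isConj_iff.2 ⟨g, rfl⟩ : IsConj z (g * z * g⁻¹)).trans (isConj_pr _ hoddU h3))
          exact (pr_mem_D _ _).1 hc'
      rw [h1, ← Finset.sum_filter, Finset.sum_const, nsmul_eq_mul, ← Fintype.card_subtype,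
        ← Nat.card_eq_fintype_card, card_move h a z]
      push_cast
      ring
    have h1 := hdat.val₁ z
    have h2 := hdat.val₂ z
    have hXY' : (Y : ℂ) = X := by rw [hXY]
    rw [hXY'] at h1 h2
    -- `S₁ = |B| X (ψ₁ - ψ₂)`
    have h3 : ((ε : ℤ) : ℂ) * ((Nat.card Ω - Nat.card (fixedBy Ω z) : ℕ) : ℂ) =
        X * (ψ₁ z - ψ₂ z) := by
      apply mul_left_cancel₀ hB
      rw [hS₁] at h1 h2
      linear_combination (h2 - h1) / 2
    have hle : q ≤ p ^ k := by
      have h4 : Nat.card (fixedBy Ω z) ≤ Nat.card Ω :=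
        Nat.card_le_card_of_injective _ Subtype.val_injective
      rw [hq, h.card a, hN] at h4
      omega
    have h4 : Nat.card Ω - Nat.card (fixedBy Ω z) = p ^ k - q := by
      rw [hq, h.card a, hN]
      omega
    rw [h4, Nat.cast_sub hle] at h3
    push_cast at h3
    have h5 : ((p : ℂ) ^ k - q) ^ 2 = p ^ k * (ψ₁ z - ψ₂ z) ^ 2 := by
      have h6 := hunit ε
      calc ((p : ℂ) ^ k - q) ^ 2 = (((ε : ℤ) : ℂ) * ((ε : ℤ) : ℂ)) * ((p : ℂ) ^ k - q) ^ 2 := by
            rw [h6, one_mul]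
        _ = (((ε : ℤ) : ℂ) * ((p : ℂ) ^ k - q)) ^ 2 := by ring
        _ = (X * X) * (ψ₁ z - ψ₂ z) ^ 2 := by rw [h3]; ring
        _ = _ := by rw [hXX]
    have hpk : (p : ℂ) ^ k ≠ 0 := pow_ne_zero _ (by exact_mod_cast hp.ne_zero)
    obtain ⟨t, ht⟩ := Characters.GaloisBasic.exists_int_of_isIntegral
      (((hint₁ z).sub (hint₂ z)).pow 2) ⟨((p : ℚ) ^ k - q) ^ 2 / p ^ k, by
        push_cast
        rw [h5]
        field_simp⟩
    rw [ht] at h5
    have h6 : ((p : ℤ) ^ k - q) ^ 2 = p ^ k * t := by exact_mod_cast h5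
    have h7 : ((p ^ k : ℕ) : ℤ) ∣ ((q ^ 2 : ℕ) : ℤ) := by
      refine ⟨t - p ^ k + 2 * q, ?_⟩
      push_cast
      linear_combination h6
    exact_mod_cast h7

end

end Cfsg.Agent.HKS.AbelianQ
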