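import Mathlib
import Cfsg.Agent.HKS.AbelianQ
import Cfsg.Agent.HKS.AbelianCount
import Cfsg.Agent.Lib.NormalAbelian

/-!
# Four-groups in `G_ab` and abelian unipotent groups

`AbelianEnd.abelian_false` : in the context `CtxE`, `NoFourFix`, if `U a` is abelian then `G_ab` has no
four-group.
-/

set_option autoImplicit false
set_option linter.unusedSectionVars false

open Cfsg

namespace Cfsg.Agent.HKS.AbelianEnd

open Subgroup MulAction AbelianQ

/-! ### A central involution -/

/-- Two commuting involutions generate a `2`-group. -/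
theorem isPGroup_sup {W : Type*} [Group W] {s t : W} (hs2 : s * s = 1) (ht2 : t * t = 1)
    (hst : s * t = t * s) : IsPGroup 2 (zpowers s ⊔ zpowers t : Subgroup W) := by
  have key : ∀ x : W, x * x = 1 → IsPGroup 2 (zpowers x) := by
    intro x hx
    rintro ⟨_, ⟨n, rfl⟩⟩
    refine ⟨1, Subtype.ext ?_⟩
    change (x ^ n) ^ 2 ^ 1 = 1
    rw [pow_one, ← zpow_natCast, ← zpow_mul, mul_comm, zpow_mul, zpow_natCast, pow_two, hx, one_zpow]
  refine IsPGroup.to_sup_of_normal_right' (key s hs2) (key t ht2) ?_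
  rw [zpowers_le]
  rw [mem_normalizer_iff]
  have h1 : ∀ x ∈ zpowers t, s * x * s⁻¹ = x := by
    rintro _ ⟨n, rfl⟩
    have h2 : s * t ^ n = t ^ n * s := ((show Commute s t from hst).zpow_right n).eq
    change s * t ^ n * s⁻¹ = t ^ n
    rw [h2, mul_inv_cancel_right]
  intro x
  constructor
  · intro hx
    rw [h1 x hx]
    exact hx
  · intro hx
    have h2 := h1 _ hx
    have h3 : s * x * s⁻¹ = x := by
      have h4 : s * (s * x * s⁻¹) * s⁻¹ = x := by
        calc s * (s * x * s⁻¹) * s⁻¹ = (s * s) * x * (s * s)⁻¹ := by group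
          _ = x := by rw [hs2]; group
      rw [h4] at h2
      exact h2.symm
    rw [h3] at hx
    exact hx

/-- A central involution `z` of a Sylow `2`-subgroup of `W`, lying in the subgroup `D` of index `2`,
and an involution `e ≠ z` of `D` commuting with `z`. -/
theorem exists_central_inv {W : Type*} [Group W] [Finite W] {D : Subgroup W} (hD : D.index = 2)
    {s t : W} (hs : s ∈ D) (ht : t ∈ D) (hs1 : s ≠ 1) (ht1 : t ≠ 1) (hst : s ≠ t)
    (hs2 : s * s = 1) (ht2 : t * t = 1) (hc : s * t = t * s) :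
    ∃ z e : W, z ∈ D ∧ e ∈ D ∧ z ≠ 1 ∧ e ≠ 1 ∧ z ≠ e ∧ z * z = 1 ∧ e * e = 1 ∧ z * e = e * z ∧
      Odd (centralizer {z}).index ∧ ∃ c ∈ centralizer {z}, c ∉ D := by
  have : Fact (Nat.Prime 2) := ⟨Nat.prime_two⟩
  obtain ⟨S, hVS⟩ := (isPGroup_sup hs2 ht2 hc).exists_le_sylow
  have hsS : s ∈ (S : Subgroup W) := hVS (mem_sup_left (mem_zpowers s))
  have htS : t ∈ (S : Subgroup W) := hVS (mem_sup_right (mem_zpowers t))
  have hSn : Group.IsNilpotent (S : Subgroup W) := S.isPGroup'.isNilpotent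
  have hDn := normal_of_index_eq_two hD
  have hN : (D.subgroupOf (S : Subgroup W)) ≠ ⊥ := by
    intro hb
    have h1 : (⟨s, hsS⟩ : (S : Subgroup W)) ∈ D.subgroupOf (S : Subgroup W) := hs
    rw [hb, mem_bot] at h1
    exact hs1 (congrArg Subtype.val h1)
  have hne := Lib.NormalAbelian.normal_inf_center_ne_bot (D.subgroupOf (S : Subgroup W)) hN
  have h2 : 2 ∣ Nat.card (D.subgroupOf (S : Subgroup W) ⊓ Subgroup.center (S : Subgroup W) :
      Subgroup (S : Subgroup W)) := by
    rcases (S.isPGroup'.to_subgroup (D.subgroupOf (S : Subgroup W) ⊓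
      Subgroup.center (S : Subgroup W))).card_eq_or_dvd with h | h
    · exact absurd (card_eq_one.1 h) hne
    · exact h
  obtain ⟨z, hz⟩ := exists_prime_orderOf_dvd_card' 2 h2
  have hz1 : z ≠ 1 := by
    rintro rfl
    rw [orderOf_one] at hz
    omega
  have hz2 : z * z = 1 := by
    have := pow_orderOf_eq_one z
    rwa [hz, pow_two] at this
  set z' : W := ((z : (S : Subgroup W)) : W) with hz'
  have hz'1 : z' ≠ 1 := fun hc' => hz1 (Subtype.ext (Subtype.ext hc'))
  have hz'2 : z' * z' = 1 := congrArg (fun x => ((x : (S : Subgroup W)) : W)) (congrArg Subtype.val hz2)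
  have hcen : ∀ x ∈ (S : Subgroup W), z' * x = x * z' := by
    intro x hx
    have h3 := mem_center_iff.1 z.2.2 ⟨x, hx⟩
    exact (congrArg Subtype.val h3).symm
  have hle : (S : Subgroup W) ≤ centralizer {z'} := by
    intro x hx
    rw [mem_centralizer_singleton_iff]
    exact (hcen x hx).symm
  have hodd : Odd (S : Subgroup W).index := Nat.not_even_iff_odd.1 fun hc' => S.not_dvd_index hc'.two_dvd
  have hout : ∃ c ∈ (S : Subgroup W), c ∉ D := by
    by_contra hc'
    push Not at hc'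
    have h3 : D.index ∣ (S : Subgroup W).index := index_dvd_of_le hc'
    rw [hD] at h3
    exact Nat.not_even_iff_odd.2 hodd (even_iff_two_dvd.2 h3)
  obtain ⟨c, hcS, hcD⟩ := hout
  have hindex : Odd (centralizer {z'}).index := hodd.of_dvd_nat (index_dvd_of_le hle)
  by_cases hzs : z' = s
  · exact ⟨z', t, z.2.1, ht, hz'1, ht1, by rw [hzs]; exact hst, hz'2, ht2, hcen t htS, hindex,
      c, hle hcS, hcD⟩
  · exact ⟨z', s, z.2.1, hs, hz'1, hs1, hzs, hz'2, hs2, hcen s hsS, hindex, c, hle hcS, hcD⟩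

/-! ### A homomorphism onto `{±1}` -/

open scoped Classical in
/-- The homomorphism to `{±1}` with kernel a subgroup of index two. -/
noncomputable def sgnZ {P : Type*} [Group P] {K : Subgroup P} (hK : K.index = 2) : P →* ℤˣ where
  toFun g := if g ∈ K then 1 else -1
  map_one' := if_pos K.one_mem
  map_mul' a b := by
    have := mul_mem_iff_of_index_two hK (a := a) (b := b)
    by_cases ha : a ∈ K <;> by_cases hb : b ∈ K <;> simp [this, ha, hb]

/-- A nontrivial finite `2`-group has a homomorphism onto `{±1}`. -/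
theorem exists_hom {P : Type*} [Group P] [Finite P] (hP : IsPGroup 2 P) (hne : Nontrivial P) :
    ∃ θ : P →* ℤˣ, ∃ x, θ x = -1 := by
  have : Fact (Nat.Prime 2) := ⟨Nat.prime_two⟩
  obtain ⟨n, hn⟩ := IsPGroup.iff_card.1 hP
  have hn0 : n ≠ 0 := by
    rintro rfl
    rw [pow_zero] at hn
    exact (Finite.one_lt_card_iff_nontrivial.2 hne).ne' hn
  obtain ⟨m, rfl⟩ := Nat.exists_eq_succ_of_ne_zero hn0
  obtain ⟨K, hK⟩ := Sylow.exists_subgroup_card_pow_prime (G := P) 2 (n := m)
    (by rw [hn]; exact pow_dvd_pow 2 (Nat.le_succ m))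
  have hi : K.index = 2 := by
    have h1 := K.card_mul_index
    rw [hK, hn, pow_succ] at h1
    exact Nat.eq_of_mul_eq_mul_left (by positivity) h1
  obtain ⟨x, hx⟩ : ∃ x, x ∉ K := by
    by_contra hc
    push Not at hc
    have : K = ⊤ := by rw [eq_top_iff]; exact fun x _ => hc x
    rw [this, index_top] at hi
    omega
  exact ⟨sgnZ hi, x, if_neg hx⟩

/-! ### The setting -/

variable {G Ω : Type*} [Group G] [MulAction G Ω] {U : Ω → Subgroup G} {a b : Ω} {p k : ℕ}

/-- `z` is an involution of `D`, centralised by an element interchanging `a` and `b`, with an odd number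
of conjugates in `W`; `U a` is abelian. -/
structure Abl (U : Ω → Subgroup G) (a b : Ω) (p k : ℕ) (z : G) : Prop where
  C : CtxE U a b p k
  F : NoFourFix U a b
  comm : ∀ x ∈ U a, ∀ y ∈ U a, x * y = y * x
  zD : z ∈ Dab G a b
  z1 : z ≠ 1
  z2 : z * z = 1
  odd : Odd (centralizer {(⟨z, Dab_le_Wab a b zD⟩ : Wab G a b)}).index
  out : ∃ c : G, Swaps c a b ∧ c * z = z * c

namespace Abl

variable {z : G}

/-- `z` as an element of `W`. -/
def zW (A : Abl U a b p k z) : Wab G a b := ⟨z, Dab_le_Wab a b A.zD⟩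

theorem mem_CW (A : Abl U a b p k z) {g : Wab G a b} :
    g ∈ centralizer {A.zW} ↔ (g : G) * z = z * g := by
  rw [mem_centralizer_singleton_iff]
  exact Subtype.ext_iff

theorem oddU (A : Abl U a b p k z) : Odd (Nat.card (U a)) := by
  rw [A.C.cardU]
  exact (A.C.prime.odd_of_ne_two A.C.p_ne_two).pow

theorem oddU' (A : Abl U a b p k z) [Finite Ω] (c : Ω) : Odd (Nat.card (U c)) := by
  have h1 := A.C.split.card a
  have h2 := A.C.split.card c
  have h3 : Nat.card (U c) = Nat.card (U a) := by omega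
  rw [h3]
  exact A.oddU

variable [Finite G] [Finite Ω]

theorem two_element (A : Abl U a b p k z) {y : Wab G a b} (hy : y ∉ DW G a b) :
    ∃ n, y ^ 2 ^ n = 1 :=
  two_element' A.C.split A.C.gen A.C.ne A.C.prime A.C.p_ne_two A.C.cardU A.comm hy

/-- `C_G(z)` is 2-transitive on `Fix z`. -/
theorem two (A : Abl U a b p k z) {c d : Ω} (hcd : d ≠ c) (hc : z • c = c) (hd : z • d = d) :
    ∃ g : G, z * g = g * z ∧ g • c = a ∧ g • d = b := by
  have h1 := A.C.split.fixed (zpowers z) (SSplit.three_of_card (by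
    rw [TwoOne.card_fixSub_zpowers]
    exact A.C.fix z A.z1 A.z2))
  obtain ⟨g, hg1, hg2⟩ := h1.two (a := ⟨c, TwoOne.zpowers_fix hc⟩)
    (b := ⟨d, TwoOne.zpowers_fix hd⟩) (c := ⟨a, TwoOne.zpowers_fix A.zD.1⟩)
    (d := ⟨b, TwoOne.zpowers_fix A.zD.2⟩)
    (fun e => hcd (congrArg Subtype.val e).symm) (fun e => A.C.ne (congrArg Subtype.val e).symm)
  exact ⟨g, TwoOne.mem_cent_zpowers.1 g.2, congrArg Subtype.val hg1, congrArg Subtype.val hg2⟩

/-- A conjugate of `z` in `D` is a conjugate in `D`. -/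
theorem conj_D (A : Abl U a b p k z) {m : G} (hm : IsConj z m) (hmD : m ∈ Dab G a b) :
    ∃ d ∈ Dab G a b, d * z * d⁻¹ = m := by
  obtain ⟨g, rfl⟩ := isConj_iff.1 hm
  have h1 : ∀ c : Ω, (g * z * g⁻¹) • c = c → z • g⁻¹ • c = g⁻¹ • c := by
    intro c hc
    rwa [eq_inv_smul_iff, ← mul_smul, ← mul_smul]
  obtain ⟨x, hx, hxa, hxb⟩ := A.two (c := g⁻¹ • a) (d := g⁻¹ • b)
    (fun e => A.C.ne (MulAction.injective g⁻¹ e)) (h1 a hmD.1) (h1 b hmD.2)
  have h2 : x * g⁻¹ ∈ Dab G a b := ⟨by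
    change (x * g⁻¹) • a = a
    rw [mul_smul, hxa], by
    change (x * g⁻¹) • b = b
    rw [mul_smul, hxb]⟩
  refine ⟨(x * g⁻¹)⁻¹, inv_mem h2, ?_⟩
  calc (x * g⁻¹)⁻¹ * z * (x * g⁻¹)⁻¹⁻¹ = g * (x⁻¹ * (z * x)) * g⁻¹ := by group
    _ = g * (x⁻¹ * (x * z)) * g⁻¹ := by rw [hx]
    _ = _ := by group

/-- **Every element interchanging `a` and `b` commutes with exactly one conjugate of `z` in `D`.** -/
theorem existsUnique (A : Abl U a b p k z) (y : G) (hy : Swaps y a b) :
    ∃! z', z' ∈ Dab G a b ∧ IsConj z z' ∧ y * z' = z' * y := by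
  obtain ⟨c, hc, hcz⟩ := A.out
  obtain ⟨z', ⟨h1, h2⟩, h3⟩ := CosetTwo.existsUnique_comm (index_DW A.C.split A.C.ne)
    (fun y hy => A.two_element hy) (z := A.zW) A.odd (c := ⟨c, hc.mem_W⟩)
    (A.mem_CW.2 hcz) ((notMem_DW A.C.ne).2 hc) (y := ⟨y, hy.mem_W⟩) ((notMem_DW A.C.ne).2 hy)
  have hn := normal_of_index_eq_two (index_DW A.C.split A.C.ne)
  refine ⟨z', ⟨?_, ?_, congrArg Subtype.val h2⟩, ?_⟩
  · obtain ⟨g, hg⟩ := isConj_iff.1 h1
    rw [← hg]
    exact hn.conj_mem A.zW A.zD g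
  · obtain ⟨g, hg⟩ := isConj_iff.1 h1
    exact isConj_iff.2 ⟨g, congrArg Subtype.val hg⟩
  · rintro m ⟨hmD, hm, hmy⟩
    obtain ⟨d, hd, hdm⟩ := A.conj_D hm hmD
    have h4 := h3 ⟨m, Dab_le_Wab a b hmD⟩ ⟨isConj_iff.2 ⟨⟨d, Dab_le_Wab a b hd⟩, Subtype.ext hdm⟩,
      Subtype.ext hmy⟩
    exact congrArg Subtype.val h4

/-- The number of points fixed by `z`. -/
theorem card_fix (A : Abl U a b p k z) :
    Nat.card (fixedBy Ω z) = Nat.card (TwoOne.CU U a z) + 1 :=
  TwoOne.card_fixedBy_eq A.C.split A.C.ne A.zD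

theorem three_le (A : Abl U a b p k z) : 3 ≤ Nat.card (TwoOne.CU U a z) := by
  have h1 := A.C.fix z A.z1 A.z2
  rw [A.card_fix] at h1
  have h2 : Odd (Nat.card (TwoOne.CU U a z)) := A.oddU.of_dvd_nat (card_dvd_of_le inf_le_left)
  obtain ⟨m, hm⟩ := h2
  omega

theorem exists_ne (A : Abl U a b p k z) : ∃ u ∈ U a, u ≠ 1 ∧ z * u = u * z := by
  have h1 := A.three_le
  by_contra hc
  push Not at hc
  have h2 : TwoOne.CU U a z = ⊥ := by
    rw [eq_bot_iff]
    intro x hx
    rw [TwoOne.mem_CU] at hx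
    by_contra hx1
    exact hc x hx.1 (fun e => hx1 (mem_bot.2 e)) hx.2
  rw [h2, card_bot] at h1
  omega

/-- `|Fix z| - 1` and `|U a|` are congruent modulo `4`. -/
theorem mod_four (A : Abl U a b p k z) :
    p ^ k % 4 = Nat.card (TwoOne.CU U a z) % 4 := by
  have h1 := A.C.split.four_dvd A.C.gen A.oddU' A.z2
  rw [A.card_fix, A.C.split.card a, A.C.cardU] at h1
  have h2 : Nat.card (TwoOne.CU U a z) ≤ p ^ k := by
    rw [← A.C.cardU]
    have : Finite (U a) := A.C.split.finite_U a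
    exact card_le_of_le inf_le_left
  omega

/-- An involution `e ≠ z` of `D` commuting with `z` inverts `C_{U a}(z)`. -/
theorem inverts (A : Abl U a b p k z) {e : G} (he : e ∈ Dab G a b) (he1 : e ≠ 1) (he2 : e * e = 1)
    (hez : e ≠ z) (hc : e * z = z * e) {u : G} (hu : u ∈ U a) (huz : z * u = u * z) :
    e * u * e⁻¹ = u⁻¹ := by
  have hei : e⁻¹ = e := inv_eq_of_mul_eq_one_left he2
  have h1 : e * u * e⁻¹ ∈ U a := A.C.split.conj_of_fix he.1 hu
  have h2 : z * (e * u * e⁻¹) = (e * u * e⁻¹) * z := by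
    rw [hei]
    calc z * (e * u * e) = (z * e) * u * e := by group
      _ = e * (z * u) * e := by rw [← hc]; group
      _ = e * u * (z * e) := by rw [huz]; group
      _ = _ := by rw [← hc]; group
  have h3 : u * (e * u * e⁻¹) = 1 := by
    refine A.F z A.zD e he A.z1 he1 (Ne.symm hez) A.z2 he2 hc.symm _ ((U a).mul_mem hu h1) ?_ ?_
    · calc z * (u * (e * u * e⁻¹)) = (z * u) * (e * u * e⁻¹) := by group
        _ = u * (z * (e * u * e⁻¹)) := by rw [huz]; group
        _ = _ := by rw [h2]; group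
    · have h4 := A.comm u hu _ h1
      calc e * (u * (e * u * e⁻¹)) = (e * u * e⁻¹) * (e * e) * u * e⁻¹ := by group
        _ = (e * u * e⁻¹) * u * e⁻¹ := by rw [he2, mul_one]
        _ = u * (e * u * e⁻¹) * e⁻¹ := by rw [h4]
        _ = _ := by rw [hei]
  exact (inv_eq_of_mul_eq_one_right h3).symm

/-- `Fix z ∩ Fix e = {a, b}`. -/
theorem fix_two (A : Abl U a b p k z) {e : G} (he : e ∈ Dab G a b) (he1 : e ≠ 1) (he2 : e * e = 1)
    (hez : e ≠ z) (hc : e * z = z * e) {c : Ω} (hzc : z • c = c) (hec : e • c = c) :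
    c = a ∨ c = b := by
  by_contra hc'
  push Not at hc'
  obtain ⟨u, hu, hub⟩ := A.C.split.trans A.C.ne hc'.1
  have key : ∀ d ∈ Dab G a b, d • c = c → d * u = u * d := by
    intro d hd hdc
    have h1 : d * u * d⁻¹ = u := A.C.split.eq_of_smul_eq A.C.ne (A.C.split.conj_of_fix hd.1 hu) hu (by
      rw [mul_smul, mul_smul, inv_smul_eq_iff.2 (show b = d • b from hd.2.symm), hub, hdc])
    calc d * u = d * u * d⁻¹ * d := by group
      _ = u * d := by rw [h1]
  have h1 := A.F z A.zD e he A.z1 he1 (Ne.symm hez) A.z2 he2 hc.symm u hu (key z A.zD hzc)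
    (key e he hec)
  rw [h1, one_smul] at hub
  exact hc'.2 hub.symm

/-! ### The sign character -/

/-- `C_W(z) → C_G(z)` -/
def toCen (A : Abl U a b p k z) : centralizer {A.zW} →* centralizer (zpowers z : Set G) where
  toFun g := ⟨((g : Wab G a b) : G), TwoOne.mem_cent_zpowers.2 (A.mem_CW.1 g.2).symm⟩
  map_one' := rfl
  map_mul' _ _ := rfl

/-- the sign of the permutation induced on `Fix z` -/
noncomputable def sg (A : Abl U a b p k z) : centralizer {A.zW} →* ℤˣ :=
  (SignFix.sgn (Ω := Ω) (zpowers z)).comp A.toCen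

theorem card_fixSub (A : Abl U a b p k z) :
    Nat.card (fixSub Ω (zpowers z)) = Nat.card (TwoOne.CU U a z) + 1 := by
  rw [TwoOne.card_fixSub_zpowers, A.card_fix]

theorem sg_sq (A : Abl U a b p k z) {g : centralizer {A.zW}}
    (hg : ((g : Wab G a b) : G) * ((g : Wab G a b) : G) = 1) {m : ℕ}
    (hm : Nat.card {c : Ω // z • c = c ∧ ((g : Wab G a b) : G) • c = c} + 2 * m =
      Nat.card (TwoOne.CU U a z) + 1) : A.sg g = (-1) ^ m := by
  refine SignFix.sgn_sq (X := zpowers z) (g := A.toCen g) ?_ ?_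
  · intro c _
    change ((g : Wab G a b) : G) • ((g : Wab G a b) : G) • c = c
    rw [← mul_smul, hg, one_smul]
  · rw [A.card_fixSub, ← hm]
    congr 1
    refine Nat.card_congr (Equiv.subtypeEquivRight fun c => ?_)
    change (∀ x ∈ zpowers z, x • c = c) ∧ ((g : Wab G a b) : G) • c = c ↔ _
    rw [← mem_fixSub, TwoOne.mem_fixSub_zpowers]

theorem card_fix_two (A : Abl U a b p k z) {e : G} (he : e ∈ Dab G a b) (he1 : e ≠ 1)
    (he2 : e * e = 1) (hez : e ≠ z) (hc : e * z = z * e) :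
    Nat.card {c : Ω // z • c = c ∧ e • c = c} = 2 := by
  have h1 : {c : Ω | z • c = c ∧ e • c = c} = {a, b} := by
    ext c
    constructor
    · rintro ⟨h2, h3⟩
      exact A.fix_two he he1 he2 hez hc h2 h3
    · rintro (rfl | rfl)
      · exact ⟨A.zD.1, he.1⟩
      · exact ⟨A.zD.2, he.2⟩
  have h2 : Nat.card {c : Ω // z • c = c ∧ e • c = c} = Set.ncard {c : Ω | z • c = c ∧ e • c = c} :=
    Nat.card_coe_set_eq _
  rw [h2, h1, Set.ncard_pair A.C.ne.symm]

/-- **`|U a| = 1 mod 4`.** -/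
theorem mod_four_one (A : Abl U a b p k z) {e : G} (he : e ∈ Dab G a b) (he1 : e ≠ 1)
    (he2 : e * e = 1) (hez : e ≠ z) (hc : e * z = z * e) : p ^ k % 4 = 1 := by
  by_contra hne
  have hodd : Odd (p ^ k) := (A.C.prime.odd_of_ne_two A.C.p_ne_two).pow
  have h3 : Nat.card (TwoOne.CU U a z) % 4 = 3 := by
    rw [← A.mod_four]
    obtain ⟨m, hm⟩ := hodd
    omega
  obtain ⟨c, hcs, hcz⟩ := A.out
  set q := Nat.card (TwoOne.CU U a z) with hq
  let eW : centralizer {A.zW} := ⟨⟨e, Dab_le_Wab a b he⟩, A.mem_CW.2 hc⟩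
  have h4 : A.sg eW = -1 := by
    rw [A.sg_sq (g := eW) he2 (m := (q - 1) / 2)]
    · have : Odd ((q - 1) / 2) := by rw [Nat.odd_iff]; omega
      exact this.neg_one_pow
    · change Nat.card {c : Ω // z • c = c ∧ e • c = c} + _ = _
      rw [A.card_fix_two he he1 he2 hez hc]
      omega
  have h5 := data_hom A.C.split A.C.gen A.C.ne A.C.prime A.C.p_ne_two A.C.cardU A.comm A.odd
    (c := ⟨c, hcs.mem_W⟩) (A.mem_CW.2 hcz) hcs A.sg (d := ⟨e, Dab_le_Wab a b he⟩) eW.2 he h4
  exact hne h5.1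

/-- Every element interchanging `a` and `b` is conjugate into `C_W(z)`. -/
theorem exists_conj_mem (A : Abl U a b p k z) {y : G} (hy : Swaps y a b) :
    ∃ g ∈ Wab G a b, Swaps (g * y * g⁻¹) a b ∧ (g * y * g⁻¹) * z = z * (g * y * g⁻¹) := by
  obtain ⟨z', ⟨h1, h2, h3⟩, -⟩ := A.existsUnique y hy
  obtain ⟨d, hd, rfl⟩ := A.conj_D h2 h1
  refine ⟨d⁻¹, Dab_le_Wab a b (inv_mem hd), ?_, ?_⟩
  · have h4 := hy.conj d⁻¹
    rwa [show d⁻¹ • a = a from (inv_mem hd).1, show d⁻¹ • b = b from (inv_mem hd).2] at h4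
  · calc d⁻¹ * y * d⁻¹⁻¹ * z = d⁻¹ * (y * (d * z * d⁻¹)) * d := by group
      _ = d⁻¹ * ((d * z * d⁻¹) * y) * d := by rw [h3]
      _ = _ := by group

variable [FaithfulSMul G Ω]

/-- `z` has a conjugate interchanging `a` and `b` and commuting with `z`. -/
theorem exists_swap (A : Abl U a b p k z) :
    ∃ y : G, IsConj z y ∧ Swaps y a b ∧ y * z = z * y := by
  obtain ⟨c₀, hc₀⟩ : ∃ c₀ : Ω, z • c₀ ≠ c₀ := by
    by_contra hc
    push Not at hc
    exact A.z1 (FaithfulSMul.eq_of_smul_eq_smul (α := Ω) fun c => by rw [hc c, one_smul])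
  obtain ⟨y, hy, hys⟩ := A.C.split.exists_conj_swaps A.C.ne A.z2 hc₀
  obtain ⟨g, -, h1, h2⟩ := A.exists_conj_mem hys
  exact ⟨_, hy.trans (isConj_iff.2 ⟨g, rfl⟩), h1, h2⟩

/-- **Isolated case**: some conjugate of `z` in `D` commutes with `z`. -/
theorem exists_comm (A : Abl U a b p k z) (h1 : p ^ k % 4 = 1) :
    ∃ e ∈ Dab G a b, IsConj z e ∧ e * z = z * e ∧ e ≠ z := by
  by_contra hiso
  push Not at hiso
  set q := Nat.card (TwoOne.CU U a z) with hq
  have hq4 : q % 4 = 1 := by rw [hq, ← A.mod_four, h1]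
  have hfpf := AbelianCount.fpf_of_isolated A.C.split A.C.ne A.zD A.z2 A.oddU hiso
  have hnd := AbelianCount.not_dvd A.C.split A.C.ne A.zD A.z2 A.z1 A.oddU A.existsUnique hiso
    (q := q) A.card_fix
  rw [A.C.cardU] at hnd
  -- the sign of the conjugates of `z` in `C_W(z) ∖ D`
  have hsg : ∀ y (hy : y ∈ centralizer {A.zW}), Swaps (y : G) a b → IsConj z (y : G) →
      A.sg ⟨y, hy⟩ = -1 := by
    intro y hy hys hyz
    have hy2 : (y : G) * y = 1 := by
      obtain ⟨g, hg⟩ := isConj_iff.1 hyz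
      exact TwoOne.mul_self_conj hg.symm A.z2
    rw [A.sg_sq (g := ⟨y, hy⟩) hy2 (m := (q + 1) / 2)]
    · have : Odd ((q + 1) / 2) := by rw [Nat.odd_iff]; omega
      exact this.neg_one_pow
    · have h2 : IsEmpty {c : Ω // z • c = c ∧ (y : G) • c = c} := by
        refine ⟨fun c => hfpf y hyz (A.mem_CW.1 hy) ?_ c.1 c.2.1 c.2.2⟩
        intro hc
        rw [hc] at hys
        exact A.C.ne (hys.1.symm.trans A.zD.1)
      change Nat.card {c : Ω // z • c = c ∧ (y : G) • c = c} + _ = _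
      rw [Nat.card_of_isEmpty]
      omega
  -- an element of `genFix` interchanging `a` and `b`
  obtain ⟨u, hu, hu1, huz⟩ := A.exists_ne
  have hX : zpowers z ≤ Dab G b a := by
    rw [zpowers_le, Dab_symm]
    exact A.zD
  have hm := PP1.mu_mem_genFix A.C.split A.C.ne.symm hX hu hu1 (TwoOne.mem_cent_zpowers.2 huz)
  have hms := (A.C.split.mu_swaps A.C.ne.symm hu hu1).symm
  set m := SSplit.mu U b a u with hmdef
  have hmz : m * z = z * m := (TwoOne.mem_cent_zpowers.1 (PP1.genFix_le_centralizer _ hm)).symm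
  let mW : centralizer {A.zW} := ⟨⟨m, hms.mem_W⟩, A.mem_CW.2 hmz⟩
  have hsm : A.sg mW = 1 := SignFix.sgn_genFix A.oddU' hm
  obtain ⟨y, hyz, hys, hyc⟩ := A.exists_swap
  let yW : centralizer {A.zW} := ⟨⟨y, hys.mem_W⟩, A.mem_CW.2 hyc⟩
  have hd : A.sg (yW * mW⁻¹) = -1 := by
    rw [map_mul, map_inv, hsm, inv_one, mul_one]
    exact hsg ⟨y, hys.mem_W⟩ yW.2 hys hyz
  have h5 := data_hom A.C.split A.C.gen A.C.ne A.C.prime A.C.p_ne_two A.C.cardU A.comm A.odd
    (c := ⟨m, hms.mem_W⟩) mW.2 hms A.sg (d := ((yW * mW⁻¹ : centralizer {A.zW}) : Wab G a b))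
    (yW * mW⁻¹).2 (hys.mul hms.inv) hd
  exact hnd (h5.2 z A.z2 q A.card_fix ⟨-1, hsg⟩)

/-! ### The second case -/

theorem mul_self_mul {x y : G} (hx : x * x = 1) (hy : y * y = 1) (hc : x * y = y * x) :
    (x * y) * (x * y) = 1 := by
  calc (x * y) * (x * y) = x * (y * x) * y := by group
    _ = (x * x) * (y * y) := by rw [← hc]; group
    _ = 1 := by rw [hx, hy, mul_one]

/-- `|U a| = |C(z)| |C(e)| |C(ez)|`, if these have the same order `q`. -/
theorem card_cube (A : Abl U a b p k z) {e : G} (he : e ∈ Dab G a b) (he1 : e ≠ 1)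
    (he2 : e * e = 1) (hez : e ≠ z) (hc : e * z = z * e) (hze : IsConj z e)
    (hzez : IsConj z (e * z)) : Nat.card (U a) = Nat.card (TwoOne.CU U a z) ^ 3 := by
  have : Finite (U a) := A.C.split.finite_U a
  have hezD : e * z ∈ Dab G a b := mul_mem he A.zD
  have hez2 : (e * z) * (e * z) = 1 := mul_self_mul he2 A.z2 hc
  have hez1 : e * z ≠ 1 := fun h => hez (by
    have h1 : z⁻¹ = z := inv_eq_of_mul_eq_one_left A.z2
    rw [← h1]; exact eq_inv_of_mul_eq_one_left h)
  have hq : ∀ f ∈ Dab G a b, IsConj z f → Nat.card (TwoOne.CU U a f) =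
      Nat.card (TwoOne.CU U a z) := by
    intro f hf hzf
    have h1 := TwoOne.card_fixedBy_eq A.C.split A.C.ne hf
    have h2 := A.card_fix
    have h3 := SSplit.card_fixedBy_isConj (Ω := Ω) hzf
    omega
  have h1 := hq e he hze
  have h2 := hq (e * z) hezD hzez
  -- every element fixed by two of the three is trivial
  have hF : ∀ u ∈ U a, z * u = u * z → e * u = u * e → u = 1 := fun u hu h3 h4 =>
    A.F z A.zD e he A.z1 he1 (Ne.symm hez) A.z2 he2 hc.symm u hu h3 h4
  -- the action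
  have hconj : ∀ d ∈ Dab G a b, ∀ u ∈ U a, d * u * d⁻¹ ∈ U a := fun d hd u hu =>
    A.C.split.conj_of_fix hd.1 hu
  have hcomm' : ∀ {x y : G}, x * y = y * x → x * y * x⁻¹ = y := fun h => by rw [h]; group
  have hinv : ∀ f ∈ Dab G a b, f * f = 1 → f⁻¹ = f := fun f _ h => inv_eq_of_mul_eq_one_left h
  -- `u * (f u f⁻¹)` is centralised by `f`
  have hcen : ∀ f ∈ Dab G a b, f * f = 1 → ∀ u ∈ U a, u * (f * u * f⁻¹) ∈ TwoOne.CU U a f := by
    intro f hf hf2 u hu
    rw [TwoOne.mem_CU]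
    refine ⟨(U a).mul_mem hu (hconj f hf u hu), ?_⟩
    have h5 := A.comm u hu _ (hconj f hf u hu)
    calc f * (u * (f * u * f⁻¹)) = (f * u * f⁻¹) * (f * f) * u * f⁻¹ := by group
      _ = (f * u * f⁻¹) * u * f⁻¹ := by rw [hf2, mul_one]
      _ = u * (f * u * f⁻¹) * f⁻¹ := by rw [h5]
      _ = u * (f * u * f⁻¹) * f := by rw [hinv f hf hf2]
  apply le_antisymm
  · -- `u ↦ (u u^z, u u^e, u u^(ez))`
    let φ : U a → (TwoOne.CU U a z) × (TwoOne.CU U a e) × (TwoOne.CU U a (e * z)) := fun u =>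
      (⟨_, hcen z A.zD A.z2 u u.2⟩, ⟨_, hcen e he he2 u u.2⟩, ⟨_, hcen (e * z) hezD hez2 u u.2⟩)
    have hφ : Function.Injective φ := by
      intro u v huv
      have e1 : (u : G) * (z * u * z⁻¹) = v * (z * v * z⁻¹) :=
        congrArg (fun x => ((x.1 : TwoOne.CU U a z) : G)) huv
      have e2 : (u : G) * (e * u * e⁻¹) = v * (e * v * e⁻¹) :=
        congrArg (fun x => ((x.2.1 : TwoOne.CU U a e) : G)) huv
      have e3 : (u : G) * ((e * z) * u * (e * z)⁻¹) = v * ((e * z) * v * (e * z)⁻¹) :=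
        congrArg (fun x => ((x.2.2 : TwoOne.CU U a (e * z)) : G)) huv
      -- work with `t = u v⁻¹`
      set t : G := u * (v : G)⁻¹ with ht
      have htU : t ∈ U a := (U a).mul_mem u.2 ((U a).inv_mem v.2)
      have key : ∀ f ∈ Dab G a b, (u : G) * (f * u * f⁻¹) = v * (f * v * f⁻¹) →
          f * t * f⁻¹ = t⁻¹ := by
        intro f hf h5
        have h6 := A.comm _ (hconj f hf v v.2) _ u.2
        have h7 : t * (f * t * f⁻¹) = 1 := by
          have h8 : f * t * f⁻¹ = (f * u * f⁻¹) * (f * v * f⁻¹)⁻¹ := by rw [ht]; group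
          have h9 : (u : G) * (f * u * f⁻¹) * (f * v * f⁻¹)⁻¹ = v := by rw [h5]; group
          have h10 := A.comm (v : G)⁻¹ ((U a).inv_mem v.2) _
            ((U a).mul_mem (hconj f hf u u.2) ((U a).inv_mem (hconj f hf v v.2)))
          calc t * (f * t * f⁻¹) = u * ((v : G)⁻¹ * ((f * u * f⁻¹) * (f * v * f⁻¹)⁻¹)) := by
                rw [h8, ht]; group
            _ = u * (f * u * f⁻¹) * (f * v * f⁻¹)⁻¹ * (v : G)⁻¹ := by rw [h10]; group
            _ = 1 := by rw [h9, mul_inv_cancel]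
        exact (inv_eq_of_mul_eq_one_right h7).symm
      have k1 := key z A.zD e1
      have k2 := key e he e2
      have k3 := key (e * z) hezD e3
      -- `ez` inverts and centralises `t`
      have k4 : (e * z) * t * (e * z)⁻¹ = t := by
        calc (e * z) * t * (e * z)⁻¹ = e * (z * t * z⁻¹) * e⁻¹ := by group
          _ = (e * t * e⁻¹)⁻¹ := by rw [k1]; group
          _ = t := by rw [k2, inv_inv]
      have k5 : t⁻¹ = t := by rw [← k3, k4]
      have k6 : t = 1 := by
        have k7 : z * t = t * z := by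
          rw [k5] at k1
          calc z * t = z * t * z⁻¹ * z := by group
            _ = t * z := by rw [k1]
        have k8 : e * t = t * e := by
          rw [k5] at k2
          calc e * t = e * t * e⁻¹ * e := by group
            _ = t * e := by rw [k2]
        exact hF t htU k7 k8
      exact Subtype.ext (mul_inv_eq_one.1 k6)
    have h5 := Nat.card_le_card_of_injective φ hφ
    rw [Nat.card_prod, Nat.card_prod, h1, h2] at h5
    calc Nat.card (U a) ≤ _ := h5
      _ = _ := by ring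
  · let ψ : (TwoOne.CU U a z) × (TwoOne.CU U a e) × (TwoOne.CU U a (e * z)) → U a := fun x =>
      ⟨(x.1 : G) * x.2.1 * x.2.2, (U a).mul_mem ((U a).mul_mem (TwoOne.mem_CU.1 x.1.2).1
        (TwoOne.mem_CU.1 x.2.1.2).1) (TwoOne.mem_CU.1 x.2.2.2).1⟩
    have hψ : Function.Injective ψ := by
      -- a relation `x y w = 1`
      have key : ∀ x ∈ U a, ∀ y ∈ U a, ∀ w ∈ U a, z * x = x * z → e * y = y * e →
          (e * z) * w = w * (e * z) → x * y * w = 1 → x = 1 ∧ y = 1 ∧ w = 1 := by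
        intro x hx y hy w hw hxz hye hwez hxyw
        -- `z` inverts `y` and `w`
        have hzy : z * y * z⁻¹ = y⁻¹ := by
          have h5 : y * (z * y * z⁻¹) = 1 := by
            have h6 := hcen z A.zD A.z2 y hy
            rw [TwoOne.mem_CU] at h6
            refine hF _ h6.1 h6.2 ?_
            calc e * (y * (z * y * z⁻¹)) = (e * y) * z * y * z⁻¹ := by group
              _ = y * (e * z) * y * z⁻¹ := by rw [hye]; group
              _ = y * z * (e * y) * z⁻¹ := by rw [hc]; group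
              _ = y * z * y * (e * z⁻¹) := by rw [hye]; group
              _ = y * z * y * (z⁻¹ * e) := by
                rw [hinv z A.zD A.z2, hc]
              _ = _ := by group
          exact (inv_eq_of_mul_eq_one_right h5).symm
        have hez' : ∀ t : G, (e * z) * t = t * (e * z) → e * t * e⁻¹ = z * t * z⁻¹ := by
          intro t ht
          have h5 : e * (z * t * z⁻¹) * e⁻¹ = t := by
            calc e * (z * t * z⁻¹) * e⁻¹ = (e * z) * t * (e * z)⁻¹ := by group
              _ = t := hcomm' ht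
          have h6 : z * t * z⁻¹ = e⁻¹ * t * e := by
            calc z * t * z⁻¹ = e⁻¹ * (e * (z * t * z⁻¹) * e⁻¹) * e := by group
              _ = _ := by rw [h5]
          rw [h6, hinv e he he2]
        have hzw : z * w * z⁻¹ = w⁻¹ := by
          have h5 : w * (z * w * z⁻¹) = 1 := by
            have h6 := hcen z A.zD A.z2 w hw
            rw [TwoOne.mem_CU] at h6
            refine hF _ h6.1 h6.2 ?_
            have h7 := hcen e he he2 w hw
            rw [TwoOne.mem_CU, hez' w hwez] at h7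
            exact h7.2
          exact (inv_eq_of_mul_eq_one_right h5).symm
        have h5 : x * y⁻¹ * w⁻¹ = 1 := by
          calc x * y⁻¹ * w⁻¹ = (z * x * z⁻¹) * (z * y * z⁻¹) * (z * w * z⁻¹) := by
                rw [hcomm' hxz, hzy, hzw]
            _ = z * (x * y * w) * z⁻¹ := by group
            _ = 1 := by rw [hxyw]; group
        -- `x = w y` and `x = (y w)⁻¹`
        have h6 : x = w * y := by
          calc x = x * y⁻¹ * w⁻¹ * (w * y) := by group
            _ = w * y := by rw [h5, one_mul]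
        have h7 : x⁻¹ = y * w := by
          calc x⁻¹ = x⁻¹ * (x * y * w) := by rw [hxyw, mul_one]
            _ = y * w := by group
        have h8 : x⁻¹ = x := by rw [h7, A.comm y hy w hw, ← h6]
        have hsq : ∀ t ∈ U a, t⁻¹ = t → t = 1 := by
          intro t ht htt
          have h9 : t ^ 2 = 1 := by
            rw [pow_two]
            nth_rewrite 1 [← htt]
            exact inv_mul_cancel t
          have h10 : (⟨t, ht⟩ : U a) ^ 2 = 1 := Subtype.ext h9
          have h11 := orderOf_dvd_of_pow_eq_one h10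
          have h12 := A.oddU.of_dvd_nat (orderOf_dvd_natCard (⟨t, ht⟩ : U a))
          rcases (Nat.dvd_prime Nat.prime_two).1 h11 with h13 | h13
          · exact congrArg Subtype.val (orderOf_eq_one_iff.1 h13)
          · rw [h13] at h12
            exact absurd h12 (by decide)
        have hx1 : x = 1 := hsq x hx h8
        rw [hx1, one_mul] at hxyw
        have hwy : w = y⁻¹ := (inv_eq_of_mul_eq_one_right hxyw).symm
        -- `e` centralises `y` and `ez` centralises `y`, so `z` does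
        have hzy' : z * y = y * z := by
          have h9 : (e * z) * y = y * (e * z) := by
            have h10 : (e * z) * y⁻¹ = y⁻¹ * (e * z) := by rw [← hwy]; exact hwez
            calc (e * z) * y = y * (y⁻¹ * (e * z)) * y := by group
              _ = y * ((e * z) * y⁻¹) * y := by rw [h10]
              _ = _ := by group
          have h11 : e * (z * y) = e * (y * z) := by
            calc e * (z * y) = (e * z) * y := by group
              _ = y * (e * z) := h9
              _ = (y * e) * z := by group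
              _ = e * (y * z) := by rw [← hye]; group
          exact mul_left_cancel h11
        have hy1 : y = 1 := hF y hy hzy' hye
        exact ⟨hx1, hy1, by rw [hwy, hy1, inv_one]⟩
      intro x y hxy
      obtain ⟨x1, x2, x3⟩ := x
      obtain ⟨y1, y2, y3⟩ := y
      have h5 : (x1 : G) * x2 * x3 = y1 * y2 * y3 := congrArg Subtype.val hxy
      have m1 := TwoOne.mem_CU.1 x1.2
      have m2 := TwoOne.mem_CU.1 x2.2
      have m3 := TwoOne.mem_CU.1 x3.2
      have n1 := TwoOne.mem_CU.1 y1.2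
      have n2 := TwoOne.mem_CU.1 y2.2
      have n3 := TwoOne.mem_CU.1 y3.2
      have hdiv : ∀ {f s t : G}, f * s = s * f → f * t = t * f →
          f * (s * t⁻¹) = s * t⁻¹ * f := by
        intro f s t hs ht
        exact ((show Commute f s from hs).mul_right (show Commute f t from ht).inv_right).eq
      have c1 := A.comm (x2 : G) m2.1 (y1 : G)⁻¹ ((U a).inv_mem n1.1)
      have h6 : ((x1 : G) * (y1 : G)⁻¹) * (x2 * (y2 : G)⁻¹) * (x3 * (y3 : G)⁻¹) = 1 := by
        let _ : CommGroup (U a) :=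
          { (inferInstance : Group (U a)) with
            mul_comm := fun x y => Subtype.ext (A.comm x x.2 y y.2) }
        have h7 : (⟨x1, m1.1⟩ * ⟨x2, m2.1⟩ * ⟨x3, m3.1⟩ : U a) =
            ⟨y1, n1.1⟩ * ⟨y2, n2.1⟩ * ⟨y3, n3.1⟩ := Subtype.ext h5
        have h8 : ((⟨x1, m1.1⟩ * ⟨y1, n1.1⟩⁻¹) * (⟨x2, m2.1⟩ * ⟨y2, n2.1⟩⁻¹) *
            (⟨x3, m3.1⟩ * ⟨y3, n3.1⟩⁻¹) : U a) = 1 := by
          calc _ = (⟨x1, m1.1⟩ * ⟨x2, m2.1⟩ * ⟨x3, m3.1⟩ : U a) *
                (⟨y1, n1.1⟩ * ⟨y2, n2.1⟩ * ⟨y3, n3.1⟩)⁻¹ := by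
                rw [mul_inv, mul_inv]
                simp only [mul_left_comm, mul_assoc]
            _ = 1 := by rw [h7, mul_inv_cancel]
        exact congrArg Subtype.val h8
      obtain ⟨k1, k2, k3⟩ := key _ ((U a).mul_mem m1.1 ((U a).inv_mem n1.1)) _
        ((U a).mul_mem m2.1 ((U a).inv_mem n2.1)) _ ((U a).mul_mem m3.1 ((U a).inv_mem n3.1))
        (hdiv m1.2 n1.2) (hdiv m2.2 n2.2) (hdiv m3.2 n3.2) h6
      have l1 : x1 = y1 := Subtype.ext (mul_inv_eq_one.1 k1)
      have l2 : x2 = y2 := Subtype.ext (mul_inv_eq_one.1 k2)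
      have l3 : x3 = y3 := Subtype.ext (mul_inv_eq_one.1 k3)
      rw [l1, l2, l3]
    have h5 := Nat.card_le_card_of_injective ψ hψ
    rw [Nat.card_prod, Nat.card_prod, h1, h2] at h5
    calc _ = _ := by ring
      _ ≤ Nat.card (U a) := h5

end Abl

end Cfsg.Agent.HKS.AbelianEnd
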