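import Mathlib
import Cfsg.Agent.UThreeGen.DataIso

/-!
# `PSL(2, F)` as a rank-one group
-/

set_option autoImplicit false

namespace Cfsg.Agent.HKS.EndL

open Matrix Subgroup
open Cfsg.Agent.LieRecognition.RankOneAbstract (Data)

variable {F : Type*} [Field F]

theorem ext2 {A B : SpecialLinearGroup (Fin 2) F} (h00 : A.1 0 0 = B.1 0 0) (h01 : A.1 0 1 = B.1 0 1)
    (h10 : A.1 1 0 = B.1 1 0) (h11 : A.1 1 1 = B.1 1 1) : A = B := by
  apply Subtype.ext
  ext i j
  fin_cases i <;> fin_cases j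
  · exact h00
  · exact h01
  · exact h10
  · exact h11

theorem mul00 (A B : SpecialLinearGroup (Fin 2) F) :
    (A * B).1 0 0 = A.1 0 0 * B.1 0 0 + A.1 0 1 * B.1 1 0 := by
  change (A.1 * B.1) 0 0 = _
  rw [Matrix.mul_apply, Fin.sum_univ_two]

theorem mul01 (A B : SpecialLinearGroup (Fin 2) F) :
    (A * B).1 0 1 = A.1 0 0 * B.1 0 1 + A.1 0 1 * B.1 1 1 := by
  change (A.1 * B.1) 0 1 = _
  rw [Matrix.mul_apply, Fin.sum_univ_two]

theorem mul10 (A B : SpecialLinearGroup (Fin 2) F) :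
    (A * B).1 1 0 = A.1 1 0 * B.1 0 0 + A.1 1 1 * B.1 1 0 := by
  change (A.1 * B.1) 1 0 = _
  rw [Matrix.mul_apply, Fin.sum_univ_two]

theorem mul11 (A B : SpecialLinearGroup (Fin 2) F) :
    (A * B).1 1 1 = A.1 1 0 * B.1 0 1 + A.1 1 1 * B.1 1 1 := by
  change (A.1 * B.1) 1 1 = _
  rw [Matrix.mul_apply, Fin.sum_univ_two]

theorem inv_entries (A : SpecialLinearGroup (Fin 2) F) :
    (A⁻¹).1 0 0 = A.1 1 1 ∧ (A⁻¹).1 0 1 = -A.1 0 1 ∧ (A⁻¹).1 1 0 = -A.1 1 0 ∧ (A⁻¹).1 1 1 = A.1 0 0 := by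
  change (Matrix.adjugate A.1) 0 0 = _ ∧ (Matrix.adjugate A.1) 0 1 = _ ∧
    (Matrix.adjugate A.1) 1 0 = _ ∧ (Matrix.adjugate A.1) 1 1 = _
  rw [Matrix.adjugate_fin_two]
  simp

theorem one_entries : (1 : SpecialLinearGroup (Fin 2) F).1 0 0 = 1 ∧
    (1 : SpecialLinearGroup (Fin 2) F).1 0 1 = 0 ∧ (1 : SpecialLinearGroup (Fin 2) F).1 1 0 = 0 ∧
    (1 : SpecialLinearGroup (Fin 2) F).1 1 1 = 1 := by
  refine ⟨?_, ?_, ?_, ?_⟩ <;> simp

/-- upper triangular matrices -/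
def bor (F : Type*) [Field F] : Subgroup (SpecialLinearGroup (Fin 2) F) where
  carrier := {g | g.1 1 0 = 0}
  mul_mem' := by
    intro g h hg hh
    change (g * h).1 1 0 = 0
    rw [mul10, show g.1 1 0 = 0 from hg, show h.1 1 0 = 0 from hh]
    ring
  one_mem' := one_entries.2.2.1
  inv_mem' := by
    intro g hg
    change (g⁻¹).1 1 0 = 0
    rw [(inv_entries g).2.2.1, show g.1 1 0 = 0 from hg, neg_zero]

/-- unitriangular matrices -/
def um (x : F) : SpecialLinearGroup (Fin 2) F := ⟨!![1, x; 0, 1], by simp [Matrix.det_fin_two]⟩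

theorem um_mul (x y : F) : um x * um y = um (x + y) := by
  apply ext2
  · rw [mul00]; simp [um]
  · rw [mul01]; simp [um, add_comm]
  · rw [mul10]; simp [um]
  · rw [mul11]; simp [um]

theorem um_zero : um (0 : F) = 1 := by
  apply ext2 <;> simp [um]

theorem um_inj {x y : F} (h : um x = um y) : x = y := by
  have := congrArg (fun A : SpecialLinearGroup (Fin 2) F => A.1 0 1) h
  simpa [um] using this

def umHom (F : Type*) [Field F] : Multiplicative F →* SpecialLinearGroup (Fin 2) F where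
  toFun x := um x.toAdd
  map_one' := um_zero
  map_mul' x y := (um_mul x.toAdd y.toAdd).symm

/-- the Weyl element -/
def wl (F : Type*) [Field F] : SpecialLinearGroup (Fin 2) F :=
  ⟨!![0, 1; -1, 0], by simp [Matrix.det_fin_two]⟩

/-- diagonal matrices -/
def dg (α : Fˣ) : SpecialLinearGroup (Fin 2) F :=
  ⟨!![(α : F), 0; 0, ((α⁻¹ : Fˣ) : F)], by simp [Matrix.det_fin_two]⟩

theorem dg_mul (α β : Fˣ) : dg α * dg β = dg (α * β) := by
  apply ext2
  · rw [mul00]; simp [dg]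
  · rw [mul01]; simp [dg]
  · rw [mul10]; simp [dg]
  · rw [mul11]; simp [dg, mul_comm]

def dgHom (F : Type*) [Field F] : Fˣ →* SpecialLinearGroup (Fin 2) F where
  toFun := dg
  map_one' := by apply ext2 <;> simp [dg]
  map_mul' α β := (dg_mul α β).symm

theorem wl_dg (α : Fˣ) : wl F * dg α * (wl F)⁻¹ = dg α⁻¹ := by
  rw [mul_inv_eq_iff_eq_mul]
  apply ext2
  · rw [mul00, mul00]; simp [dg, wl]
  · rw [mul01, mul01]; simp [dg, wl]
  · rw [mul10, mul10]; simp [dg, wl]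
  · rw [mul11, mul11]; simp [dg, wl]

theorem wl_mul_wl (A : SpecialLinearGroup (Fin 2) F) : A * (wl F * wl F) = wl F * wl F * A := by
  apply ext2 <;> simp only [mul00, mul01, mul10, mul11] <;> simp [wl]

theorem data_SL : Data (bor F) (umHom F).range (wl F) where
  w_not_mem := by
    intro h
    have : (wl F).1 1 0 = 0 := h
    simp [wl] at this
  le := by
    rintro _ ⟨x, rfl⟩
    change (um x.toAdd).1 1 0 = 0
    simp [um]
  norm := by
    rintro h hh _ ⟨x, rfl⟩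
    have hh0 : h.1 1 0 = 0 := hh
    have hdet : h.1 0 0 * h.1 1 1 = 1 := by
      have := h.2
      rw [Matrix.det_fin_two, hh0, mul_zero, sub_zero] at this
      exact this
    refine ⟨Multiplicative.ofAdd (h.1 0 0 ^ 2 * x.toAdd), ?_⟩
    change um (h.1 0 0 ^ 2 * x.toAdd) = h * um x.toAdd * h⁻¹
    rw [eq_mul_inv_iff_mul_eq]
    apply ext2
    · rw [mul00, mul00, hh0]; simp [um]
    · rw [mul01, mul01]; simp [um]
      linear_combination h.1 0 0 * x.toAdd * hdet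
    · rw [mul10, mul10, hh0]; simp [um]
    · rw [mul11, mul11, hh0]; simp [um]
  bruhat := by
    intro g hg
    have hc : g.1 1 0 ≠ 0 := hg
    refine ⟨um (g.1 0 0 / g.1 1 0), ⟨Multiplicative.ofAdd (g.1 0 0 / g.1 1 0), rfl⟩, ?_⟩
    change ((um (g.1 0 0 / g.1 1 0) * wl F)⁻¹ * g).1 1 0 = 0
    rw [mul10, (inv_entries _).2.2.1, (inv_entries _).2.2.2, mul10, mul00]
    simp [um, wl]
    field_simp
    ring
  inter := by
    rintro _ ⟨x, rfl⟩ h
    have h0 : ((wl F)⁻¹ * um x.toAdd * wl F).1 1 0 = 0 := h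
    rw [mul10, mul10, mul11, (inv_entries _).2.2.1, (inv_entries _).2.2.2] at h0
    simp [um, wl] at h0
    rw [h0, map_one]

theorem center_entries {g : SpecialLinearGroup (Fin 2) F} (hg : g ∈ center (SpecialLinearGroup (Fin 2) F)) :
    g.1 1 0 = 0 ∧ g.1 0 1 = 0 ∧ g.1 0 0 = g.1 1 1 := by
  rw [mem_center_iff] at hg
  have h1 := hg (um 1)
  have h2 := hg (wl F)
  have e1 : (um 1 * g).1 0 0 = (g * um 1).1 0 0 := by rw [h1]
  have e2 : (um 1 * g).1 0 1 = (g * um 1).1 0 1 := by rw [h1]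
  have e3 : (wl F * g).1 0 0 = (g * wl F).1 0 0 := by rw [h2]
  rw [mul00, mul00] at e1 e3
  rw [mul01, mul01] at e2
  simp [um, wl] at e1 e2 e3
  refine ⟨e1, ?_, ?_⟩
  · rw [e1] at e3
    exact (neg_eq_zero.1 e3.symm)
  · linear_combination -e2

theorem center_le : center (SpecialLinearGroup (Fin 2) F) ≤ bor F := fun _ hg => (center_entries hg).1

end Cfsg.Agent.HKS.EndL
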