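import Mathlib

/-!
# Orders of strongly split groups: arithmetic

`Ord N n d p k`: `N = (n + 1) n d` with `n = p ^ k`, `p` an odd prime not dividing `d` and `0 < d < n`.
-/

set_option autoImplicit false

namespace Cfsg.Agent.HKS.EndNum

structure Ord (N n d p k : ℕ) : Prop where
  prime : p.Prime
  ne_two : p ≠ 2
  k0 : k ≠ 0
  hn : n = p ^ k
  hd : ¬ p ∣ d
  hdn : d < n
  eq : N = (n + 1) * n * d

namespace Ord

variable {N n d p k : ℕ}

theorem n_pos (h : Ord N n d p k) : 0 < n := by rw [h.hn]; exact pow_pos h.prime.pos k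

theorem d_pos (h : Ord N n d p k) : 0 < d := by
  rcases Nat.eq_zero_or_pos d with h0 | h0
  · exact absurd (h0 ▸ dvd_zero p) h.hd
  · exact h0

theorem dvd_n (h : Ord N n d p k) : p ∣ n := by rw [h.hn]; exact dvd_pow_self p h.k0

theorem not_dvd (h : Ord N n d p k) : ¬ p ∣ (n + 1) * d := by
  intro hc
  rcases h.prime.dvd_mul.1 hc with h1 | h1
  · have := (Nat.dvd_add_right h.dvd_n).1 h1
    exact h.prime.one_lt.ne' (Nat.dvd_one.1 this)
  · exact h.hd h1

theorem lt (h : Ord N n d p k) : N < n ^ 3 := by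
  have h1 := h.hdn
  have h2 := h.n_pos
  rw [h.eq]
  obtain ⟨m, rfl⟩ : ∃ m, n = m + 1 := ⟨n - 1, by omega⟩
  have h3 : d ≤ m := by omega
  calc (m + 1 + 1) * (m + 1) * d ≤ (m + 1 + 1) * (m + 1) * m := Nat.mul_le_mul_left _ h3
    _ < (m + 1) ^ 3 := by nlinarith

theorem three_le (h : Ord N n d p k) : 3 ≤ n := by
  have h1 := h.prime.two_le
  have h2 := h.ne_two
  have h3 : p ≤ n := Nat.le_of_dvd h.n_pos h.dvd_n
  omega

theorem coprime (h : Ord N n d p k) {x : ℕ} (hx : ¬ p ∣ x) : Nat.Coprime n x := by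
  rw [h.hn]
  exact (Nat.Coprime.pow_left k ((Nat.Prime.coprime_iff_not_dvd h.prime).2 hx))

theorem dvd_N (h : Ord N n d p k) : n ∣ N := ⟨(n + 1) * d, by rw [h.eq]; ring⟩

theorem succ_dvd_N (h : Ord N n d p k) : n + 1 ∣ N := ⟨n * d, by rw [h.eq]; ring⟩

end Ord

theorem pow_eq_of_mul_eq {p i j m m' : ℕ} (hp : p.Prime) (h : p ^ i * m = p ^ j * m') (hm : ¬ p ∣ m)
    (hm' : ¬ p ∣ m') : i = j := by
  rcases lt_trichotomy i j with hij | hij | hij
  · exfalso
    obtain ⟨l, rfl⟩ := Nat.exists_eq_add_of_lt hij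
    have h1 : m = p ^ (l + 1) * m' := by
      apply Nat.eq_of_mul_eq_mul_left (pow_pos hp.pos i)
      rw [h, ← mul_assoc, ← pow_add]
      rfl
    exact hm ⟨p ^ l * m', by rw [h1, pow_succ]; ring⟩
  · exact hij
  · exfalso
    obtain ⟨l, rfl⟩ := Nat.exists_eq_add_of_lt hij
    have h1 : m' = p ^ (l + 1) * m := by
      apply Nat.eq_of_mul_eq_mul_left (pow_pos hp.pos j)
      rw [← h, ← mul_assoc, ← pow_add]
      rfl
    exact hm' ⟨p ^ l * m, by rw [h1, pow_succ]; ring⟩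

/-- small orders -/
theorem Ord.false_of_small {N n d p k : ℕ} (h : Ord N n d p k) (b : ℕ) (hb : b ^ 3 ≤ N)
    (hn : n ≤ b) : False := by
  have h1 := h.lt
  have h2 : n ^ 3 ≤ b ^ 3 := Nat.pow_le_pow_left hn 3
  omega

theorem Ord.le_of_dvd_mul {N n d p k : ℕ} (h : Ord N n d p k) {x y : ℕ} (hy : 0 < y)
    (hd : n ∣ x * y) (hx : ¬ p ∣ x) : n ≤ y :=
  Nat.le_of_dvd hy ((h.coprime hx).dvd_of_dvd_mul_left hd)

theorem not_2520 {n d p k : ℕ} (h : Ord 2520 n d p k) : False := by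
  have hp := h.prime
  have hd : p ∣ 2520 := h.dvd_n.trans h.dvd_N
  have hn : n ∣ 2520 := h.dvd_N
  have h2 := h.ne_two
  have h3 : p = 3 ∨ p = 5 ∨ p = 7 := by
    have e : 2520 = 2 ^ 3 * (3 ^ 2 * (5 * 7)) := by norm_num
    rw [e, hp.dvd_mul, hp.dvd_mul, hp.dvd_mul] at hd
    rcases hd with h4 | h4 | h4 | h4
    · exact absurd ((Nat.prime_dvd_prime_iff_eq hp Nat.prime_two).1 (hp.dvd_of_dvd_pow h4)) h2
    · exact Or.inl ((Nat.prime_dvd_prime_iff_eq hp Nat.prime_three).1 (hp.dvd_of_dvd_pow h4))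
    · exact Or.inr (Or.inl ((Nat.prime_dvd_prime_iff_eq hp Nat.prime_five).1 h4))
    · exact Or.inr (Or.inr ((Nat.prime_dvd_prime_iff_eq hp (by norm_num)).1 h4))
  rcases h3 with rfl | rfl | rfl
  · exact h.false_of_small 13 (by norm_num) ((h.le_of_dvd_mul (x := 280) (y := 9) (by norm_num)
      (by simpa using hn) (by norm_num)).trans (by norm_num))
  · exact h.false_of_small 13 (by norm_num) ((h.le_of_dvd_mul (x := 504) (y := 5) (by norm_num)
      (by simpa using hn) (by norm_num)).trans (by norm_num))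
  · exact h.false_of_small 13 (by norm_num) ((h.le_of_dvd_mul (x := 360) (y := 7) (by norm_num)
      (by simpa using hn) (by norm_num)).trans (by norm_num))

theorem not_7920 {n d p k : ℕ} (h : Ord 7920 n d p k) : False := by
  have hp := h.prime
  have hd : p ∣ 7920 := h.dvd_n.trans h.dvd_N
  have hn : n ∣ 7920 := h.dvd_N
  have h2 := h.ne_two
  have h3 : p = 3 ∨ p = 5 ∨ p = 11 := by
    have e : 7920 = 2 ^ 4 * (3 ^ 2 * (5 * 11)) := by norm_num
    rw [e, hp.dvd_mul, hp.dvd_mul, hp.dvd_mul] at hd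
    rcases hd with h4 | h4 | h4 | h4
    · exact absurd ((Nat.prime_dvd_prime_iff_eq hp Nat.prime_two).1 (hp.dvd_of_dvd_pow h4)) h2
    · exact Or.inl ((Nat.prime_dvd_prime_iff_eq hp Nat.prime_three).1 (hp.dvd_of_dvd_pow h4))
    · exact Or.inr (Or.inl ((Nat.prime_dvd_prime_iff_eq hp Nat.prime_five).1 h4))
    · exact Or.inr (Or.inr ((Nat.prime_dvd_prime_iff_eq hp (by norm_num)).1 h4))
  rcases h3 with rfl | rfl | rfl
  · exact h.false_of_small 19 (by norm_num) ((h.le_of_dvd_mul (x := 880) (y := 9) (by norm_num)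
      (by simpa using hn) (by norm_num)).trans (by norm_num))
  · exact h.false_of_small 19 (by norm_num) ((h.le_of_dvd_mul (x := 1584) (y := 5) (by norm_num)
      (by simpa using hn) (by norm_num)).trans (by norm_num))
  · exact h.false_of_small 19 (by norm_num) ((h.le_of_dvd_mul (x := 720) (y := 11) (by norm_num)
      (by simpa using hn) (by norm_num)).trans (by norm_num))

theorem not_175560 {n d p k : ℕ} (h : Ord 175560 n d p k) : False := by
  have hp := h.prime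
  have hd : p ∣ 175560 := h.dvd_n.trans h.dvd_N
  have hn : n ∣ 175560 := h.dvd_N
  have h2 := h.ne_two
  have h3 : p = 3 ∨ p = 5 ∨ p = 7 ∨ p = 11 ∨ p = 19 := by
    have e : 175560 = 2 ^ 3 * (3 * (5 * (7 * (11 * 19)))) := by norm_num
    rw [e, hp.dvd_mul, hp.dvd_mul, hp.dvd_mul, hp.dvd_mul, hp.dvd_mul] at hd
    rcases hd with h4 | h4 | h4 | h4 | h4 | h4
    · exact absurd ((Nat.prime_dvd_prime_iff_eq hp Nat.prime_two).1 (hp.dvd_of_dvd_pow h4)) h2
    · exact Or.inl ((Nat.prime_dvd_prime_iff_eq hp Nat.prime_three).1 h4)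
    · exact Or.inr (Or.inl ((Nat.prime_dvd_prime_iff_eq hp Nat.prime_five).1 h4))
    · exact Or.inr (Or.inr (Or.inl ((Nat.prime_dvd_prime_iff_eq hp (by norm_num)).1 h4)))
    · exact Or.inr (Or.inr (Or.inr (Or.inl ((Nat.prime_dvd_prime_iff_eq hp (by norm_num)).1 h4))))
    · exact Or.inr (Or.inr (Or.inr (Or.inr ((Nat.prime_dvd_prime_iff_eq hp (by norm_num)).1 h4))))
  rcases h3 with rfl | rfl | rfl | rfl | rfl
  · exact h.false_of_small 50 (by norm_num) ((h.le_of_dvd_mul (x := 58520) (y := 3) (by norm_num)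
      (by simpa using hn) (by norm_num)).trans (by norm_num))
  · exact h.false_of_small 50 (by norm_num) ((h.le_of_dvd_mul (x := 35112) (y := 5) (by norm_num)
      (by simpa using hn) (by norm_num)).trans (by norm_num))
  · exact h.false_of_small 50 (by norm_num) ((h.le_of_dvd_mul (x := 25080) (y := 7) (by norm_num)
      (by simpa using hn) (by norm_num)).trans (by norm_num))
  · exact h.false_of_small 50 (by norm_num) ((h.le_of_dvd_mul (x := 15960) (y := 11) (by norm_num)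
      (by simpa using hn) (by norm_num)).trans (by norm_num))
  · exact h.false_of_small 50 (by norm_num) ((h.le_of_dvd_mul (x := 9240) (y := 19) (by norm_num)
      (by simpa using hn) (by norm_num)).trans (by norm_num))

theorem not_62400 {n d p k : ℕ} (h : Ord 62400 n d p k) : False := by
  have hp := h.prime
  have hd : p ∣ 62400 := h.dvd_n.trans h.dvd_N
  have hn : n ∣ 62400 := h.dvd_N
  have h2 := h.ne_two
  have h3 : p = 3 ∨ p = 5 ∨ p = 13 := by
    have e : 62400 = 2 ^ 6 * (3 * (5 ^ 2 * 13)) := by norm_num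
    rw [e, hp.dvd_mul, hp.dvd_mul, hp.dvd_mul] at hd
    rcases hd with h4 | h4 | h4 | h4
    · exact absurd ((Nat.prime_dvd_prime_iff_eq hp Nat.prime_two).1 (hp.dvd_of_dvd_pow h4)) h2
    · exact Or.inl ((Nat.prime_dvd_prime_iff_eq hp Nat.prime_three).1 h4)
    · exact Or.inr (Or.inl ((Nat.prime_dvd_prime_iff_eq hp Nat.prime_five).1 (hp.dvd_of_dvd_pow h4)))
    · exact Or.inr (Or.inr ((Nat.prime_dvd_prime_iff_eq hp (by norm_num)).1 h4))
  rcases h3 with rfl | rfl | rfl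
  · exact h.false_of_small 39 (by norm_num) ((h.le_of_dvd_mul (x := 20800) (y := 3) (by norm_num)
      (by simpa using hn) (by norm_num)).trans (by norm_num))
  · exact h.false_of_small 39 (by norm_num) ((h.le_of_dvd_mul (x := 2496) (y := 25) (by norm_num)
      (by simpa using hn) (by norm_num)).trans (by norm_num))
  · exact h.false_of_small 39 (by norm_num) ((h.le_of_dvd_mul (x := 4800) (y := 13) (by norm_num)
      (by simpa using hn) (by norm_num)).trans (by norm_num))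

/-- `|PSL(2, r)|`, `r = 2 v + 1` odd. -/
theorem psl_two {N n d p k v s f : ℕ} (h : Ord N n d p k) (hs : s.Prime) (hr : 2 * v + 1 = s ^ f)
    (hv : 0 < v) (hN : 2 * N = (2 * v + 1) * ((2 * v) * (2 * v + 2))) :
    n = 2 * v + 1 ∧ d = v := by
  have hp := h.prime
  have hN' : N = (2 * v + 1) * (2 * (v * (v + 1))) := by
    have : 2 * N = 2 * ((2 * v + 1) * (2 * (v * (v + 1)))) := by rw [hN]; ring
    omega
  by_cases hpr : p ∣ 2 * v + 1
  · have hps : p = s := by
      rw [hr] at hpr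
      exact (Nat.prime_dvd_prime_iff_eq hp hs).1 (hp.dvd_of_dvd_pow hpr)
    subst hps
    have h1 : ¬ p ∣ 2 * (v * (v + 1)) := by
      intro hc
      have h2 : p ∣ (2 * v) * (2 * v + 2) := by
        have : (2 * v) * (2 * v + 2) = 2 * (2 * (v * (v + 1))) := by ring
        rw [this]
        exact hc.mul_left 2
      rcases hp.dvd_mul.1 h2 with h3 | h3
      · have := (Nat.dvd_add_right h3).1 hpr
        exact hp.one_lt.ne' (Nat.dvd_one.1 this)
      · have h4 : p ∣ 2 * v + 1 + 1 := h3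
        have := (Nat.dvd_add_right hpr).1 h4
        exact hp.one_lt.ne' (Nat.dvd_one.1 this)
    have h3 : p ^ k * ((n + 1) * d) = p ^ f * (2 * (v * (v + 1))) := by
      rw [← hr, ← h.hn, ← hN', h.eq]
      ring
    have h4 := pow_eq_of_mul_eq hp h3 h.not_dvd h1
    have h5 : n = 2 * v + 1 := by rw [h.hn, h4, ← hr]
    refine ⟨h5, ?_⟩
    rw [h4] at h3
    have h6 := Nat.eq_of_mul_eq_mul_left (pow_pos hp.pos f) h3
    rw [h5] at h6
    have h7 : (2 * (v + 1)) * d = (2 * (v + 1)) * v := by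
      calc (2 * (v + 1)) * d = (2 * v + 1 + 1) * d := by ring
        _ = 2 * (v * (v + 1)) := h6
        _ = _ := by ring
    exact Nat.eq_of_mul_eq_mul_left (by omega) h7
  · exfalso
    have h1 : n ∣ (2 * v + 1) * (2 * (v * (v + 1))) := hN' ▸ h.dvd_N
    have h2 : n ∣ 2 * (v * (v + 1)) := (h.coprime hpr).dvd_of_dvd_mul_left h1
    have h3 : n ∣ v * (v + 1) := (h.coprime (fun hc => h.ne_two
      ((Nat.prime_dvd_prime_iff_eq hp Nat.prime_two).1 hc))).dvd_of_dvd_mul_left h2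
    have h4 : n ≤ v + 1 := by
      by_cases hpv : p ∣ v
      · have h5 : ¬ p ∣ v + 1 := fun hc => hp.one_lt.ne' (Nat.dvd_one.1 ((Nat.dvd_add_right hpv).1 hc))
        have := Nat.le_of_dvd hv ((h.coprime h5).dvd_of_dvd_mul_right h3)
        omega
      · exact Nat.le_of_dvd (by omega) ((h.coprime hpv).dvd_of_dvd_mul_left h3)
    refine h.false_of_small (v + 1) ?_ h4
    rw [hN']
    obtain ⟨u, rfl⟩ : ∃ u, v = u + 1 := ⟨v - 1, by omega⟩
    nlinarith [Nat.zero_le (u ^ 3), Nat.zero_le (u ^ 2), Nat.zero_le u]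

/-- `|PSL(3, r)|`, `r = t + 1`. -/
theorem psl_three {N n d p k t g s f : ℕ} (h : Ord N n d p k) (hs : s.Prime) (hr : t + 1 = s ^ f)
    (ht : 2 ≤ t) (hg : g = Nat.gcd 3 t)
    (hN : g * N = (t + 1) ^ 3 * (t ^ 2 * ((t + 2) * (t ^ 2 + 3 * t + 3)))) : False := by
  have hp := h.prime
  have hg3 : g ∣ 3 := hg ▸ Nat.gcd_dvd_left 3 t
  have hgt : g ∣ t := hg ▸ Nat.gcd_dvd_right 3 t
  have hgc : g = 1 ∨ g = 3 := (Nat.dvd_prime Nat.prime_three).1 hg3
  have e3 : t ^ 2 + 3 * t + 3 = (t + 2) * (t + 1) + 1 := by ring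
  by_cases hpr : p ∣ t + 1
  · have hps : p = s := by
      rw [hr] at hpr
      exact (Nat.prime_dvd_prime_iff_eq hp hs).1 (hp.dvd_of_dvd_pow hpr)
    subst hps
    have a1 : ¬ p ∣ t := fun hc => hp.one_lt.ne' (Nat.dvd_one.1 ((Nat.dvd_add_right hc).1 hpr))
    have a2 : ¬ p ∣ t + 2 := by
      intro hc
      have : p ∣ t + 1 + 1 := hc
      exact hp.one_lt.ne' (Nat.dvd_one.1 ((Nat.dvd_add_right hpr).1 this))
    have a3 : ¬ p ∣ t ^ 2 + 3 * t + 3 := by
      rw [e3]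
      intro hc
      exact hp.one_lt.ne' (Nat.dvd_one.1 ((Nat.dvd_add_right (hpr.mul_left _)).1 hc))
    have a4 : ¬ p ∣ g := fun hc => a1 (hc.trans hgt)
    have a5 : ¬ p ∣ t ^ 2 * ((t + 2) * (t ^ 2 + 3 * t + 3)) := by
      intro hc
      rcases hp.dvd_mul.1 hc with h1 | h1
      · exact a1 (hp.dvd_of_dvd_pow h1)
      · rcases hp.dvd_mul.1 h1 with h2 | h2
        · exact a2 h2
        · exact a3 h2
    have a6 : ¬ p ∣ g * ((n + 1) * d) := by
      intro hc
      rcases hp.dvd_mul.1 hc with h1 | h1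
      · exact a4 h1
      · exact h.not_dvd h1
    have h3 : p ^ k * (g * ((n + 1) * d)) =
        p ^ (f * 3) * (t ^ 2 * ((t + 2) * (t ^ 2 + 3 * t + 3))) := by
      rw [pow_mul, ← hr, ← h.hn, ← hN, h.eq]
      ring
    have h4 := pow_eq_of_mul_eq hp h3 a6 a5
    have h5 : n = (t + 1) ^ 3 := by rw [h.hn, h4, pow_mul, ← hr]
    rw [h4] at h3
    have h6 := Nat.eq_of_mul_eq_mul_left (pow_pos hp.pos (f * 3)) h3
    rw [h5] at h6
    have h7 : (t + 2) * (g * d * (t ^ 2 + t + 1)) = (t + 2) * (t ^ 2 * (t ^ 2 + 3 * t + 3)) := by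
      calc (t + 2) * (g * d * (t ^ 2 + t + 1)) = g * (((t + 1) ^ 3 + 1) * d) := by ring
        _ = t ^ 2 * ((t + 2) * (t ^ 2 + 3 * t + 3)) := h6
        _ = _ := by ring
    have h8 := Nat.eq_of_mul_eq_mul_left (by omega) h7
    have h9 : t ^ 2 + t + 1 ∣ t ^ 2 * (t ^ 2 + 3 * t + 3) := ⟨g * d, by rw [← h8]; ring⟩
    have h10 : t ^ 2 + t + 1 ∣ t ^ 2 * (t ^ 2 + 3 * t + 3) + 2 * t :=
      ⟨t ^ 2 + 2 * t, by ring⟩
    have h11 := (Nat.dvd_add_right h9).1 h10
    have h12 := Nat.le_of_dvd (by omega) h11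
    nlinarith
  · have hnd : n ∣ g * N := h.dvd_N.mul_left g
    rw [hN] at hnd
    have hcop : ¬ p ∣ (t + 1) ^ 3 := fun hc => hpr (hp.dvd_of_dvd_pow hc)
    have h1 : n ∣ t ^ 2 * ((t + 2) * (t ^ 2 + 3 * t + 3)) :=
      (h.coprime hcop).dvd_of_dvd_mul_left hnd
    have hle : n ≤ t ^ 2 + 3 * t + 3 := by
      by_cases hpt : p ∣ t
      · have b1 : ¬ p ∣ t + 2 := fun hc => h.ne_two
          ((Nat.prime_dvd_prime_iff_eq hp Nat.prime_two).1 ((Nat.dvd_add_right hpt).1 hc))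
        by_cases b2 : p ∣ t ^ 2 + 3 * t + 3
        · have b3 : p = 3 := by
            have b4 : p ∣ t ^ 2 + 3 * t := by
              have : t ^ 2 + 3 * t = t * (t + 3) := by ring
              rw [this]
              exact hpt.mul_right _
            exact (Nat.prime_dvd_prime_iff_eq hp Nat.prime_three).1 ((Nat.dvd_add_right b4).1 b2)
          subst b3
          have b5 : g = 3 := by
            rcases hgc with b6 | b6
            · rw [hg, Nat.gcd_eq_left hpt] at b6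
              omega
            · exact b6
          obtain ⟨u, rfl⟩ := hpt
          have b7 : 3 * N = 3 * ((3 * u + 1) ^ 3 * ((3 * u) ^ 2 * ((3 * u + 2) *
              (3 * u ^ 2 + 3 * u + 1)))) := by
            rw [← b5, hN, b5]
            ring
          have b8 := Nat.eq_of_mul_eq_mul_left (by omega) b7
          have b9 : n ∣ (3 * u + 1) ^ 3 * ((3 * u) ^ 2 * ((3 * u + 2) * (3 * u ^ 2 + 3 * u + 1))) :=
            b8 ▸ h.dvd_N
          have c1 := (h.coprime hcop).dvd_of_dvd_mul_left b9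
          have c2 : ¬ 3 ∣ (3 * u + 2) * (3 * u ^ 2 + 3 * u + 1) := by
            intro hc
            rcases hp.dvd_mul.1 hc with c3 | c3
            · omega
            · have : 3 ∣ 3 * (u ^ 2 + u) + 1 := by
                have e : 3 * (u ^ 2 + u) + 1 = 3 * u ^ 2 + 3 * u + 1 := by ring
                rw [e]; exact c3
              omega
          have c4 := (h.coprime c2).dvd_of_dvd_mul_right c1
          have c5 := Nat.le_of_dvd (by positivity) c4
          exact c5.trans (by nlinarith)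
        · have b3 : ¬ p ∣ (t + 2) * (t ^ 2 + 3 * t + 3) := by
            intro hc
            rcases hp.dvd_mul.1 hc with b4 | b4
            · exact b1 b4
            · exact b2 b4
          have b4 := (h.coprime b3).dvd_of_dvd_mul_right h1
          exact (Nat.le_of_dvd (by positivity) b4).trans (by nlinarith)
      · have b1 : ¬ p ∣ t ^ 2 := fun hc => hpt (hp.dvd_of_dvd_pow hc)
        have b2 := (h.coprime b1).dvd_of_dvd_mul_left h1
        by_cases b3 : p ∣ t + 2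
        · have b4 : ¬ p ∣ t ^ 2 + 3 * t + 3 := by
            rw [e3]
            intro hc
            exact hp.one_lt.ne' (Nat.dvd_one.1 ((Nat.dvd_add_right (b3.mul_right _)).1 hc))
          have b5 := (h.coprime b4).dvd_of_dvd_mul_right b2
          exact (Nat.le_of_dvd (by positivity) b5).trans (by nlinarith)
        · exact Nat.le_of_dvd (by positivity) ((h.coprime b3).dvd_of_dvd_mul_left b2)
    have hlt := h.lt
    have h5 : n ^ 3 ≤ (t ^ 2 + 3 * t + 3) ^ 3 := Nat.pow_le_pow_left hle 3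
    have h6 : N < (t ^ 2 + 3 * t + 3) ^ 3 := lt_of_lt_of_le hlt h5
    obtain ⟨u, rfl⟩ : ∃ u, t = u + 2 := ⟨t - 2, by omega⟩
    rcases hgc with hg1 | hg1
    · rw [hg1, one_mul] at hN
      rw [hN] at h6
      have h7 : ((u + 2) ^ 2 + 3 * (u + 2) + 3) ^ 2 ≤ (u + 2 + 1) ^ 3 * ((u + 2) ^ 2 * (u + 2 + 2)) := by
        ring_nf
        nlinarith [Nat.zero_le (u ^ 6), Nat.zero_le (u ^ 5), Nat.zero_le (u ^ 4), Nat.zero_le (u ^ 3),
          Nat.zero_le (u ^ 2), Nat.zero_le u]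
      have h8 := Nat.mul_le_mul_right ((u + 2) ^ 2 + 3 * (u + 2) + 3) h7
      have h9 : ((u + 2) ^ 2 + 3 * (u + 2) + 3) ^ 2 * ((u + 2) ^ 2 + 3 * (u + 2) + 3) =
        ((u + 2) ^ 2 + 3 * (u + 2) + 3) ^ 3 := by ring
      have h10 : (u + 2 + 1) ^ 3 * ((u + 2) ^ 2 * (u + 2 + 2)) * ((u + 2) ^ 2 + 3 * (u + 2) + 3) =
        (u + 2 + 1) ^ 3 * ((u + 2) ^ 2 * ((u + 2 + 2) * ((u + 2) ^ 2 + 3 * (u + 2) + 3))) := by ring
      rw [h9, h10] at h8
      omega
    · obtain ⟨v, rfl⟩ : ∃ v, u = v + 1 := by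
        refine ⟨u - 1, ?_⟩
        have : 3 ∣ u + 2 := hg1 ▸ hgt
        omega
      have h7 : 3 * ((v + 1 + 2) ^ 2 + 3 * (v + 1 + 2) + 3) ^ 2 ≤
          (v + 1 + 2 + 1) ^ 3 * ((v + 1 + 2) ^ 2 * (v + 1 + 2 + 2)) := by
        ring_nf
        nlinarith [Nat.zero_le (v ^ 6), Nat.zero_le (v ^ 5), Nat.zero_le (v ^ 4), Nat.zero_le (v ^ 3),
          Nat.zero_le (v ^ 2), Nat.zero_le v]
      have h8 := Nat.mul_le_mul_right ((v + 1 + 2) ^ 2 + 3 * (v + 1 + 2) + 3) h7
      have h9 : 3 * ((v + 1 + 2) ^ 2 + 3 * (v + 1 + 2) + 3) ^ 2 * ((v + 1 + 2) ^ 2 + 3 * (v + 1 + 2) + 3) =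
        3 * ((v + 1 + 2) ^ 2 + 3 * (v + 1 + 2) + 3) ^ 3 := by ring
      have h10 : (v + 1 + 2 + 1) ^ 3 * ((v + 1 + 2) ^ 2 * (v + 1 + 2 + 2)) *
        ((v + 1 + 2) ^ 2 + 3 * (v + 1 + 2) + 3) =
        (v + 1 + 2 + 1) ^ 3 * ((v + 1 + 2) ^ 2 * ((v + 1 + 2 + 2) *
          ((v + 1 + 2) ^ 2 + 3 * (v + 1 + 2) + 3))) := by ring
      rw [h9, h10, ← hN, hg1] at h8
      omega

/-- `|PSU(3, r)|`, `r = t + 1` odd. -/
theorem psu_three {N n d p k t g s f : ℕ} (h : Ord N n d p k) (hs : s.Prime) (hr : t + 1 = s ^ f)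
    (ht : 2 ≤ t) (ht2 : 2 ∣ t) (hg : g = Nat.gcd 3 (t + 2))
    (hN : g * N = (t + 1) ^ 3 * (t * ((t + 2) ^ 2 * (t ^ 2 + t + 1)))) :
    n = (t + 1) ^ 3 ∧ g * d = t * (t + 2) := by
  have hp := h.prime
  have hg3 : g ∣ 3 := hg ▸ Nat.gcd_dvd_left 3 _
  have hgt : g ∣ t + 2 := hg ▸ Nat.gcd_dvd_right 3 _
  have hgc : g = 1 ∨ g = 3 := (Nat.dvd_prime Nat.prime_three).1 hg3
  have e3 : t ^ 2 + t + 1 = t * (t + 1) + 1 := by ring
  by_cases hpr : p ∣ t + 1
  · have hps : p = s := by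
      rw [hr] at hpr
      exact (Nat.prime_dvd_prime_iff_eq hp hs).1 (hp.dvd_of_dvd_pow hpr)
    subst hps
    have a1 : ¬ p ∣ t := fun hc => hp.one_lt.ne' (Nat.dvd_one.1 ((Nat.dvd_add_right hc).1 hpr))
    have a2 : ¬ p ∣ t + 2 := by
      intro hc
      have : p ∣ t + 1 + 1 := hc
      exact hp.one_lt.ne' (Nat.dvd_one.1 ((Nat.dvd_add_right hpr).1 this))
    have a3 : ¬ p ∣ t ^ 2 + t + 1 := by
      rw [e3]
      intro hc
      exact hp.one_lt.ne' (Nat.dvd_one.1 ((Nat.dvd_add_right (hpr.mul_left _)).1 hc))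
    have a4 : ¬ p ∣ g := fun hc => a2 (hc.trans hgt)
    have a5 : ¬ p ∣ t * ((t + 2) ^ 2 * (t ^ 2 + t + 1)) := by
      intro hc
      rcases hp.dvd_mul.1 hc with h1 | h1
      · exact a1 h1
      · rcases hp.dvd_mul.1 h1 with h2 | h2
        · exact a2 (hp.dvd_of_dvd_pow h2)
        · exact a3 h2
    have a6 : ¬ p ∣ g * ((n + 1) * d) := by
      intro hc
      rcases hp.dvd_mul.1 hc with h1 | h1
      · exact a4 h1
      · exact h.not_dvd h1
    have h3 : p ^ k * (g * ((n + 1) * d)) =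
        p ^ (f * 3) * (t * ((t + 2) ^ 2 * (t ^ 2 + t + 1))) := by
      rw [pow_mul, ← hr, ← h.hn, ← hN, h.eq]
      ring
    have h4 := pow_eq_of_mul_eq hp h3 a6 a5
    have h5 : n = (t + 1) ^ 3 := by rw [h.hn, h4, pow_mul, ← hr]
    rw [h4] at h3
    have h6 := Nat.eq_of_mul_eq_mul_left (pow_pos hp.pos (f * 3)) h3
    refine ⟨h5, ?_⟩
    rw [h5] at h6
    have h7 : ((t + 2) * (t ^ 2 + t + 1)) * (g * d) = ((t + 2) * (t ^ 2 + t + 1)) * (t * (t + 2)) := by
      calc ((t + 2) * (t ^ 2 + t + 1)) * (g * d) = g * (((t + 1) ^ 3 + 1) * d) := by ring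
        _ = t * ((t + 2) ^ 2 * (t ^ 2 + t + 1)) := h6
        _ = _ := by ring
    exact Nat.eq_of_mul_eq_mul_left (by positivity) h7
  · exfalso
    have hnd : n ∣ g * N := h.dvd_N.mul_left g
    rw [hN] at hnd
    have hcop : ¬ p ∣ (t + 1) ^ 3 := fun hc => hpr (hp.dvd_of_dvd_pow hc)
    have h1 : n ∣ t * ((t + 2) ^ 2 * (t ^ 2 + t + 1)) :=
      (h.coprime hcop).dvd_of_dvd_mul_left hnd
    have hp2 : ¬ p ∣ 2 := fun hc => h.ne_two ((Nat.prime_dvd_prime_iff_eq hp Nat.prime_two).1 hc)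
    -- the case `n ∣ (t + 2)²`
    have hhalf : n ∣ (t + 2) ^ 2 → n ≤ t ^ 2 + t + 1 := by
      intro hc
      obtain ⟨v, rfl⟩ := ht2
      have c1 : (2 * v + 2) ^ 2 = 2 ^ 2 * (v + 1) ^ 2 := by ring
      rw [c1] at hc
      have c2 := (h.coprime (fun hc => hp2 (hp.dvd_of_dvd_pow hc))).dvd_of_dvd_mul_left hc
      exact (Nat.le_of_dvd (by positivity) c2).trans (by nlinarith)
    have hle : n ≤ t ^ 2 + t + 1 := by
      by_cases hpt : p ∣ t + 2
      · have b1 : ¬ p ∣ t := fun hc => hp2 ((Nat.dvd_add_right hc).1 hpt)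
        by_cases b2 : p ∣ t ^ 2 + t + 1
        · have b3 : p = 3 := by
            have b4 : p ∣ t ^ 2 + t + 1 + 2 * (t + 2) := b2.add (hpt.mul_left 2)
            have b5 : t ^ 2 + t + 1 + 2 * (t + 2) = (t + 2) * (t + 1) + 3 := by ring
            rw [b5] at b4
            exact (Nat.prime_dvd_prime_iff_eq hp Nat.prime_three).1
              ((Nat.dvd_add_right (hpt.mul_right _)).1 b4)
          subst b3
          have b5 : g = 3 := by
            rcases hgc with b6 | b6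
            · rw [hg, Nat.gcd_eq_left hpt] at b6
              omega
            · exact b6
          obtain ⟨u, rfl⟩ : ∃ u, t = 3 * u + 1 := ⟨t / 3, by omega⟩
          have b7 : 3 * N = 3 * ((3 * u + 1 + 1) ^ 3 * ((3 * u + 1) * ((3 * u + 1 + 2) ^ 2 *
              (3 * u ^ 2 + 3 * u + 1)))) := by
            rw [← b5, hN, b5]
            ring
          have b8 := Nat.eq_of_mul_eq_mul_left (by omega) b7
          have b9 : n ∣ (3 * u + 1 + 1) ^ 3 * ((3 * u + 1) * ((3 * u + 1 + 2) ^ 2 *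
              (3 * u ^ 2 + 3 * u + 1))) := b8 ▸ h.dvd_N
          have c1 := (h.coprime hcop).dvd_of_dvd_mul_left b9
          have c2 := (h.coprime b1).dvd_of_dvd_mul_left c1
          have c3 : ¬ 3 ∣ 3 * u ^ 2 + 3 * u + 1 := by
            intro hc
            have : 3 ∣ 3 * (u ^ 2 + u) + 1 := by
              have e : 3 * (u ^ 2 + u) + 1 = 3 * u ^ 2 + 3 * u + 1 := by ring
              rw [e]; exact hc
            omega
          exact hhalf ((h.coprime c3).dvd_of_dvd_mul_right c2)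
        · have b4 := (h.coprime b1).dvd_of_dvd_mul_left h1
          exact hhalf ((h.coprime b2).dvd_of_dvd_mul_right b4)
      · have b1 : ¬ p ∣ (t + 2) ^ 2 := fun hc => hpt (hp.dvd_of_dvd_pow hc)
        have b2 : n ∣ (t + 2) ^ 2 * (t * (t ^ 2 + t + 1)) := by
          have : (t + 2) ^ 2 * (t * (t ^ 2 + t + 1)) = t * ((t + 2) ^ 2 * (t ^ 2 + t + 1)) := by ring
          rw [this]; exact h1
        have b3 := (h.coprime b1).dvd_of_dvd_mul_left b2
        by_cases b4 : p ∣ t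
        · have b5 : ¬ p ∣ t ^ 2 + t + 1 := by
            rw [e3]
            intro hc
            exact hp.one_lt.ne' (Nat.dvd_one.1 ((Nat.dvd_add_right (b4.mul_right _)).1 hc))
          exact (Nat.le_of_dvd (by omega) ((h.coprime b5).dvd_of_dvd_mul_right b3)).trans (by nlinarith)
        · exact Nat.le_of_dvd (by positivity) ((h.coprime b4).dvd_of_dvd_mul_left b3)
    have hlt := h.lt
    have h5 : n ^ 3 ≤ (t ^ 2 + t + 1) ^ 3 := Nat.pow_le_pow_left hle 3
    have h6 : N < (t ^ 2 + t + 1) ^ 3 := lt_of_lt_of_le hlt h5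
    have h7 : 3 * (t ^ 2 + t + 1) ^ 2 ≤ (t + 1) ^ 3 * (t * (t + 2) ^ 2) := by
      obtain ⟨u, rfl⟩ : ∃ u, t = u + 2 := ⟨t - 2, by omega⟩
      ring_nf
      nlinarith [Nat.zero_le (u ^ 6), Nat.zero_le (u ^ 5), Nat.zero_le (u ^ 4), Nat.zero_le (u ^ 3),
        Nat.zero_le (u ^ 2), Nat.zero_le u]
    have h8 := Nat.mul_le_mul_right (t ^ 2 + t + 1) h7
    have h9 : 3 * (t ^ 2 + t + 1) ^ 2 * (t ^ 2 + t + 1) = 3 * (t ^ 2 + t + 1) ^ 3 := by ring
    have h10 : (t + 1) ^ 3 * (t * (t + 2) ^ 2) * (t ^ 2 + t + 1) =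
      (t + 1) ^ 3 * (t * ((t + 2) ^ 2 * (t ^ 2 + t + 1))) := by ring
    rw [h9, h10, ← hN] at h8
    rcases hgc with hg1 | hg1 <;> rw [hg1] at h8 <;> omega

end Cfsg.Agent.HKS.EndNum
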