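import Mathlib
import Cfsg.Agent.HKS.FrameCount
import Cfsg.Agent.LieRecognition.RankOneAbstract

/-!
# Transport of the data of a strongly split 2-transitive group to a model

If `G` is isomorphic to a group `L` with a rank-one structure `Data H S w` and `U a`, `S` are Sylow
`p`-subgroups of the same order, the isomorphism can be chosen to match `U a`, the stabiliser of `a`
and the stabiliser of `b` with `S`, `H` and `w H w⁻¹`.
-/

set_option autoImplicit false

namespace Cfsg.Agent.HKS.EndT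

open Subgroup MulAction
open Cfsg.Agent.LieRecognition.RankOneAbstract (Data)

section Norm

variable {G Ω : Type*} [Group G] [MulAction G Ω] {U : Ω → Subgroup G}

theorem smul_eq_of_norm (h : SSplit U) {a : Ω} {g : G} (hg : ∀ x ∈ U a, g⁻¹ * x * g ∈ U a) :
    g • a = a := by
  by_contra hne
  obtain ⟨b, hb, hb'⟩ := h.three a (g • a)
  obtain ⟨x, hx, hxb⟩ := h.trans hne hb
  have h1 := h.fix (hg x hx)
  rw [mul_smul, mul_smul, hxb, inv_smul_eq_iff] at h1
  exact hb' h1

theorem mem_norm_iff (h : SSplit U) {a : Ω} {g : G} :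
    g • a = a ↔ ∀ x : G, x ∈ U a ↔ g⁻¹ * x * g ∈ U a := by
  constructor
  · intro hg x
    constructor
    · exact fun hx => h.conj_of_fix' hg hx
    · intro hx
      have h1 := h.conj_of_fix hg hx
      have h2 : g * (g⁻¹ * x * g) * g⁻¹ = x := by group
      rwa [h2] at h1
  · intro hg
    exact smul_eq_of_norm h fun x hx => (hg x).1 hx

end Norm

section Model

variable {L : Type*} [Group L] {H S : Subgroup L} {w : L}

theorem data_mem_of_norm (D : Data H S w) (hS : S ≠ ⊥) {g : L} (hg : ∀ s ∈ S, g⁻¹ * s * g ∈ S) :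
    g ∈ H := by
  by_contra hgH
  apply hS
  rw [eq_bot_iff]
  intro x hx
  obtain ⟨s, hs, hm⟩ := D.bruhat g hgH
  have h1 : s * x * s⁻¹ ∈ S := S.mul_mem (S.mul_mem hs hx) (S.inv_mem hs)
  have h2 := D.le (hg _ h1)
  have h3 : ((s * w)⁻¹ * g) * (g⁻¹ * (s * x * s⁻¹) * g) * ((s * w)⁻¹ * g)⁻¹ = w⁻¹ * x * w := by
    group
  have h4 : w⁻¹ * x * w ∈ H := by
    rw [← h3]
    exact H.mul_mem (H.mul_mem hm h2) (H.inv_mem hm)
  exact mem_bot.2 (D.inter x hx h4)

theorem data_norm_iff (D : Data H S w) (hS : S ≠ ⊥) {g : L} :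
    g ∈ H ↔ ∀ x : L, x ∈ S ↔ g⁻¹ * x * g ∈ S := by
  constructor
  · intro hg x
    constructor
    · intro hx
      have := D.norm _ (H.inv_mem hg) x hx
      rwa [inv_inv] at this
    · intro hx
      have := D.norm _ hg _ hx
      have h2 : g * (g⁻¹ * x * g) * g⁻¹ = x := by group
      rwa [h2] at this
  · intro hg
    exact data_mem_of_norm D hS fun x hx => (hg x).1 hx

end Model

/-- Sylow subgroups given by their order. -/
theorem exists_sylow {G : Type*} [Group G] [Finite G] {p k m : ℕ} [Fact p.Prime] {P : Subgroup G}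
    (hP : Nat.card P = p ^ k) (hG : Nat.card G = p ^ k * m) (hm : ¬ p ∣ m) :
    ∃ T : Sylow p G, (T : Subgroup G) = P := by
  have hp : p.Prime := Fact.out
  have hm0 : m ≠ 0 := by
    rintro rfl
    exact hm (dvd_zero p)
  have h1 : (Nat.card G).factorization p = k := by
    rw [hG, Nat.factorization_mul (pow_ne_zero _ hp.ne_zero) hm0, Finsupp.add_apply,
      hp.factorization_pow, Finsupp.single_eq_same, Nat.factorization_eq_zero_of_not_dvd hm,
      add_zero]
  refine ⟨Sylow.ofCard P (by rw [hP, h1]), rfl⟩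

/-- **Transport.** -/
theorem exists_transport {G Ω L : Type*} [Group G] [MulAction G Ω] [Group L] [Finite G] [Finite L]
    {U : Ω → Subgroup G} (h : SSplit U) {H S : Subgroup L} {w : L} (D : Data H S w)
    (e : G ≃* L) {p k m : ℕ} [Fact p.Prime] (hk : k ≠ 0) {a b : Ω} (hab : b ≠ a)
    (hU : Nat.card (U a) = p ^ k) (hS : Nat.card S = p ^ k) (hG : Nat.card G = p ^ k * m)
    (hm : ¬ p ∣ m) :
    ∃ f : G ≃* L, (∀ g, f g ∈ S ↔ g ∈ U a) ∧ (∀ g, f g ∈ H ↔ g • a = a) ∧
      (∀ g, w⁻¹ * f g * w ∈ H ↔ g • b = b) ∧ ∀ g, f g = w → g • a = b := by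
  have hp : p.Prime := Fact.out
  have hS1 : S ≠ ⊥ := by
    rintro rfl
    rw [card_bot] at hS
    have := Nat.one_lt_pow hk hp.one_lt
    omega
  obtain ⟨P, hP⟩ := exists_sylow hU hG hm
  obtain ⟨T, hT⟩ := exists_sylow hS ((Nat.card_congr e.toEquiv).symm.trans hG) hm
  -- the image of `U a`
  have hcU : Nat.card ((U a).map e.toMonoidHom) = p ^ k := by
    rw [← hU]
    exact Nat.card_congr ((U a).equivMapOfInjective e.toMonoidHom e.injective).symm.toEquiv
  obtain ⟨T', hT'⟩ := exists_sylow hcU ((Nat.card_congr e.toEquiv).symm.trans hG) hm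
  obtain ⟨l, hl⟩ := MulAction.exists_smul_eq L T' T
  have hl' : ∀ x, x ∈ (U a).map e.toMonoidHom ↔ l * x * l⁻¹ ∈ S := by
    intro x
    rw [← hT, ← hT', ← hl]
    constructor
    · intro hx
      rw [Sylow.coe_subgroup_smul, Subgroup.mem_pointwise_smul_iff_inv_smul_mem]
      change (MulAut.conj l)⁻¹ (l * x * l⁻¹) ∈ _
      rw [← map_inv, MulAut.conj_apply]
      have : l⁻¹ * (l * x * l⁻¹) * l⁻¹⁻¹ = x := by group
      rw [this]
      exact hx
    · intro hx
      rw [Sylow.coe_subgroup_smul, Subgroup.mem_pointwise_smul_iff_inv_smul_mem] at hx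
      change (MulAut.conj l)⁻¹ (l * x * l⁻¹) ∈ _ at hx
      rw [← map_inv, MulAut.conj_apply] at hx
      have : l⁻¹ * (l * x * l⁻¹) * l⁻¹⁻¹ = x := by group
      rw [this] at hx
      exact hx
  let f₁ : G ≃* L := e.trans (MulAut.conj l)
  have hf₁ : ∀ g, f₁ g = l * e g * l⁻¹ := fun _ => rfl
  have h1 : ∀ g, f₁ g ∈ S ↔ g ∈ U a := by
    intro g
    rw [hf₁, ← hl']
    constructor
    · rintro ⟨y, hy, hye⟩
      have : y = g := e.injective hye
      rwa [← this]
    · intro hg
      exact ⟨g, hg, rfl⟩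
  have h2 : ∀ g, f₁ g ∈ H ↔ g • a = a := by
    intro g
    rw [data_norm_iff D hS1, mem_norm_iff h]
    constructor
    · intro hx x
      have := hx (f₁ x)
      rwa [← map_inv, ← map_mul, ← map_mul, h1, h1] at this
    · intro hx x
      obtain ⟨y, rfl⟩ := f₁.surjective x
      rw [← map_inv, ← map_mul, ← map_mul, h1, h1]
      exact hx y
  obtain ⟨x, hx⟩ := f₁.surjective w
  have hxa : x • a ≠ a := by
    intro hc
    have := (h2 x).2 hc
    rw [hx] at this
    exact D.w_not_mem this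
  obtain ⟨u, hu, hub⟩ := h.trans hxa hab
  have hua : u • a = a := h.fix hu
  have hua' : u⁻¹ • a = a := by rw [inv_smul_eq_iff, hua]
  let f : G ≃* L := (MulAut.conj u⁻¹).trans f₁
  have hf : ∀ g, f g = f₁ (u⁻¹ * g * u) := by
    intro g
    change f₁ (u⁻¹ * g * u⁻¹⁻¹) = _
    rw [inv_inv]
  refine ⟨f, fun g => ?_, fun g => ?_, fun g => ?_, fun g hg => ?_⟩
  · rw [hf, h1]
    constructor
    · intro hg
      have := h.conj_of_fix hua hg
      have h3 : u * (u⁻¹ * g * u) * u⁻¹ = g := by group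
      rwa [h3] at this
    · intro hg
      exact h.conj_of_fix' hua hg
  · rw [hf, h2, mul_smul, mul_smul, hua, inv_smul_eq_iff, hua]
  · rw [hf, ← hx, ← map_inv, ← map_mul, ← map_mul, h2]
    have h3 : (x⁻¹ * (u⁻¹ * g * u) * x) = (u * x)⁻¹ * g * (u * x) := by group
    rw [h3, mul_smul, mul_smul, inv_smul_eq_iff, mul_smul, hub]
  · have h3 : u⁻¹ * g * u = x := f₁.injective (by rw [← hf, hg, hx])
    have h4 : g = u * x * u⁻¹ := by rw [← h3]; group
    rw [h4, mul_smul, mul_smul, hua', hub]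

end Cfsg.Agent.HKS.EndT
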