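import Mathlib
import Cfsg.Agent.HKS.EndTransport
import Cfsg.Agent.HKS.EndLModel
import Cfsg.Agent.HKS.EndNum
import Cfsg.Agent.HKS.Types
import Cfsg.Agent.SmallSimple.PSLTwoPart

/-!
# Type `PSL(2, q)` from an abstract isomorphism
-/

set_option autoImplicit false

namespace Cfsg.Agent.HKS.EndL

open Matrix Subgroup MulAction
open Cfsg.Agent.LieRecognition.RankOneAbstract (Data)

section Ord

variable {G Ω : Type*} [Group G] [MulAction G Ω] {U : Ω → Subgroup G}

theorem ord (h : SSplit U) [Finite G] [Finite Ω] {a b : Ω} (hab : b ≠ a) {p k : ℕ} (hp : p.Prime)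
    (hp2 : p ≠ 2) (hk : k ≠ 0) (hU : Nat.card (U a) = p ^ k) (hd : ¬ p ∣ Nat.card (Dab G a b))
    (hlt : Nat.card (Dab G a b) < Nat.card (U a)) :
    EndNum.Ord (Nat.card G) (Nat.card (U a)) (Nat.card (Dab G a b)) p k where
  prime := hp
  ne_two := hp2
  k0 := hk
  hn := hU
  hd := hd
  hdn := hlt
  eq := by
    rw [h.card_G hab, h.card a, Nat.add_sub_cancel]

end Ord

variable {F : Type*} [Field F]

/-- The projection. -/
abbrev pr (F : Type*) [Field F] : SpecialLinearGroup (Fin 2) F →*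
    ProjectiveSpecialLinearGroup (Fin 2) F :=
  QuotientGroup.mk' (center (SpecialLinearGroup (Fin 2) F))

theorem ker_le : (pr F).ker ≤ bor F := by
  rw [QuotientGroup.ker_mk']
  exact center_le

theorem pr_eq_one {g : SpecialLinearGroup (Fin 2) F} :
    pr F g = 1 ↔ g ∈ center (SpecialLinearGroup (Fin 2) F) := by
  rw [← MonoidHom.mem_ker, QuotientGroup.ker_mk']

theorem data : Data ((bor F).map (pr F)) ((umHom F).range.map (pr F)) (pr F (wl F)) :=
  UThreeGen.DataIso.data_map data_SL _ (QuotientGroup.mk'_surjective _) ker_le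

theorem um_inj' {x : Multiplicative F} (hx : pr F (umHom F x) = 1) : x = 1 := by
  have h := (center_entries (pr_eq_one.1 hx)).2.1
  change (um x.toAdd).1 0 1 = 0 at h
  simpa [um] using h

theorem card_S [Fintype F] : Nat.card ((umHom F).range.map (pr F)) = Fintype.card F := by
  rw [← MonoidHom.range_comp]
  have hinj : Function.Injective ((pr F).comp (umHom F)) := by
    rw [injective_iff_map_eq_one]
    exact fun x hx => um_inj' hx
  rw [← Nat.card_congr (MonoidHom.ofInjective hinj).toEquiv, ← Nat.card_eq_fintype_card]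
  exact Nat.card_congr Multiplicative.toAdd

theorem wl_sq : pr F (wl F) * pr F (wl F) = 1 := by
  rw [← map_mul, pr_eq_one, mem_center_iff]
  exact wl_mul_wl

/-- Elements of the intersection of two Borel subgroups. -/
theorem exists_dg {x : ProjectiveSpecialLinearGroup (Fin 2) F} (h1 : x ∈ (bor F).map (pr F))
    (h2 : (pr F (wl F))⁻¹ * x * pr F (wl F) ∈ (bor F).map (pr F)) :
    ∃ α : Fˣ, x = pr F (dg α) := by
  obtain ⟨A, hA, rfl⟩ := h1
  have h3 : pr F ((wl F)⁻¹ * A * wl F) ∈ (bor F).map (pr F) := by simpa using h2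
  have h4 : ((wl F)⁻¹ * A * wl F).1 1 0 = 0 := UThreeGen.DataIso.mem_of_map_mem _ ker_le h3
  have hA0 : A.1 1 0 = 0 := hA
  have h5 : A.1 0 1 = 0 := by
    rw [mul10, mul10, mul11, (inv_entries _).2.2.1, (inv_entries _).2.2.2] at h4
    simpa [wl] using h4
  have hdet : A.1 0 0 * A.1 1 1 = 1 := by
    have := A.2
    rw [Matrix.det_fin_two, hA0, mul_zero, sub_zero] at this
    exact this
  refine ⟨⟨A.1 0 0, A.1 1 1, hdet, by rw [mul_comm]; exact hdet⟩, ?_⟩
  congr 1
  apply ext2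
  · simp [dg]
  · rw [h5]; simp [dg]
  · rw [hA0]; simp [dg]
  · simp [dg]

theorem dg_mem (α : Fˣ) : pr F (dg α) ∈ (bor F).map (pr F) :=
  ⟨dg α, show (dg α).1 1 0 = 0 by simp [dg], rfl⟩

theorem dg_mem' (α : Fˣ) : (pr F (wl F))⁻¹ * pr F (dg α) * pr F (wl F) ∈ (bor F).map (pr F) := by
  have h1 : wl F * dg α⁻¹ * (wl F)⁻¹ = dg α := by rw [wl_dg, inv_inv]
  have h2 : (wl F)⁻¹ * dg α * wl F = dg α⁻¹ := by rw [← h1]; group
  rw [← map_inv, ← map_mul, ← map_mul, h2]
  exact dg_mem _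

theorem comm_dg {α : Fˣ} {x : F}
    (h : pr F (dg α) * pr F (um x) = pr F (um x) * pr F (dg α)) :
    pr F (dg α) = 1 ∨ x = 0 := by
  rw [← map_mul, ← map_mul] at h
  have h1 : (um x * dg α)⁻¹ * (dg α * um x) ∈ center (SpecialLinearGroup (Fin 2) F) := by
    rw [← pr_eq_one, map_mul, map_inv, h, inv_mul_cancel]
  obtain ⟨e10, e01, e00⟩ := center_entries h1
  by_cases hx : x = 0
  · exact Or.inr hx
  left
  set Z := (um x * dg α)⁻¹ * (dg α * um x) with hZ
  have h3 : dg α * um x = um x * dg α * Z := by rw [hZ]; group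
  have c00 : (dg α * um x).1 0 0 = (um x * dg α * Z).1 0 0 := by rw [h3]
  have c01 : (dg α * um x).1 0 1 = (um x * dg α * Z).1 0 1 := by rw [h3]
  simp only [mul00, mul01, e10, e01] at c00 c01
  simp [dg, um] at c00 c01
  -- `Z 0 0 = 1`
  have hα : (α : F) ≠ 0 := α.ne_zero
  have hz : Z.1 0 0 = 1 := c00
  rw [← e00, hz] at c01
  have hα2 : (α : F) * α = 1 := by
    have h4 : x * ((α : F) - (α : F)⁻¹) = 0 := by linear_combination c01
    have h5 := (mul_eq_zero.1 h4).resolve_left hx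
    have h6 : (α : F) = (α : F)⁻¹ := sub_eq_zero.1 h5
    rw [h6]
    nth_rw 1 [← h6]
    exact mul_inv_cancel₀ hα
  rw [pr_eq_one, mem_center_iff]
  intro B
  have hinv : ((α⁻¹ : Fˣ) : F) = α := by
    rw [Units.val_inv_eq_inv_val]
    exact inv_eq_of_mul_eq_one_right hα2
  apply ext2 <;> simp only [mul00, mul01, mul10, mul11] <;> simp only [dg, hinv] <;> simp <;> ring

/-- **Type `PSL(2, q)`.** -/
theorem tl_of_iso {G Ω : Type*} [Group G] [MulAction G Ω] [Finite G] [Finite Ω]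
    {U : Ω → Subgroup G} (h : SSplit U) {a b : Ω} (hab : b ≠ a) {F : Type} [Field F] [Fintype F]
    (e : G ≃* ProjectiveSpecialLinearGroup (Fin 2) F) {p k : ℕ} (hp : p.Prime) (hp2 : p ≠ 2)
    (hk : k ≠ 0) (hU : Nat.card (U a) = p ^ k) (hd : ¬ p ∣ Nat.card (Dab G a b))
    (hlt : Nat.card (Dab G a b) < Nat.card (U a)) (hodd : Odd (Fintype.card F))
    (h3 : 3 < Fintype.card F) : TL U a b (Fintype.card F) := by
  classical
  have hfp : Fact p.Prime := ⟨hp⟩
  have hord := ord h hab hp hp2 hk hU hd hlt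
  obtain ⟨v, hv⟩ := hodd
  obtain ⟨s, -, f, hs, hf⟩ := FiniteField.card' F
  have hL := SmallSimple.PSLTwoPart.card_psl_two_odd (F := F) ⟨v, hv⟩
  have hGL : Nat.card G = Nat.card (ProjectiveSpecialLinearGroup (Fin 2) F) :=
    Nat.card_congr e.toEquiv
  have hN : 2 * Nat.card G = (2 * v + 1) * ((2 * v) * (2 * v + 2)) := by
    rw [hGL, hL, hv]
    congr 1
    have : (2 * v + 1) ^ 2 = (2 * v) * (2 * v + 2) + 1 := by ring
    rw [this, Nat.add_sub_cancel]
  obtain ⟨hn, hdv⟩ := EndNum.psl_two hord hs (hv ▸ hf) (by omega) hN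
  have hcF : Nat.card (U a) = Fintype.card F := by rw [hn, hv]
  have hG' : Nat.card G = p ^ k * ((Nat.card (U a) + 1) * Nat.card (Dab G a b)) := by
    rw [hord.eq, ← hU]
    ring
  obtain ⟨φ, hφS, hφa, hφb, hφw⟩ := EndT.exists_transport h (data (F := F)) e hk hab hU
    (by rw [card_S, ← hcF, hU]) hG' hord.not_dvd
  -- the two-point stabiliser
  have hD : ∀ g ∈ Dab G a b, ∃ α : Fˣ, φ g = pr F (dg α) := fun g hg =>
    exists_dg ((hφa g).2 hg.1) ((hφb g).2 hg.2)
  have hD' : ∀ α : Fˣ, φ.symm (pr F (dg α)) ∈ Dab G a b := fun α =>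
    ⟨(hφa _).1 (by rw [φ.apply_symm_apply]; exact dg_mem α),
      (hφb _).1 (by rw [φ.apply_symm_apply]; exact dg_mem' α)⟩
  have hUx : ∀ u ∈ U a, ∃ x : F, φ u = pr F (um x) := by
    intro u hu
    obtain ⟨_, ⟨x, rfl⟩, hx⟩ := (hφS u).2 hu
    exact ⟨x.toAdd, hx.symm⟩
  have hUx' : ∀ x : F, φ.symm (pr F (um x)) ∈ U a := fun x =>
    (hφS _).1 (by
      rw [φ.apply_symm_apply]
      exact ⟨um x, ⟨Multiplicative.ofAdd x, rfl⟩, rfl⟩)
  refine
    { pow := ?_, odd := ?_, three := h3, card := hcF, comm := ?_, cyc := ?_, cardE := ?_,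
      free := ?_, inv := ?_, iso := ?_ }
  · rw [hf]
    exact hs.isPrimePow.pow f.ne_zero
  · exact ⟨v, hv⟩
  · intro u hu u' hu'
    obtain ⟨x, hx⟩ := hUx u hu
    obtain ⟨y, hy⟩ := hUx u' hu'
    apply φ.injective
    rw [map_mul, map_mul, hx, hy, ← map_mul, ← map_mul, um_mul, um_mul, add_comm]
  · obtain ⟨g, hg⟩ := IsCyclic.exists_generator (α := Fˣ)
    refine ⟨φ.symm (pr F (dg g)), hD' g, fun d hd' => ?_⟩
    obtain ⟨α, hα⟩ := hD d hd'
    obtain ⟨m, hm⟩ := mem_powers_iff_mem_zpowers.2 (hg α⁻¹)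
    refine ⟨m, ?_⟩
    rw [mem_bot]
    apply φ.injective
    have hpow : (dg g : SpecialLinearGroup (Fin 2) F) ^ m = dg (g ^ m) :=
      ((dgHom F).map_pow g m).symm
    have hm' : g ^ m = α⁻¹ := hm
    rw [map_mul, map_pow, φ.apply_symm_apply, hα, ← map_pow, hpow, hm', ← map_mul, dg_mul,
      mul_inv_cancel, map_one]
    exact (congrArg (pr F) (dgHom F).map_one).trans (map_one _)
  · rw [relIndex_bot_left, hdv, hv]
    omega
  · intro d hd' u hu hdu
    obtain ⟨α, hα⟩ := hD d hd'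
    obtain ⟨x, hx⟩ := hUx u hu
    have h4 : pr F (dg α) * pr F (um x) = pr F (um x) * pr F (dg α) := by
      rw [← hα, ← hx, ← map_mul, ← map_mul, hdu]
    rcases comm_dg h4 with h5 | h5
    · left
      rw [mem_bot]
      apply φ.injective
      rw [hα, h5, map_one]
    · right
      apply φ.injective
      rw [hx, h5, um_zero, map_one, map_one]
  · intro w' hw' d hd'
    have hw1 := hφw (φ.symm (pr F (wl F))) (φ.apply_symm_apply _)
    set x₀ := φ.symm (pr F (wl F)) with hx₀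
    have hx₀' : φ x₀ = pr F (wl F) := φ.apply_symm_apply _
    have hx₂ : x₀ * x₀ = 1 := by
      apply φ.injective
      rw [map_mul, hx₀', wl_sq, map_one]
    have hxb : x₀ • b = a := by rw [← hw1, ← mul_smul, hx₂, one_smul]
    have ht : x₀⁻¹ * w' ∈ Dab G a b := by
      constructor
      · change (x₀⁻¹ * w') • a = a
        rw [mul_smul, hw'.1, inv_smul_eq_iff, hw1]
      · change (x₀⁻¹ * w') • b = b
        rw [mul_smul, hw'.2, inv_smul_eq_iff, hxb]
    obtain ⟨β, hβ⟩ := hD _ ht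
    obtain ⟨α, hα⟩ := hD d hd'
    have hw2 : φ w' = pr F (wl F) * pr F (dg β) := by
      rw [← hβ, ← hx₀', ← map_mul, mul_inv_cancel_left]
    rw [mem_bot]
    apply φ.injective
    rw [map_mul, map_mul, map_mul, map_inv, hw2, hα, map_one]
    have h5 : dg β * dg α * (dg β)⁻¹ = dg α := by
      rw [dg_mul, mul_comm β α, ← dg_mul, mul_inv_cancel_right]
    calc pr F (wl F) * pr F (dg β) * pr F (dg α) * (pr F (wl F) * pr F (dg β))⁻¹ * pr F (dg α)
        = pr F (wl F * (dg β * dg α * (dg β)⁻¹) * (wl F)⁻¹ * dg α) := by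
          simp only [map_mul, map_inv]
          group
      _ = 1 := by
          rw [h5, wl_dg, dg_mul, inv_mul_cancel]
          exact (congrArg (pr F) (dgHom F).map_one).trans (map_one _)
  · refine ⟨F, inferInstance, inferInstance, rfl, e.toMonoidHom.comp (⊤ : Subgroup G).subtype,
      ?_, ?_⟩
    · intro y
      exact ⟨⟨e.symm y, mem_top _⟩, e.apply_symm_apply y⟩
    · intro x
      rw [mem_bot]
      change e (x : G) = 1 ↔ _
      rw [map_eq_one_iff e e.injective]

end Cfsg.Agent.HKS.EndL
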