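import Mathlib
import Cfsg.Agent.ONan.SL2Hom

/-!
# Steinberg relations of rank one over a finite field of odd order

`T, L : k → G` additive, `w s = T s * L (-s⁻¹) * T s`, with the relations `w s * T r = L (-(s⁻¹ ^ 2 * r)) * w s`,
`w s * L r = T (-(s ^ 2 * r)) * w s` and commuting `ν s = w s * w (-1)`. Then there is a homomorphism
from `SL₂(k)` with `[[1, s], [0, 1]] ↦ T s`, `[[1, 0], [s, 1]] ↦ L s`.
-/

set_option autoImplicit false

namespace Cfsg.Agent.HKS.SLRel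

open Cfsg.Agent.ONan.SL2Hom

section

variable {G k : Type*} [Group G] [Field k]

/-- the element `w s` -/
def wS (T L : k → G) (s : k) : G := T s * L (-s⁻¹) * T s

/-- the element `ν s` -/
def nS (T L : k → G) (s : k) : G := wS T L s * wS T L (-1)

/-- The relations. -/
structure SRel (T L : k → G) : Prop where
  T_add : ∀ a b, T (a + b) = T a * T b
  L_add : ∀ a b, L (a + b) = L a * L b
  wT : ∀ s, s ≠ 0 → ∀ r, wS T L s * T r = L (-(s⁻¹ ^ 2 * r)) * wS T L s
  wL : ∀ s, s ≠ 0 → ∀ r, wS T L s * L r = T (-(s ^ 2 * r)) * wS T L s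
  comm : ∀ r s, r ≠ 0 → s ≠ 0 → nS T L r * nS T L s = nS T L s * nS T L r

variable {T L : k → G}

theorem SRel.T_zero (R : SRel T L) : T 0 = 1 := by
  have h := R.T_add 0 0
  rw [add_zero] at h
  exact mul_eq_left.mp h.symm

theorem SRel.L_zero (R : SRel T L) : L 0 = 1 := by
  have h := R.L_add 0 0
  rw [add_zero] at h
  exact mul_eq_left.mp h.symm

theorem SRel.T_neg (R : SRel T L) (a : k) : T (-a) = (T a)⁻¹ := by
  apply eq_inv_of_mul_eq_one_left
  rw [← R.T_add, neg_add_cancel, R.T_zero]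

theorem SRel.L_neg (R : SRel T L) (a : k) : L (-a) = (L a)⁻¹ := by
  apply eq_inv_of_mul_eq_one_left
  rw [← R.L_add, neg_add_cancel, R.L_zero]

theorem SRel.w_neg (R : SRel T L) (s : k) : wS T L (-s) = (wS T L s)⁻¹ := by
  unfold wS
  rw [R.T_neg, inv_neg, neg_neg, R.L_neg]
  group

theorem SRel.w_one (R : SRel T L) : wS T L 1 = (wS T L (-1))⁻¹ := by
  rw [R.w_neg, inv_inv]

/-- the second form of `w s` -/
theorem SRel.w_eq (R : SRel T L) {s : k} (hs : s ≠ 0) :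
    wS T L s = L (-s⁻¹) * T s * L (-s⁻¹) := by
  have h := R.wT s hs s
  have e : -(s⁻¹ ^ 2 * s) = -s⁻¹ := by field_simp
  rw [e] at h
  -- `w s * T s = L (-s⁻¹) * w s`
  have h2 : wS T L s * T s = L (-s⁻¹) * T s * L (-s⁻¹) * T s := by
    rw [h]
    unfold wS
    group
  exact mul_right_cancel h2

theorem SRel.w_w (R : SRel T L) {s r : k} (hs : s ≠ 0) (hr : r ≠ 0) :
    wS T L s * wS T L r = wS T L (s ^ 2 / r) * wS T L s := by
  have hq : s ^ 2 / r ≠ 0 := div_ne_zero (pow_ne_zero 2 hs) hr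
  rw [R.w_eq hq]
  have e1 : -(s ^ 2 / r)⁻¹ = -(s⁻¹ ^ 2 * r) := by
    rw [inv_div]
    field_simp
  have e2 : s ^ 2 / r = -(s ^ 2 * -r⁻¹) := by
    field_simp
  rw [e1, e2]
  calc wS T L s * wS T L r = wS T L s * (T r * L (-r⁻¹) * T r) := rfl
    _ = (wS T L s * T r) * L (-r⁻¹) * T r := by group
    _ = L (-(s⁻¹ ^ 2 * r)) * (wS T L s * L (-r⁻¹)) * T r := by rw [R.wT s hs]; group
    _ = L (-(s⁻¹ ^ 2 * r)) * T (-(s ^ 2 * -r⁻¹)) * (wS T L s * T r) := by rw [R.wL s hs]; group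
    _ = _ := by rw [R.wT s hs]; group

theorem SRel.n_one (R : SRel T L) : nS T L 1 = 1 := by
  unfold nS
  rw [R.w_one, inv_mul_cancel]

theorem SRel.n_T (R : SRel T L) {r : k} (hr : r ≠ 0) (s : k) :
    nS T L r * T s = T (r ^ 2 * s) * nS T L r := by
  have h1 := R.wT (-1) (neg_ne_zero.mpr one_ne_zero) s
  have e1 : -((-1 : k)⁻¹ ^ 2 * s) = -s := by
    rw [inv_neg, inv_one]; ring
  rw [e1] at h1
  have h2 := R.wL r hr (-s)
  have e2 : -(r ^ 2 * -s) = r ^ 2 * s := by ring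
  rw [e2] at h2
  unfold nS
  calc wS T L r * wS T L (-1) * T s = wS T L r * (wS T L (-1) * T s) := by group
    _ = (wS T L r * L (-s)) * wS T L (-1) := by rw [h1]; group
    _ = _ := by rw [h2]; group

theorem SRel.n_L (R : SRel T L) {r : k} (hr : r ≠ 0) (s : k) :
    nS T L r * L s = L (r⁻¹ ^ 2 * s) * nS T L r := by
  have h1 := R.wL (-1) (neg_ne_zero.mpr one_ne_zero) s
  have e1 : -((-1 : k) ^ 2 * s) = -s := by ring
  rw [e1] at h1
  have h2 := R.wT r hr (-s)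
  have e2 : -(r⁻¹ ^ 2 * -s) = r⁻¹ ^ 2 * s := by ring
  rw [e2] at h2
  unfold nS
  calc wS T L r * wS T L (-1) * L s = wS T L r * (wS T L (-1) * L s) := by group
    _ = (wS T L r * T (-s)) * wS T L (-1) := by rw [h1]; group
    _ = _ := by rw [h2]; group

theorem SRel.n_w (R : SRel T L) {r s : k} (hr : r ≠ 0) (hs : s ≠ 0) :
    nS T L r * wS T L s = wS T L (r ^ 2 * s) * nS T L r := by
  have h1 := R.w_w (s := -1) (r := s) (neg_ne_zero.mpr one_ne_zero) hs
  have e1 : (-1 : k) ^ 2 / s = s⁻¹ := by rw [neg_one_sq, one_div]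
  rw [e1] at h1
  have h2 := R.w_w hr (inv_ne_zero hs)
  rw [div_inv_eq_mul] at h2
  unfold nS
  rw [mul_assoc, h1, ← mul_assoc, h2, mul_assoc]

theorem SRel.w_ν (T L : k → G) (R : SRel T L) (s : k) : wS T L s = nS T L s * wS T L 1 := by
  unfold nS
  rw [R.w_one, mul_assoc, mul_inv_cancel, mul_one]

/-- `ν (r² s) = ν s ν (r²)` -/
theorem SRel.n_sq (R : SRel T L) {r s : k} (hr : r ≠ 0) (hs : s ≠ 0) :
    nS T L (r ^ 2 * s) = nS T L s * nS T L (r ^ 2) := by
  have hr2 : r ^ 2 ≠ 0 := pow_ne_zero 2 hr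
  have h1 := R.n_w hr hs
  rw [R.w_ν T L (r ^ 2 * s), R.w_ν T L s] at h1
  have h2 := R.n_w hr (one_ne_zero (α := k))
  rw [mul_one, R.w_ν T L (r ^ 2)] at h2
  -- `ν r ν s w₁ = ν (r² s) w₁ ν r`, `ν r w₁ = ν (r²) w₁ ν r`
  have h3 : nS T L r * nS T L s * wS T L 1 =
      nS T L (r ^ 2 * s) * (nS T L (r ^ 2))⁻¹ * (nS T L r * wS T L 1) := by
    rw [h2]
    calc nS T L r * nS T L s * wS T L 1 = nS T L r * (nS T L s * wS T L 1) := by group
      _ = nS T L (r ^ 2 * s) * wS T L 1 * nS T L r := h1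
      _ = _ := by group
  have h4 : nS T L r * nS T L s = nS T L (r ^ 2 * s) * (nS T L (r ^ 2))⁻¹ * nS T L r := by
    apply mul_right_cancel (b := wS T L 1)
    rw [h3]; group
  rw [R.comm r s hr hs] at h4
  have h5 := mul_right_cancel h4
  rw [h5]; group

/-- The two computations of `L x * T y`. -/
theorem SRel.w_w_add (R : SRel T L) {p y : k} (hp : p ≠ 0) (hy : y ≠ 0) (hpy : p + y ≠ 0) :
    (wS T L p)⁻¹ * wS T L (p + y) = (wS T L (p * y / (p + y)))⁻¹ * wS T L y := by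
  rw [← R.w_neg, ← R.w_neg]
  have hz : p * y / (p + y) ≠ 0 := div_ne_zero (mul_ne_zero hp hy) hpy
  -- `L x = T (1/x) w(-1/x) T (1/x)`
  have hL : ∀ x : k, x ≠ 0 → L x⁻¹ = T x * wS T L (-x) * T x := by
    intro x hx
    unfold wS
    rw [inv_neg, neg_neg, R.T_neg]; group
  have hT : ∀ x : k, x ≠ 0 → T x = L x⁻¹ * wS T L x * L x⁻¹ := by
    intro x hx
    rw [R.w_eq hx, R.L_neg]; group
  have h1 : L p⁻¹ * T y = T (p * y / (p + y)) * (wS T L (-p) * wS T L (p + y)) * L (p + y)⁻¹ := by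
    rw [hL p hp, mul_assoc, ← R.T_add, hT _ hpy]
    have h2 := R.wL (-p) (neg_ne_zero.mpr hp) (p + y)⁻¹
    calc T p * wS T L (-p) * (L (p + y)⁻¹ * wS T L (p + y) * L (p + y)⁻¹)
        = T p * (wS T L (-p) * L (p + y)⁻¹) * wS T L (p + y) * L (p + y)⁻¹ := by group
      _ = (T p * T (-((-p) ^ 2 * (p + y)⁻¹))) * wS T L (-p) * wS T L (p + y) * L (p + y)⁻¹ := by
          rw [h2]; group
      _ = _ := by
          rw [← R.T_add]
          have e : p + -((-p) ^ 2 * (p + y)⁻¹) = p * y / (p + y) := by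
            field_simp
            ring
          rw [e]; group
  have h3 : L p⁻¹ * T y =
      T (p * y / (p + y)) * (wS T L (-(p * y / (p + y))) * wS T L y) * L (p + y)⁻¹ := by
    rw [hT y hy]
    have e1 : p⁻¹ + y⁻¹ = (p * y / (p + y))⁻¹ := by
      rw [inv_div]
      field_simp
      ring
    have h2 := R.wL y hy (-((y⁻¹) ^ 2 * (p * y / (p + y))))
    have e2 : -(y ^ 2 * -((y⁻¹) ^ 2 * (p * y / (p + y)))) = p * y / (p + y) := by
      field_simp
    rw [e2] at h2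
    calc L p⁻¹ * (L y⁻¹ * wS T L y * L y⁻¹) = (L p⁻¹ * L y⁻¹) * wS T L y * L y⁻¹ := by group
      _ = T (p * y / (p + y)) * wS T L (-(p * y / (p + y))) * (T (p * y / (p + y)) * wS T L y) *
            L y⁻¹ := by
          rw [← R.L_add, e1, hL _ hz]; group
      _ = T (p * y / (p + y)) * wS T L (-(p * y / (p + y))) * wS T L y *
            (L (-((y⁻¹) ^ 2 * (p * y / (p + y)))) * L y⁻¹) := by rw [← h2]; group
      _ = _ := by
          rw [← R.L_add]
          have e : -((y⁻¹) ^ 2 * (p * y / (p + y))) + y⁻¹ = (p + y)⁻¹ := by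
            field_simp
            ring
          rw [e]; group
  rw [h1] at h3
  exact mul_left_cancel (mul_right_cancel h3)

/-- `ν (p y) = ν y ν p` if `p + y = 1` -/
theorem SRel.n_one_sub (R : SRel T L) {p y : k} (hp : p ≠ 0) (hy : y ≠ 0) (hpy : p + y = 1) :
    nS T L (p * y) = nS T L y * nS T L p := by
  have h := R.w_w_add hp hy (by rw [hpy]; exact one_ne_zero)
  rw [hpy, div_one] at h
  rw [R.w_ν T L p, R.w_ν T L (p * y), R.w_ν T L y] at h
  have h2 : (nS T L p)⁻¹ = (nS T L (p * y))⁻¹ * nS T L y := by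
    have h3 : (wS T L 1)⁻¹ * (nS T L p)⁻¹ * wS T L 1 =
        (wS T L 1)⁻¹ * ((nS T L (p * y))⁻¹ * nS T L y) * wS T L 1 := by
      rw [mul_inv_rev] at h
      rw [h]; group
    exact mul_left_cancel (mul_right_cancel h3)
  calc nS T L (p * y) = nS T L (p * y) * (nS T L p)⁻¹ * nS T L p := by group
    _ = nS T L (p * y) * ((nS T L (p * y))⁻¹ * nS T L y) * nS T L p := by rw [h2]
    _ = _ := by group

theorem exists_two_sq [Finite k] (hk : Odd (Nat.card k)) (c : k) : ∃ x y : k, x ^ 2 + y ^ 2 = c := by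
  have := Fintype.ofFinite k
  rw [Nat.card_eq_fintype_card] at hk
  obtain ⟨a, b, hab⟩ : ∃ a b, (Polynomial.X ^ 2 : Polynomial k).eval a +
      (Polynomial.X ^ 2 - Polynomial.C c : Polynomial k).eval b = 0 :=
    FiniteField.exists_root_sum_quadratic (Polynomial.degree_X_pow 2)
      (Polynomial.degree_X_pow_sub_C (by decide) _) (Nat.odd_iff.1 hk)
  refine ⟨a, b, ?_⟩
  rw [← sub_eq_zero]
  simpa only [Polynomial.eval_C, Polynomial.eval_X, Polynomial.eval_pow, Polynomial.eval_sub,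
    ← add_sub_assoc] using hab

theorem isSquare_div [Finite k] {r s : k} (hr : ¬ IsSquare r) (hs : ¬ IsSquare s) :
    ∃ b : k, b ≠ 0 ∧ s = b ^ 2 * r := by
  classical
  have := Fintype.ofFinite k
  have hr0 : r ≠ 0 := by rintro rfl; exact hr (IsSquare.zero)
  have hs0 : s ≠ 0 := by rintro rfl; exact hs (IsSquare.zero)
  have h1 := quadraticChar_neg_one_iff_not_isSquare.2 hr
  have h2 := quadraticChar_neg_one_iff_not_isSquare.2 hs
  have h3 : quadraticChar k (s * r) = 1 := by rw [map_mul, h1, h2]; norm_num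
  rw [quadraticChar_one_iff_isSquare (mul_ne_zero hs0 hr0)] at h3
  obtain ⟨d, hd⟩ := h3
  have hd0 : d ≠ 0 := by
    rintro rfl
    rw [zero_mul] at hd
    exact mul_ne_zero hs0 hr0 hd
  refine ⟨d / r, div_ne_zero hd0 hr0, ?_⟩
  field_simp
  rw [pow_two, ← hd]

/-- `ν` is multiplicative. -/
theorem SRel.n_mul [Finite k] (hk : Odd (Nat.card k)) (R : SRel T L) {r s : k} (hr : r ≠ 0)
    (hs : s ≠ 0) : nS T L (r * s) = nS T L r * nS T L s := by
  by_cases h1 : IsSquare r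
  · obtain ⟨a, rfl⟩ := h1
    have ha : a ≠ 0 := left_ne_zero_of_mul hr
    rw [← pow_two] at hr ⊢
    rw [R.n_sq ha hs, R.comm s _ hs hr]
  by_cases h2 : IsSquare s
  · obtain ⟨a, rfl⟩ := h2
    have ha : a ≠ 0 := left_ne_zero_of_mul hs
    rw [← pow_two] at hs ⊢
    rw [mul_comm, R.n_sq ha hr]
  obtain ⟨b, hb, rfl⟩ := isSquare_div h1 h2
  -- `ν (r²) = ν r ν r`
  have hrr : nS T L (r ^ 2) = nS T L r * nS T L r := by
    obtain ⟨x, y, hxy⟩ := exists_two_sq hk r⁻¹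
    have hx : x ≠ 0 := by
      rintro rfl
      apply h1
      refine ⟨y⁻¹, ?_⟩
      rw [← mul_inv, ← pow_two]
      have : y ^ 2 = r⁻¹ := by rw [← hxy]; ring
      rw [this, inv_inv]
    have hy : y ≠ 0 := by
      rintro rfl
      apply h1
      refine ⟨x⁻¹, ?_⟩
      rw [← mul_inv, ← pow_two]
      have : x ^ 2 = r⁻¹ := by rw [← hxy]; ring
      rw [this, inv_inv]
    have hsum : x ^ 2 * r + y ^ 2 * r = 1 := by
      rw [← add_mul, hxy, inv_mul_cancel₀ hr]
    have hx2 : x ^ 2 * r ≠ 0 := mul_ne_zero (pow_ne_zero 2 hx) hr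
    have hy2 : y ^ 2 * r ≠ 0 := mul_ne_zero (pow_ne_zero 2 hy) hr
    have h3 := R.n_one_sub hx2 hy2 hsum
    have e : x ^ 2 * r * (y ^ 2 * r) = x ^ 2 * (y ^ 2 * r ^ 2) := by ring
    have hr2 : r ^ 2 ≠ 0 := pow_ne_zero 2 hr
    have hX : x ^ 2 ≠ 0 := pow_ne_zero 2 hx
    have hY : y ^ 2 ≠ 0 := pow_ne_zero 2 hy
    rw [e, R.n_sq hx (mul_ne_zero hY hr2), R.n_sq hy hr2, R.n_sq hy hr, R.n_sq hx hr] at h3
    -- `ν(r²) ν(y²) ν(x²) = ν r ν(y²) (ν r ν(x²))`
    have h4 : nS T L r * nS T L (y ^ 2) * (nS T L r * nS T L (x ^ 2)) =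
        nS T L r * nS T L r * nS T L (y ^ 2) * nS T L (x ^ 2) := by
      have h5 := R.comm (y ^ 2) r hY hr
      calc nS T L r * nS T L (y ^ 2) * (nS T L r * nS T L (x ^ 2))
          = nS T L r * (nS T L (y ^ 2) * nS T L r) * nS T L (x ^ 2) := by group
        _ = _ := by rw [h5]; group
    rw [h4] at h3
    exact mul_right_cancel (mul_right_cancel h3)
  have e : r * (b ^ 2 * r) = b ^ 2 * r ^ 2 := by ring
  rw [e, R.n_sq hb (pow_ne_zero 2 hr), hrr, R.n_sq hb hr, mul_assoc]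

/-- **The relations of `ONan.SL2Hom`.** -/
theorem SRel.rel [Finite k] (hk : Odd (Nat.card k)) (R : SRel T L) :
    Rel T (nS T L) (wS T L (-1)) 1 where
  c_ne := one_ne_zero
  T_add := R.T_add
  ν_mul r s hr hs := R.n_mul hk hr hs
  ν_T r s hr := R.n_T hr s
  m_ν r hr := by
    have h1 := R.w_w (s := -1) (r := r) (neg_ne_zero.mpr one_ne_zero) hr
    rw [neg_one_sq, one_div] at h1
    unfold nS
    rw [← mul_assoc, h1]
  m_m := rfl
  m_T_m a ha := by
    have h0 : (1 : k) / a ≠ 0 := one_div_ne_zero ha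
    rw [R.n_T h0]
    have h1 := R.wT (-1) (neg_ne_zero.mpr one_ne_zero) a
    have e1 : -((-1 : k)⁻¹ ^ 2 * a) = -a := by
      rw [inv_neg, inv_one]; ring
    rw [e1] at h1
    have e2 : (1 / a) ^ 2 * -a = -(1 / a) := by field_simp
    have h2 : nS T L (-1) * T (-(1 / a)) = T (-(1 / a)) * nS T L (-1) := by
      rw [R.n_T (neg_ne_zero.mpr one_ne_zero)]
      congr 2
      ring
    rw [e2, h1, one_pow]
    have h3 : nS T L (1 / a) * wS T L (-1) = wS T L (1 / a) * nS T L (-1) := by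
      show wS T L (1 / a) * wS T L (-1) * wS T L (-1) = wS T L (1 / a) * (wS T L (-1) * wS T L (-1))
      group
    calc L (-a) * wS T L (-1) * wS T L (-1) = L (-a) * nS T L (-1) := by rw [mul_assoc]; rfl
      _ = T (-(1 / a)) * wS T L (1 / a) * T (-(1 / a)) * nS T L (-1) := by
          have h4 : wS T L (1 / a) = T (1 / a) * L (-a) * T (1 / a) := by
            unfold wS
            rw [one_div, inv_inv]
          rw [h4, R.T_neg]; group
      _ = T (-(1 / a)) * wS T L (1 / a) * (nS T L (-1) * T (-(1 / a))) := by rw [h2]; group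
      _ = T (-(1 / a)) * (nS T L (1 / a) * wS T L (-1)) * T (-(1 / a)) := by rw [h3]; group
      _ = _ := by group

/-- the matrix of `L s` -/
def lM (s : k) : Matrix.SpecialLinearGroup (Fin 2) k := mk 1 0 s 1 (by ring)

theorem lM_eq {k : Type*} [Field k] (s : k) :
    lM s = mM (1 : k) one_ne_zero * tM (-s) * (mM (1 : k) one_ne_zero)⁻¹ := by
  rw [eq_mul_inv_iff_mul_eq]
  apply ext'
  all_goals
    simp only [mul_apply', lM, mk_00, mk_01, mk_10, mk_11, tM_00, tM_01, tM_10, tM_11, mM_00, mM_01,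
      mM_10, mM_11]
    simp

/-- **The homomorphism from `SL₂(k)`.** -/
theorem SRel.exists_hom [Finite k] (hk : Odd (Nat.card k)) (R : SRel T L) :
    ∃ φ : Matrix.SpecialLinearGroup (Fin 2) k →* G, (∀ s, φ (tM s) = T s) ∧ (∀ s, φ (lM s) = L s) ∧
      φ (mM 1 one_ne_zero) = wS T L (-1) := by
  refine ⟨(R.rel hk).hom, fun s => (R.rel hk).hom_tM s, fun s => ?_, (R.rel hk).hom_mM⟩
  rw [lM_eq, map_mul, map_mul, map_inv, (R.rel hk).hom_tM, (R.rel hk).hom_mM,
    R.wT (-1) (neg_ne_zero.mpr one_ne_zero)]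
  have e1 : -((-1 : k)⁻¹ ^ 2 * -s) = s := by
    rw [inv_neg, inv_one]; ring
  rw [e1, mul_assoc, mul_inv_cancel, mul_one]

end

end Cfsg.Agent.HKS.SLRel
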