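import Mathlib
import Cfsg.Agent.HKS.SLRel
import Cfsg.Agent.HKS.Types

/-!
# `SL₂` coordinates on the fixed points of `X`

`NormF U X a b f` : `f : genFix U X →* PSL₂(F)` has kernel `kerFix Ω X` and sends `C_{U a}(X)` to the upper,
`C_{U b}(X)` to the lower unitriangular matrices.
`SLX U X a b φ` : `φ : SL₂(F) →* G` sends the upper and lower unitriangular matrices onto `C_{U a}(X)` and
`C_{U b}(X)`.
`exists_slx_of_norm` : from `NormF` to `SLX` (without Schur multipliers: the Steinberg relations hold in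
`G`, and they present `SL₂(F)`).
-/

set_option autoImplicit false

namespace Cfsg.Agent.HKS.SLCoord

open Subgroup MulAction Cfsg.Agent.HKS Cfsg.Agent.ONan.SL2Hom Cfsg.Agent.HKS.SLRel

section Gen

variable {G Ω : Type*} [Group G] [MulAction G Ω] {U : Ω → Subgroup G} {X : Subgroup G} {a b : Ω}

theorem genFix_le : genFix U X ≤ centralizer (X : Set G) := iSup_le fun _ => inf_le_right

theorem inf_le_genFix {c : Ω} (hc : ∀ x ∈ X, x • c = c) :
    U c ⊓ centralizer (X : Set G) ≤ genFix U X :=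
  le_iSup (fun c : {c : Ω // ∀ x ∈ X, x • c = c} => U (c : Ω) ⊓ centralizer (X : Set G)) ⟨c, hc⟩

theorem fix_smul {g : G} (hg : g ∈ centralizer (X : Set G)) {c : Ω} (hc : ∀ x ∈ X, x • c = c) :
    ∀ x ∈ X, x • g • c = g • c := by
  intro x hx
  rw [← mul_smul, mem_centralizer_iff.1 hg x hx, mul_smul, hc x hx]

theorem conj_mem (h : SSplit U) {g u : G} {c d : Ω} (hgc : g • c = d)
    (hg : g ∈ centralizer (X : Set G)) (hu : u ∈ U c ⊓ centralizer (X : Set G)) :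
    g * u * g⁻¹ ∈ U d ⊓ centralizer (X : Set G) :=
  ⟨h.conj_of_eq hgc hu.1, (centralizer (X : Set G)).mul_mem
    ((centralizer (X : Set G)).mul_mem hg hu.2) ((centralizer (X : Set G)).inv_mem hg)⟩

theorem genFix_eq_sup (h : SSplit U) (hab : b ≠ a) (ha : ∀ x ∈ X, x • a = a)
    (hb : ∀ x ∈ X, x • b = b) : genFix U X =
      (U a ⊓ centralizer (X : Set G)) ⊔ (U b ⊓ centralizer (X : Set G)) := by
  apply le_antisymm
  · refine iSup_le ?_
    rintro ⟨c, hc⟩ u hu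
    change u ∈ U c ⊓ centralizer (X : Set G) at hu
    by_cases hca : c = a
    · subst hca
      exact mem_sup_left hu
    · obtain ⟨y, hy, hyb⟩ := h.trans hab hca
      have hyC : y ∈ centralizer (X : Set G) := h.comm_of_fixSub ha hb hab hy (by rw [hyb]; exact hc)
      have h1 : y⁻¹ * u * y ∈ U b ⊓ centralizer (X : Set G) :=
        ⟨h.conj_of_eq' hyb hu.1, (centralizer (X : Set G)).mul_mem
          ((centralizer (X : Set G)).mul_mem ((centralizer (X : Set G)).inv_mem hyC) hu.2) hyC⟩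
      have h2 : u = y * (y⁻¹ * u * y) * y⁻¹ := by group
      rw [h2]
      have h3 : y ∈ (U a ⊓ centralizer (X : Set G)) ⊔ (U b ⊓ centralizer (X : Set G)) :=
        mem_sup_left ⟨hy, hyC⟩
      exact mul_mem (mul_mem h3 (mem_sup_right h1)) (inv_mem h3)
  · exact sup_le (inf_le_genFix ha) (inf_le_genFix hb)

/-- `genFix ⊓ kerFix` is central in `genFix`; more: `kerFix` centralises `genFix`. -/
theorem comm_kerFix (h : SSplit U) (hab : b ≠ a) (ha : ∀ x ∈ X, x • a = a)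
    (hb : ∀ x ∈ X, x • b = b) {k g : G} (hk : k ∈ kerFix Ω X) (hg : g ∈ genFix U X) :
    k * g = g * k := by
  rw [genFix_eq_sup h hab ha hb] at hg
  have h1 : (U a ⊓ centralizer (X : Set G)) ⊔ (U b ⊓ centralizer (X : Set G)) ≤
      centralizer {k} := by
    apply sup_le
    · intro u hu
      rw [mem_centralizer_singleton_iff]
      exact (h.comm_of_fix ha hb hab hk hu.1 hu.2).symm
    · intro u hu
      rw [mem_centralizer_singleton_iff]
      exact (h.comm_of_fix hb ha hab.symm hk hu.1 hu.2).symm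
  have h2 := h1 hg
  rw [mem_centralizer_singleton_iff] at h2
  exact h2.symm

theorem eq_of_kerFix (h : SSplit U) (hab : b ≠ a) (hb : ∀ x ∈ X, x • b = b) {u v : G}
    (hu : u ∈ U a) (hv : v ∈ U a) (hk : u⁻¹ * v ∈ kerFix Ω X) : u = v := by
  have h1 : (u⁻¹ * v) • b = b := hk b hb
  exact inv_mul_eq_one.1 (h.free hab (mul_mem (inv_mem hu) hv) h1)

end Gen

section Proj

variable {F : Type*} [Field F]

/-- the projection -/
def pj : Matrix.SpecialLinearGroup (Fin 2) F →* Matrix.ProjectiveSpecialLinearGroup (Fin 2) F :=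
  QuotientGroup.mk' _

theorem pj_eq {g g' : Matrix.SpecialLinearGroup (Fin 2) F} (h : pj g = pj g') :
    ∃ r : F, ∀ i j, g'.1 i j = r * g.1 i j := by
  have h1 : g⁻¹ * g' ∈ center (Matrix.SpecialLinearGroup (Fin 2) F) := QuotientGroup.eq.1 h
  obtain ⟨r, -, hr⟩ := Matrix.SpecialLinearGroup.mem_center_iff.1 h1
  refine ⟨r, fun i j => ?_⟩
  have h2 : g' = g * (g⁻¹ * g') := by group
  have h3 : g'.1 = g.1 * (g⁻¹ * g').1 := by
    conv_lhs => rw [h2]
    rfl
  rw [h3]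
  have h4 : (g⁻¹ * g').1 = Matrix.scalar (Fin 2) r := hr.symm
  rw [h4]
  simp [mul_comm]

theorem tM_add (s r : F) : tM (s + r) = tM s * tM r := by
  apply ext' <;> simp [mul_apply', add_comm]

@[simp] theorem lM_00 (s : F) : (lM s).1 0 0 = 1 := rfl
@[simp] theorem lM_01 (s : F) : (lM s).1 0 1 = 0 := rfl
@[simp] theorem lM_10 (s : F) : (lM s).1 1 0 = s := rfl
@[simp] theorem lM_11 (s : F) : (lM s).1 1 1 = 1 := rfl

theorem lM_add (s r : F) : lM (s + r) = lM s * lM r := by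
  apply ext' <;> simp [mul_apply']

theorem tM_zero : tM (0 : F) = 1 := by
  apply ext' <;> simp

theorem lM_zero : lM (0 : F) = 1 := by
  apply ext' <;> simp

theorem pj_tM_inj {s r : F} (h : pj (tM s) = pj (tM r)) : s = r := by
  obtain ⟨k, hk⟩ := pj_eq h
  have h1 := hk 0 0
  have h2 := hk 0 1
  rw [tM_00, tM_00, mul_one] at h1
  rw [tM_01, tM_01, ← h1, one_mul] at h2
  exact h2.symm

theorem pj_lM_inj {s r : F} (h : pj (lM s) = pj (lM r)) : s = r := by
  obtain ⟨k, hk⟩ := pj_eq h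
  have h1 := hk 0 0
  have h2 := hk 1 0
  rw [lM_00, lM_00, mul_one] at h1
  rw [lM_10, lM_10, ← h1, one_mul] at h2
  exact h2.symm

/-- the matrix of `w s` -/
theorem wS_tM {s : F} (hs : s ≠ 0) :
    wS (tM : F → _) lM s = mM (-s) (neg_ne_zero.mpr hs) := by
  unfold wS
  apply ext' <;> simp [mul_apply', hs]

theorem mM_tM (c : F) (hc : c ≠ 0) (r : F) :
    mM c hc * tM r = lM (-(c⁻¹ ^ 2 * r)) * mM c hc := by
  apply ext' <;> (simp [mul_apply']; try field_simp)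

theorem mM_lM (c : F) (hc : c ≠ 0) (r : F) :
    mM c hc * lM r = tM (-(c ^ 2 * r)) * mM c hc := by
  apply ext' <;> (simp [mul_apply']; try field_simp)

end Proj

section Norm

variable {G Ω F : Type*} [Group G] [MulAction G Ω] [Field F] {U : Ω → Subgroup G} {X : Subgroup G}
  {a b : Ω}

/-- `f : genFix U X →* PSL₂(F)` with kernel `kerFix Ω X` sends `C_{U a}(X)` to the upper, `C_{U b}(X)` to the
lower unitriangular matrices. -/
structure NormF (U : Ω → Subgroup G) (X : Subgroup G) (a b : Ω)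
    (f : genFix U X →* Matrix.ProjectiveSpecialLinearGroup (Fin 2) F) : Prop where
  ker : ∀ x : genFix U X, f x = 1 ↔ (x : G) ∈ kerFix Ω X
  up : ∀ x : genFix U X, (x : G) ∈ U a ⊓ centralizer (X : Set G) → ∃ s : F, f x = pj (tM s)
  lo : ∀ x : genFix U X, (x : G) ∈ U b ⊓ centralizer (X : Set G) → ∃ s : F, f x = pj (lM s)

/-- `g ∈ genFix U X` is represented by the matrix `A` -/
def Rp (f : genFix U X →* Matrix.ProjectiveSpecialLinearGroup (Fin 2) F) (g : G)
    (A : Matrix.SpecialLinearGroup (Fin 2) F) : Prop := ∃ hg : g ∈ genFix U X, f ⟨g, hg⟩ = pj A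

variable {f : genFix U X →* Matrix.ProjectiveSpecialLinearGroup (Fin 2) F}

theorem Rp.mul {g g' : G} {A A' : Matrix.SpecialLinearGroup (Fin 2) F} (h : Rp f g A)
    (h' : Rp f g' A') : Rp f (g * g') (A * A') := by
  obtain ⟨hg, he⟩ := h
  obtain ⟨hg', he'⟩ := h'
  exact ⟨mul_mem hg hg', by rw [map_mul, ← he, ← he', ← map_mul]; rfl⟩

theorem Rp.inv {g : G} {A : Matrix.SpecialLinearGroup (Fin 2) F} (h : Rp f g A) :
    Rp f g⁻¹ A⁻¹ := by
  obtain ⟨hg, he⟩ := h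
  exact ⟨inv_mem hg, by rw [map_inv, ← he, ← map_inv]; rfl⟩

theorem Rp.ker (N : NormF U X a b f) {g g' : G} {A : Matrix.SpecialLinearGroup (Fin 2) F}
    (h : Rp f g A) (h' : Rp f g' A) : g⁻¹ * g' ∈ kerFix Ω X := by
  obtain ⟨hg, he⟩ := h
  obtain ⟨hg', he'⟩ := h'
  have h1 : f (⟨g, hg⟩⁻¹ * ⟨g', hg'⟩) = 1 := by
    rw [map_mul, map_inv, he, he', inv_mul_cancel]
  exact (N.ker _).1 h1

theorem Rp.eq_a (h : SSplit U) (hab : b ≠ a) (hb : ∀ x ∈ X, x • b = b) (N : NormF U X a b f)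
    {g g' : G} {A : Matrix.SpecialLinearGroup (Fin 2) F} (h1 : Rp f g A) (h2 : Rp f g' A)
    (hg : g ∈ U a) (hg' : g' ∈ U a) : g = g' :=
  eq_of_kerFix h hab hb hg hg' (h1.ker N h2)

theorem Rp.eq_b (h : SSplit U) (hab : b ≠ a) (ha : ∀ x ∈ X, x • a = a) (N : NormF U X a b f)
    {g g' : G} {A : Matrix.SpecialLinearGroup (Fin 2) F} (h1 : Rp f g A) (h2 : Rp f g' A)
    (hg : g ∈ U b) (hg' : g' ∈ U b) : g = g' :=
  eq_of_kerFix h hab.symm ha hg hg' (h1.ker N h2)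

/-- the inverse of `pj ∘ tM` on `C_{U a}(X)` -/
theorem exists_T (h : SSplit U) (hab : b ≠ a) (ha : ∀ x ∈ X, x • a = a)
    (hb : ∀ x ∈ X, x • b = b) (N : NormF U X a b f) [Finite F]
    (hc : Nat.card (U a ⊓ centralizer (X : Set G) : Subgroup G) = Nat.card F) :
    ∃ T : F → G, (∀ s, T s ∈ U a ⊓ centralizer (X : Set G)) ∧ (∀ s, Rp f (T s) (tM s)) ∧
      ∀ u ∈ U a ⊓ centralizer (X : Set G), ∃ s, T s = u := by
  classical
  have key : ∀ u : (U a ⊓ centralizer (X : Set G) : Subgroup G), ∃ s : F, Rp f (u : G) (tM s) := by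
    intro u
    obtain ⟨s, hs⟩ := N.up ⟨u, inf_le_genFix ha u.2⟩ u.2
    exact ⟨s, _, hs⟩
  choose σ hσ using key
  have hinj : Function.Injective σ := by
    intro u v huv
    have h1 := hσ v
    rw [← huv] at h1
    exact Subtype.ext ((hσ u).eq_a h hab hb N h1 u.2.1 v.2.1)
  have hbij : Function.Bijective σ := by
    have : Finite (U a ⊓ centralizer (X : Set G) : Subgroup G) := Finite.of_injective σ hinj
    exact (Nat.bijective_iff_injective_and_card σ).2 ⟨hinj, hc⟩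
  let e := Equiv.ofBijective σ hbij
  refine ⟨fun s => (e.symm s : G), fun s => (e.symm s).2, fun s => ?_, fun u hu => ?_⟩
  · have h1 := hσ (e.symm s)
    have h2 : σ (e.symm s) = s := e.apply_symm_apply s
    rwa [h2] at h1
  · refine ⟨σ ⟨u, hu⟩, ?_⟩
    have h2 : e.symm (σ ⟨u, hu⟩) = ⟨u, hu⟩ := e.symm_apply_apply ⟨u, hu⟩
    change ((e.symm (σ ⟨u, hu⟩) : _) : G) = u
    rw [h2]

theorem exists_L (h : SSplit U) (hab : b ≠ a) (ha : ∀ x ∈ X, x • a = a)
    (hb : ∀ x ∈ X, x • b = b) (N : NormF U X a b f) [Finite F]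
    (hc : Nat.card (U b ⊓ centralizer (X : Set G) : Subgroup G) = Nat.card F) :
    ∃ L : F → G, (∀ s, L s ∈ U b ⊓ centralizer (X : Set G)) ∧ (∀ s, Rp f (L s) (lM s)) ∧
      ∀ u ∈ U b ⊓ centralizer (X : Set G), ∃ s, L s = u := by
  classical
  have key : ∀ u : (U b ⊓ centralizer (X : Set G) : Subgroup G), ∃ s : F, Rp f (u : G) (lM s) := by
    intro u
    obtain ⟨s, hs⟩ := N.lo ⟨u, inf_le_genFix hb u.2⟩ u.2
    exact ⟨s, _, hs⟩
  choose σ hσ using key
  have hinj : Function.Injective σ := by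
    intro u v huv
    have h1 := hσ v
    rw [← huv] at h1
    exact Subtype.ext ((hσ u).eq_b h hab ha N h1 u.2.1 v.2.1)
  have hbij : Function.Bijective σ := by
    have : Finite (U b ⊓ centralizer (X : Set G) : Subgroup G) := Finite.of_injective σ hinj
    exact (Nat.bijective_iff_injective_and_card σ).2 ⟨hinj, hc⟩
  let e := Equiv.ofBijective σ hbij
  refine ⟨fun s => (e.symm s : G), fun s => (e.symm s).2, fun s => ?_, fun u hu => ?_⟩
  · have h1 := hσ (e.symm s)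
    have h2 : σ (e.symm s) = s := e.apply_symm_apply s
    rwa [h2] at h1
  · refine ⟨σ ⟨u, hu⟩, ?_⟩
    have h2 : e.symm (σ ⟨u, hu⟩) = ⟨u, hu⟩ := e.symm_apply_apply ⟨u, hu⟩
    change ((e.symm (σ ⟨u, hu⟩) : _) : G) = u
    rw [h2]

theorem comm_E (h : SSplit U) (hab : b ≠ a) (ha : ∀ x ∈ X, x • a = a) (hb : ∀ x ∈ X, x • b = b)
    (hcyc : ∃ e ∈ Dab G a b ⊓ genFix U X, ∀ d ∈ Dab G a b ⊓ genFix U X, ∃ k : ℕ,
      d * e ^ k ∈ kerFix Ω X) {x y : G} (hx : x ∈ Dab G a b ⊓ genFix U X)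
    (hy : y ∈ Dab G a b ⊓ genFix U X) : x * y = y * x := by
  obtain ⟨e, he, h1⟩ := hcyc
  obtain ⟨k, hk⟩ := h1 x hx
  obtain ⟨l, hl⟩ := h1 y hy
  have hzz : Commute (x * e ^ k) (y * e ^ l) :=
    comm_kerFix h hab ha hb hk (mul_mem hy.2 (pow_mem he.2 l))
  have hze : Commute (x * e ^ k) e := comm_kerFix h hab ha hb hk he.2
  have hze' : Commute (y * e ^ l) e := comm_kerFix h hab ha hb hl he.2
  have h3 : Commute (x * e ^ k * (e ^ k)⁻¹) (y * e ^ l * (e ^ l)⁻¹) :=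
    Commute.mul_left (Commute.mul_right hzz (hze.pow_right l).inv_right)
      (Commute.mul_right (hze'.symm.pow_left k).inv_left
        ((Commute.refl e).pow_pow k l).inv_inv)
  rw [mul_inv_cancel_right, mul_inv_cancel_right] at h3
  exact h3

/-- **`SL₂` coordinates.** -/
structure SLX {G Ω F : Type*} [Group G] [MulAction G Ω] [Field F] (U : Ω → Subgroup G)
    (X : Subgroup G) (a b : Ω) (φ : Matrix.SpecialLinearGroup (Fin 2) F →* G) : Prop where
  ne : b ≠ a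
  fixa : ∀ x ∈ X, x • a = a
  fixb : ∀ x ∈ X, x • b = b
  up : ∀ s, φ (tM s) ∈ U a ⊓ centralizer (X : Set G)
  lo : ∀ s, φ (lM s) ∈ U b ⊓ centralizer (X : Set G)
  up_surj : ∀ u ∈ U a ⊓ centralizer (X : Set G), ∃ s, φ (tM s) = u
  lo_surj : ∀ u ∈ U b ⊓ centralizer (X : Set G), ∃ s, φ (lM s) = u
  inj : ∀ s, φ (tM s) = 1 → s = 0

theorem exists_slx_of_norm (h : SSplit U) (hab : b ≠ a) (ha : ∀ x ∈ X, x • a = a)
    (hb : ∀ x ∈ X, x • b = b) (N : NormF U X a b f) [Finite F] (hF : Odd (Nat.card F))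
    (hca : Nat.card (U a ⊓ centralizer (X : Set G) : Subgroup G) = Nat.card F)
    (hcb : Nat.card (U b ⊓ centralizer (X : Set G) : Subgroup G) = Nat.card F)
    (hcyc : ∃ e ∈ Dab G a b ⊓ genFix U X, ∀ d ∈ Dab G a b ⊓ genFix U X, ∃ k : ℕ,
      d * e ^ k ∈ kerFix Ω X) :
    ∃ φ : Matrix.SpecialLinearGroup (Fin 2) F →* G, SLX U X a b φ := by
  obtain ⟨T, hT1, hT2, hT3⟩ := exists_T h hab ha hb N hca
  obtain ⟨L, hL1, hL2, hL3⟩ := exists_L h hab ha hb N hcb
  have hTne : ∀ s, s ≠ 0 → T s ≠ 1 := by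
    intro s hs h1
    apply hs
    obtain ⟨h2, h3⟩ := hT2 s
    apply pj_tM_inj
    rw [tM_zero, map_one, ← h3, N.ker]
    change T s ∈ kerFix Ω X
    rw [h1]
    exact one_mem _
  have hLne : ∀ s, s ≠ 0 → L s ≠ 1 := by
    intro s hs h1
    apply hs
    obtain ⟨h2, h3⟩ := hL2 s
    apply pj_lM_inj
    rw [lM_zero, map_one, ← h3, N.ker]
    change L s ∈ kerFix Ω X
    rw [h1]
    exact one_mem _
  have hw : ∀ s (hs : s ≠ 0), Rp f (wS T L s) (mM (-s) (neg_ne_zero.mpr hs)) := by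
    intro s hs
    rw [← wS_tM hs]
    exact ((hT2 s).mul (hL2 _)).mul (hT2 s)
  have hsa : ∀ s, s ≠ 0 → wS T L s • a = b := by
    intro s hs
    by_contra hc
    have h1 := ((hw s hs).mul (hT2 1)).mul (hw s hs).inv
    rw [mM_tM, mul_inv_cancel_right] at h1
    have h2 : (L (-((-s)⁻¹ ^ 2 * 1)))⁻¹ * (wS T L s * T 1 * (wS T L s)⁻¹) ∈ kerFix Ω X :=
      (hL2 _).ker N h1
    have h3 := h2 b hb
    rw [mul_smul, inv_smul_eq_iff, h.fix (hL1 _).1] at h3
    have h4 : wS T L s * T 1 * (wS T L s)⁻¹ ∈ U (wS T L s • a) := h.conj _ (hT1 1).1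
    have h5 := h.free (fun e => hc e.symm) h4 h3
    apply hTne 1 one_ne_zero
    have h6 : T 1 = (wS T L s)⁻¹ * (wS T L s * T 1 * (wS T L s)⁻¹) * wS T L s := by group
    rw [h6, h5]; group
  have hsb : ∀ s, s ≠ 0 → wS T L s • b = a := by
    intro s hs
    by_contra hc
    have h1 := ((hw s hs).mul (hL2 1)).mul (hw s hs).inv
    rw [mM_lM, mul_inv_cancel_right] at h1
    have h2 : (T (-((-s) ^ 2 * 1)))⁻¹ * (wS T L s * L 1 * (wS T L s)⁻¹) ∈ kerFix Ω X :=
      (hT2 _).ker N h1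
    have h3 := h2 a ha
    rw [mul_smul, inv_smul_eq_iff, h.fix (hT1 _).1] at h3
    have h4 : wS T L s * L 1 * (wS T L s)⁻¹ ∈ U (wS T L s • b) := h.conj _ (hL1 1).1
    have h5 := h.free (fun e => hc e.symm) h4 h3
    apply hLne 1 one_ne_zero
    have h6 : L 1 = (wS T L s)⁻¹ * (wS T L s * L 1 * (wS T L s)⁻¹) * wS T L s := by group
    rw [h6, h5]; group
  have hgen : ∀ s, s ≠ 0 → wS T L s ∈ genFix U X := fun s hs => (hw s hs).1
  have hnE : ∀ s, s ≠ 0 → nS T L s ∈ Dab G a b ⊓ genFix U X := by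
    intro s hs
    have h1 : (-1 : F) ≠ 0 := neg_ne_zero.mpr one_ne_zero
    exact ⟨Swaps.mul ⟨hsa s hs, hsb s hs⟩ ⟨hsa _ h1, hsb _ h1⟩,
      (genFix U X).mul_mem (hgen s hs) (hgen _ h1)⟩
  have R : SRel T L :=
    { T_add := fun s r => ((hT2 (s + r)).eq_a h hab hb N (by
        rw [tM_add]; exact (hT2 s).mul (hT2 r)) (hT1 _).1 ((U a).mul_mem (hT1 s).1 (hT1 r).1))
      L_add := fun s r => ((hL2 (s + r)).eq_b h hab ha N (by
        rw [lM_add]; exact (hL2 s).mul (hL2 r)) (hL1 _).1 ((U b).mul_mem (hL1 s).1 (hL1 r).1))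
      wT := fun s hs r => by
        rw [← mul_inv_eq_iff_eq_mul]
        have h1 := ((hw s hs).mul (hT2 r)).mul (hw s hs).inv
        rw [mM_tM, mul_inv_cancel_right] at h1
        have e : (-s)⁻¹ ^ 2 = s⁻¹ ^ 2 := by rw [inv_neg, neg_sq]
        rw [e] at h1
        exact h1.eq_b h hab ha N (hL2 _) (h.conj_of_eq (hsa s hs) (hT1 r).1) (hL1 _).1
      wL := fun s hs r => by
        rw [← mul_inv_eq_iff_eq_mul]
        have h1 := ((hw s hs).mul (hL2 r)).mul (hw s hs).inv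
        rw [mM_lM, mul_inv_cancel_right, neg_sq] at h1
        exact h1.eq_a h hab hb N (hT2 _) (h.conj_of_eq (hsb s hs) (hL1 r).1) (hT1 _).1
      comm := fun r s hr hs => comm_E h hab ha hb hcyc (hnE r hr) (hnE s hs) }
  obtain ⟨φ, h1, h2, -⟩ := R.exists_hom hF
  refine ⟨φ, hab, ha, hb, fun s => ?_, fun s => ?_, fun u hu => ?_, fun u hu => ?_, fun s hs => ?_⟩
  · rw [h1]; exact hT1 s
  · rw [h2]; exact hL1 s
  · obtain ⟨s, hs⟩ := hT3 u hu
    exact ⟨s, by rw [h1, hs]⟩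
  · obtain ⟨s, hs⟩ := hL3 u hu
    exact ⟨s, by rw [h2, hs]⟩
  · rw [h1] at hs
    by_contra hc
    exact hTne s hc hs

end Norm

end Cfsg.Agent.HKS.SLCoord
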