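import Mathlib
import Cfsg.Agent.HKS.SLCoord

/-!
# Consequences of `SL₂` coordinates

For `S : SLX U X a b φ`: `range φ = genFix U X`; `φ (mM c)` swaps `a` and `b`; `φ A` fixes `a` iff
`A 1 0 = 0`, fixes `b` iff `A 0 1 = 0`; `genFix U X ⊓ kerFix Ω X ≤ {1, φ (-1)}`; if
`1 ≠ t ∈ genFix U (zpowers t)` then `φ (-1) = t` and `φ` is injective.
-/

set_option autoImplicit false

namespace Cfsg.Agent.HKS.SLCoord

open Subgroup MulAction Cfsg.Agent.HKS Cfsg.Agent.ONan.SL2Hom Cfsg.Agent.HKS.SLRel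

variable {G Ω F : Type*} [Group G] [MulAction G Ω] [Field F] {U : Ω → Subgroup G} {X : Subgroup G}
  {a b : Ω} {φ : Matrix.SpecialLinearGroup (Fin 2) F →* G}

theorem nM_eq (r : F) (hr : r ≠ 0) :
    nM r hr = mM (-r) (neg_ne_zero.mpr hr) * mM 1 one_ne_zero := by
  apply ext' <;> simp [mul_apply']

theorem neg_one_eq : (-1 : Matrix.SpecialLinearGroup (Fin 2) F) =
    nM (-1) (neg_ne_zero.mpr one_ne_zero) := by
  apply ext' <;> simp

theorem mM_mul_self (c : F) (hc : c ≠ 0) : mM c hc * mM c hc = -1 := by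
  apply ext' <;> simp [mul_apply', hc]

theorem tM_inv (s : F) : (tM s)⁻¹ = tM (-s) := by
  rw [inv_eq_iff_mul_eq_one, ← tM_add, add_neg_cancel, tM_zero]

theorem lM_inv (s : F) : (lM s)⁻¹ = lM (-s) := by
  rw [inv_eq_iff_mul_eq_one, ← lM_add, add_neg_cancel, lM_zero]

theorem nM_tM (r : F) (hr : r ≠ 0) (s : F) : nM r hr * tM s = tM (r ^ 2 * s) * nM r hr := by
  apply ext' <;> simp [mul_apply']
  field_simp

theorem nM_lM (r : F) (hr : r ≠ 0) (s : F) : nM r hr * lM s = lM (r⁻¹ ^ 2 * s) * nM r hr := by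
  apply ext' <;> simp [mul_apply']
  field_simp

namespace SLX

theorem tM_gen (S : SLX U X a b φ) (s : F) : φ (tM s) ∈ genFix U X := inf_le_genFix S.fixa (S.up s)

theorem lM_gen (S : SLX U X a b φ) (s : F) : φ (lM s) ∈ genFix U X := inf_le_genFix S.fixb (S.lo s)

theorem mM_gen (S : SLX U X a b φ) (c : F) (hc : c ≠ 0) : φ (mM c hc) ∈ genFix U X := by
  have h1 : mM c hc = wS tM lM (-c) := by
    rw [wS_tM (neg_ne_zero.mpr hc)]
    congr 1
    rw [neg_neg]
  rw [h1]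
  unfold wS
  rw [map_mul, map_mul]
  exact mul_mem (mul_mem (S.tM_gen _) (S.lM_gen _)) (S.tM_gen _)

theorem nM_gen (S : SLX U X a b φ) (r : F) (hr : r ≠ 0) : φ (nM r hr) ∈ genFix U X := by
  rw [nM_eq, map_mul]
  exact mul_mem (S.mM_gen _ _) (S.mM_gen _ _)

theorem gen (S : SLX U X a b φ) (A : Matrix.SpecialLinearGroup (Fin 2) F) :
    φ A ∈ genFix U X := by
  rcases decomp (one_ne_zero (α := F)) A with ⟨r, hr, x, rfl⟩ | ⟨r, hr, x, y, rfl⟩
  · rw [map_mul]
    exact mul_mem (S.nM_gen _ _) (S.tM_gen _)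
  · rw [map_mul, map_mul, map_mul]
    exact mul_mem (S.tM_gen _) (mul_mem (S.nM_gen _ _) (mul_mem (S.mM_gen _ _) (S.tM_gen _)))

theorem range_eq (S : SLX U X a b φ) (h : SSplit U) : φ.range = genFix U X := by
  apply le_antisymm
  · rintro _ ⟨A, rfl⟩
    exact S.gen A
  · rw [genFix_eq_sup h S.ne S.fixa S.fixb]
    apply sup_le
    · intro u hu
      obtain ⟨s, hs⟩ := S.up_surj u hu
      exact ⟨_, hs⟩
    · intro u hu
      obtain ⟨s, hs⟩ := S.lo_surj u hu
      exact ⟨_, hs⟩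

theorem tM_ne (S : SLX U X a b φ) {s : F} (hs : s ≠ 0) : φ (tM s) ≠ 1 := fun h => hs (S.inj s h)

theorem tM_inj (S : SLX U X a b φ) {s r : F} (h : φ (tM s) = φ (tM r)) : s = r := by
  have h1 : φ (tM (s + -r)) = 1 := by
    rw [tM_add, ← tM_inv, map_mul, map_inv, h, mul_inv_cancel]
  have h2 := S.inj _ h1
  rwa [← sub_eq_add_neg, sub_eq_zero] at h2

theorem lM_ne (S : SLX U X a b φ) {s : F} (hs : s ≠ 0) : φ (lM s) ≠ 1 := by
  intro h1
  have h2 : mM (1 : F) one_ne_zero * lM s = tM (-(1 ^ 2 * s)) * mM 1 one_ne_zero := mM_lM 1 _ s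
  have h3 : φ (tM (-(1 ^ 2 * s))) = 1 := by
    have h4 := congrArg φ h2
    rw [map_mul, map_mul, h1, mul_one] at h4
    exact (mul_eq_right.1 h4.symm)
  have := S.inj _ h3
  rw [one_pow, one_mul, neg_eq_zero] at this
  exact hs this

theorem lM_inj (S : SLX U X a b φ) {s r : F} (h : φ (lM s) = φ (lM r)) : s = r := by
  have h1 : φ (lM (s + -r)) = 1 := by
    rw [lM_add, ← lM_inv, map_mul, map_inv, h, mul_inv_cancel]
  by_contra hc
  refine S.lM_ne ?_ h1
  rwa [← sub_eq_add_neg, sub_ne_zero]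

theorem mM_swaps (S : SLX U X a b φ) (h : SSplit U) (c : F) (hc : c ≠ 0) :
    Swaps (φ (mM c hc)) a b := by
  constructor
  · by_contra hne
    have h1 : φ (mM c hc) * φ (tM 1) * (φ (mM c hc))⁻¹ = φ (lM (-(c⁻¹ ^ 2 * 1))) := by
      rw [← map_mul, mM_tM, map_mul, mul_inv_cancel_right]
    have h2 : φ (mM c hc) * φ (tM 1) * (φ (mM c hc))⁻¹ ∈ U (φ (mM c hc) • a) :=
      h.conj _ (S.up 1).1
    rw [h1] at h2
    have h3 := h.free (fun e => hne e.symm) h2 (h.fix (S.lo _).1)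
    refine S.lM_ne ?_ h3
    rw [mul_one]
    exact neg_ne_zero.mpr (pow_ne_zero 2 (inv_ne_zero hc))
  · by_contra hne
    have h1 : φ (mM c hc) * φ (lM 1) * (φ (mM c hc))⁻¹ = φ (tM (-(c ^ 2 * 1))) := by
      rw [← map_mul, mM_lM, map_mul, mul_inv_cancel_right]
    have h2 : φ (mM c hc) * φ (lM 1) * (φ (mM c hc))⁻¹ ∈ U (φ (mM c hc) • b) :=
      h.conj _ (S.lo 1).1
    rw [h1] at h2
    have h3 := h.free (fun e => hne e.symm) h2 (h.fix (S.up _).1)
    refine S.tM_ne ?_ h3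
    rw [mul_one]
    exact neg_ne_zero.mpr (pow_ne_zero 2 hc)

theorem nM_mem (S : SLX U X a b φ) (h : SSplit U) (r : F) (hr : r ≠ 0) :
    φ (nM r hr) ∈ Dab G a b := by
  rw [nM_eq, map_mul]
  exact (S.mM_swaps h _ _).mul (S.mM_swaps h _ _)

theorem fix_a_iff (S : SLX U X a b φ) (h : SSplit U) (A : Matrix.SpecialLinearGroup (Fin 2) F) :
    φ A • a = a ↔ A.1 1 0 = 0 := by
  rcases decomp (one_ne_zero (α := F)) A with ⟨r, hr, x, rfl⟩ | ⟨r, hr, x, y, rfl⟩
  · constructor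
    · intro _
      simp [mul_apply']
    · intro _
      rw [map_mul, mul_smul, h.fix (S.up x).1]
      exact (S.nM_mem h r hr).1
  · constructor
    · intro h1
      exfalso
      rw [map_mul, map_mul, map_mul, mul_smul, mul_smul, mul_smul, h.fix (S.up y).1,
        (S.mM_swaps h _ _).1, (S.nM_mem h r hr).2] at h1
      exact h.smul_ne_center S.ne (S.up x).1 h1
    · intro h1
      exfalso
      simp [mul_apply', hr] at h1

theorem fix_b_iff (S : SLX U X a b φ) (h : SSplit U) (A : Matrix.SpecialLinearGroup (Fin 2) F) :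
    φ A • b = b ↔ A.1 0 1 = 0 := by
  have h1 := S.mM_swaps h 1 one_ne_zero
  have h2 := S.fix_a_iff h (mM 1 one_ne_zero * A * (mM 1 one_ne_zero)⁻¹)
  have h3 : (mM 1 one_ne_zero * A * (mM 1 one_ne_zero)⁻¹).1 1 0 = -(A.1 0 1) := by
    have h4 : (mM (1 : F) one_ne_zero)⁻¹ = mM (-1) (neg_ne_zero.mpr one_ne_zero) := by
      rw [inv_eq_iff_mul_eq_one]
      apply ext' <;> simp [mul_apply']
    rw [h4]
    simp [mul_apply']
  rw [h3, neg_eq_zero] at h2
  rw [← h2, map_mul, map_mul, map_inv, mul_smul, mul_smul, inv_smul_eq_iff.2 h1.2.symm]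
  constructor
  · intro h5
    rw [h5, h1.2]
  · intro h5
    have h6 := (smul_left_cancel_iff (φ (mM 1 one_ne_zero))).1 (h5.trans h1.2.symm)
    exact h6

theorem eq_nM (S : SLX U X a b φ) (h : SSplit U) {A : Matrix.SpecialLinearGroup (Fin 2) F}
    (ha : φ A • a = a) (hb : φ A • b = b) : ∃ (r : F) (hr : r ≠ 0), A = nM r hr := by
  rw [S.fix_a_iff h] at ha
  rw [S.fix_b_iff h] at hb
  have hd := det_eq A
  rw [ha, hb, mul_zero, sub_zero] at hd
  have h0 : A.1 0 0 ≠ 0 := left_ne_zero_of_mul_eq_one hd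
  refine ⟨A.1 0 0, h0, ?_⟩
  apply ext'
  · rfl
  · exact hb
  · exact ha
  · rw [nM_11]
    exact eq_inv_of_mul_eq_one_right hd

/-- an element of `SL₂` centralising the unipotent elements `φ (tM s)` and lying in the torus -/
theorem eq_pm_of_comm (S : SLX U X a b φ) {r : F} (hr : r ≠ 0)
    (hc : φ (nM r hr) * φ (tM 1) = φ (tM 1) * φ (nM r hr)) : nM r hr = 1 ∨ nM r hr = -1 := by
  have h1 : φ (tM (r ^ 2 * 1)) = φ (tM 1) := by
    have h2 : φ (nM r hr) * φ (tM 1) = φ (tM (r ^ 2 * 1)) * φ (nM r hr) := by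
      rw [← map_mul, nM_tM, map_mul]
    rw [h2] at hc
    exact mul_right_cancel hc
  have h2 := S.tM_inj h1
  rw [mul_one, pow_two] at h2
  rcases mul_self_eq_one_iff.1 h2 with h3 | h3
  · left
    subst h3
    apply ext' <;> simp
  · right
    subst h3
    exact neg_one_eq.symm

theorem eq_pm (S : SLX U X a b φ) (h : SSplit U) {A : Matrix.SpecialLinearGroup (Fin 2) F}
    (hA : φ A ∈ kerFix Ω X) : A = 1 ∨ A = -1 := by
  obtain ⟨r, hr, rfl⟩ := S.eq_nM h (hA a S.fixa) (hA b S.fixb)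
  exact S.eq_pm_of_comm hr (comm_kerFix h S.ne S.fixa S.fixb hA (S.tM_gen 1))

theorem eq_neg (S : SLX U X a b φ) (h : SSplit U) {g : G} (hg : g ∈ genFix U X)
    (hk : g ∈ kerFix Ω X) : g = 1 ∨ g = φ (-1) := by
  rw [← S.range_eq h] at hg
  obtain ⟨A, rfl⟩ := hg
  rcases S.eq_pm h hk with h1 | h1
  · left; rw [h1, map_one]
  · right; rw [h1]

theorem injective_of (S : SLX U X a b φ) (h : SSplit U) (hn : φ (-1) ≠ 1) :
    Function.Injective φ := by
  rw [injective_iff_map_eq_one]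
  intro A hA
  rcases S.eq_pm h (A := A) (by rw [hA]; exact one_mem _) with h1 | h1
  · exact h1
  · rw [h1] at hA
    exact absurd hA hn

end SLX

/-- If `1 ≠ t ∈ genFix U (zpowers t)` then `φ (-1) = t` and `φ` is injective. -/
theorem SLX.neg_eq {t : G} (S : SLX U (zpowers t) a b φ) (h : SSplit U) (ht1 : t ≠ 1)
    (ht : t ∈ genFix U (zpowers t)) : φ (-1) = t ∧ Function.Injective φ := by
  have h1 : t ∈ kerFix Ω (zpowers t) := fun c hc => hc t (mem_zpowers t)
  have h2 : t = φ (-1) := by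
    rcases S.eq_neg h ht h1 with h2 | h2
    · exact absurd h2 ht1
    · exact h2
  exact ⟨h2.symm, S.injective_of h (by rw [← h2]; exact ht1)⟩

end Cfsg.Agent.HKS.SLCoord
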