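import Mathlib
import Cfsg.Agent.HKS.SLXFacts

/-!
# `SL₂(3)` coordinates

`exists_slx_three` : if `|C_{U a}(X)| = 3` there are coordinates `SLX U X a b φ`, `φ : SL₂(3) →* G`.
-/

set_option autoImplicit false

namespace Cfsg.Agent.HKS.SLCoord

open Subgroup MulAction Cfsg.Agent.HKS Cfsg.Agent.ONan.SL2Hom Cfsg.Agent.HKS.SLRel

section Pow

variable {G : Type*} [Group G]

/-- the powers of `x` -/
def pw (x : G) (s : ZMod 3) : G := x ^ s.val

theorem pw_add {x : G} (hx : x ^ 3 = 1) (s r : ZMod 3) : pw x (s + r) = pw x s * pw x r := by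
  unfold pw
  rw [← pow_add, ZMod.val_add, ← pow_eq_pow_mod _ hx]

theorem pw_one (x : G) : pw x 1 = x := by
  unfold pw
  rw [ZMod.val_one, pow_one]

theorem pw_zero (x : G) : pw x 0 = 1 := by
  unfold pw
  rw [ZMod.val_zero, pow_zero]

theorem pw_neg {x : G} (hx : x ^ 3 = 1) (s : ZMod 3) : pw x (-s) = (pw x s)⁻¹ := by
  apply eq_inv_of_mul_eq_one_left
  rw [← pw_add hx, neg_add_cancel, pw_zero]

theorem pw_conj {x y w : G} (h : w * x * w⁻¹ = y) (s : ZMod 3) :
    w * pw x s * w⁻¹ = pw y s := by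
  unfold pw
  rw [← conj_pow, h]

theorem pw_inv {x : G} (hx : x ^ 3 = 1) (s : ZMod 3) : pw x⁻¹ s = pw x (-s) := by
  rw [pw_neg hx]
  unfold pw
  rw [inv_pow]

theorem pw_surj {P : Subgroup G} (hP : Nat.card P = 3) {x : G} (hx : x ∈ P) (hx1 : x ≠ 1) {u : G}
    (hu : u ∈ P) : ∃ s, pw x s = u := by
  have hfact : Fact (Nat.Prime 3) := ⟨Nat.prime_three⟩
  have h1 : (⟨x, hx⟩ : P) ≠ 1 := fun h => hx1 (congrArg Subtype.val h)
  have h2 : (⟨u, hu⟩ : P) ∈ Submonoid.powers (⟨x, hx⟩ : P) := mem_powers_of_prime_card hP h1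
  obtain ⟨k, hk⟩ := h2
  have h3 : x ^ k = u := congrArg Subtype.val hk
  have h4 : x ^ 3 = 1 := by
    have h5 : (⟨x, hx⟩ : P) ^ 3 = 1 := by rw [← hP]; exact pow_card_eq_one'
    exact congrArg Subtype.val h5
  refine ⟨(k : ZMod 3), ?_⟩
  unfold pw
  rw [ZMod.val_natCast, ← pow_eq_pow_mod _ h4, h3]

end Pow

variable {G Ω : Type*} [Group G] [MulAction G Ω] {U : Ω → Subgroup G} {X : Subgroup G} {a b : Ω}

theorem exists_slx_three [Finite Ω] (h : SSplit U) (hab : b ≠ a) (ha : ∀ x ∈ X, x • a = a)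
    (hb : ∀ x ∈ X, x • b = b)
    (hc3 : Nat.card (U a ⊓ centralizer (X : Set G) : Subgroup G) = 3) :
    ∃ φ : Matrix.SpecialLinearGroup (Fin 2) (ZMod 3) →* G, SLX U X a b φ := by
  have hc3' : Nat.card (U b ⊓ centralizer (X : Set G) : Subgroup G) = 3 := by
    have h1 := h.card_fixSub hab ha hb
    have h2 := h.card_fixSub hab.symm hb ha
    omega
  set C := centralizer (X : Set G) with hC
  -- the element `x`
  obtain ⟨x, hxP, hx1⟩ : ∃ x ∈ U a ⊓ C, x ≠ 1 := by
    by_contra hcon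
    push Not at hcon
    have : U a ⊓ C = ⊥ := (eq_bot_iff_forall _).2 hcon
    rw [this, card_bot] at hc3
    omega
  have hpow : ∀ {P : Subgroup G}, Nat.card P = 3 → ∀ y ∈ P, y ^ 3 = 1 := by
    intro P hP y hy
    have h5 : (⟨y, hy⟩ : P) ^ 3 = 1 := by rw [← hP]; exact pow_card_eq_one'
    exact congrArg Subtype.val h5
  have hx3 : x ^ 3 = 1 := hpow hc3 x hxP
  have hx2 : x ^ 2 ≠ 1 := by
    intro h2
    apply hx1
    rw [pow_succ, h2, one_mul] at hx3
    exact hx3
  set c := x • b with hcdef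
  set d := x • c with hddef
  have hxd : x • d = b := by
    rw [hddef, hcdef, ← mul_smul, ← mul_smul]
    have : x * x * x = x ^ 3 := by rw [pow_succ, pow_two]
    rw [this, hx3, one_smul]
  have hcfix : ∀ y ∈ X, y • c = c := fix_smul hxP.2 hb
  have hdfix : ∀ y ∈ X, y • d = d := fix_smul hxP.2 hcfix
  have hcb : c ≠ b := h.smul_ne_of_ne hab hxP.1 hx1
  have hca : c ≠ a := h.smul_ne_center hab hxP.1
  have hda : d ≠ a := h.smul_ne_center hca hxP.1
  have hdb : d ≠ b := by
    intro he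
    have h1 : (x ^ 2) • b = b := by
      rw [pow_two, mul_smul]; exact he
    exact hx2 (h.free hab ((U a).pow_mem hxP.1 2) h1)
  have hdc : d ≠ c := h.smul_ne_of_ne hca hxP.1 hx1
  -- all fixed points
  have hall : ∀ e : Ω, (∀ y ∈ X, y • e = e) → e = a ∨ e = b ∨ e = c ∨ e = d := by
    intro e he
    by_cases hea : e = a
    · exact Or.inl hea
    obtain ⟨u, hu, hub⟩ := h.trans hab hea
    have huC : u ∈ C := h.comm_of_fixSub ha hb hab hu (by rw [hub]; exact he)
    obtain ⟨s, hs⟩ := pw_surj hc3 hxP hx1 (u := u) ⟨hu, huC⟩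
    right
    have h3 : ∀ s : ZMod 3, s = 0 ∨ s = 1 ∨ s = 1 + 1 := by decide
    rcases h3 s with rfl | rfl | rfl
    · left
      rw [pw_zero] at hs
      rw [← hub, ← hs, one_smul]
    · right; left
      rw [pw_one] at hs
      rw [← hub, ← hs]
    · right; right
      rw [pw_add hx3, pw_one] at hs
      rw [← hub, ← hs, mul_smul]
  -- the element `z'`
  obtain ⟨z, hz, hza⟩ := h.trans (a := b) (b := a) (c := d) hab.symm hdb
  have hzC : z ∈ C := h.comm_of_fixSub hb ha hab.symm hz (by rw [hza]; exact hdfix)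
  have hz1 : z ≠ 1 := by
    rintro rfl
    rw [one_smul] at hza
    exact hda hza.symm
  have hz3 : z ^ 3 = 1 := hpow hc3' z ⟨hz, hzC⟩
  have hz2 : z ^ 2 ≠ 1 := by
    intro h2
    apply hz1
    rw [pow_succ, h2, one_mul] at hz3
    exact hz3
  have hzd : z • d = c := by
    rcases hall (z • d) (fix_smul hzC hdfix) with h1 | h1 | h1 | h1
    · exfalso
      apply hz2
      refine h.free hab.symm ((U b).pow_mem hz 2) ?_
      rw [pow_two, mul_smul, hza, h1]
    · exact absurd h1 (h.smul_ne_center hdb hz)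
    · exact h1
    · exact absurd h1 (h.smul_ne_of_ne hdb hz hz1)
  have hzc : z • c = a := by
    rw [← hzd, ← hza, ← mul_smul, ← mul_smul]
    have : z * z * z = z ^ 3 := by rw [pow_succ, pow_two]
    rw [this, hz3, one_smul]
  have hxb : x • b = c := rfl
  have hxc : x • c = d := rfl
  have hxa : x • a = a := h.fix hxP.1
  have hzb : z • b = b := h.fix hz
  set w := x * z * x with hw
  have hwa : w • a = b := by rw [hw, mul_smul, mul_smul, hxa, hza, hxd]
  have hwb : w • b = a := by rw [hw, mul_smul, mul_smul, hxb, hzc, hxa]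
  have hwc : w • c = d := by rw [hw, mul_smul, mul_smul, hxc, hzd, hxc]
  have hwd : w • d = c := by rw [hw, mul_smul, mul_smul, hxd, hzb, hxb]
  have hwx : w * x * w⁻¹ = z := by
    refine h.eq_of_smul_eq hab.symm (h.conj_of_eq hwa hxP.1) hz ?_
    rw [mul_smul, mul_smul, inv_smul_eq_iff.2 hwb.symm, hxb, hwc, hza]
  have hwz : w * z * w⁻¹ = x := by
    refine h.eq_of_smul_eq hab (h.conj_of_eq hwb hz) hxP.1 ?_
    rw [mul_smul, mul_smul, inv_smul_eq_iff.2 hwa.symm, hza, hwd, hxb]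
  have hz3' : z⁻¹ ^ 3 = 1 := by rw [inv_pow, hz3, inv_one]
  -- the relations
  have hw1 : wS (pw x) (pw z⁻¹) 1 = w := by
    unfold wS
    rw [inv_one, pw_neg hz3', pw_one, pw_one, inv_inv]
  have hwn : wS (pw x) (pw z⁻¹) (-1) = w⁻¹ := by
    unfold wS
    rw [inv_neg, inv_one, neg_neg, pw_neg hx3, pw_one, pw_one, hw]
    group
  have hT : ∀ r, w * pw x r * w⁻¹ = pw z⁻¹ (-r) := by
    intro r
    rw [pw_inv hz3, neg_neg, pw_conj hwx]
  have hL : ∀ r, w * pw z⁻¹ r * w⁻¹ = pw x (-r) := by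
    intro r
    rw [pw_inv hz3, pw_conj hwz]
  have hs : ∀ s : ZMod 3, s ≠ 0 → s = 1 ∨ s = -1 := by decide
  have R : SRel (pw x) (pw z⁻¹) :=
    { T_add := pw_add hx3
      L_add := pw_add hz3'
      wT := by
        intro s hs0 r
        rcases hs s hs0 with rfl | rfl
        · rw [hw1, inv_one, one_pow, one_mul, ← hT]
          group
        · rw [hwn, inv_neg, inv_one, neg_sq, one_pow, one_mul]
          have h1 := hL (-r)
          rw [neg_neg] at h1
          rw [← h1]; group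
      wL := by
        intro s hs0 r
        rcases hs s hs0 with rfl | rfl
        · rw [hw1, one_pow, one_mul, ← hL]
          group
        · rw [hwn, neg_sq, one_pow, one_mul]
          have h1 := hT (-r)
          rw [neg_neg] at h1
          rw [← h1]; group
      comm := by
        intro r s hr0 hs0
        have h1 : nS (pw x) (pw z⁻¹) 1 = 1 := by
          unfold nS
          rw [hw1, hwn, mul_inv_cancel]
        rcases hs r hr0 with rfl | rfl
        · rw [h1, one_mul, mul_one]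
        · rcases hs s hs0 with rfl | rfl
          · rw [h1, one_mul, mul_one]
          · rfl }
  have hodd : Odd (Nat.card (ZMod 3)) := by
    rw [Nat.card_zmod]
    decide
  obtain ⟨φ, h1, h2, -⟩ := R.exists_hom hodd
  have hxs : ∀ s, pw x s ∈ U a ⊓ C := fun s => pow_mem hxP _
  have hzs : ∀ s, pw z⁻¹ s ∈ U b ⊓ C := fun s => pow_mem (inv_mem (⟨hz, hzC⟩ : z ∈ U b ⊓ C)) _
  refine ⟨φ, hab, ha, hb, fun s => ?_, fun s => ?_, fun u hu => ?_, fun u hu => ?_, fun s hs1 => ?_⟩
  · rw [h1]; exact hxs s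
  · rw [h2]; exact hzs s
  · obtain ⟨s, hs2⟩ := pw_surj hc3 hxP hx1 hu
    exact ⟨s, by rw [h1, hs2]⟩
  · obtain ⟨s, hs2⟩ := pw_surj hc3' (inv_mem (⟨hz, hzC⟩ : z ∈ U b ⊓ C))
      (fun h3 => hz1 (inv_eq_one.1 h3)) hu
    exact ⟨s, by rw [h2, hs2]⟩
  · rw [h1] at hs1
    by_contra hne
    rcases hs s hne with rfl | rfl
    · rw [pw_one] at hs1
      exact hx1 hs1
    · rw [pw_neg hx3, pw_one, inv_eq_one] at hs1
      exact hx1 hs1

end Cfsg.Agent.HKS.SLCoord
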