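import Mathlib
import Cfsg.Agent.HKS.SLThree
import Cfsg.Agent.HKS.EndL

/-!
# The normalised projection onto `PSL₂(F)` and `SL₂` coordinates from type `DL`

`exists_norm` : a surjection `genFix U X →* PSL₂(F)` with kernel `kerFix Ω X` can be normalised.
`exists_slx_of_DL` : coordinates `SLX` from type `DL` at `X`.
-/

set_option autoImplicit false

namespace Cfsg.Agent.HKS.SLCoord

open Subgroup MulAction Cfsg.Agent.HKS Cfsg.Agent.ONan.SL2Hom Cfsg.Agent.HKS.SLRel

variable {G Ω : Type*} [Group G] [MulAction G Ω] {U : Ω → Subgroup G} {X : Subgroup G} {a b : Ω}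

theorem um_eq_tM {F : Type*} [Field F] (s : F) : EndL.um s = tM s := rfl

theorem wl_eq (F : Type*) [Field F] : EndL.wl F = mM (-1) (neg_ne_zero.mpr one_ne_zero) := by
  apply ext' <;> simp [EndL.wl]

theorem wl_tM {F : Type*} [Field F] (s : F) : EndL.wl F * tM s * (EndL.wl F)⁻¹ = lM (-s) := by
  rw [mul_inv_eq_iff_eq_mul, wl_eq, mM_tM]
  congr 2
  rw [inv_neg, inv_one]
  ring

theorem exists_norm (h : SSplit U) (hab : b ≠ a) (ha : ∀ x ∈ X, x • a = a)
    (hb : ∀ x ∈ X, x • b = b) {F : Type*} [Field F] [Fintype F] (hF : Odd (Fintype.card F))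
    (hc : Nat.card (U a ⊓ centralizer (X : Set G) : Subgroup G) = Fintype.card F)
    (f : genFix U X →* Matrix.ProjectiveSpecialLinearGroup (Fin 2) F)
    (hf : Function.Surjective f) (hker : ∀ x : genFix U X, f x = 1 ↔ (x : G) ∈ kerFix Ω X) :
    ∃ f' : genFix U X →* Matrix.ProjectiveSpecialLinearGroup (Fin 2) F, NormF U X a b f' := by
  classical
  obtain ⟨v, hv⟩ := hF
  obtain ⟨p, -, n, hp, hn⟩ := FiniteField.card' F
  have hfp : Fact p.Prime := ⟨hp⟩
  set L := Matrix.ProjectiveSpecialLinearGroup (Fin 2) F with hL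
  have hfin : Finite (Matrix.SpecialLinearGroup (Fin 2) F) := Subtype.finite
  have hfinL : Finite L := Quotient.finite _
  set P : Subgroup (genFix U X) := (U a ⊓ centralizer (X : Set G)).subgroupOf (genFix U X) with hP
  have hPle : U a ⊓ centralizer (X : Set G) ≤ genFix U X := inf_le_genFix ha
  have hPcard : Nat.card P = Fintype.card F := by
    rw [← hc]
    exact Nat.card_congr (subgroupOfEquivOfLe hPle).toEquiv
  -- injectivity on `P`
  have hinj : ∀ x ∈ P, f x = 1 → x = 1 := by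
    intro x hx h1
    have h2 : (x : G) • b = b := (hker x).1 h1 b hb
    exact Subtype.ext (h.free hab hx.1 h2)
  have hmap : Nat.card (P.map f) = Fintype.card F := by
    rw [← hPcard]
    have hinj' : Function.Injective (f.comp P.subtype) := by
      rw [injective_iff_map_eq_one]
      intro x hx
      exact Subtype.ext (hinj x x.2 hx)
    have h3 : P.map f = (f.comp P.subtype).range := by
      rw [MonoidHom.range_comp, range_subtype]
    rw [h3]
    exact (Nat.card_congr (MonoidHom.ofInjective hinj').toEquiv).symm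
  -- orders
  have hN := SmallSimple.PSLTwoPart.card_psl_two_odd (F := F) ⟨v, hv⟩
  obtain ⟨m, hm, hpm⟩ : ∃ m, Nat.card L = p ^ (n : ℕ) * m ∧ ¬ p ∣ m := by
    have h1 : (Fintype.card F) ^ 2 - 1 = 2 * (2 * (v * (v + 1))) := by
      rw [hv]
      have : (2 * v + 1) ^ 2 = 2 * (2 * (v * (v + 1))) + 1 := by ring
      omega
    refine ⟨2 * (v * (v + 1)), ?_, ?_⟩
    · rw [h1] at hN
      have h2 : 2 * Nat.card L = 2 * (Fintype.card F * (2 * (v * (v + 1)))) := by
        rw [hN]; ring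
      have h3 := Nat.eq_of_mul_eq_mul_left (by norm_num) h2
      rw [h3, hn]
    · intro hdvd
      have h2 : p ∣ (Fintype.card F) ^ 2 - 1 := by
        rw [h1]
        exact Dvd.dvd.mul_left hdvd 2
      have h3 : p ∣ (Fintype.card F) ^ 2 := by
        rw [hn]
        exact dvd_pow (dvd_pow_self p n.ne_zero) two_ne_zero
      have h4 : 1 ≤ Fintype.card F ^ 2 := Nat.one_le_pow _ _ Fintype.card_pos
      have h5 : p ∣ 1 := by
        have := Nat.dvd_sub h3 h2
        rwa [Nat.sub_sub_self h4] at this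
      exact hp.one_lt.ne' (Nat.dvd_one.1 h5)
  obtain ⟨T', hT'⟩ := EndT.exists_sylow (hmap.trans hn) hm hpm
  obtain ⟨T, hT⟩ := EndT.exists_sylow ((EndL.card_S (F := F)).trans hn) hm hpm
  obtain ⟨l, hl⟩ := MulAction.exists_smul_eq L T' T
  have hl' : ∀ x, x ∈ P.map f → ∃ s : F, l * x * l⁻¹ = pj (tM s) := by
    intro x hx
    rw [← hT'] at hx
    have h1 : l * x * l⁻¹ ∈ (T : Subgroup L) := by
      rw [← hl, Sylow.coe_subgroup_smul, Subgroup.mem_pointwise_smul_iff_inv_smul_mem]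
      change (MulAut.conj l)⁻¹ (l * x * l⁻¹) ∈ _
      rw [← map_inv, MulAut.conj_apply]
      have : l⁻¹ * (l * x * l⁻¹) * l⁻¹⁻¹ = x := by group
      rw [this]
      exact hx
    rw [hT] at h1
    obtain ⟨_, ⟨s, rfl⟩, hs⟩ := h1
    exact ⟨s.toAdd, hs.symm⟩
  let f₁ : genFix U X →* L := (MulAut.conj l).toMonoidHom.comp f
  have hf₁ : ∀ g, f₁ g = l * f g * l⁻¹ := fun _ => rfl
  have hf₁s : Function.Surjective f₁ := (MulAut.conj l).surjective.comp hf
  have hf₁k : ∀ x, f₁ x = 1 ↔ (x : G) ∈ kerFix Ω X := by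
    intro x
    rw [hf₁, conj_eq_one_iff, hker]
  have hf₁P : ∀ x ∈ P, ∃ s : F, f₁ x = pj (tM s) := fun x hx => hl' _ ⟨x, hx, rfl⟩
  obtain ⟨x, hx⟩ := hf₁s (pj (EndL.wl F))
  -- a nontrivial element of `P`
  obtain ⟨y, hyP, hy1⟩ : ∃ y ∈ P, y ≠ 1 := by
    by_contra hcon
    push Not at hcon
    have h1 : P = ⊥ := (eq_bot_iff_forall _).2 hcon
    rw [h1, card_bot] at hPcard
    have := Fintype.one_lt_card (α := F)
    omega
  have hxC : (x : G) ∈ centralizer (X : Set G) := genFix_le x.2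
  have hxa : (x : G) • a ≠ a := by
    intro hxa
    have h1 : x * y * x⁻¹ ∈ P := conj_mem h hxa hxC hyP
    obtain ⟨s, hs⟩ := hf₁P _ h1
    obtain ⟨r, hr⟩ := hf₁P _ hyP
    have hr0 : r ≠ 0 := by
      rintro rfl
      rw [tM_zero, map_one, hf₁k] at hr
      have h2 : (y : G) • b = b := hr b hb
      exact hy1 (Subtype.ext (h.free hab hyP.1 h2))
    rw [map_mul, map_mul, map_inv, hx, hr, ← map_mul, ← map_inv, ← map_mul, wl_tM] at hs
    obtain ⟨k, hk⟩ := pj_eq hs
    have h3 := hk 1 0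
    rw [lM_10, tM_10] at h3
    have h4 := hk 0 0
    rw [lM_00, tM_00, mul_one] at h4
    rw [← h4, one_mul] at h3
    exact hr0 (neg_eq_zero.1 h3.symm)
  have hxafix : ∀ z ∈ X, z • (x : G) • a = (x : G) • a := fix_smul hxC ha
  obtain ⟨u, hu, hub⟩ := h.trans (a := a) (b := (x : G) • a) (c := b) hxa hab
  have huC : u ∈ centralizer (X : Set G) :=
    h.comm_of_fixSub ha hxafix hxa hu (by rw [hub]; exact hb)
  have huM : u ∈ genFix U X := hPle ⟨hu, huC⟩
  let u' : genFix U X := ⟨u, huM⟩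
  refine ⟨f₁.comp (MulAut.conj u'⁻¹).toMonoidHom, ?_, ?_, ?_⟩
  · intro z
    have h1 : (f₁.comp (MulAut.conj u'⁻¹).toMonoidHom) z = f₁ (u'⁻¹ * z * u'⁻¹⁻¹) := rfl
    rw [h1, map_mul, map_mul, map_inv f₁ u'⁻¹, conj_eq_one_iff, hf₁k]
  · intro z hz
    have h1 : (f₁.comp (MulAut.conj u'⁻¹).toMonoidHom) z = f₁ (u'⁻¹ * z * u'⁻¹⁻¹) := rfl
    rw [h1]
    apply hf₁P
    have hu2 : u'⁻¹ ∈ P := inv_mem (⟨hu, huC⟩ : u' ∈ P)
    exact mul_mem (mul_mem hu2 hz) (inv_mem hu2)
  · intro z hz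
    have h1 : (f₁.comp (MulAut.conj u'⁻¹).toMonoidHom) z = f₁ (u'⁻¹ * z * u'⁻¹⁻¹) := rfl
    rw [h1]
    -- `u⁻¹ z u = x y₀ x⁻¹`
    have h2 : (u'⁻¹ * x)⁻¹ * (z : genFix U X) * (u'⁻¹ * x) = x⁻¹ * (u' * z * u'⁻¹) * x := by group
    have h3 : x⁻¹ * (u'⁻¹ * z * u') * x ∈ P := by
      have h4 : ((u * (x : G))⁻¹) • b = a := by
        rw [inv_smul_eq_iff, mul_smul, hub]
      have h5 := conj_mem h h4 (inv_mem (mul_mem huC hxC)) hz
      have h6 : (u * (x : G))⁻¹ * (z : G) * ((u * (x : G))⁻¹)⁻¹ =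
          ((x⁻¹ * (u'⁻¹ * z * u') * x : genFix U X) : G) := by
        change _ = (x : G)⁻¹ * (u⁻¹ * (z : G) * u) * (x : G)
        group
      rw [h6] at h5
      exact h5
    obtain ⟨s, hs⟩ := hf₁P _ h3
    refine ⟨-s, ?_⟩
    have h7 : u'⁻¹ * z * u'⁻¹⁻¹ = x * (x⁻¹ * (u'⁻¹ * z * u') * x) * x⁻¹ := by group
    rw [h7, map_mul, map_mul, map_inv, hs, hx, ← map_mul, ← map_inv, ← map_mul, wl_tM]

/-- **Coordinates from type `DL`.** -/
theorem exists_slx_of_DL [Finite Ω] (h : SSplit U) (hab : b ≠ a) (ha : ∀ x ∈ X, x • a = a)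
    (hb : ∀ x ∈ X, x • b = b) {q : ℕ}
    (hD : DL (genFix U X) (U a ⊓ centralizer (X : Set G)) (Dab G a b ⊓ genFix U X) (kerFix Ω X)
      (fun w => w ∈ genFix U X ∧ Swaps w a b) q) :
    ∃ (F : Type) (_ : Field F) (_ : Fintype F), Fintype.card F = q ∧
      ∃ φ : Matrix.SpecialLinearGroup (Fin 2) F →* G, SLX U X a b φ := by
  obtain ⟨F, i1, i2, hF, f, hf, hker⟩ := hD.iso
  have hodd : Odd (Fintype.card F) := by rw [hF]; exact hD.odd
  have hca : Nat.card (U a ⊓ centralizer (X : Set G) : Subgroup G) = Fintype.card F := by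
    rw [hD.card, hF]
  obtain ⟨f', N⟩ := exists_norm h hab ha hb hodd hca f hf hker
  have hcb : Nat.card (U b ⊓ centralizer (X : Set G) : Subgroup G) = Fintype.card F := by
    have h1 := h.card_fixSub hab ha hb
    have h2 := h.card_fixSub hab.symm hb ha
    omega
  rw [← Nat.card_eq_fintype_card] at hca hcb hodd
  exact ⟨F, i1, i2, hF, exists_slx_of_norm h hab ha hb N hodd hca hcb hD.cyc⟩

/-- **Coordinates from type `DA` with `|C_{U a}(X)| = 3`.** -/
theorem exists_slx_of_three [Finite Ω] (h : SSplit U) (hab : b ≠ a) (ha : ∀ x ∈ X, x • a = a)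
    (hb : ∀ x ∈ X, x • b = b)
    (hc3 : Nat.card (U a ⊓ centralizer (X : Set G) : Subgroup G) = 3) :
    ∃ (F : Type) (_ : Field F) (_ : Fintype F), Fintype.card F = 3 ∧
      ∃ φ : Matrix.SpecialLinearGroup (Fin 2) F →* G, SLX U X a b φ :=
  ⟨ZMod 3, inferInstance, inferInstance, ZMod.card 3, exists_slx_three h hab ha hb hc3⟩

end Cfsg.Agent.HKS.SLCoord
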