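import Mathlib
import Cfsg.Agent.HKS.Frame
import Cfsg.Agent.Lib.AutSL2Out
import Cfsg.Agent.Lib.PSL2Outer

/-!
# Strongly split groups with `C_G(t) ≥ SL(2,q) ∋ t`: coordinates

`SLData U a b t φ` : `t` is the only involution of `G_ab`, all involutions are conjugate,
`φ : SL(2,F) → G` is injective, `φ(-1) = t`, `φ(up z)` runs over `C_{U a}(t)` and `φ(lo z)` over
`C_{U b}(t)`.
-/

set_option autoImplicit false

namespace Cfsg.Agent.HKS

open Subgroup MulAction
open Cfsg.Agent.Lib.SL2Mat Cfsg.Agent.Lib.AutSL2Out Cfsg.Agent.Lib.AutSL2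

/-- the configuration `t ∈ SL(2,F) ≤ C_G(t)` -/
structure SLData {G Ω F : Type*} [Group G] [MulAction G Ω] [Field F] (U : Ω → Subgroup G) (a b : Ω)
    (t : G) (φ : Matrix.SpecialLinearGroup (Fin 2) F →* G) : Prop where
  split : SSplit U
  ne : b ≠ a
  t_mem : t ∈ Dab G a b
  unique : ∀ d ∈ Dab G a b, d * d = 1 → d = 1 ∨ d = t
  two : (2 : F) ≠ 0
  neg : φ (-1) = t
  inj : Function.Injective φ
  up_mem : ∀ z, φ (up z) ∈ U a
  lo_mem : ∀ z, φ (lo z) ∈ U b
  up_surj : ∀ u ∈ U a, t * u = u * t → ∃ z, u = φ (up z)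
  lo_surj : ∀ u ∈ U b, t * u = u * t → ∃ z, u = φ (lo z)
  conj : ∀ s : G, s * s = 1 → s ≠ 1 → IsConj t s

namespace SLData

variable {G Ω F : Type*} [Group G] [MulAction G Ω] [Field F] {U : Ω → Subgroup G} {a b : Ω}
  {t : G} {φ : Matrix.SpecialLinearGroup (Fin 2) F →* G}

theorem t_sq (S : SLData U a b t φ) : t * t = 1 := by
  rw [← S.neg, ← map_mul, neg_mul_neg, one_mul, map_one]

theorem t_ne (S : SLData U a b t φ) : t ≠ 1 := by
  intro h
  rw [← S.neg, ← map_one φ] at h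
  have h1 := S.inj h
  have h2 : ent (-1 : Matrix.SpecialLinearGroup (Fin 2) F) 0 0 = ent 1 0 0 := by rw [h1]
  rw [ent_one_00, show ent (-1 : Matrix.SpecialLinearGroup (Fin 2) F) 0 0 = -1 from rfl] at h2
  exact S.two (by linear_combination -h2)

theorem t_inv (S : SLData U a b t φ) : t⁻¹ = t := inv_eq_of_mul_eq_one_left S.t_sq

/-- conjugates of `t` in `D` are `t` -/
theorem eq_t (S : SLData U a b t φ) {g : G} (h : g * t * g⁻¹ ∈ Dab G a b) : t * g = g * t := by
  have h1 : g * t * g⁻¹ * (g * t * g⁻¹) = 1 := by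
    calc g * t * g⁻¹ * (g * t * g⁻¹) = g * (t * t) * g⁻¹ := by group
      _ = 1 := by rw [S.t_sq]; group
  rcases S.unique _ h h1 with h2 | h2
  · exact absurd (conj_eq_one_iff.1 h2) S.t_ne
  · calc t * g = (g * t * g⁻¹) * g := by rw [h2]
      _ = g * t := by group

theorem comm_D (S : SLData U a b t φ) {d : G} (hd : d ∈ Dab G a b) : t * d = d * t :=
  S.eq_t (mul_mem (mul_mem hd S.t_mem) (inv_mem hd))

theorem comm_swaps (S : SLData U a b t φ) {y : G} (hy : Swaps y a b) : t * y = y * t := by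
  refine S.eq_t ⟨?_, ?_⟩
  · change (y * t * y⁻¹) • a = a
    rw [mul_smul, mul_smul, hy.inv.1, S.t_mem.2, hy.2]
  · change (y * t * y⁻¹) • b = b
    rw [mul_smul, mul_smul, hy.inv.2, S.t_mem.1, hy.1]

theorem comm_range (S : SLData U a b t φ) (x : Matrix.SpecialLinearGroup (Fin 2) F) :
    t * φ x = φ x * t := by
  rw [← S.neg, ← map_mul, ← map_mul, neg_mul, one_mul, mul_neg, mul_one]

theorem t_a (S : SLData U a b t φ) : t • a = a := S.t_mem.1
theorem t_b (S : SLData U a b t φ) : t • b = b := S.t_mem.2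

theorem up_ne (S : SLData U a b t φ) {z : F} (hz : z ≠ 0) : φ (up z) ≠ 1 := by
  intro h
  rw [← map_one φ, ← up_zero] at h
  exact hz (up_inj (S.inj h))

theorem lo_ne (S : SLData U a b t φ) {z : F} (hz : z ≠ 0) : φ (lo z) ≠ 1 := by
  intro h
  rw [← map_one φ, ← lo_zero] at h
  exact hz (lo_inj (S.inj h))

/-- the only fixed point of a nontrivial element of `U a` is `a` -/
theorem eq_of_fix (S : SLData U a b t φ) {c e : Ω} {u : G} (hu : u ∈ U c) (hu1 : u ≠ 1)
    (he : u • e = e) : e = c := by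
  by_contra hne
  exact hu1 (S.split.free hne hu he)

/-- the fixed points of `t` -/
theorem fix_iff (S : SLData U a b t φ) (c : Ω) : t • c = c ↔ c = a ∨ ∃ z, c = φ (up z) • b := by
  constructor
  · intro hc
    by_cases hca : c = a
    · exact Or.inl hca
    right
    obtain ⟨u, hu, huc⟩ := S.split.trans S.ne hca
    have h1 : t * u * t⁻¹ = u := S.split.eq_of_smul_eq S.ne
      (by have := S.split.conj_of_fix S.t_a hu; exact this) hu (by
        rw [mul_smul, mul_smul, S.t_inv, S.t_b, huc, hc])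
    obtain ⟨z, hz⟩ := S.up_surj u hu (by
      calc t * u = t * u * t⁻¹ * t := by group
        _ = u * t := by rw [h1])
    exact ⟨z, by rw [← hz, huc]⟩
  · rintro (rfl | ⟨z, rfl⟩)
    · exact S.t_a
    · rw [← mul_smul, S.comm_range, mul_smul, S.t_b]

/-- `φ(wm r)` interchanges `a` and `b` -/
theorem wm_swaps (S : SLData U a b t φ) {r : F} (hr : r ≠ 0) : Swaps (φ (wm r hr)) a b := by
  constructor
  · have h1 : φ (wm r hr) * φ (up 1) = φ (lo (-(1 / r ^ 2))) * φ (wm r hr) := by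
      rw [← map_mul, wm_up, map_mul]
    refine S.eq_of_fix (S.lo_mem (-(1 / r ^ 2))) (S.lo_ne (neg_ne_zero.2 (one_div_ne_zero (pow_ne_zero 2 hr)))) ?_
    rw [← mul_smul, ← h1, mul_smul, S.split.fix (S.up_mem 1)]
  · have h1 : φ (wm r hr) * φ (lo 1) = φ (up (-(1 * r ^ 2))) * φ (wm r hr) := by
      rw [← map_mul, wm_lo, map_mul]
    refine S.eq_of_fix (S.up_mem (-(1 * r ^ 2))) (S.up_ne (neg_ne_zero.2 (mul_ne_zero one_ne_zero (pow_ne_zero 2 hr)))) ?_
    rw [← mul_smul, ← h1, mul_smul, S.split.fix (S.lo_mem 1)]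

theorem dg_lo (r c : F) (hr : r ≠ 0) : dg r hr * lo c = lo (c / r ^ 2) * dg r hr := by
  refine ext_ent ?_ ?_ ?_ ?_ <;> simp [ent_mul]
  field_simp

theorem dg_mem (S : SLData U a b t φ) {r : F} (hr : r ≠ 0) : φ (dg r hr) ∈ Dab G a b := by
  constructor
  · change φ (dg r hr) • a = a
    have h1 : φ (dg r hr) * φ (up 1) = φ (up (r ^ 2 * 1)) * φ (dg r hr) := by
      rw [← map_mul, dg_up, map_mul]
    refine S.eq_of_fix (S.up_mem (r ^ 2 * 1)) (S.up_ne (mul_ne_zero (pow_ne_zero 2 hr) one_ne_zero)) ?_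
    rw [← mul_smul, ← h1, mul_smul, S.split.fix (S.up_mem 1)]
  · change φ (dg r hr) • b = b
    have h1 : φ (dg r hr) * φ (lo 1) = φ (lo (1 / r ^ 2)) * φ (dg r hr) := by
      rw [← map_mul, dg_lo, map_mul]
    refine S.eq_of_fix (S.lo_mem (1 / r ^ 2)) (S.lo_ne (one_div_ne_zero (pow_ne_zero 2 hr))) ?_
    rw [← mul_smul, ← h1, mul_smul, S.split.fix (S.lo_mem 1)]

/-- `SL(2,F)` is transitive on ordered pairs of distinct fixed points of `t` -/
theorem two_trans (S : SLData U a b t φ) {c e : Ω} (hc : t • c = c) (he : t • e = e)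
    (hce : e ≠ c) : ∃ x, φ x • a = c ∧ φ x • b = e := by
  obtain ⟨x₁, h₁⟩ : ∃ x₁, φ x₁ • a = c := by
    rcases (S.fix_iff c).1 hc with rfl | ⟨z, rfl⟩
    · exact ⟨1, by rw [map_one, one_smul]⟩
    · exact ⟨up z * wm 1 one_ne_zero, by rw [map_mul, mul_smul, (S.wm_swaps one_ne_zero).1]⟩
  have h2 : t • (φ x₁)⁻¹ • e = (φ x₁)⁻¹ • e := by
    rw [← map_inv, ← mul_smul, S.comm_range, mul_smul, he]
  rcases (S.fix_iff _).1 h2 with h3 | ⟨z, h3⟩
  · exfalso
    apply hce
    rw [← h₁, ← h3, smul_inv_smul]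
  · refine ⟨x₁ * up z, ?_, ?_⟩
    · rw [map_mul, mul_smul, S.split.fix (S.up_mem z), h₁]
    · rw [map_mul, mul_smul, ← h3, smul_inv_smul]

/-- elements of `C(t)`: product of an element of `SL(2,F)` and an element of `D` -/
theorem exists_mul (S : SLData U a b t φ) {g : G} (hg : t * g = g * t) :
    ∃ x, ∃ d ∈ Dab G a b, g = φ x * d := by
  obtain ⟨x, h1, h2⟩ := S.two_trans (c := g • a) (e := g • b)
    (by rw [← mul_smul, hg, mul_smul, S.t_a]) (by rw [← mul_smul, hg, mul_smul, S.t_b])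
    (fun h => S.ne (smul_left_cancel g h))
  refine ⟨x, (φ x)⁻¹ * g, ⟨?_, ?_⟩, by group⟩
  · change ((φ x)⁻¹ * g) • a = a
    rw [mul_smul, inv_smul_eq_iff, h1]
  · change ((φ x)⁻¹ * g) • b = b
    rw [mul_smul, inv_smul_eq_iff, h2]

theorem D_up (S : SLData U a b t φ) {d : G} (hd : d ∈ Dab G a b) (z : F) :
    ∃ z', d * φ (up z) * d⁻¹ = φ (up z') := by
  refine S.up_surj _ (S.split.conj_of_fix hd.1 (S.up_mem z)) ?_
  have h1 := S.comm_D hd
  have h2 := S.comm_range (up z)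
  have h3 := S.comm_D (inv_mem hd)
  calc t * (d * φ (up z) * d⁻¹) = (t * d) * φ (up z) * d⁻¹ := by group
    _ = d * (t * φ (up z)) * d⁻¹ := by rw [h1]; group
    _ = d * φ (up z) * (t * d⁻¹) := by rw [h2]; group
    _ = d * φ (up z) * d⁻¹ * t := by rw [h3]; group

theorem D_lo (S : SLData U a b t φ) {d : G} (hd : d ∈ Dab G a b) (z : F) :
    ∃ z', d * φ (lo z) * d⁻¹ = φ (lo z') := by
  refine S.lo_surj _ (S.split.conj_of_fix hd.2 (S.lo_mem z)) ?_
  have h1 := S.comm_D hd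
  have h2 := S.comm_range (lo z)
  have h3 := S.comm_D (inv_mem hd)
  calc t * (d * φ (lo z) * d⁻¹) = (t * d) * φ (lo z) * d⁻¹ := by group
    _ = d * (t * φ (lo z)) * d⁻¹ := by rw [h1]; group
    _ = d * φ (lo z) * (t * d⁻¹) := by rw [h2]; group
    _ = d * φ (lo z) * d⁻¹ * t := by rw [h3]; group

/-- `C(t)` normalises `SL(2,F)` -/
theorem normalises (S : SLData U a b t φ) {g : G} (hg : t * g = g * t)
    (x : Matrix.SpecialLinearGroup (Fin 2) F) : ∃ x', g * φ x * g⁻¹ = φ x' := by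
  obtain ⟨s, d, hd, rfl⟩ := S.exists_mul hg
  obtain ⟨z₁, z₂, z₃, z₄, rfl⟩ := exists_up_lo x
  obtain ⟨w₁, h₁⟩ := S.D_up hd z₁
  obtain ⟨w₂, h₂⟩ := S.D_lo hd z₂
  obtain ⟨w₃, h₃⟩ := S.D_up hd z₃
  obtain ⟨w₄, h₄⟩ := S.D_lo hd z₄
  refine ⟨s * (up w₁ * lo w₂ * up w₃ * lo w₄) * s⁻¹, ?_⟩
  simp only [map_mul, map_inv, ← h₁, ← h₂, ← h₃, ← h₄]
  group

/-- the automorphism of `SL(2,F)` induced by an element of `C(t)` -/
theorem exists_aut (S : SLData U a b t φ) {g : G} (hg : t * g = g * t) :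
    ∃ α : MulAut (Matrix.SpecialLinearGroup (Fin 2) F), ∀ x, g * φ x * g⁻¹ = φ (α x) := by
  choose f hf using S.normalises hg
  choose f' hf' using S.normalises (g := g⁻¹) (by
    calc t * g⁻¹ = g⁻¹ * (g * t) * g⁻¹ := by group
      _ = g⁻¹ * (t * g) * g⁻¹ := by rw [hg]
      _ = g⁻¹ * t := by group)
  have h1 : ∀ x, f' (f x) = x := by
    intro x
    apply S.inj
    rw [← hf', ← hf]
    group
  have h2 : ∀ x, f (f' x) = x := by
    intro x
    apply S.inj
    rw [← hf, ← hf']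
    group
  have h3 : ∀ x y, f (x * y) = f x * f y := by
    intro x y
    apply S.inj
    rw [← hf, map_mul, map_mul, ← hf, ← hf]
    group
  exact ⟨{ toFun := f, invFun := f', left_inv := h1, right_inv := h2, map_mul' := h3 }, hf⟩

/-- **the action of `D` on `SL(2,F)`** -/
theorem exists_param [Finite F] (S : SLData U a b t φ) {d : G} (hd : d ∈ Dab G a b) :
    ∃ (l : F) (σ : F ≃+* F), l ≠ 0 ∧ (∀ z, d * φ (up z) * d⁻¹ = φ (up (l * σ z))) ∧
      ∀ z, d * φ (lo z) * d⁻¹ = φ (lo (l⁻¹ * σ z)) := by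
  obtain ⟨α, hα⟩ := S.exists_aut (S.comm_D hd)
  obtain ⟨g, σ, hg⟩ := exists_eq α
  have key : ∀ x, d * φ x * d⁻¹ = φ (conjGL g (fieldAut σ x)) := by
    intro x
    rw [hα, hg]
    rfl
  obtain ⟨z₁, h₁⟩ := S.D_up hd 1
  obtain ⟨z₂, h₂⟩ := S.D_lo hd 1
  have e₁ : g.1 * (up (1 : F)).1 = (up z₁).1 * g.1 := by
    have h3 : conjGL g (up 1) = up z₁ := by
      apply S.inj
      rw [← h₁, key, fieldAut_up, map_one]
    have h4 : (conjGL g (up 1)).1 = (up z₁).1 := by rw [h3]
    rw [conjGL_val] at h4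
    rw [← h4, Matrix.mul_assoc (g.1 * _), inv_val_mul_val, Matrix.mul_one]
  have e₂ : g.1 * (lo (1 : F)).1 = (lo z₂).1 * g.1 := by
    have h3 : conjGL g (lo 1) = lo z₂ := by
      apply S.inj
      rw [← h₂, key, fieldAut_lo, map_one]
    have h4 : (conjGL g (lo 1)).1 = (lo z₂).1 := by rw [h3]
    rw [conjGL_val] at h4
    rw [← h4, Matrix.mul_assoc (g.1 * _), inv_val_mul_val, Matrix.mul_one]
  have eu : ∀ z : F, (up z).1 = !![1, z; 0, 1] := fun _ => rfl
  have el : ∀ z : F, (lo z).1 = !![1, 0; z, 1] := fun _ => rfl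
  rw [eu, eu] at e₁
  rw [el, el] at e₂
  have a1 := congrFun (congrFun e₁ 1) 1
  have a2 := congrFun (congrFun e₂ 0) 0
  simp only [Matrix.mul_apply, Fin.sum_univ_two, Matrix.of_apply, Matrix.cons_val', Matrix.cons_val_zero,
    Matrix.cons_val_one, Matrix.cons_val_fin_one] at a1 a2
  have h10 : g.1 1 0 = 0 := by linear_combination a1
  have h01 : g.1 0 1 = 0 := by linear_combination a2
  have hdet : g.1 0 0 * g.1 1 1 ≠ 0 := by
    have h5 : g.1.det ≠ 0 := (Matrix.GeneralLinearGroup.det g).ne_zero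
    rw [Matrix.det_fin_two, h10, mul_zero, sub_zero] at h5
    exact h5
  have h00 : g.1 0 0 ≠ 0 := left_ne_zero_of_mul hdet
  have h11 : g.1 1 1 ≠ 0 := right_ne_zero_of_mul hdet
  have hup : ∀ z, conjGL g (up z) = up (g.1 0 0 / g.1 1 1 * z) := by
    intro z
    apply Subtype.ext
    rw [conjGL_val]
    have h6 : g.1 * (up z).1 = (up (g.1 0 0 / g.1 1 1 * z)).1 * g.1 := by
      rw [eu, eu]
      ext i j
      fin_cases i <;> fin_cases j <;>
        simp only [Matrix.mul_apply, Fin.sum_univ_two, Matrix.of_apply, Matrix.cons_val', Matrix.cons_val_zero,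
          Matrix.cons_val_one, Matrix.cons_val_fin_one, Fin.zero_eta, Fin.mk_one, h10, h01]
      · ring
      · field_simp
        ring
      · ring
      · ring
    rw [h6, Matrix.mul_assoc, ← Units.val_mul, mul_inv_cancel, Units.val_one, Matrix.mul_one]
  have hlo : ∀ z, conjGL g (lo z) = lo ((g.1 0 0 / g.1 1 1)⁻¹ * z) := by
    intro z
    apply Subtype.ext
    rw [conjGL_val]
    have h6 : g.1 * (lo z).1 = (lo ((g.1 0 0 / g.1 1 1)⁻¹ * z)).1 * g.1 := by
      rw [el, el]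
      ext i j
      fin_cases i <;> fin_cases j <;>
        simp only [Matrix.mul_apply, Fin.sum_univ_two, Matrix.of_apply, Matrix.cons_val', Matrix.cons_val_zero,
          Matrix.cons_val_one, Matrix.cons_val_fin_one, Fin.zero_eta, Fin.mk_one, h10, h01]
      · ring
      · ring
      · field_simp
        ring
      · ring
    rw [h6, Matrix.mul_assoc, ← Units.val_mul, mul_inv_cancel, Units.val_one, Matrix.mul_one]
  refine ⟨g.1 0 0 / g.1 1 1, σ, div_ne_zero h00 h11, fun z => ?_, fun z => ?_⟩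
  · rw [key, fieldAut_up, hup]
  · rw [key, fieldAut_lo, hlo]

/-- an involution commuting with `t` and fixing a fixed point of `t` is `t` -/
theorem eq_of_fix_fix (S : SLData U a b t φ) {y : G} (hy : y * y = 1) (hty : t * y = y * t)
    {c : Ω} (hc : t • c = c) (hyc : y • c = c) : y = 1 ∨ y = t := by
  obtain ⟨x, hxa⟩ : ∃ x, φ x • a = c := by
    by_cases h : b = c
    · exact ⟨wm 1 one_ne_zero, by rw [(S.wm_swaps one_ne_zero).1, h]⟩
    · obtain ⟨x, h1, -⟩ := S.two_trans hc S.t_b h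
      exact ⟨x, h1⟩
  -- conjugate to `a`
  have key : ∀ y' : G, y' * y' = 1 → t * y' = y' * t → y' • a = a → y' = 1 ∨ y' = t := by
    intro y' h1 h2 h3
    have h4 : t • y' • b = y' • b := by rw [← mul_smul, h2, mul_smul, S.t_b]
    obtain ⟨z, hz⟩ : ∃ z, y' • b = φ (up z) • b := by
      rcases (S.fix_iff _).1 h4 with h5 | h5
      · exfalso
        apply S.ne
        rw [← h3] at h5
        exact smul_left_cancel y' h5
      · exact h5
    have hd : (φ (up z))⁻¹ * y' ∈ Dab G a b := by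
      constructor
      · change ((φ (up z))⁻¹ * y') • a = a
        rw [mul_smul, inv_smul_eq_iff, h3, S.split.fix (S.up_mem z)]
      · change ((φ (up z))⁻¹ * y') • b = b
        rw [mul_smul, inv_smul_eq_iff, hz]
    obtain ⟨d, hdd⟩ : ∃ d, d = (φ (up z))⁻¹ * y' := ⟨_, rfl⟩
    rw [← hdd] at hd
    have hy' : y' = φ (up z) * d := by rw [hdd]; group
    have h6 : (φ (up z) * (d * φ (up z) * d⁻¹))⁻¹ = d * d := by
      rw [inv_eq_iff_mul_eq_one]
      rw [hy'] at h1
      calc φ (up z) * (d * φ (up z) * d⁻¹) * (d * d) = φ (up z) * d * (φ (up z) * d) := by group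
        _ = 1 := h1
    have h7 : φ (up z) * (d * φ (up z) * d⁻¹) ∈ U a :=
      mul_mem (S.up_mem z) (S.split.conj_of_fix hd.1 (S.up_mem z))
    have h8 : d * d ∈ U a := by rw [← h6]; exact inv_mem h7
    have h9 : d * d = 1 := S.split.free S.ne h8 (mul_mem hd hd).2
    have h10 : d * φ (up z) * d⁻¹ = φ (up z) := by
      rcases S.unique d hd h9 with h11 | h11
      · rw [h11]; group
      · rw [h11, S.comm_range]; group
    have h12 : φ (up (z + z)) = 1 := by
      rw [← up_mul, map_mul]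
      have h13 := inv_eq_iff_mul_eq_one.1 h6
      rw [h10, h9, mul_one] at h13
      exact h13
    have hz0 : z = 0 := by
      by_contra hz0
      refine S.up_ne (z := z + z) ?_ h12
      rw [← two_mul]
      exact mul_ne_zero S.two hz0
    rw [hz0, up_zero, map_one, one_mul] at hy'
    rw [hy']
    exact S.unique d hd h9
  have h1 := key ((φ x)⁻¹ * y * φ x) (by
      calc (φ x)⁻¹ * y * φ x * ((φ x)⁻¹ * y * φ x) = (φ x)⁻¹ * (y * y) * φ x := by group
        _ = 1 := by rw [hy]; group) (by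
      have h2 := S.comm_range x
      have h3 := S.comm_range x⁻¹
      rw [map_inv] at h3
      calc t * ((φ x)⁻¹ * y * φ x) = (t * (φ x)⁻¹) * y * φ x := by group
        _ = (φ x)⁻¹ * (t * y) * φ x := by rw [h3]; group
        _ = (φ x)⁻¹ * y * (t * φ x) := by rw [hty]; group
        _ = (φ x)⁻¹ * y * φ x * t := by rw [h2]; group) (by
      rw [mul_smul, mul_smul, hxa, hyc, ← hxa, inv_smul_smul])
  rcases h1 with h1 | h1
  · left
    calc y = φ x * ((φ x)⁻¹ * y * φ x) * (φ x)⁻¹ := by group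
      _ = 1 := by rw [h1]; group
  · right
    calc y = φ x * ((φ x)⁻¹ * y * φ x) * (φ x)⁻¹ := by group
      _ = t := by rw [h1, ← S.comm_range]; group

end SLData

end Cfsg.Agent.HKS
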