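import Mathlib
import Cfsg.Agent.HKS.SLNorm
import Cfsg.Agent.HKS.SLFrame
import Cfsg.Agent.HKS.Goals

/-!
# From the type at `⟨t⟩` to `SLData`

`exists_slData` : `t` central involution of `G_ab`, `t ∈ genFix U (zpowers t)`, type `DL` at `⟨t⟩` or
`|C_{U a}(t)| = 3` : the configuration `SLData U a b t φ`.
-/

set_option autoImplicit false

namespace Cfsg.Agent.HKS.SLCoord

open Subgroup MulAction Cfsg.Agent.HKS Cfsg.Agent.ONan.SL2Hom Cfsg.Agent.HKS.SLRel

variable {G Ω : Type*} [Group G] [MulAction G Ω] {U : Ω → Subgroup G} {a b : Ω} {t : G}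

theorem tM_eq_up {F : Type*} [Field F] (s : F) : tM s = Lib.SL2Mat.up s := rfl

theorem lM_eq_lo {F : Type*} [Field F] (s : F) : lM s = Lib.SL2Mat.lo s := rfl

theorem nM_eq_dg {F : Type*} [Field F] (s : F) (hs : s ≠ 0) : nM s hs = Lib.SL2Mat.dg s hs := rfl

theorem mem_centralizer_zpowers {t u : G} :
    u ∈ centralizer (zpowers t : Set G) ↔ t * u = u * t := by
  rw [mem_centralizer_iff]
  constructor
  · intro h
    exact h t (mem_zpowers t)
  · rintro h _ ⟨k, rfl⟩
    exact (Commute.zpow_left h k)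

theorem SLX.toData {F : Type*} [Field F] {φ : Matrix.SpecialLinearGroup (Fin 2) F →* G}
    (S : SLX U (zpowers t) a b φ) (h : SSplit U) (ht : t ∈ Dab G a b) (ht1 : t ≠ 1)
    (htM : t ∈ genFix U (zpowers t)) (htwo : (2 : F) ≠ 0)
    (hu : ∀ d ∈ Dab G a b, d * d = 1 → d = 1 ∨ d = t)
    (hfix : ∀ s : G, s ≠ 1 → s * s = 1 → ∃ c e : Ω, e ≠ c ∧ s • c = c ∧ s • e = e) :
    SLData U a b t φ := by
  obtain ⟨hn, hi⟩ := S.neg_eq h ht1 htM
  refine
    { split := h, ne := S.ne, t_mem := ht, unique := hu, two := htwo, neg := hn, inj := hi,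
      up_mem := fun z => (S.up z).1, lo_mem := fun z => (S.lo z).1, up_surj := fun u hu1 hu2 => ?_,
      lo_surj := fun u hu1 hu2 => ?_, conj := fun s hs hs1 => ?_ }
  · obtain ⟨z, hz⟩ := S.up_surj u ⟨hu1, mem_centralizer_zpowers.2 hu2⟩
    exact ⟨z, hz.symm⟩
  · obtain ⟨z, hz⟩ := S.lo_surj u ⟨hu1, mem_centralizer_zpowers.2 hu2⟩
    exact ⟨z, hz.symm⟩
  · obtain ⟨c, e, hce, hc, he⟩ := hfix s hs1 hs
    obtain ⟨g, hg1, hg2⟩ := h.two S.ne.symm hce.symm
    have h1 : g⁻¹ * s * g ∈ Dab G a b := by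
      constructor
      · change (g⁻¹ * s * g) • a = a
        rw [mul_smul, mul_smul, hg1, hc, inv_smul_eq_iff, hg1]
      · change (g⁻¹ * s * g) • b = b
        rw [mul_smul, mul_smul, hg2, he, inv_smul_eq_iff, hg2]
    have h2 : g⁻¹ * s * g * (g⁻¹ * s * g) = 1 := by
      calc g⁻¹ * s * g * (g⁻¹ * s * g) = g⁻¹ * (s * s) * g := by group
        _ = 1 := by rw [hs]; group
    rcases hu _ h1 h2 with h3 | h3
    · exfalso
      apply hs1
      calc s = g * (g⁻¹ * s * g) * g⁻¹ := by group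
        _ = 1 := by rw [h3]; group
    · rw [isConj_iff]
      refine ⟨g, ?_⟩
      rw [← h3]; group

theorem two_ne_zero_of_odd {F : Type*} [Field F] [Fintype F] (hF : Odd (Fintype.card F)) :
    (2 : F) ≠ 0 := by
  intro h
  have h1 : ringChar F = 2 := by
    apply CharP.ringChar_of_prime_eq_zero Nat.prime_two
    exact_mod_cast h
  have h2 := FiniteField.even_card_iff_char_two.1 h1
  rw [Nat.odd_iff] at hF
  omega

theorem exists_slData [Finite Ω] {p k : ℕ} (C : CtxE U a b p k) (ht : t ∈ Dab G a b) (ht1 : t ≠ 1)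
    (htM : t ∈ genFix U (zpowers t))
    (hu : ∀ d ∈ Dab G a b, d * d = 1 → d = 1 ∨ d = t) {q : ℕ}
    (hT : DL (genFix U (zpowers t)) (U a ⊓ centralizer (zpowers t : Set G))
      (Dab G a b ⊓ genFix U (zpowers t)) (kerFix Ω (zpowers t))
      (fun w => w ∈ genFix U (zpowers t) ∧ Swaps w a b) q ∨
      (q = 3 ∧ Nat.card (U a ⊓ centralizer (zpowers t : Set G) : Subgroup G) = 3)) :
    ∃ (F : Type) (_ : Field F) (_ : Fintype F), Fintype.card F = q ∧ Odd (Fintype.card F) ∧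
      ∃ φ : Matrix.SpecialLinearGroup (Fin 2) F →* G, SLData U a b t φ := by
  have h := C.split
  have ha : ∀ x ∈ zpowers t, x • a = a := by
    intro x hx
    have : zpowers t ≤ stabilizer G a := by
      rw [zpowers_le]
      exact ht.1
    exact this hx
  have hb : ∀ x ∈ zpowers t, x • b = b := by
    intro x hx
    have : zpowers t ≤ stabilizer G b := by
      rw [zpowers_le]
      exact ht.2
    exact this hx
  have hfix : ∀ s : G, s ≠ 1 → s * s = 1 → ∃ c e : Ω, e ≠ c ∧ s • c = c ∧ s • e = e := by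
    intro s hs1 hs
    have h1 := C.fix s hs1 hs
    have h2 : 1 < Nat.card (fixedBy Ω s) := by omega
    have : Finite (fixedBy Ω s) := Subtype.finite
    have h3 : Nontrivial (fixedBy Ω s) := Finite.one_lt_card_iff_nontrivial.1 h2
    obtain ⟨c, e, hce⟩ := h3
    exact ⟨c, e, fun he => hce (Subtype.ext he.symm), c.2, e.2⟩
  have key : ∀ (F : Type) (_ : Field F) (_ : Fintype F), Fintype.card F = q → Odd q →
      ∀ φ : Matrix.SpecialLinearGroup (Fin 2) F →* G, SLX U (zpowers t) a b φ →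
      SLData U a b t φ := by
    intro F _ _ hF hodd φ S
    exact S.toData h ht ht1 htM (two_ne_zero_of_odd (by rw [hF]; exact hodd)) hu hfix
  rcases hT with hT | ⟨hq, hT⟩
  · obtain ⟨F, i1, i2, hF, φ, S⟩ := exists_slx_of_DL h C.ne ha hb hT
    exact ⟨F, i1, i2, hF, by rw [hF]; exact hT.odd, φ, key F i1 i2 hF hT.odd φ S⟩
  · obtain ⟨F, i1, i2, hF, φ, S⟩ := exists_slx_of_three h C.ne ha hb hT
    subst hq
    exact ⟨F, i1, i2, hF, by rw [hF]; decide, φ, key F i1 i2 hF (by decide) φ S⟩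

end Cfsg.Agent.HKS.SLCoord
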