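import Mathlib
import Cfsg.Agent.HKS.AbelianEnd
import Cfsg.Agent.HKS.SLNorm
import Cfsg.Agent.HKS.SLXFacts
import Cfsg.Agent.HKS.SLToData
import Cfsg.Agent.Lib.PSL2Inv

/-!
# Four-groups in `G_ab` and abelian unipotent groups: the end

`abelian_false` : in the context `CtxE`, `NoFourFix`, if `U a` is abelian then `G_ab` has no
four-group.
-/

set_option autoImplicit false
set_option linter.unusedSectionVars false

open Cfsg

namespace Cfsg.Agent.HKS.AbelianEnd

open Subgroup MulAction AbelianQ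

variable {G Ω : Type*} [Group G] [MulAction G Ω] {U : Ω → Subgroup G} {a b : Ω} {p k : ℕ}

/-- If `z ∈ genFix U ⟨z⟩` then `z` is the only involution of `genFix U ⟨z⟩`. -/
def OneInv (U : Ω → Subgroup G) (z : G) : Prop :=
  z ∈ genFix U (zpowers z) → ∀ x ∈ genFix U (zpowers z), x * x = 1 → x = 1 ∨ x = z

namespace Abl

variable {z : G} [Finite G] [Finite Ω]

/-- `genFix U ⟨z⟩` is 2-transitive on `Fix z`. -/
theorem two_genFix (A : Abl U a b p k z) {c d : Ω} (hc : z • c = c) (hd : z • d = d)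
    (hcd : c ≠ d) : ∃ g ∈ genFix U (zpowers z), g • a = c ∧ g • b = d := by
  have h1 := (A.C.split.fixed (zpowers z) (SSplit.three_of_card (by
    rw [TwoOne.card_fixSub_zpowers]
    exact A.C.fix z A.z1 A.z2))).gen
  obtain ⟨g, hg1, hg2⟩ := h1.two (a := ⟨a, TwoOne.zpowers_fix A.zD.1⟩)
    (b := ⟨b, TwoOne.zpowers_fix A.zD.2⟩) (c := ⟨c, TwoOne.zpowers_fix hc⟩)
    (d := ⟨d, TwoOne.zpowers_fix hd⟩)
    (fun e => A.C.ne (congrArg Subtype.val e).symm) (fun e => hcd (congrArg Subtype.val e))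
  refine ⟨((g : centralizer (zpowers z : Set G)) : G), ?_, congrArg Subtype.val hg1,
    congrArg Subtype.val hg2⟩
  rw [← map_iSup_famFix]
  exact ⟨g.1, g.2, rfl⟩

theorem conj_gen (A : Abl U a b p k z) {d g : G} (hd : d * z = z * d)
    (hg : g ∈ genFix U (zpowers z)) : d * g * d⁻¹ ∈ genFix U (zpowers z) := by
  refine PP1.conj_genFix A.C.split ?_ hg
  rintro _ ⟨n, rfl⟩
  have h1 : Commute d (z ^ n) := (show Commute d z from hd).zpow_right n
  have h2 : d⁻¹ * z ^ n * d = z ^ n := by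
    rw [mul_assoc, ← h1.eq, inv_mul_cancel_left]
  change d⁻¹ * z ^ n * d ∈ zpowers z
  rw [h2]
  exact zpow_mem (mem_zpowers z) n

variable [FaithfulSMul G Ω]

/-- The element `m = μ_u` of the second case. -/
theorem exists_m (A : Abl U a b p k z) {e : G} (he : e ∈ Dab G a b) (hze : IsConj z e)
    (hc : e * z = z * e) (hez : e ≠ z) :
    ∃ m ∈ genFix U (zpowers z), Swaps m a b ∧ m * z = z * m ∧ z ∈ zpowers m ∧
      ∃ j : ℕ, (m ^ j)⁻¹ * e * m ^ j = e * z := by
  have he2 : e * e = 1 := by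
    obtain ⟨g, hg⟩ := isConj_iff.1 hze
    exact TwoOne.mul_self_conj hg.symm A.z2
  have he1 : e ≠ 1 := by
    rintro rfl
    obtain ⟨g, hg⟩ := isConj_iff.1 hze
    exact A.z1 (conj_eq_one_iff.1 hg)
  have hei : e⁻¹ = e := inv_eq_of_mul_eq_one_left he2
  have hzi : z⁻¹ = z := inv_eq_of_mul_eq_one_left A.z2
  obtain ⟨u, hu, hu1, huz⟩ := A.exists_ne
  have hX : zpowers z ≤ Dab G b a := by
    rw [zpowers_le, Dab_symm]
    exact A.zD
  have hm := PP1.mu_mem_genFix A.C.split A.C.ne.symm hX hu hu1 (TwoOne.mem_cent_zpowers.2 huz)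
  have hms := (A.C.split.mu_swaps A.C.ne.symm hu hu1).symm
  have hinv := A.C.split.mu_inverted A.C.ne.symm hu hu1 (z := e) (by rw [Dab_symm]; exact he)
    (A.inverts he he1 he2 hez hc hu huz)
  set m := SSplit.mu U b a u with hmdef
  have hmz : m * z = z * m := (TwoOne.mem_cent_zpowers.1 (PP1.genFix_le_centralizer _ hm)).symm
  -- `m` does not commute with `e`
  have hne : m * e ≠ e * m := fun hme =>
    hez ((A.existsUnique m hms).unique ⟨he, hze, hme⟩ ⟨A.zD, IsConj.refl z, hmz⟩)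
  have hpow : ∀ n : ℕ, e * m ^ n * e⁻¹ = (m ^ n)⁻¹ := fun n => by
    rw [TwoOne.conj_pow', hinv, inv_pow]
  -- the order of `m`
  obtain ⟨n, hn⟩ := A.two_element (y := ⟨m, hms.mem_W⟩) ((notMem_DW A.C.ne).2 hms)
  have hex : ∃ n, m ^ 2 ^ n = 1 := ⟨n, congrArg Subtype.val hn⟩
  classical
  set r := Nat.find hex with hr
  have hr1 : m ^ 2 ^ r = 1 := Nat.find_spec hex
  have hrmin : ∀ j, j < r → m ^ 2 ^ j ≠ 1 := fun j hj => Nat.find_min hex hj
  have hr2 : 2 ≤ r := by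
    by_contra hlt
    have h1 : m ^ 2 ^ 1 = 1 := by
      have h2 : r = 0 ∨ r = 1 := by omega
      rcases h2 with h2 | h2
      · rw [h2, pow_zero, pow_one] at hr1
        rw [hr1, one_pow]
      · rwa [h2] at hr1
    rw [pow_one, pow_two] at h1
    have h2 : m⁻¹ = m := inv_eq_of_mul_eq_one_left h1
    rw [h2] at hinv
    apply hne
    calc m * e = e * m * e⁻¹ * e := by rw [hinv]
      _ = e * m := by group
  obtain ⟨s, hs⟩ : ∃ s, r = s + 2 := ⟨r - 2, by omega⟩
  set z₁ := m ^ 2 ^ (s + 1) with hz₁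
  have hz₁1 : z₁ ≠ 1 := hrmin (s + 1) (by omega)
  have hz₁2 : z₁ * z₁ = 1 := by
    rw [hz₁, ← pow_add, ← two_mul, ← pow_succ']
    rw [hs] at hr1
    exact hr1
  have hz₁i : z₁⁻¹ = z₁ := inv_eq_of_mul_eq_one_left hz₁2
  have hz₁D : z₁ ∈ Dab G a b := by
    rw [hz₁, pow_succ', pow_mul, pow_two]
    exact pow_mem (hms.mul hms) _
  have hz₁z : z₁ * z = z * z₁ := ((show Commute m z from hmz).pow_left _).eq
  have hz₁e : z₁ * e = e * z₁ := by
    have h1 := hpow (2 ^ (s + 1))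
    rw [← hz₁, hz₁i] at h1
    calc z₁ * e = e * z₁ * e⁻¹ * e := by rw [h1]
      _ = e * z₁ := by group
  have hz₁m : z₁ * m = m * z₁ := ((Commute.refl m).pow_left _).eq
  -- `z₁ = z`
  have hzz : z₁ = z := by
    by_contra hzz
    have hf2 : (z₁ * e) * (z₁ * e) = 1 := mul_self_mul hz₁2 he2 hz₁e
    have hfD : z₁ * e ∈ Dab G a b := mul_mem hz₁D he
    have hf1 : z₁ * e ≠ 1 := by
      intro h1
      have h2 : e = z₁ := by
        rw [← hz₁i]
        exact eq_inv_of_mul_eq_one_right h1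
      exact hne (by rw [h2]; exact hz₁m.symm)
    have hfz : z₁ * e ≠ z := by
      intro h1
      have h2 : e = z₁ * z := by
        rw [← h1, ← mul_assoc, hz₁2, one_mul]
      apply hne
      rw [h2]
      calc m * (z₁ * z) = (m * z₁) * z := by group
        _ = z₁ * (m * z) := by rw [← hz₁m]; group
        _ = z₁ * z * m := by rw [hmz]; group
    have hfc : (z₁ * e) * z = z * (z₁ * e) := by
      calc (z₁ * e) * z = z₁ * (e * z) := by group
        _ = z₁ * z * e := by rw [hc]; group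
        _ = _ := by rw [hz₁z]; group
    have i1 := A.inverts hz₁D hz₁1 hz₁2 hzz hz₁z hu huz
    have i2 := A.inverts he he1 he2 hez hc hu huz
    have i3 : (z₁ * e) * u * (z₁ * e)⁻¹ = u := by
      calc (z₁ * e) * u * (z₁ * e)⁻¹ = z₁ * (e * u * e⁻¹) * z₁⁻¹ := by group
        _ = (z₁ * u * z₁⁻¹)⁻¹ := by rw [i2]; group
        _ = u := by rw [i1, inv_inv]
    apply hu1
    refine A.F z A.zD _ hfD A.z1 hf1 (Ne.symm hfz) A.z2 hf2 hfc.symm u hu huz ?_
    calc (z₁ * e) * u = (z₁ * e) * u * (z₁ * e)⁻¹ * (z₁ * e) := by group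
      _ = u * (z₁ * e) := by rw [i3]
  refine ⟨m, hm, hms, hmz, ?_, 2 ^ s, ?_⟩
  · rw [← hzz, hz₁]
    exact pow_mem (mem_zpowers m) _
  · have h1 := hpow (2 ^ s)
    calc (m ^ 2 ^ s)⁻¹ * e * m ^ 2 ^ s = (e * m ^ 2 ^ s * e⁻¹) * e * m ^ 2 ^ s := by rw [h1]
      _ = e * (m ^ 2 ^ s * m ^ 2 ^ s) := by group
      _ = e * z := by
          rw [← pow_add, ← two_mul, ← pow_succ', ← hzz]

/-- **The second case is impossible.** -/
theorem two_false (A : Abl U a b p k z) (hS : OneInv U z) {e : G} (he : e ∈ Dab G a b)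
    (hze : IsConj z e) (hc : e * z = z * e) (hez : e ≠ z) : False := by
  classical
  have he2 : e * e = 1 := by
    obtain ⟨g, hg⟩ := isConj_iff.1 hze
    exact TwoOne.mul_self_conj hg.symm A.z2
  have he1 : e ≠ 1 := by
    rintro rfl
    obtain ⟨g, hg⟩ := isConj_iff.1 hze
    exact A.z1 (conj_eq_one_iff.1 hg)
  obtain ⟨m, hm, hms, hmz, hzm, j, hj⟩ := A.exists_m he hze hc hez
  set M := genFix U (zpowers z) with hM
  have hzM : z ∈ M := (zpowers_le.2 hm) hzm
  have heM : e ∉ M := fun h => (hS hzM e h he2).elim he1 hez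
  have hzez : IsConj z (e * z) := hze.trans (isConj_iff.2 ⟨(m ^ j)⁻¹, by rw [inv_inv]; exact hj⟩)
  have hcube := A.card_cube he he1 he2 hez hc hze hzez
  have hcount := AbelianCount.count_cube A.C.split A.C.ne A.zD A.z2 A.z1 A.existsUnique A.card_fix
    he hze hzez hc hez hcube (fun c h1 h2 => A.fix_two he he1 he2 hez hc h1 h2) M
    (fun g hg => (TwoOne.mem_cent_zpowers.1 (PP1.genFix_le_centralizer _ hg)).symm)
    (fun c d h1 h2 h3 => A.two_genFix h1 h2 h3)
  -- all conjugates are in `M e`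
  have hcos : ∀ y : G, IsConj z y → y * z = z * y → y ≠ z → y * e⁻¹ ∈ M := by
    intro y hy hyz hyne
    have key : ∀ g ∈ M, (g * e * g⁻¹) * e⁻¹ ∈ M := by
      intro g hg
      have h1 := A.conj_gen hc (M.inv_mem hg)
      have h2 : (g * e * g⁻¹) * e⁻¹ = g * (e * g⁻¹ * e⁻¹) := by group
      rw [h2]
      exact M.mul_mem hg h1
    obtain ⟨g, hg, rfl | rfl⟩ := hcount y hy hyz hyne
    · exact key g hg
    · have h1 : g * (e * z) * g⁻¹ = (g * (m ^ j)⁻¹) * e * (g * (m ^ j)⁻¹)⁻¹ := by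
        rw [← hj]; group
      rw [h1]
      exact key _ (M.mul_mem hg (M.inv_mem (M.pow_mem hm j)))
  -- the homomorphism
  let ι : centralizer {A.zW} →* G := (Wab G a b).subtype.comp (Subgroup.subtype _)
  let R : Subgroup (centralizer {A.zW}) := M.comap ι
  have hR : R.Normal := by
    constructor
    intro x hx g
    exact A.conj_gen (A.mem_CW.1 g.2) hx
  let mW : centralizer {A.zW} := ⟨⟨m, hms.mem_W⟩, A.mem_CW.2 hmz⟩
  let eW : centralizer {A.zW} := ⟨⟨e, Dab_le_Wab a b he⟩, A.mem_CW.2 hc⟩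
  have hmR : mW ∈ R := hm
  have hDW := index_DW A.C.split A.C.ne
  have hmk : ∀ g : centralizer {A.zW}, ((g * mW : centralizer {A.zW}) :
      centralizer {A.zW} ⧸ R) = (g : centralizer {A.zW} ⧸ R) := by
    intro g
    rw [QuotientGroup.eq]
    have h1 : (g * mW)⁻¹ * g = mW⁻¹ := by group
    rw [h1]
    exact R.inv_mem hmR
  have hP : IsPGroup 2 (centralizer {A.zW} ⧸ R) := by
    intro x
    obtain ⟨g, rfl⟩ := QuotientGroup.mk_surjective x
    have key : ∀ g : centralizer {A.zW}, (g : Wab G a b) ∉ DW G a b →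
        ∃ n, ((g : centralizer {A.zW} ⧸ R)) ^ 2 ^ n = 1 := by
      intro g hg
      obtain ⟨n, hn⟩ := A.two_element hg
      refine ⟨n, ?_⟩
      have h1 : g ^ 2 ^ n = 1 := Subtype.ext hn
      rw [← QuotientGroup.mk_pow, h1, QuotientGroup.mk_one]
    by_cases hg : (g : Wab G a b) ∈ DW G a b
    · obtain ⟨n, hn⟩ := key (g * mW) (by
        rw [notMem_DW A.C.ne]
        exact hms.D_mul hg)
      exact ⟨n, by rw [hmk] at hn; exact hn⟩
    · exact key g hg
  have heR : eW ∉ R := heM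
  have hnt : Nontrivial (centralizer {A.zW} ⧸ R) :=
    ⟨⟨(eW : centralizer {A.zW} ⧸ R), 1, fun h => heR ((QuotientGroup.eq_one_iff eW).1 h)⟩⟩
  obtain ⟨θ₀, x, hx⟩ := exists_hom hP hnt
  obtain ⟨g, rfl⟩ := QuotientGroup.mk_surjective x
  set θ : centralizer {A.zW} →* ℤˣ := θ₀.comp (QuotientGroup.mk' R) with hθ
  have hθv : ∀ y, θ y = θ₀ (y : centralizer {A.zW} ⧸ R) := fun y => rfl
  -- an element of `D`
  obtain ⟨d, hdD, hd⟩ : ∃ d : centralizer {A.zW}, (((d : Wab G a b) : G)) ∈ Dab G a b ∧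
      θ d = -1 := by
    by_cases hg : (g : Wab G a b) ∈ DW G a b
    · exact ⟨g, hg, hx⟩
    · refine ⟨g * mW, ((notMem_DW A.C.ne).1 hg).mul hms, ?_⟩
      rw [hθv, hmk]
      exact hx
  have hconst : ∀ y (hy : y ∈ centralizer {A.zW}), Swaps (y : G) a b → IsConj z (y : G) →
      θ ⟨y, hy⟩ = θ eW := by
    intro y hy hys hyz
    have hyne : (y : G) ≠ z := by
      intro h1
      rw [h1] at hys
      exact A.C.ne (hys.1.symm.trans A.zD.1)
    have h1 := hcos y hyz (A.mem_CW.1 hy) hyne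
    have h2 : ((⟨y, hy⟩ : centralizer {A.zW}) * eW⁻¹) ∈ R := h1
    have h3 : θ ((⟨y, hy⟩ : centralizer {A.zW}) * eW⁻¹) = 1 := by
      rw [hθv, (QuotientGroup.eq_one_iff _).2 h2, map_one]
    rw [map_mul, map_inv] at h3
    exact mul_inv_eq_one.1 h3
  have h5 := data_hom A.C.split A.C.gen A.C.ne A.C.prime A.C.p_ne_two A.C.cardU A.comm A.odd
    (c := ⟨m, hms.mem_W⟩) mW.2 hms θ (d := (d : Wab G a b)) d.2 hdD hd
  have h6 := h5.2 z A.z2 _ A.card_fix ⟨_, hconst⟩
  rw [← A.C.cardU, hcube] at h6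
  have h7 := A.three_le
  have h8 := Nat.le_of_dvd (by positivity) h6
  have h9 : Nat.card (TwoOne.CU U a z) ^ 2 < Nat.card (TwoOne.CU U a z) ^ 3 :=
    Nat.pow_lt_pow_right (by omega) (by norm_num)
  omega

end Abl

/-- The type at `⟨z⟩` is `PSL(2,q)`. -/
theorem Abl.type_DL [Finite G] [Finite Ω] {z : G} (A : Abl U a b p k z) (h1 : p ^ k % 4 = 1) :
    ∃ q, DL (genFix U (zpowers z)) (U a ⊓ centralizer (zpowers z : Set G))
      (Dab G a b ⊓ genFix U (zpowers z)) (kerFix Ω (zpowers z))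
      (fun w => w ∈ genFix U (zpowers z) ∧ Swaps w a b) q := by
  have hX : zpowers z ≤ Dab G a b := zpowers_le.2 A.zD
  have hzK : z ∈ kerFix Ω (zpowers z) := fun c hc => hc z (mem_zpowers z)
  have hne : U a ⊓ centralizer (zpowers z : Set G) ≠ ⊥ := by
    intro hb
    obtain ⟨u, hu, hu1, huz⟩ := A.exists_ne
    have h2 : u ∈ U a ⊓ centralizer (zpowers z : Set G) := ⟨hu, TwoOne.mem_cent_zpowers.2 huz⟩
    rw [hb] at h2
    exact hu1 (mem_bot.1 h2)
  have hbad : ∀ z' ∈ Dab G a b ⊓ genFix U (zpowers z), z' ∉ kerFix Ω (zpowers z) → z' * z' = 1 →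
      ∀ u ∈ U a ⊓ centralizer (zpowers z : Set G), z' * u = u * z' → u = 1 := by
    intro z' hz' hz'K hz'2 u hu huz
    refine A.F z A.zD z' hz'.1 A.z1 ?_ ?_ A.z2 hz'2 ?_ u hu.1 (TwoOne.mem_cent_zpowers.1 hu.2) huz
    · rintro rfl
      exact hz'K (one_mem _)
    · rintro rfl
      exact hz'K hzK
    · exact TwoOne.mem_cent_zpowers.1 (PP1.genFix_le_centralizer _ hz'.2)
  rcases A.C.IH (zpowers z) hX (by rw [Ne, zpowers_eq_bot]; exact A.z1) hne with hT | hT | hT | hT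
  · exfalso
    obtain ⟨s, hs, he⟩ := hT.card
    obtain ⟨r, rfl⟩ : ∃ r, s = r + 2 := ⟨s - 2, by omega⟩
    have h3 := A.mod_four
    have h4 : Nat.card (TwoOne.CU U a z) + 1 = 4 * 2 ^ r := by
      rw [TwoOne.CU, he, pow_add]; ring
    omega
  · exact hT
  · exfalso
    obtain ⟨q, hT⟩ := hT
    obtain ⟨z', hz', hz'K, hz'2, hz'c⟩ := hT.invol
    have h3 := hT.cardZ
    have h4 : (U a ⊓ centralizer (zpowers z : Set G)) ⊓
        centralizer ((U a ⊓ centralizer (zpowers z : Set G) : Subgroup G) : Set G) ≠ ⊥ := by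
      intro hb
      rw [hb, card_bot] at h3
      exact hT.pow.one_lt.ne h3
    obtain ⟨⟨u, hu⟩, hu1⟩ := Subgroup.ne_bot_iff_exists_ne_one.1 h4
    have hu' := mem_inf.1 hu
    refine hu1 (Subtype.ext (hbad z' hz' hz'K hz'2 u hu'.1 ((hz'c u hu'.1).2 fun v hv => ?_)))
    exact (mem_centralizer_iff.1 hu'.2 v hv).symm
  · exfalso
    obtain ⟨n, hT⟩ := hT
    obtain ⟨z', hz', hz'K, hz'2, hz'c⟩ := hT.invol
    have h4 : (U a ⊓ centralizer (zpowers z : Set G)) ⊓ centralizer ({z'} : Set G) ≠ ⊥ := by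
      intro hb
      rw [hb, card_bot] at hz'c
      have h5 : 1 < 3 ^ n := Nat.one_lt_pow hT.odd.pos.ne' (by norm_num)
      omega
    obtain ⟨⟨u, hu⟩, hu1⟩ := Subgroup.ne_bot_iff_exists_ne_one.1 h4
    have hu' := mem_inf.1 hu
    refine hu1 (Subtype.ext (hbad z' hz' hz'K hz'2 u hu'.1 ?_))
    exact (mem_centralizer_singleton_iff.1 hu'.2).symm

/-- `z` is the only involution of `genFix U ⟨z⟩`, if it lies there. -/
theorem Abl.oneInv [Finite G] [Finite Ω] {z : G} (A : Abl U a b p k z) (h1 : p ^ k % 4 = 1) :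
    OneInv U z := by
  intro hz x hx hx2
  obtain ⟨q, hT⟩ := A.type_DL h1
  obtain ⟨F, i1, i2, hF, φ, S⟩ := SLCoord.exists_slx_of_DL A.C.split A.C.ne
    (TwoOne.zpowers_fix A.zD.1) (TwoOne.zpowers_fix A.zD.2) hT
  obtain ⟨hn, hinj⟩ := S.neg_eq A.C.split A.z1 hz
  rw [← S.range_eq A.C.split] at hx
  obtain ⟨g, rfl⟩ := hx
  rw [← map_mul, ← map_one φ] at hx2
  have hg := hinj hx2
  have h2 : (2 : F) ≠ 0 := SLCoord.two_ne_zero_of_odd (by rw [hF]; exact hT.odd)
  rcases Cfsg.Agent.Lib.PSL2Inv.sq_eq_one h2 hg with h3 | h3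
  · left; rw [h3, map_one]
  · right; rw [h3, hn]

/-- **`U a` is not abelian if `G_ab` has a four-group.** -/
theorem abelian_false' [Finite G] [Finite Ω] [FaithfulSMul G Ω] (C : CtxE U a b p k)
    (hF : NoFourFix U a b)
    (hcomm : ∀ x ∈ U a, ∀ y ∈ U a, x * y = y * x) {s t : G} (hs : s ∈ Dab G a b)
    (ht : t ∈ Dab G a b) (hs1 : s ≠ 1) (ht1 : t ≠ 1) (hst : s ≠ t) (hs2 : s * s = 1)
    (ht2 : t * t = 1) (hc : s * t = t * s) : False := by
  obtain ⟨z, e, hz, he, hz1, he1, hze, hz2, he2, hc', hodd, c, hcz, hcD⟩ :=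
    exists_central_inv (W := Wab G a b) (index_DW C.split C.ne)
      (s := ⟨s, Dab_le_Wab a b hs⟩) (t := ⟨t, Dab_le_Wab a b ht⟩) hs ht
      (fun h => hs1 (congrArg Subtype.val h)) (fun h => ht1 (congrArg Subtype.val h))
      (fun h => hst (congrArg Subtype.val h)) (Subtype.ext hs2) (Subtype.ext ht2) (Subtype.ext hc)
  have hzD : (z : G) ∈ Dab G a b := hz
  have heD : (e : G) ∈ Dab G a b := he
  have A : Abl U a b p k (z : G) :=
    { C := C
      F := hF
      comm := hcomm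
      zD := hzD
      z1 := fun h => hz1 (Subtype.ext h)
      z2 := congrArg Subtype.val hz2
      odd := hodd
      out := ⟨c, (notMem_DW C.ne).1 hcD,
        congrArg Subtype.val (mem_centralizer_singleton_iff.1 hcz)⟩ }
  have h1 := A.mod_four_one heD (fun h => he1 (Subtype.ext h)) (congrArg Subtype.val he2)
    (fun h => hze (Subtype.ext h).symm) (congrArg Subtype.val hc').symm
  obtain ⟨e', he', h2, h3, h4⟩ := A.exists_comm h1
  exact A.two_false (A.oneInv h1) he' h2 h3 h4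

/-- The same, with the number of involutions as an (unused) hypothesis. -/
theorem abelian_false [Finite G] [Finite Ω] [FaithfulSMul G Ω] (C : CtxE U a b p k)
    (hF : NoFourFix U a b)
    (_hS : ∀ z ∈ Dab G a b, z ≠ 1 → z * z = 1 → OneInv U z)
    (hcomm : ∀ x ∈ U a, ∀ y ∈ U a, x * y = y * x) {s t : G} (hs : s ∈ Dab G a b)
    (ht : t ∈ Dab G a b) (hs1 : s ≠ 1) (ht1 : t ≠ 1) (hst : s ≠ t) (hs2 : s * s = 1)
    (ht2 : t * t = 1) (hc : s * t = t * s) : False :=
  abelian_false' C hF hcomm hs ht hs1 ht1 hst hs2 ht2 hc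

end Cfsg.Agent.HKS.AbelianEnd
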