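import Mathlib
import Cfsg.Agent.HKS.Affine

/-!
# Affine type at a central involution: an upper bound for the number of involutions

`H` acts on `F` (not faithfully), `V` strongly splits it, the two-point stabilisers of the group generated
by the `V c` act trivially, `|V a| = p` is a prime, `|F| > 4`, `t` is a central involution of `H` and the
only involution of `H` with a fixed point. Then `H` has at most `2 p` involutions different from `t`.
-/

set_option autoImplicit false

namespace Cfsg.Agent.HKS.AffAbs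

open Subgroup MulAction SSplit

variable {H F : Type*} [Group H] [MulAction H F] {V : F → Subgroup H}

/-- The setting. -/
structure Aff (V : F → Subgroup H) (t : H) (p : ℕ) (a b : F) : Prop where
  split : SSplit V
  ab : b ≠ a
  tc : ∀ g : H, t * g = g * t
  t2 : t * t = 1
  t1 : t ≠ 1
  one : ∀ s : H, s * s = 1 → s ≠ 1 → ∀ c : F, s • c = c → s = t
  tfix : ∀ c : F, t • c = c
  triv : ∀ g ∈ ⨆ c, V c, g • a = a → g • b = b → ∀ c : F, g • c = c
  card : Nat.card (V a) = p
  prime : p.Prime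
  big : 4 < Nat.card F
  even : Even (Nat.card F)

/-- The regular normal elementary abelian subgroup of the permutation group. -/
structure Reg (V : F → Subgroup H) (E : Subgroup (Equiv.Perm F)) : Prop where
  comm : ∀ x ∈ E, ∀ y ∈ E, x * y = y * x
  sq : ∀ x ∈ E, x * x = 1
  tr : ∀ c d : F, ∃ x ∈ E, x c = d
  semi : ∀ c : F, ∀ x ∈ E, x c = c → x = 1
  lift : ∀ x ∈ E, ∃ m ∈ ⨆ c, V c, toPermHom H F m = x
  conj : ∀ g : H, ∀ x ∈ E, toPermHom H F g * x * (toPermHom H F g)⁻¹ ∈ E

theorem toPerm_eq_one {g : H} : toPermHom H F g = 1 ↔ ∀ c : F, g • c = c := by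
  constructor
  · intro h c
    have := DFunLike.congr_fun h c
    exact this
  · intro h
    ext c
    exact h c

/-- The kernel of the action centralises the group generated by the `V c`. -/
theorem ker_comm (h : SSplit V) {k : H} (hk : toPermHom H F k = 1) {m : H}
    (hm : m ∈ ⨆ c, V c) : k * m = m * k := by
  have h1 : (⨆ c, V c) ≤ centralizer ({k} : Set H) := by
    rw [iSup_le_iff]
    intro c u hu
    rw [mem_centralizer_singleton_iff]
    exact (h.comm_kernel (toPerm_eq_one.1 hk) hu).symm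
  exact (mem_centralizer_singleton_iff.1 (h1 hm)).symm

namespace Aff

variable {t : H} {p : ℕ} {a b : F}

theorem exists_reg (A : Aff V t p a b) [Finite F] : ∃ E, Reg V E := by
  classical
  set M : Subgroup H := ⨆ c, V c with hM
  set ρ := (toPermHom M F).rangeRestrict with hρ
  have hS : SSplit (G := (toPermHom M F).range) (Ω := F)
      (fun c => ((V c).subgroupOf M).map ρ) := A.split.gen.image
  have hD : Dab (toPermHom M F).range a b = ⊥ := by
    rw [eq_bot_iff]
    rintro ⟨_, g, rfl⟩ hg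
    have h1 : ∀ c : F, (g : H) • c = c := A.triv g g.2 hg.1 hg.2
    rw [mem_bot]
    apply Subtype.ext
    ext c
    exact h1 c
  obtain ⟨E, hn, hc, h2, htr, hfix, hmem, -, -⟩ := hS.sharp_normal A.even A.ab hD
  refine ⟨E.map (Subgroup.subtype _), ?_, ?_, ?_, ?_, ?_, ?_⟩
  · rintro _ ⟨x, hx, rfl⟩ _ ⟨y, hy, rfl⟩
    rw [← map_mul, hc x hx y hy, map_mul]
  · rintro _ ⟨x, hx, rfl⟩
    rw [← map_mul, h2 x hx, map_one]
  · intro c d
    obtain ⟨x, hx, hxc⟩ := htr c d
    exact ⟨_, ⟨x, hx, rfl⟩, hxc⟩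
  · rintro c _ ⟨x, hx, rfl⟩ hxc
    rw [hfix c x hx hxc, map_one]
  · rintro _ ⟨⟨_, g, rfl⟩, hx, rfl⟩
    exact ⟨(g : H), g.2, rfl⟩
  · rintro g _ ⟨⟨_, m, rfl⟩, hx, rfl⟩
    have hnorm := A.split.iSup_normal
    have hgm : g * (m : H) * g⁻¹ ∈ M := hnorm.conj_mem _ m.2 g
    refine ⟨⟨_, ⟨g * (m : H) * g⁻¹, hgm⟩, rfl⟩, ?_, ?_⟩
    · rw [SetLike.mem_coe, hmem]
      rcases (hmem _).1 hx with h3 | h3
      · left
        apply Subtype.ext
        ext c
        have h4 : ∀ c : F, (m : H) • c = c := fun c => by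
          have := DFunLike.congr_fun (congrArg Subtype.val h3) c
          exact this
        change (g * (m : H) * g⁻¹) • c = c
        rw [mul_smul, mul_smul, h4, smul_inv_smul]
      · right
        intro c hc'
        apply h3 (g⁻¹ • c)
        change (m : H) • g⁻¹ • c = g⁻¹ • c
        have h4 : (g * (m : H) * g⁻¹) • c = c := hc'
        rw [mul_smul, mul_smul] at h4
        rw [eq_inv_smul_iff, h4]
    · ext c
      change (g * (m : H) * g⁻¹) • c = g • (m : H) • ((toPermHom H F g)⁻¹ c)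
      rw [mul_smul, mul_smul, ← map_inv]
      rfl

/-- An involution or `1` with a fixed point. -/
theorem one' (A : Aff V t p a b) {s : H} (hs : s * s = 1) {c : F} (hc : s • c = c) :
    s = 1 ∨ s = t := by
  by_cases h : s = 1
  · exact Or.inl h
  · exact Or.inr (A.one s hs h c hc)

theorem tker (A : Aff V t p a b) : toPermHom H F t = 1 := toPerm_eq_one.2 A.tfix

variable {E : Subgroup (Equiv.Perm F)}

/-- Commutators of lifts of translations. -/
theorem comm_val (A : Aff V t p a b) (R : Reg V E) {x y : H} (hx : x ∈ ⨆ c, V c)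
    (hy : y ∈ ⨆ c, V c) (hxE : toPermHom H F x ∈ E) (hyE : toPermHom H F y ∈ E) :
    x * y * x⁻¹ * y⁻¹ = 1 ∨ x * y * x⁻¹ * y⁻¹ = t := by
  set c := x * y * x⁻¹ * y⁻¹ with hc
  have h1 : toPermHom H F c = 1 := by
    rw [hc, map_mul, map_mul, map_mul, map_inv, map_inv, R.comm _ hxE _ hyE]
    group
  have h2 : toPermHom H F (x * x) = 1 := by
    rw [map_mul, R.sq _ hxE]
  have h3 : x * y * x⁻¹ = c * y := by rw [hc]; group
  have h4 := ker_comm A.split h1 hx
  have h5 : x * x * y * (x * x)⁻¹ = c * c * y := by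
    calc x * x * y * (x * x)⁻¹ = x * (x * y * x⁻¹) * x⁻¹ := by group
      _ = x * (c * y) * x⁻¹ := by rw [h3]
      _ = (x * c) * y * x⁻¹ := by group
      _ = (c * x) * y * x⁻¹ := by rw [h4]
      _ = c * (x * y * x⁻¹) := by group
      _ = c * (c * y) := by rw [h3]
      _ = c * c * y := by group
  have h6 := ker_comm A.split h2 hy
  have h7 : c * c = 1 := by
    have h8 : x * x * y * (x * x)⁻¹ = y := by rw [h6]; group
    rw [h8] at h5
    exact (mul_eq_right.1 h5.symm)
  exact A.one' h7 (c := a) ((toPerm_eq_one.1 h1) a)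

/-- Squares of products of lifts of translations. -/
theorem sq_mul (A : Aff V t p a b) (R : Reg V E) {x y : H} (hx : x ∈ ⨆ c, V c)
    (hy : y ∈ ⨆ c, V c) (hxE : toPermHom H F x ∈ E) (hyE : toPermHom H F y ∈ E) :
    (x * y * (x * y) = x * x * (y * y) ∧ y * x * y⁻¹ * x⁻¹ = 1) ∨
      (x * y * (x * y) = t * (x * x * (y * y)) ∧ y * x * y⁻¹ * x⁻¹ = t) := by
  have h1 : x * y * (x * y) = x * (y * x * y⁻¹ * x⁻¹) * x * (y * y) := by group
  rcases A.comm_val R hy hx hyE hxE with h2 | h2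
  · left
    refine ⟨?_, h2⟩
    rw [h1, h2, mul_one]
  · right
    refine ⟨?_, h2⟩
    rw [h1, h2, ← A.tc x]
    group

theorem exists_ne (A : Aff V t p a b) : ∃ u ∈ V a, u • b ≠ b ∧ u ≠ 1 := by
  obtain ⟨c, hca, hcb⟩ := A.split.three a b
  obtain ⟨u, hu, hub⟩ := A.split.trans A.ab hca
  refine ⟨u, hu, by rw [hub]; exact hcb, ?_⟩
  rintro rfl
  rw [one_smul] at hub
  exact hcb hub.symm

omit [MulAction H F] in
theorem le_M (a : F) : V a ≤ ⨆ c, V c := le_iSup V a

/-- `V a` permutes the nontrivial translations transitively. -/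
theorem conj_trick (A : Aff V t p a b) (R : Reg V E) {g : H}
    (hgE : toPermHom H F g ∈ E) (hg1 : toPermHom H F g ≠ 1) {e : Equiv.Perm F} (he : e ∈ E)
    (he1 : e ≠ 1) : ∃ v ∈ V a, toPermHom H F (v * g * v⁻¹) = e := by
  have h1 : g • a ≠ a := fun h => hg1 (R.semi a _ hgE h)
  have h2 : e a ≠ a := fun h => he1 (R.semi a _ he h)
  obtain ⟨v, hv, hve⟩ := A.split.trans h1 h2
  refine ⟨v, hv, ?_⟩
  have h3 : toPermHom H F (v * g * v⁻¹) ∈ E := by
    rw [map_mul, map_mul, map_inv]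
    exact R.conj v _ hgE
  have h4 : e⁻¹ * toPermHom H F (v * g * v⁻¹) = 1 := by
    refine R.semi a _ (mul_mem (inv_mem he) h3) ?_
    rw [Equiv.Perm.mul_apply]
    have h5 : toPermHom H F (v * g * v⁻¹) a = e a := by
      change (v * g * v⁻¹) • a = e a
      rw [mul_smul, mul_smul, inv_smul_eq_iff.2 (A.split.fix hv).symm, hve]
    rw [h5]
    exact Equiv.symm_apply_apply e a
  rw [inv_mul_eq_one] at h4
  exact h4.symm

/-- Four points. -/
theorem exists_five {F : Type*} [Finite F] (h : 4 < Nat.card F) (c1 c2 c3 c4 : F) :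
    ∃ d : F, d ≠ c1 ∧ d ≠ c2 ∧ d ≠ c3 ∧ d ≠ c4 := by
  classical
  have := Fintype.ofFinite F
  by_contra hc
  push Not at hc
  have h1 : (Finset.univ : Finset F) ⊆ {c1, c2, c3, c4} := by
    intro d _
    simp only [Finset.mem_insert, Finset.mem_singleton]
    by_contra hd
    push Not at hd
    exact hd.2.2.2 (hc d hd.1 hd.2.1 hd.2.2.1)
  have h2 := Finset.card_le_card h1
  have h3 : ({c1, c2, c3, c4} : Finset F).card ≤ 4 := Finset.card_le_four
  rw [Finset.card_univ, ← Nat.card_eq_fintype_card] at h2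
  omega

theorem exists_lift [Finite F] (A : Aff V t p a b) (R : Reg V E) :
    ∃ m ∈ ⨆ c, V c, toPermHom H F m ∈ E ∧ toPermHom H F m ≠ 1 ∧ m * m = 1 := by
  by_contra hcon
  push Not at hcon
  -- a lift of order four
  obtain ⟨g0, hg0, hg0E, hg01, hg0t⟩ : ∃ g ∈ ⨆ c, V c, toPermHom H F g ∈ E ∧
      toPermHom H F g ≠ 1 ∧ g * g = t := by
    obtain ⟨e, he, heb⟩ := R.tr a b
    obtain ⟨x, hx, hxe⟩ := R.lift e he
    obtain ⟨u, hu, hub, -⟩ := A.exists_ne
    have huM := le_M a hu
    set y := u * x * u⁻¹ with hy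
    have hyM : y ∈ ⨆ c, V c := mul_mem (mul_mem huM hx) (inv_mem huM)
    have hxE : toPermHom H F x ∈ E := by rw [hxe]; exact he
    have hyE : toPermHom H F y ∈ E := by
      rw [hy, map_mul, map_mul, map_inv]; exact R.conj u _ hxE
    have hyE' : toPermHom H F y⁻¹ ∈ E := by rw [map_inv]; exact inv_mem hyE
    have hxx : toPermHom H F (x * x) = 1 := by rw [map_mul, R.sq _ hxE]
    have hyy : y * y = x * x := by
      calc y * y = u * (x * x) * u⁻¹ := by rw [hy]; group
        _ = x * x := by rw [← ker_comm A.split hxx huM]; group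
    have hne : toPermHom H F (x * y⁻¹) ≠ 1 := by
      intro hc
      have h1 := toPerm_eq_one.1 hc (y • a)
      rw [mul_smul, inv_smul_smul] at h1
      have h2 : x • a = b := by
        have := DFunLike.congr_fun hxe a
        rw [heb] at this
        exact this
      have h3 : y • a = u • b := by
        rw [hy, mul_smul, mul_smul, inv_smul_eq_iff.2 (A.split.fix hu).symm, h2]
      rw [h2, h3] at h1
      exact hub h1.symm
    have hyi : y⁻¹ * y⁻¹ = (x * x)⁻¹ := by rw [← hyy]; group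
    refine ⟨x * y⁻¹, mul_mem hx (inv_mem hyM), by rw [map_mul]; exact mul_mem hxE hyE', hne, ?_⟩
    have hne2 := hcon (x * y⁻¹) (mul_mem hx (inv_mem hyM)) (by
      rw [map_mul]; exact mul_mem hxE hyE') hne
    rcases A.sq_mul R hx (inv_mem hyM) hxE hyE' with ⟨h1, -⟩ | ⟨h1, -⟩
    · exfalso
      apply hne2
      rw [h1, hyi]; group
    · rw [h1, hyi]; group
  have hL : ∀ e ∈ E, e ≠ 1 → ∃ g ∈ ⨆ c, V c, toPermHom H F g = e ∧ g * g = t := by
    intro e he he1
    obtain ⟨v, hv, hve⟩ := A.conj_trick R hg0E hg01 he he1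
    refine ⟨v * g0 * v⁻¹, mul_mem (mul_mem (le_M a hv) hg0) (inv_mem (le_M a hv)), hve, ?_⟩
    calc v * g0 * v⁻¹ * (v * g0 * v⁻¹) = v * (g0 * g0) * v⁻¹ := by group
      _ = t := by rw [hg0t, ← A.tc v]; group
  have hP : ∀ x ∈ ⨆ c, V c, ∀ y ∈ ⨆ c, V c, toPermHom H F x ∈ E → toPermHom H F y ∈ E →
      x * x = t → y * y = t → toPermHom H F (x * y) ≠ 1 →
      y * x * y⁻¹ * x⁻¹ = t ∧ x * y * (x * y) = t := by
    intro x hx y hy hxE hyE hxt hyt hxy
    have hne := hcon (x * y) (mul_mem hx hy) (by rw [map_mul]; exact mul_mem hxE hyE) hxy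
    rcases A.sq_mul R hx hy hxE hyE with ⟨h1, -⟩ | ⟨h1, h2⟩
    · exfalso
      apply hne
      rw [h1, hxt, hyt, A.t2]
    · refine ⟨h2, ?_⟩
      rw [h1, hxt, hyt, A.t2, mul_one]
  -- three independent translations
  have hdist : ∀ e ∈ E, ∀ f ∈ E, e a ≠ f a → e * f ≠ 1 := by
    intro e he f hf hne hc
    apply hne
    have : e = f := by
      calc e = e * (f * f) := by rw [R.sq f hf, mul_one]
        _ = (e * f) * f := by group
        _ = f := by rw [hc, one_mul]
    rw [this]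
  have hE1 : ∀ e ∈ E, e a ≠ a → e ≠ 1 := by
    rintro e - hea rfl
    exact hea rfl
  obtain ⟨e1, he1, he1b⟩ := R.tr a b
  obtain ⟨c2, hc2a, hc2b⟩ := A.split.three a b
  obtain ⟨e2, he2, he2c⟩ := R.tr a c2
  obtain ⟨c3, h31, h32, h33, h34⟩ := exists_five A.big a b c2 ((e1 * e2) a)
  obtain ⟨e3, he3, he3c⟩ := R.tr a c3
  obtain ⟨g, hg, hge, hgt⟩ := hL e1 he1 (hE1 e1 he1 (by rw [he1b]; exact A.ab))
  obtain ⟨h, hh, hhe, hht⟩ := hL e2 he2 (hE1 e2 he2 (by rw [he2c]; exact hc2a))
  obtain ⟨l, hl, hle, hlt⟩ := hL e3 he3 (hE1 e3 he3 (by rw [he3c]; exact h31))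
  have hgE : toPermHom H F g ∈ E := by rw [hge]; exact he1
  have hhE : toPermHom H F h ∈ E := by rw [hhe]; exact he2
  have hlE : toPermHom H F l ∈ E := by rw [hle]; exact he3
  have hghE : toPermHom H F (g * h) ∈ E := by rw [map_mul]; exact mul_mem hgE hhE
  obtain ⟨-, k1⟩ := hP g hg h hh hgE hhE hgt hht (by
    rw [map_mul, hge, hhe]
    exact hdist e1 he1 e2 he2 (by rw [he1b, he2c]; exact hc2b.symm))
  obtain ⟨k2, -⟩ := hP g hg l hl hgE hlE hgt hlt (by
    rw [map_mul, hge, hle]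
    exact hdist e1 he1 e3 he3 (by rw [he1b, he3c]; exact h32.symm))
  obtain ⟨k3, -⟩ := hP h hh l hl hhE hlE hht hlt (by
    rw [map_mul, hhe, hle]
    exact hdist e2 he2 e3 he3 (by rw [he2c, he3c]; exact h33.symm))
  obtain ⟨k4, -⟩ := hP (g * h) (mul_mem hg hh) l hl hghE hlE k1 hlt (by
    rw [map_mul, map_mul, hge, hhe, hle]
    exact hdist (e1 * e2) (mul_mem he1 he2) e3 he3 (by rw [he3c]; exact h34.symm))
  apply A.t1
  calc t = l * (g * h) * l⁻¹ * (g * h)⁻¹ := k4.symm
    _ = (l * g * l⁻¹ * g⁻¹) * g * (l * h * l⁻¹ * h⁻¹) * g⁻¹ := by group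
    _ = t * g * t * g⁻¹ := by rw [k2, k3]
    _ = t * (g * t) * g⁻¹ := by group
    _ = t * (t * g) * g⁻¹ := by rw [A.tc g]
    _ = t * t := by group
    _ = 1 := A.t2

/-- Every translation lifts to an involution. -/
theorem lift_invol [Finite F] (A : Aff V t p a b) (R : Reg V E) {e : Equiv.Perm F} (he : e ∈ E)
    (he1 : e ≠ 1) : ∃ m ∈ ⨆ c, V c, toPermHom H F m = e ∧ m * m = 1 := by
  obtain ⟨g, hg, hgE, hg1, hgt⟩ := A.exists_lift R
  obtain ⟨v, hv, hve⟩ := A.conj_trick R hgE hg1 he he1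
  refine ⟨v * g * v⁻¹, mul_mem (mul_mem (le_M a hv) hg) (inv_mem (le_M a hv)), hve, ?_⟩
  calc v * g * v⁻¹ * (v * g * v⁻¹) = v * (g * g) * v⁻¹ := by group
    _ = 1 := by rw [hgt]; group

theorem card_F (A : Aff V t p a b) [Finite F] : Nat.card F = p + 1 := by
  rw [A.split.card a, A.card]

/-- Elements fixing two points whose square is trivial are trivial. -/
theorem gal [Finite F] (A : Aff V t p a b) (R : Reg V E) {x : H} {d : F} (hda : d ≠ a)
    (hxa : x • a = a) (hxd : x • d = d) (hx2 : toPermHom H F (x * x) = 1) :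
    toPermHom H F x = 1 := by
  have hp : Fact p.Prime := ⟨A.prime⟩
  have h5 := A.big
  rw [A.card_F] at h5
  have hcyc : IsCyclic (V a) := isCyclic_of_prime_card A.card
  have hcomm : ∀ v ∈ V a, ∀ w ∈ V a, v * w = w * v := by
    intro v hv w hw
    have hc : CommGroup (V a) := IsCyclic.commGroup
    exact congrArg Subtype.val (IsMulCommutative.is_comm.comm (⟨v, hv⟩ : V a) ⟨w, hw⟩)
  have hconj : ∀ v ∈ V a, x * v * x⁻¹ ∈ V a := fun v hv => A.split.conj_of_fix hxa hv
  have hx2c : ∀ v ∈ V a, x * x * v = v * (x * x) := fun v hv =>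
    ker_comm A.split hx2 (le_M a hv)
  by_cases hid : ∀ v ∈ V a, x * v * x⁻¹ = v
  · rw [toPerm_eq_one]
    intro c
    by_cases hca : c = a
    · rw [hca, hxa]
    · obtain ⟨v, hv, rfl⟩ := A.split.trans hda hca
      have h1 : x * v = v * x := by
        calc x * v = x * v * x⁻¹ * x := by group
          _ = v * x := by rw [hid v hv]
      rw [← mul_smul, h1, mul_smul, hxd]
  -- `x` inverts `V a`
  have hinv : ∀ v ∈ V a, x * v * x⁻¹ = v⁻¹ := by
    by_contra hcon
    push Not at hcon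
    obtain ⟨v, hv, hne⟩ := hcon
    apply hid
    set w := v * (x * v * x⁻¹) with hw
    have hwV : w ∈ V a := mul_mem hv (hconj v hv)
    have hw1 : w ≠ 1 := fun hc => hne (eq_inv_of_mul_eq_one_right hc)
    have hxw : x * w * x⁻¹ = w := by
      calc x * w * x⁻¹ = (x * v * x⁻¹) * (x * x * v * (x * x)⁻¹) := by rw [hw]; group
        _ = (x * v * x⁻¹) * v := by rw [hx2c v hv]; group
        _ = w := by rw [hw, hcomm _ (hconj v hv) v hv]
    intro y hy
    have h1 : (⟨y, hy⟩ : V a) ∈ zpowers (⟨w, hwV⟩ : V a) := by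
      have := mem_zpowers_of_prime_card (g := (⟨w, hwV⟩ : V a)) (g' := ⟨y, hy⟩) A.card
        (fun hc => hw1 (congrArg Subtype.val hc))
      exact this
    obtain ⟨i, hi⟩ := h1
    have h2 : w ^ i = y := congrArg Subtype.val hi
    rw [← h2, ← conj_zpow, hxw]
  have hfix : ∀ c : F, x • c = c → c = a ∨ c = d := by
    intro c hc
    by_cases hca : c = a
    · exact Or.inl hca
    right
    obtain ⟨v, hv, rfl⟩ := A.split.trans hda hca
    have h1 : x * v = v⁻¹ * x := by
      calc x * v = x * v * x⁻¹ * x := by group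
        _ = v⁻¹ * x := by rw [hinv v hv]
    rw [← mul_smul, h1, mul_smul, hxd] at hc
    have h2 := A.split.eq_of_smul_eq hda (inv_mem hv) hv hc
    have h3 : v ^ 2 = 1 := by
      rw [sq]
      calc v * v = v⁻¹ * v := by rw [h2]
        _ = 1 := by group
    have h4 : orderOf v ∣ 2 := orderOf_dvd_of_pow_eq_one h3
    have h6 : orderOf v ∣ p := by
      have := orderOf_dvd_natCard (⟨v, hv⟩ : V a)
      rwa [orderOf_mk, A.card] at this
    have h7 : orderOf v ∣ Nat.gcd 2 p := Nat.dvd_gcd h4 h6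
    have h8 : Nat.gcd 2 p = 1 := by
      rw [← Nat.coprime_iff_gcd_eq_one, Nat.coprime_primes Nat.prime_two A.prime]
      omega
    rw [h8, Nat.dvd_one, orderOf_eq_one_iff] at h7
    rw [h7, one_smul]
  exfalso
  set X := toPermHom H F x with hX
  have hX2 : X * X = 1 := by rw [hX, ← map_mul, hx2]
  have hXi : X⁻¹ = X := inv_eq_of_mul_eq_one_left hX2
  have hXa : X a = a := hxa
  obtain ⟨e0, he0, he0d⟩ := R.tr a d
  have hconjE : ∀ f ∈ E, X * f * X⁻¹ ∈ E := fun f hf => R.conj x f hf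
  have hmem : ∀ f ∈ E, X * f = f * X → f = 1 ∨ f = e0 := by
    intro f hf hc
    have h1 : x • (f a) = f a := by
      change X (f a) = f a
      rw [← Equiv.Perm.mul_apply, hc, Equiv.Perm.mul_apply, hXa]
    rcases hfix _ h1 with h2 | h2
    · exact Or.inl (R.semi a f hf h2)
    · right
      have h3 : e0⁻¹ * f = 1 := R.semi a _ (mul_mem (inv_mem he0) hf) (by
        rw [Equiv.Perm.mul_apply, h2, ← he0d]
        exact Equiv.symm_apply_apply e0 a)
      exact (inv_mul_eq_one.1 h3).symm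
  have hkey : ∀ f ∈ E, f ≠ 1 → f ≠ e0 → X * f * X⁻¹ = f * e0 := by
    intro f hf hf1 hfe
    have hf' := hconjE f hf
    have h1 : X * (f * (X * f * X⁻¹)) = (f * (X * f * X⁻¹)) * X := by
      calc X * (f * (X * f * X⁻¹)) = (X * f * X⁻¹) * (X * X) * f * X⁻¹ := by group
        _ = (X * f * X⁻¹) * f * X := by rw [hX2, mul_one, hXi]
        _ = _ := by rw [R.comm _ hf' f hf]
    rcases hmem _ (mul_mem hf hf') h1 with h2 | h2
    · exfalso
      have h3 : X * f * X⁻¹ = f := by
        calc X * f * X⁻¹ = (f * f) * (X * f * X⁻¹) := by rw [R.sq f hf, one_mul]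
          _ = f * (f * (X * f * X⁻¹)) := by group
          _ = f := by rw [h2, mul_one]
      have h4 : X * f = f * X := by
        calc X * f = X * f * X⁻¹ * X := by group
          _ = f * X := by rw [h3]
      rcases hmem f hf h4 with h5 | h5
      · exact hf1 h5
      · exact hfe h5
    · calc X * f * X⁻¹ = (f * f) * (X * f * X⁻¹) := by rw [R.sq f hf, one_mul]
        _ = f * (f * (X * f * X⁻¹)) := by group
        _ = f * e0 := by rw [h2]
  obtain ⟨c, hca, hcd⟩ := A.split.three a d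
  obtain ⟨f, hf, hfc⟩ := R.tr a c
  obtain ⟨c', h1, h2, h3, h4⟩ := exists_five A.big a d c ((f * e0) a)
  obtain ⟨g, hg, hgc⟩ := R.tr a c'
  have hf1 : f ≠ 1 := by rintro rfl; exact hca hfc.symm
  have hfe : f ≠ e0 := by rintro rfl; exact hcd (hfc.symm.trans he0d)
  have hg1 : g ≠ 1 := by rintro rfl; exact h1 hgc.symm
  have hge : g ≠ e0 := by rintro rfl; exact h2 (hgc.symm.trans he0d)
  have hfg1 : f * g ≠ 1 := by
    intro hc
    apply h3
    have : g = f := by
      calc g = (f * f) * g := by rw [R.sq f hf, one_mul]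
        _ = f * (f * g) := by group
        _ = f := by rw [hc, mul_one]
    rw [← hgc, ← hfc, this]
  have hfge : f * g ≠ e0 := by
    intro hc
    apply h4
    have : g = f * e0 := by
      calc g = (f * f) * g := by rw [R.sq f hf, one_mul]
        _ = f * (f * g) := by group
        _ = f * e0 := by rw [hc]
    rw [← hgc, this]
  have k1 := hkey f hf hf1 hfe
  have k2 := hkey g hg hg1 hge
  have k3 := hkey (f * g) (mul_mem hf hg) hfg1 hfge
  have k4 : X * (f * g) * X⁻¹ = f * g := by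
    calc X * (f * g) * X⁻¹ = (X * f * X⁻¹) * (X * g * X⁻¹) := by group
      _ = (f * e0) * (g * e0) := by rw [k1, k2]
      _ = f * (e0 * g) * e0 := by group
      _ = f * (g * e0) * e0 := by rw [R.comm e0 he0 g hg]
      _ = (f * g) * (e0 * e0) := by group
      _ = f * g := by rw [R.sq e0 he0, mul_one]
  rw [k4] at k3
  have k5 : e0 = 1 := mul_eq_left.1 k3.symm
  rw [k5] at he0d
  exact hda he0d.symm

/-- Involutions different from `t` act as translations. -/
theorem mem_of_invol [Finite F] (A : Aff V t p a b) (R : Reg V E) {y : H} (hy : y * y = 1)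
    (hy1 : y ≠ 1) (hyt : y ≠ t) : toPermHom H F y ∈ E ∧ toPermHom H F y ≠ 1 := by
  have hya : y • a ≠ a := fun h => hyt (A.one y hy hy1 a h)
  obtain ⟨e, he, hea⟩ := R.tr a (y • a)
  obtain ⟨m, hm, hme⟩ := R.lift e he
  have he1 : e ≠ 1 := by rintro rfl; exact hya hea.symm
  set Y := toPermHom H F y with hY
  have hY2 : Y * Y = 1 := by rw [hY, ← map_mul, hy, map_one]
  have hYi : Y⁻¹ = Y := inv_eq_of_mul_eq_one_left hY2
  have hei : e⁻¹ = e := inv_eq_of_mul_eq_one_left (R.sq e he)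
  have hYa : Y a = y • a := rfl
  have hYd : Y (y • a) = a := by
    change y • y • a = a
    rw [← mul_smul, hy, one_smul]
  have hed : e (y • a) = a := by
    rw [← hea, ← Equiv.Perm.mul_apply, R.sq e he]
    rfl
  have h1 : Y * e * Y⁻¹ = e := by
    have h2 := R.conj y e he
    have h3 : e⁻¹ * (Y * e * Y⁻¹) = 1 := R.semi (y • a) _ (mul_mem (inv_mem he) h2) (by
      rw [hei, hYi, Equiv.Perm.mul_apply, Equiv.Perm.mul_apply, Equiv.Perm.mul_apply, hYd, hea,
        hYd, hea])
    exact (inv_mul_eq_one.1 h3).symm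
  have h2 : toPermHom H F (m⁻¹ * y) = 1 := by
    have hm' : ∀ c, m • c = e c := fun c => DFunLike.congr_fun hme c
    refine A.gal R (d := y • a) hya ?_ ?_ ?_
    · rw [mul_smul, inv_smul_eq_iff, hm', hea]
    · rw [mul_smul, inv_smul_eq_iff, hm', hed]
      exact hYd
    · rw [map_mul, map_mul, map_inv, hme, ← hY, hei]
      calc e * Y * (e * Y) = e * (Y * e * Y⁻¹) * (Y * Y) := by group
        _ = 1 := by rw [h1, hY2, R.sq e he, mul_one]
  rw [map_mul, map_inv, hme, inv_mul_eq_one, ← hY] at h2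
  rw [← h2]
  exact ⟨he, he1⟩

/-- **The bound**: at most `2 p` involutions different from `t`. -/
theorem card_le [Finite H] [Finite F] (A : Aff V t p a b) :
    Nat.card {y : H // y * y = 1 ∧ y ≠ 1 ∧ y ≠ t} ≤ 2 * p := by
  classical
  obtain ⟨E, R⟩ := A.exists_reg
  have h1 : ∀ c : {c : F // ¬ c = a}, ∃ m ∈ ⨆ c, V c, toPermHom H F m ∈ E ∧ m • a = c ∧
      m * m = 1 := by
    rintro ⟨c, hc⟩
    obtain ⟨e, he, hea⟩ := R.tr a c
    obtain ⟨m, hm, hme, hm2⟩ := A.lift_invol R he (by rintro rfl; exact hc hea.symm)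
    exact ⟨m, hm, by rw [hme]; exact he, by
      have := DFunLike.congr_fun hme a
      rw [hea] at this
      exact this, hm2⟩
  choose m hm hmE hma hm2 using h1
  have h2 : ∀ y : {y : H // y * y = 1 ∧ y ≠ 1 ∧ y ≠ t}, ¬ (y : H) • a = a := fun y h =>
    y.2.2.2 (A.one y y.2.1 y.2.2.1 a h)
  -- an involution is determined up to multiplication by `t` by the image of `a`
  have h3 : ∀ y : {y : H // y * y = 1 ∧ y ≠ 1 ∧ y ≠ t}, (y : H) = m ⟨(y : H) • a, h2 y⟩ ∨
      (y : H) = m ⟨(y : H) • a, h2 y⟩ * t := by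
    intro y
    set μ := m ⟨(y : H) • a, h2 y⟩ with hμ
    obtain ⟨h4, -⟩ := A.mem_of_invol R y.2.1 y.2.2.1 y.2.2.2
    have h5 : toPermHom H F (μ⁻¹ * y) = 1 := by
      rw [map_mul, map_inv]
      refine R.semi a _ (mul_mem (inv_mem (hmE _)) h4) ?_
      rw [← map_inv, ← map_mul]
      change (μ⁻¹ * (y : H)) • a = a
      rw [mul_smul, inv_smul_eq_iff]
      exact (hma ⟨(y : H) • a, h2 y⟩).symm
    have h6 := ker_comm A.split h5 (hm ⟨(y : H) • a, h2 y⟩)
    rw [← hμ] at h6
    have hμ2 : μ * μ = 1 := hm2 _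
    have hμi : μ⁻¹ = μ := inv_eq_of_mul_eq_one_left hμ2
    have h7 : μ⁻¹ * y * (μ⁻¹ * y) = 1 := by
      have h8 : (y : H) * μ = μ * y := by
        calc (y : H) * μ = μ * (μ⁻¹ * y * μ) := by group
          _ = μ * (μ * (μ⁻¹ * y)) := by rw [h6]
          _ = μ * y := by group
      rw [hμi]
      calc μ * y * (μ * y) = μ * (y * μ) * y := by group
        _ = μ * (μ * y) * y := by rw [h8]
        _ = (μ * μ) * (y * y) := by group
        _ = 1 := by rw [hμ2, y.2.1, one_mul]
    rcases A.one' h7 (c := a) ((toPerm_eq_one.1 h5) a) with h9 | h9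
    · left
      exact (inv_mul_eq_one.1 h9).symm
    · right
      exact eq_mul_of_inv_mul_eq h9
  let f : {y : H // y * y = 1 ∧ y ≠ 1 ∧ y ≠ t} → {c : F // ¬ c = a} × Bool :=
    fun y => (⟨(y : H) • a, h2 y⟩, decide ((y : H) = m ⟨(y : H) • a, h2 y⟩))
  have hf : Function.Injective f := by
    intro y z hyz
    have h4 : (⟨(y : H) • a, h2 y⟩ : {c : F // ¬ c = a}) = ⟨(z : H) • a, h2 z⟩ :=
      congrArg Prod.fst hyz
    have h5 : decide ((y : H) = m ⟨(y : H) • a, h2 y⟩) = decide ((z : H) = m ⟨(z : H) • a, h2 z⟩) :=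
      congrArg Prod.snd hyz
    rw [decide_eq_decide, h4] at h5
    have h6 := h3 y
    have h7 := h3 z
    rw [h4] at h6
    apply Subtype.ext
    by_cases h8 : (y : H) = m ⟨(z : H) • a, h2 z⟩
    · rw [h8, ← h5.1 h8]
    · rw [h6.resolve_left h8, ← h7.resolve_left (fun h => h8 (h5.2 h))]
  have h4 := Nat.card_le_card_of_injective f hf
  rw [Nat.card_prod, Nat.card_eq_fintype_card (α := Bool), Fintype.card_bool] at h4
  have h5 := card_ne_pt a
  rw [A.card_F] at h5
  omega

end Aff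

end Cfsg.Agent.HKS.AffAbs
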