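import Mathlib
import Cfsg.Agent.HKS.AffAbs
import Cfsg.Agent.HKS.Goals
import Cfsg.Agent.HKS.TwoOneInv

/-!
# Affine type at an involution: `|C_{U a}(t)| = 3`

`CtxE U a b p k`, no four-group in `Dab G a b`, `t` an involution of `Dab G a b`, affine type at
`zpowers t`: then `|C_{U a}(t)| = 3`.
-/

set_option autoImplicit false

namespace Cfsg.Agent.HKS.AffThree

open Subgroup MulAction SSplit TwoOne

/-! ### Numbers -/

theorem exists_odd_quot {p : ℤ} (hp : Odd p) (i : ℕ) :
    ∃ Q : ℤ, Odd Q ∧ p ^ (2 * i + 1) + 1 = (p + 1) * Q := by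
  induction i with
  | zero => exact ⟨1, odd_one, by ring⟩
  | succ i ih =>
    obtain ⟨Q, hQ, h⟩ := ih
    refine ⟨p ^ 2 * Q - (p - 1), ?_, ?_⟩
    · have h1 : Even (p - 1) := hp.sub_odd odd_one
      exact ((hp.pow).mul hQ).sub_even h1
    · have h1 : p ^ (2 * (i + 1) + 1) + 1 = p ^ 2 * (p ^ (2 * i + 1) + 1) - (p ^ 2 - 1) := by ring
      rw [h1, h]; ring

/-- `p ^ j + 1 = 2 ^ s`, `s ≥ 2`: then `j = 1`. -/
theorem eq_one_of_pow {p j s : ℕ} (hp : 1 < p) (hs : 2 ≤ s) (h : p ^ j + 1 = 2 ^ s) : j = 1 := by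
  have h4 : 4 ∣ p ^ j + 1 := by
    rw [h]
    exact (pow_dvd_pow 2 hs)
  have hj0 : j ≠ 0 := by
    rintro rfl
    rw [pow_zero] at h4
    omega
  have hodd : Odd p := by
    by_contra hc
    rw [Nat.not_odd_iff_even] at hc
    have h1 : Even (p ^ j) := hc.pow_of_ne_zero hj0
    obtain ⟨m, hm⟩ := h1
    omega
  have hjo : Odd j := by
    by_contra hc
    rw [Nat.not_odd_iff_even] at hc
    obtain ⟨i, rfl⟩ := hc
    obtain ⟨m, rfl⟩ := hodd
    have h1 : (2 * m + 1) ^ (i + i) % 4 = 1 := by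
      rw [← two_mul, pow_mul, Nat.pow_mod]
      have : (2 * m + 1) ^ 2 % 4 = 1 := by
        have : (2 * m + 1) ^ 2 = 4 * (m * m + m) + 1 := by ring
        omega
      rw [this]
      simp
    omega
  obtain ⟨i, rfl⟩ := hjo
  obtain ⟨Q, hQ, hQ2⟩ := exists_odd_quot (p := (p : ℤ)) (by exact_mod_cast hodd) i
  have h1 : ((p : ℤ) + 1) * Q = 2 ^ s := by
    rw [← hQ2]
    exact_mod_cast h
  have hQpos : 0 < Q := by
    by_contra hc
    push Not at hc
    have h2 : (0 : ℤ) < 2 ^ s := by positivity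
    have h3 : ((p : ℤ) + 1) * Q ≤ 0 := mul_nonpos_of_nonneg_of_nonpos (by positivity) hc
    omega
  obtain ⟨n, rfl⟩ := Int.eq_ofNat_of_zero_le hQpos.le
  have h2 : (p + 1) * n = 2 ^ s := by exact_mod_cast h1
  have h3 : n ∣ 2 ^ s := ⟨p + 1, by rw [← h2, mul_comm]⟩
  have h5 : Odd n := by exact_mod_cast hQ
  have h6 : n = 1 := by
    obtain ⟨r, -, hr⟩ := (Nat.dvd_prime_pow Nat.prime_two).1 h3
    rcases Nat.eq_zero_or_pos r with h7 | h7
    · rw [hr, h7, pow_zero]
    · exfalso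
      rw [hr] at h5
      exact (Nat.not_even_iff_odd.2 h5) (Nat.even_pow.2 ⟨even_two, by omega⟩)
  rw [h6, mul_one, ← h] at h2
  have h7 : p ^ 1 = p ^ (2 * i + 1) := by rw [pow_one]; omega
  exact (Nat.pow_right_injective hp h7).symm

theorem pow_odd_of {p k : ℕ} (hp : p % 4 = 3) (h : 4 ∣ (p ^ k + 1) - (p + 1)) (hk : 1 ≤ k) :
    Odd k := by
  by_contra hc
  rw [Nat.not_odd_iff_even] at hc
  obtain ⟨i, rfl⟩ := hc
  have h1 : p ^ (i + i) % 4 = 1 := by
    rw [← two_mul, pow_mul, Nat.pow_mod]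
    have : p ^ 2 % 4 = 1 := by rw [Nat.pow_mod, hp]
    rw [this]
    simp
  have h2 : p ≤ p ^ (i + i) := Nat.le_self_pow (by omega) p
  omega

/-! ### The number of involutions -/

/-- The number of fixed points of an involutory map has the parity of the cardinality. -/
theorem odd_fixed {X : Type*} [Finite X] (hX : Odd (Nat.card X)) (f : X → X)
    (hf : ∀ x, f (f x) = x) : Odd (Nat.card {x : X // f x = x}) := by
  classical
  by_contra hc
  rw [Nat.not_odd_iff_even] at hc
  have h1 : Nat.card X = Nat.card {x : X // f x = x} + Nat.card {x : X // ¬ f x = x} := by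
    rw [← Nat.card_sum]
    exact Nat.card_congr (Equiv.sumCompl _).symm
  have h2 : Odd (Nat.card {x : X // ¬ f x = x}) := by
    rw [h1] at hX
    by_contra h3
    rw [Nat.not_odd_iff_even] at h3
    exact (Nat.not_even_iff_odd.2 hX) (hc.add h3)
  obtain ⟨x, hx⟩ := exists_fixed h2 (fun x => ⟨f x.1, fun h => x.2 (by
    rw [hf] at h
    exact h.symm)⟩) (fun x => Subtype.ext (hf x.1))
  exact x.2 (congrArg Subtype.val hx)

/-- An involution normalising a subgroup of even order centralises an involution of it. -/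
theorem exists_comm_invol {G : Type*} [Group G] [Finite G] (D : Subgroup G)
    (h2 : 2 ∣ Nat.card D) {t : G} (ht : t * t = 1) (hn : ∀ x ∈ D, t * x * t⁻¹ ∈ D) :
    ∃ z ∈ D, z * z = 1 ∧ z ≠ 1 ∧ t * z = z * t := by
  have hti : t⁻¹ = t := inv_eq_of_mul_eq_one_left ht
  have h1 : Odd (Nat.card {x : D // ¬ x = 1}) := by
    have := card_ne_pt (1 : D)
    have h3 : Even (Nat.card {x : D // ¬ x = 1} + 1) := by
      rw [this]; exact even_iff_two_dvd.2 h2
    rw [Nat.even_add_one] at h3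
    exact Nat.not_even_iff_odd.1 h3
  have h3 := odd_fixed h1 (fun x => ⟨(x : D)⁻¹, fun h => x.2 (inv_eq_one.1 h)⟩)
    (fun x => Subtype.ext (inv_inv _))
  obtain ⟨z, hz⟩ := exists_fixed h3 (fun x => ⟨⟨⟨t * (x : D) * t⁻¹, hn _ (x.1.1).2⟩, fun h => by
      have h4 : t * ((x.1.1 : D) : G) * t⁻¹ = 1 := congrArg Subtype.val h
      exact x.1.2 (Subtype.ext (conj_eq_one_iff.1 h4))⟩, by
      apply Subtype.ext
      apply Subtype.ext
      have h4 : ((x.1.1 : D) : G)⁻¹ = (x.1.1 : D) :=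
        congrArg Subtype.val (congrArg Subtype.val x.2)
      change (t * ((x.1.1 : D) : G) * t⁻¹)⁻¹ = t * ((x.1.1 : D) : G) * t⁻¹
      rw [mul_inv_rev, mul_inv_rev, h4, inv_inv, mul_assoc]⟩)
    (fun x => by
      apply Subtype.ext
      apply Subtype.ext
      apply Subtype.ext
      change t * (t * ((x.1.1 : D) : G) * t⁻¹) * t⁻¹ = ((x.1.1 : D) : G)
      rw [hti]
      calc t * (t * ((x.1.1 : D) : G) * t) * t = (t * t) * ((x.1.1 : D) : G) * (t * t) := by group
        _ = _ := by rw [ht, one_mul, mul_one])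
  have h4 : t * ((z.1.1 : D) : G) * t⁻¹ = ((z.1.1 : D) : G) :=
    congrArg Subtype.val (congrArg Subtype.val (congrArg Subtype.val hz))
  have h5 : ((z.1.1 : D) : G)⁻¹ = (z.1.1 : D) :=
    congrArg Subtype.val (congrArg Subtype.val z.2)
  refine ⟨(z.1.1 : D), (z.1.1).2, ?_, fun h => z.1.2 (Subtype.ext h), ?_⟩
  · calc ((z.1.1 : D) : G) * (z.1.1 : D) = ((z.1.1 : D) : G)⁻¹ * (z.1.1 : D) := by rw [h5]
      _ = 1 := by group
  · calc t * ((z.1.1 : D) : G) = t * ((z.1.1 : D) : G) * t⁻¹ * t := by group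
      _ = _ := by rw [h4]

section

variable {G Ω : Type*} [Group G] [MulAction G Ω] {U : Ω → Subgroup G}

theorem toTO [Finite G] {p k : ℕ} {a b : Ω} (C : CtxE U a b p k) (R : RankOneD G a b) :
    TO U p k a b where
  split := C.split
  gen := C.gen
  hab := C.ne
  hp := C.prime
  hp2 := C.p_ne_two
  hN := C.cardU
  one := fun s hs t ht hs2 ht2 hs1 ht1 hst => R s hs t ht hs1 ht1 hs2 ht2 hst
  ex := by
    have : Fact (Nat.Prime 2) := ⟨Nat.prime_two⟩
    obtain ⟨x, hx⟩ := exists_prime_orderOf_dvd_card' 2 C.two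
    refine ⟨x, x.2, ?_, ?_⟩
    · have := pow_orderOf_eq_one x
      rw [hx, pow_two] at this
      exact congrArg Subtype.val this
    · intro hc
      have : x = 1 := Subtype.ext hc
      rw [this, orderOf_one] at hx
      omega

theorem card_Dab_eq (h : SSplit U) [Finite G] {a b c d : Ω} (hab : b ≠ a) (hcd : d ≠ c) :
    Nat.card (Dab G a b) = Nat.card (Dab G c d) := by
  obtain ⟨g, hg1, hg2⟩ := h.two hab.symm hcd.symm
  obtain ⟨g', hg1', hg2'⟩ := h.two hcd.symm hab.symm
  refine Nat.card_congr ⟨fun x => ⟨g * x * g⁻¹, ?_⟩, fun x => ⟨g⁻¹ * x * g, ?_⟩, fun x => ?_,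
    fun x => ?_⟩
  · exact conj_mem_Dab' x.2 hg1 hg2
  · have := conj_mem_Dab' (g := g⁻¹) x.2 (inv_smul_eq_iff.2 hg1.symm) (inv_smul_eq_iff.2 hg2.symm)
    rwa [inv_inv] at this
  · apply Subtype.ext
    change g⁻¹ * (g * (x : G) * g⁻¹) * g = x
    group
  · apply Subtype.ext
    change g * (g⁻¹ * (x : G) * g) * g⁻¹ = x
    group

/-- The count of the points moved by `t`. -/
theorem card_moved_le [Finite G] [Finite Ω] [FaithfulSMul G Ω] {p k : ℕ} {a b : Ω}
    (h : TO U p k a b) (heven : 2 ∣ Nat.card (Dab G a b)) {t : G} (ht2 : t * t = 1)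
    (ht1 : t ≠ 1) : Nat.card {c : Ω // ¬ t • c = c} ≤
      Nat.card {y : G // t * y = y * t ∧ y * y = 1 ∧ y ≠ 1 ∧ y ≠ t} * Nat.card (fixedBy Ω t) := by
  classical
  have h1 : ∀ c : {c : Ω // ¬ t • c = c}, ∃ y : G, t * y = y * t ∧ y * y = 1 ∧ y ≠ 1 ∧ y ≠ t ∧
      y • (c : Ω) = c := by
    rintro ⟨c, hc⟩
    have hcd : t • c ≠ c := hc
    obtain ⟨z, hz, hz2, hz1, hzt⟩ := exists_comm_invol (Dab G c (t • c)) (by
      rw [← card_Dab_eq h.split h.hab hcd]; exact heven) ht2 (by
      intro x hx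
      have h3 : t • t • c = c := by rw [← mul_smul, ht2, one_smul]
      have := conj_mem_Dab' (g := t) hx (c := t • c) (d := c) rfl h3
      rwa [Dab_symm] at this)
    refine ⟨z, hzt, hz2, hz1, ?_, hz.1⟩
    rintro rfl
    exact hc hz.1
  choose y hy1 hy2 hy3 hy4 hy5 using h1
  let f : {c : Ω // ¬ t • c = c} → Σ y : {y : G // t * y = y * t ∧ y * y = 1 ∧ y ≠ 1 ∧ y ≠ t},
      fixedBy Ω (y : G) := fun c => ⟨⟨y c, hy1 c, hy2 c, hy3 c, hy4 c⟩, ⟨c, hy5 c⟩⟩
  have hf : Function.Injective f := by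
    intro c c' hcc
    apply Subtype.ext
    have : ((f c).2 : Ω) = ((f c').2 : Ω) := by rw [hcc]
    exact this
  have h2 := Nat.card_le_card_of_injective f hf
  have := Fintype.ofFinite {y : G // t * y = y * t ∧ y * y = 1 ∧ y ≠ 1 ∧ y ≠ t}
  rw [Nat.card_sigma] at h2
  have h3 : ∀ y ∈ (Finset.univ : Finset {y : G // t * y = y * t ∧ y * y = 1 ∧ y ≠ 1 ∧ y ≠ t}),
      Nat.card (fixedBy Ω (y : G)) = Nat.card (fixedBy Ω t) := by
    intro y _
    exact (card_fixedBy_isConj (h.isConj ht2 y.2.2.1 ht1 y.2.2.2.1)).symm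
  rw [Finset.sum_congr rfl h3, Finset.sum_const, Finset.card_univ, smul_eq_mul,
    ← Nat.card_eq_fintype_card] at h2
  exact h2

/-- **`|C_{U a}(t)| = 3`** if the type at `t` is affine. -/
theorem card_three [Finite G] [Finite Ω] [FaithfulSMul G Ω] {p k : ℕ} {a b : Ω}
    (C : CtxE U a b p k) (R : RankOneD G a b) {t : G} (ht : t ∈ Dab G a b) (ht1 : t ≠ 1)
    (ht2 : t * t = 1)
    (hA : DA (U a ⊓ centralizer (zpowers t : Set G)) (Dab G a b ⊓ genFix U (zpowers t))
      (kerFix Ω (zpowers t)) (fun w => w ∈ genFix U (zpowers t) ∧ Swaps w a b)) :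
    Nat.card (U a ⊓ centralizer (zpowers t : Set G) : Subgroup G) = 3 := by
  classical
  have T := toTO C R
  obtain ⟨s, hs, hcard⟩ := hA.card
  by_cases hs2 : s = 2
  · rw [hs2] at hcard
    omega
  exfalso
  have hfix := card_fixedBy_eq C.split C.ne ht
  have hdvd : Nat.card (CU U a t) ∣ p ^ k := by
    rw [← C.cardU]
    exact card_dvd_of_le inf_le_left
  obtain ⟨j, -, hj⟩ := (Nat.dvd_prime_pow C.prime).1 hdvd
  have hj' : p ^ j + 1 = 2 ^ s := by rw [← hj]; exact hcard
  have hj1 := eq_one_of_pow C.prime.one_lt hs hj'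
  rw [hj1, pow_one] at hj hj'
  have h8 : 8 ∣ 2 ^ s := by
    have : 3 ≤ s := by omega
    exact pow_dvd_pow 2 this
  have hp8 : 7 ≤ p := by
    obtain ⟨m, hm⟩ := h8
    have := C.prime.pos
    omega
  have hF : Nat.card (fixedBy Ω t) = p + 1 := by rw [hfix, hj]
  have hΩ : Nat.card Ω = p ^ k + 1 := by rw [C.split.card a, C.cardU]
  -- `k` is odd, at least three
  have hmove : Nat.card {c : Ω // ¬ t • c = c} = p ^ k - p := by
    have h1 : Nat.card Ω = Nat.card {c : Ω // t • c = c} + Nat.card {c : Ω // ¬ t • c = c} := by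
      rw [← Nat.card_sum]
      exact Nat.card_congr (Equiv.sumCompl _).symm
    have h2 : Nat.card {c : Ω // t • c = c} = p + 1 := hF
    omega
  have hpk : p < p ^ k := by
    have h1 : 0 < Nat.card {c : Ω // ¬ t • c = c} := by
      rw [Nat.card_pos_iff]
      refine ⟨?_, inferInstance⟩
      by_contra hc
      rw [not_nonempty_iff] at hc
      apply ht1
      apply FaithfulSMul.eq_of_smul_eq_smul (α := Ω)
      intro c
      rw [one_smul]
      by_contra h
      exact hc.false ⟨c, h⟩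
    omega
  have hk1 : 1 ≤ k := by
    by_contra hc
    have : k = 0 := by omega
    rw [this, pow_zero] at hpk
    omega
  have hp4 : p % 4 = 3 := by omega
  have h4 := C.split.four_dvd C.gen (fun c => T.odd_U c) ht2
  rw [hΩ, hF] at h4
  have hkodd := pow_odd_of hp4 h4 hk1
  have hk3 : 3 ≤ k := by
    obtain ⟨i, rfl⟩ := hkodd
    by_contra hc
    have : i = 0 := by omega
    rw [this] at hpk
    simp at hpk
  have hp3 : p ^ 3 ≤ p ^ k := Nat.pow_le_pow_right C.prime.pos hk3
  -- the bound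
  have hle := card_moved_le T C.two ht2 ht1
  rw [hmove, hF] at hle
  have hAff : AffAbs.Aff (H := centralizer (zpowers t : Set G)) (F := fixSub Ω (zpowers t))
      (famFix U (zpowers t)) ⟨t, mem_cent_zpowers.2 rfl⟩ p
      ⟨a, zpowers_fix ht.1⟩ ⟨b, zpowers_fix ht.2⟩ := by
    have hFc : Nat.card (fixSub Ω (zpowers t)) = p + 1 := by
      rw [card_fixSub_zpowers, hF]
    refine
      { split := C.split.fixed _ (three_of_card (by rw [hFc]; omega))
        ab := fun e => C.ne (congrArg Subtype.val e)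
        tc := fun g => Subtype.ext (mem_cent_zpowers.1 g.2)
        t2 := Subtype.ext ht2
        t1 := fun e => ht1 (congrArg Subtype.val e)
        one := ?_
        tfix := fun c => Subtype.ext (c.2 t (mem_zpowers t))
        triv := ?_
        card := ?_
        prime := C.prime
        big := by rw [hFc]; omega
        even := by rw [hFc, hj']; exact (Nat.even_pow.2 ⟨even_two, by omega⟩) }
    · intro y hy2 hy1 c hc
      by_contra hyt
      have h1 := T.fpf_of_comm (s := (y : G)) (t := t) (congrArg Subtype.val hy2) ht2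
        (fun e => hy1 (Subtype.ext e)) ht1 (mem_cent_zpowers.1 y.2).symm
        (fun e => hyt (Subtype.ext e)) (mem_fixSub_zpowers.1 c.2)
      exact h1 (congrArg Subtype.val hc)
    · intro g hg hga hgb c
      have h1 : (g : G) ∈ genFix U (zpowers t) := by
        rw [← map_iSup_famFix]
        exact ⟨g, hg, rfl⟩
      have h2 : (g : G) ∈ kerFix Ω (zpowers t) :=
        hA.triv ⟨⟨congrArg Subtype.val hga, congrArg Subtype.val hgb⟩, h1⟩
      exact Subtype.ext (h2 c c.2)
    · have h1 : Nat.card ((famFix U (zpowers t) ⟨a, zpowers_fix ht.1⟩).map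
          (centralizer (zpowers t : Set G)).subtype) = p := by
        rw [map_famFix]
        exact hj
      rw [← h1]
      exact (Nat.card_congr ((famFix U (zpowers t) ⟨a, zpowers_fix ht.1⟩).equivMapOfInjective
        _ (subtype_injective _)).toEquiv)
  have hb := hAff.card_le
  have hb' : Nat.card {y : G // t * y = y * t ∧ y * y = 1 ∧ y ≠ 1 ∧ y ≠ t} ≤ 2 * p := by
    refine le_trans (Nat.card_le_card_of_injective (fun y => ⟨⟨y, mem_cent_zpowers.2 y.2.1⟩,
      Subtype.ext y.2.2.1, fun e => y.2.2.2.1 (congrArg Subtype.val e),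
      fun e => y.2.2.2.2 (congrArg Subtype.val e)⟩) ?_) hb
    intro y z hyz
    exact Subtype.ext (congrArg (fun x => ((x : centralizer (zpowers t : Set G)) : G))
      (congrArg Subtype.val hyz))
  have h9 : p ^ k - p ≤ 2 * p * (p + 1) := hle.trans (Nat.mul_le_mul_right _ hb')
  have h10 : p ^ 3 ≤ 2 * p * (p + 1) + p := by omega
  have h11 : 7 * (p * p) ≤ p ^ 3 := by
    calc 7 * (p * p) ≤ p * (p * p) := Nat.mul_le_mul_right _ hp8
      _ = p ^ 3 := by ring
  nlinarith

end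

end Cfsg.Agent.HKS.AffThree
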