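import Mathlib
import Cfsg.Agent.HKS.PP1

/-!
# Prime power degree, II: no central involution

If all `μ`-elements are conjugate under `Dab`, the action is faithful and `z` is a central
involution of `Dab` with `C_{U b}(z) = 1`, then `|U b|` is not divisible by two different primes.
-/

set_option autoImplicit false

namespace Cfsg.Agent.HKS.PP2

open Subgroup MulAction SSplit PP1

/-- An involution acting without fixed points inverts. -/
theorem inverts_of_fpf {G : Type*} [Group G] {V : Subgroup G} [Finite V] {z : G}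
    (hn : ∀ x ∈ V, z * x * z⁻¹ ∈ V) (hzz : z * z = 1)
    (hf : ∀ x ∈ V, z * x = x * z → x = 1) {x : G} (hx : x ∈ V) : z * x * z⁻¹ = x⁻¹ := by
  let φ : V →* V := MonoidHom.mk' (fun x => ⟨z * x * z⁻¹, hn x x.2⟩) (fun x y => Subtype.ext (by
    change z * (x * y) * z⁻¹ = (z * x * z⁻¹) * (z * y * z⁻¹)
    group))
  have h1 : MonoidHom.FixedPointFree φ := by
    intro x hx
    have h2 : z * x * z⁻¹ = x := congrArg Subtype.val hx
    apply Subtype.ext
    refine hf x x.2 ?_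
    calc z * (x : G) = z * x * z⁻¹ * z := by group
      _ = x * z := by rw [h2]
  have h2 : Function.Involutive φ := by
    intro x
    apply Subtype.ext
    change z * (z * x * z⁻¹) * z⁻¹ = x
    have h3 : z⁻¹ = z := inv_eq_of_mul_eq_one_left hzz
    rw [h3]
    calc z * (z * (x : G) * z) * z = (z * z) * x * (z * z) := by group
      _ = x := by rw [hzz]; group
  have h3 := h1.coe_eq_inv_of_involutive h2
  have h4 := congrFun h3 ⟨x, hx⟩
  exact congrArg Subtype.val h4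

variable {G Ω : Type*} [Group G] [MulAction G Ω] {U : Ω → Subgroup G}

/-- fixed-point-freeness on `U b` gives that on `U a`. -/
theorem fpf_symm (h : SSplit U) {a b : Ω} (hab : b ≠ a) {z : G} (hz : z ∈ Dab G a b)
    (hf : ∀ x ∈ U b, z * x = x * z → x = 1) {x : G} (hx : x ∈ U a) (hxz : z * x = x * z) :
    x = 1 := by
  by_contra hx1
  have h1 : x • b ≠ b := h.smul_ne_of_ne hab hx hx1
  obtain ⟨v, hv, hva⟩ := h.trans (a := b) (b := a) (c := x • b) hab.symm h1
  have h2 : z • x • b = x • b := by rw [← mul_smul, hxz, mul_smul, show z • b = b from hz.2]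
  have h3 : z * v * z⁻¹ = v := h.eq_of_smul_eq hab.symm (h.conj_of_fix hz.2 hv) hv (by
    rw [mul_smul, mul_smul, inv_smul_eq_iff.2 (show a = z • a from hz.1.symm), hva, h2])
  have h4 : v = 1 := hf v hv (by
    calc z * v = z * v * z⁻¹ * z := by group
      _ = v * z := by rw [h3])
  rw [h4, one_smul] at hva
  exact h.smul_ne_center hab hx hva.symm

/-- An element of `Dab` centralising `U b` fixes everything. -/
theorem fix_all (h : SSplit U) {a b : Ω} {k : G} (hk : k ∈ Dab G a b)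
    (hc : ∀ x ∈ U b, k * x = x * k) (hab : b ≠ a) (c : Ω) : k • c = c := by
  by_cases hcb : c = b
  · rw [hcb]; exact hk.2
  · obtain ⟨x, hx, hxa⟩ := h.trans (a := b) (b := a) (c := c) hab.symm hcb
    rw [← hxa, ← mul_smul, hc x hx, mul_smul, show k • a = a from hk.1]

/-- An involution `z ∈ Dab` acting fixed-point-freely on `U b` commutes with everything that
interchanges `a` and `b`. -/
theorem comm_swaps (h : SSplit U) [FaithfulSMul G Ω] [Finite Ω] {a b : Ω} (hab : b ≠ a)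
    {z : G} (hz : z ∈ Dab G a b) (hzz : z * z = 1)
    (hf : ∀ x ∈ U b, z * x = x * z → x = 1) {m : G} (hm : Swaps m a b) : z * m = m * z := by
  have hfin := h.finite_U b
  have hfin' := h.finite_U a
  have hib : ∀ x ∈ U b, z * x * z⁻¹ = x⁻¹ := fun x hx =>
    inverts_of_fpf (fun y hy => h.conj_of_fix hz.2 hy) hzz hf hx
  have hia : ∀ x ∈ U a, z * x * z⁻¹ = x⁻¹ := fun x hx =>
    inverts_of_fpf (fun y hy => h.conj_of_fix hz.1 hy) hzz
      (fun y hy => fpf_symm h hab hz hf hy) hx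
  have hkD : z * (m⁻¹ * z * m) ∈ Dab G a b := by
    refine mul_mem hz ?_
    refine ⟨?_, ?_⟩
    · change (m⁻¹ * z * m) • a = a
      rw [mul_smul, mul_smul, inv_smul_eq_iff, hm.1]; exact hz.2
    · change (m⁻¹ * z * m) • b = b
      rw [mul_smul, mul_smul, inv_smul_eq_iff, hm.2]; exact hz.1
  have hc : ∀ x ∈ U b, (z * (m⁻¹ * z * m)) * x = x * (z * (m⁻¹ * z * m)) := by
    intro x hx
    have h1 := hia _ (h.conj_of_eq hm.2 hx)
    have h2 := hib _ (inv_mem hx)
    calc (z * (m⁻¹ * z * m)) * x = z * (m⁻¹ * (z * (m * x * m⁻¹) * z⁻¹) * m) * z⁻¹ *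
          (z * (m⁻¹ * z * m)) := by group
      _ = z * (m⁻¹ * (m * x * m⁻¹)⁻¹ * m) * z⁻¹ * (z * (m⁻¹ * z * m)) := by rw [h1]
      _ = (z * x⁻¹ * z⁻¹) * (z * (m⁻¹ * z * m)) := by group
      _ = x * (z * (m⁻¹ * z * m)) := by rw [h2, inv_inv]
  have h1 : z * (m⁻¹ * z * m) = 1 := eq_of_smul_eq_smul (α := Ω) fun c => by
    rw [fix_all h hkD hc hab c, one_smul]
  have hzi : z⁻¹ = z := inv_eq_of_mul_eq_one_left hzz
  have h2 : m⁻¹ * z * m = z := by
    have h3 := inv_eq_of_mul_eq_one_right h1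
    rw [← h3, hzi]
  calc z * m = m * (m⁻¹ * z * m) := by group
    _ = m * z := by rw [h2]

/-- The hat relation. -/
theorem hat (h : SSplit U) [FaithfulSMul G Ω] [Finite Ω] {a b : Ω} (hab : b ≠ a)
    {z : G} (hz : z ∈ Dab G a b) (hzz : z * z = 1)
    (hf : ∀ x ∈ U b, z * x = x * z → x = 1) {u : G} (hu : u ∈ U b) (hu1 : u ≠ 1) :
    mu U a b u * mu U a b u = 1 ∧ mu U a b u * u * mu U a b u = u⁻¹ * mu U a b u * u⁻¹ := by
  have hfin := h.finite_U b
  have hfin' := h.finite_U a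
  have hib : ∀ x ∈ U b, z * x * z⁻¹ = x⁻¹ := fun x hx =>
    inverts_of_fpf (fun y hy => h.conj_of_fix hz.2 hy) hzz hf hx
  have hia : ∀ x ∈ U a, z * x * z⁻¹ = x⁻¹ := fun x hx =>
    inverts_of_fpf (fun y hy => h.conj_of_fix hz.1 hy) hzz
      (fun y hy => fpf_symm h hab hz hf hy) hx
  obtain ⟨hs, x, hx, y, hy, hx1, hy1, he⟩ := h.mu_spec hab hu hu1
  set m := mu U a b u with hm
  have hzm : z * m = m * z := comm_swaps h hab hz hzz hf hs
  have hinv : z * m * z⁻¹ = m⁻¹ := h.mu_inverted hab hu hu1 hz (hib u hu)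
  have hmi : m = m⁻¹ := by
    rw [← hinv, hzm]; group
  have hmm : m * m = 1 := by
    nth_rewrite 1 [hmi]; group
  refine ⟨hmm, ?_⟩
  -- `x = y`
  have h1 : x⁻¹ * m * y⁻¹ = y⁻¹ * m * x⁻¹ := by
    calc x⁻¹ * m * y⁻¹ = (z * x * z⁻¹) * (z * m * z⁻¹) * (z * y * z⁻¹) := by
          rw [hia x hx, hinv, hia y hy, ← hmi]
      _ = z * (x * m * y) * z⁻¹ := by group
      _ = u⁻¹ := by rw [← he, hib u hu]
      _ = y⁻¹ * m⁻¹ * x⁻¹ := by rw [he]; group
      _ = y⁻¹ * m * x⁻¹ := by rw [← hmi]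
  have hxy : x = y := inv_injective
    (h.mid_unique hab hs hs (inv_mem hx) (inv_mem hy) (inv_mem hy) (inv_mem hx) h1).1
  subst hxy
  -- `x⁻¹ = u⁻¹ m (m x m)`
  have hmxm : m * x * m ∈ U b := by
    have := h.conj_of_eq hs.1 hx
    rwa [← hmi] at this
  have h2 : x⁻¹ = u⁻¹ * m * (m * x * m) := by
    calc x⁻¹ = u⁻¹ * (u * x⁻¹) := by group
      _ = u⁻¹ * ((x * m * x) * x⁻¹) := by rw [← he]
      _ = u⁻¹ * (1 * x * m) := by group
      _ = u⁻¹ * ((m * m) * x * m) := by rw [hmm]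
      _ = _ := by group
  have h3 : (m * x * m)⁻¹ * m * u = u * m * (m * x * m)⁻¹ := by
    calc (m * x * m)⁻¹ * m * u = (m * x * m)⁻¹ * m⁻¹ * u := by rw [← hmi]
      _ = (u⁻¹ * m * (m * x * m))⁻¹ := by group
      _ = x := by rw [← h2, inv_inv]
      _ = (x⁻¹)⁻¹ := by rw [inv_inv]
      _ = z * x⁻¹ * z⁻¹ := by rw [hia _ (inv_mem hx)]
      _ = z * (u⁻¹ * m * (m * x * m)) * z⁻¹ := by rw [← h2]
      _ = (z * u⁻¹ * z⁻¹) * (z * m * z⁻¹) * (z * (m * x * m) * z⁻¹) := by group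
      _ = u * m * (m * x * m)⁻¹ := by
        rw [hib _ (inv_mem hu), hib _ hmxm, hinv, ← hmi, inv_inv]
  have h4 : (m * x * m)⁻¹ = u := (h.mid_unique hab.symm hs.symm hs.symm (inv_mem hmxm) hu hu
    (inv_mem hmxm) h3).1
  have h5 : m * x * m = u⁻¹ := by rw [← h4, inv_inv]
  have h6 : x = m * u⁻¹ * m := by
    rw [← h5]
    calc x = 1 * x * 1 := by group
      _ = (m * m) * x * (m * m) := by rw [hmm]
      _ = m * (m * x * m) * m := by group
  calc m * u * m = m * (x * m * x) * m := by rw [← he]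
    _ = (m * x * m) * (m⁻¹ * m⁻¹ * m) * (m * x * m) := by
        have : m⁻¹ * m⁻¹ * m = m⁻¹ := by group
        rw [this]; group
    _ = u⁻¹ * m * u⁻¹ := by rw [h5, ← hmi, hmm, one_mul]

/-- Two commuting elements `u, v` with the same `μ` satisfy `u = v` or `u v = 1`. -/
theorem eq_or_eq_inv (h : SSplit U) [FaithfulSMul G Ω] [Finite Ω] {a b : Ω} (hab : b ≠ a)
    {z : G} (hz : z ∈ Dab G a b) (hzz : z * z = 1)
    (hf : ∀ x ∈ U b, z * x = x * z → x = 1) {u v : G} (hu : u ∈ U b) (hu1 : u ≠ 1)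
    (hv : v ∈ U b) (hv1 : v ≠ 1) (huv : u * v = v * u) (hm : mu U a b u = mu U a b v) :
    u = v ∨ u * v = 1 := by
  by_contra hcon
  push Not at hcon
  obtain ⟨hne, hne'⟩ := hcon
  obtain ⟨hmm, hmu⟩ := hat h hab hz hzz hf hu hu1
  obtain ⟨-, hmv⟩ := hat h hab hz hzz hf hv hv1
  have hs := h.mu_swaps hab hu hu1
  rw [← hm] at hmv
  set m := mu U a b u with hmdef
  have hmi : m⁻¹ = m := inv_eq_of_mul_eq_one_left hmm
  set q := v * u⁻¹ with hq
  have hq' : u⁻¹ * v = q := by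
    rw [hq]
    calc u⁻¹ * v = u⁻¹ * (v * u) * u⁻¹ := by group
      _ = u⁻¹ * (u * v) * u⁻¹ := by rw [huv]
      _ = v * u⁻¹ := by group
  set T := m * (u * v)⁻¹ * m with hT
  have hTa : T ∈ U a := by
    have h1 : (u * v)⁻¹ ∈ U b := inv_mem (mul_mem hu hv)
    have h2 := h.conj_of_eq hs.2 h1
    rwa [hmi] at h2
  have hT1 : T ≠ 1 := by
    intro hc
    apply hne'
    have h1 : (u * v)⁻¹ = m * T * m := by
      rw [hT]
      calc (u * v)⁻¹ = 1 * (u * v)⁻¹ * 1 := by group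
        _ = (m * m) * (u * v)⁻¹ * (m * m) := by rw [hmm]
        _ = _ := by group
    rw [hc, mul_one, hmm] at h1
    exact inv_eq_one.1 h1
  have hqb : q ∈ U b := mul_mem hv (inv_mem hu)
  have hq1 : q ≠ 1 := fun hc => hne (mul_inv_eq_one.1 hc).symm
  have h1 : (m * u * m) * (m * v * m) = (m * v * m) * (m * u * m) := by
    calc (m * u * m) * (m * v * m) = m * u * (m * m) * v * m := by group
      _ = m * (u * v) * m := by rw [hmm]; group
      _ = m * (v * u) * m := by rw [huv]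
      _ = m * v * (m * m) * u * m := by rw [hmm]; group
      _ = _ := by group
  have hs1 : u⁻¹ * v⁻¹ = (u * v)⁻¹ := by rw [huv]; group
  have hs2 : v⁻¹ * u⁻¹ = (u * v)⁻¹ := by group
  rw [hmu, hmv] at h1
  have h2 : u⁻¹ * T * v⁻¹ = v⁻¹ * T * u⁻¹ := by
    calc u⁻¹ * T * v⁻¹ = u⁻¹ * (m * (u * v)⁻¹ * m) * v⁻¹ := by rw [hT]
      _ = u⁻¹ * m * (u⁻¹ * v⁻¹) * m * v⁻¹ := by rw [hs1]; group
      _ = u⁻¹ * m * u⁻¹ * (v⁻¹ * m * v⁻¹) := by group
      _ = v⁻¹ * m * v⁻¹ * (u⁻¹ * m * u⁻¹) := h1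
      _ = v⁻¹ * m * (v⁻¹ * u⁻¹) * m * u⁻¹ := by group
      _ = v⁻¹ * (m * (u * v)⁻¹ * m) * u⁻¹ := by rw [hs2]; group
      _ = v⁻¹ * T * u⁻¹ := by rw [hT]
  have h3 : q * T = T * q := by
    calc q * T = v * (u⁻¹ * T * v⁻¹) * v := by rw [hq]; group
      _ = v * (v⁻¹ * T * u⁻¹) * v := by rw [h2]
      _ = T * (u⁻¹ * v) := by group
      _ = T * q := by rw [hq']
  have h4 : q • a ≠ a := h.smul_ne_of_ne hab.symm hqb hq1
  apply hT1
  refine h.free (b := q • a) h4 hTa ?_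
  rw [← mul_smul, ← h3, mul_smul, h.fix hTa]

/-- **No central involution.** -/
theorem no_central (h : SSplit U) [FaithfulSMul G Ω] [Finite Ω] {a b : Ω} (hab : b ≠ a)
    (hone : OneClass U a b) {p r : ℕ} (hp : p.Prime) (hr : r.Prime) (hpr : p ≠ r)
    (hpU : p ∣ Nat.card (U b)) (hrU : r ∣ Nat.card (U b)) {z : G} (hz : z ∈ Dab G a b)
    (hzz : z * z = 1) (hf : ∀ x ∈ U b, z * x = x * z → x = 1) : False := by
  have hfin := h.finite_U b
  have : Fact p.Prime := ⟨hp⟩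
  have : Fact r.Prime := ⟨hr⟩
  have hib : ∀ x ∈ U b, z * x * z⁻¹ = x⁻¹ := fun x hx =>
    inverts_of_fpf (fun y hy => h.conj_of_fix hz.2 hy) hzz hf hx
  obtain ⟨⟨u, hu⟩, hup⟩ := exists_prime_orderOf_dvd_card' p hpU
  obtain ⟨⟨v, hv⟩, hvr⟩ := exists_prime_orderOf_dvd_card' r hrU
  rw [← Subgroup.orderOf_coe] at hup hvr
  change orderOf u = p at hup
  change orderOf v = r at hvr
  have hu1 : u ≠ 1 := by
    rintro rfl
    rw [orderOf_one] at hup
    exact hp.one_lt.ne hup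
  have hv1 : v ≠ 1 := by
    rintro rfl
    rw [orderOf_one] at hvr
    exact hr.one_lt.ne hvr
  obtain ⟨d, hd, he⟩ := hone u hu hu1 v hv hv1
  rw [← h.mu_conj_D hab hu hu1 hd] at he
  set u' := d * u * d⁻¹ with hu'
  have hu'b : u' ∈ U b := h.conj_of_fix hd.2 hu
  have hu'p : orderOf u' = p := by
    have h1 := orderOf_injective (MulAut.conj d).toMonoidHom (MulAut.conj d).injective u
    rw [← hup]; exact h1
  have hu'1 : u' ≠ 1 := by
    intro hc
    rw [hc, orderOf_one] at hu'p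
    exact hp.one_lt.ne hu'p
  have hcomm : u' * v = v * u' := by
    -- `z` inverts `U b`
    have h1 := hib _ (mul_mem hu'b hv)
    have h2 : z * (u' * v) * z⁻¹ = u'⁻¹ * v⁻¹ := by
      rw [← hib u' hu'b, ← hib v hv]; group
    rw [h2, mul_inv_rev] at h1
    have h3 := congrArg (·⁻¹) h1
    simp only [mul_inv_rev, inv_inv] at h3
    exact h3.symm
  rcases eq_or_eq_inv h hab hz hzz hf hu'b hu'1 hv hv1 hcomm he.symm with h1 | h1
  · rw [h1, hvr] at hu'p
    exact hpr hu'p.symm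
  · have h2 : u' = v⁻¹ := eq_inv_of_mul_eq_one_left h1
    rw [h2, orderOf_inv, hvr] at hu'p
    exact hpr hu'p.symm

end Cfsg.Agent.HKS.PP2
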