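import Mathlib
import Cfsg.Agent.HKS.Goals
import Cfsg.Agent.HKS.FrameCount
import Cfsg.Agent.HKS.ModPSplit
import Cfsg.Agent.HKS.PP2

/-!
# Four-groups in `G_ab`: the centre of `U a`

Context `C : CtxE U a b p k`, `hV : NoFourFix U a b` (`C_{U a}(V) = 1` for all four-groups `V` of
`G_ab`), `s ≠ t` commuting involutions of `G_ab`.

* `FourZero.inverts`, `comm_P`: `t` inverts `C_{U a}(s)`, which is abelian;
* `FourZero.irr`: `C_{U a}(s)` is irreducible under the torus of `L_s`;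
* `FourZero.exists_central`: `U a` is abelian, or `Z(U a) = C_{U a}(z)` for an involution `z` of
  `G_ab`, central in `W`;
* `FourZero.ker_invol`: then `z` is the only involution of the pointwise stabiliser of `Fix z`.
-/

set_option autoImplicit false

namespace Cfsg.Agent.HKS.FourZero

open Subgroup MulAction

section abs

variable {G : Type*} [Group G]

/-- Coprime action of an involution, elementwise. -/
theorem exists_mul_of_cop {V : Subgroup G} [Finite V] (hodd : Odd (Nat.card V)) {Z : Subgroup G}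
    (hZ : Z ≤ V) {z : G} (hzz : z * z = 1) {x : G} (hx : x ∈ V)
    (hxz : x⁻¹ * (z * x * z⁻¹) ∈ Z) : ∃ y ∈ V, z * y = y * z ∧ ∃ d ∈ Z, x = y * d := by
  obtain ⟨n, hn⟩ := hodd
  set c := x⁻¹ * (z * x * z⁻¹) with hc
  have hzi : z⁻¹ = z := inv_eq_of_mul_eq_one_left hzz
  have h1 : z * c * z⁻¹ = c⁻¹ := by
    rw [hc, hzi]
    calc z * (x⁻¹ * (z * x * z)) * z = z * x⁻¹ * z * x * (z * z) := by group
      _ = z * x⁻¹ * z * x := by rw [hzz, mul_one]
      _ = (x⁻¹ * (z⁻¹ * x * z⁻¹))⁻¹ := by group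
      _ = _ := by rw [hzi]
  have h2 : c ^ (2 * n + 1) = 1 := by
    have h3 := pow_card_eq_one' (x := (⟨c, hZ hxz⟩ : V))
    rw [hn] at h3
    exact congrArg Subtype.val h3
  set d := c ^ (n + 1) with hd
  have hdd : d * d = c := by
    rw [hd, ← pow_add, show n + 1 + (n + 1) = 2 * n + 1 + 1 by ring, pow_succ, h2, one_mul]
  have hdZ : d ∈ Z := Z.pow_mem hxz _
  have h3 : z * d * z⁻¹ = d⁻¹ := by
    have h4 : z * d * z⁻¹ = (z * c * z⁻¹) ^ (n + 1) := by
      rw [hd]; exact (conj_pow (i := n + 1) (a := z) (b := c)).symm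
    rw [h4, h1, hd, inv_pow]
  refine ⟨x * d, V.mul_mem hx (hZ hdZ), ?_, d⁻¹, Z.inv_mem hdZ, by group⟩
  have h4 : z * x * z⁻¹ = x * c := by rw [hc]; group
  have h5 : z * (x * d) * z⁻¹ = x * d := by
    calc z * (x * d) * z⁻¹ = (z * x * z⁻¹) * (z * d * z⁻¹) := by group
      _ = x * (d * d) * d⁻¹ := by rw [h4, h3, hdd]
      _ = x * d := by group
  calc z * (x * d) = z * (x * d) * z⁻¹ * z := by group
    _ = x * d * z := by rw [h5]

/-- If `C_V(z) ≤ Z ⊲ V` then the involution `z` inverts `V / Z`. -/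
theorem inv_mod {V : Subgroup G} [Finite V] (hodd : Odd (Nat.card V)) {Z : Subgroup G}
    (hZ : Z ≤ V) (hZn : ∀ v ∈ V, ∀ x ∈ Z, v * x * v⁻¹ ∈ Z) {z : G} (hzz : z * z = 1)
    (hzV : ∀ v ∈ V, z * v * z⁻¹ ∈ V) (hzZ : ∀ v ∈ Z, z * v * z⁻¹ ∈ Z)
    (hC : ∀ v ∈ V, z * v = v * z → v ∈ Z) {x : G} (hx : x ∈ V) : z * x * z⁻¹ * x ∈ Z := by
  let N : Subgroup V := Z.subgroupOf V
  have hN : N.Normal := ⟨fun n hn g => by
    change ((g : G) * n * (g : G)⁻¹) ∈ Z
    exact hZn g g.2 n hn⟩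
  let ψ : V →* V := MonoidHom.mk' (fun x => ⟨z * x * z⁻¹, hzV x x.2⟩) (fun x y => Subtype.ext (by
    change z * (x * y) * z⁻¹ = (z * x * z⁻¹) * (z * y * z⁻¹)
    group))
  let φ : V ⧸ N →* V ⧸ N := QuotientGroup.map N N ψ (fun n hn => by
    change z * (n : G) * z⁻¹ ∈ Z
    exact hzZ n hn)
  have h1 : MonoidHom.FixedPointFree φ := by
    intro q
    induction q using QuotientGroup.induction_on with
    | H v =>
      intro hq
      have h2 : (QuotientGroup.mk (ψ v) : V ⧸ N) = QuotientGroup.mk v := hq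
      have h3 : v⁻¹ * ψ v ∈ N := QuotientGroup.eq.1 h2.symm
      have h4 : (v : G)⁻¹ * (z * v * z⁻¹) ∈ Z := h3
      obtain ⟨y, hy, hyz, d, hd, he⟩ := exists_mul_of_cop hodd hZ hzz v.2 h4
      rw [QuotientGroup.eq_one_iff]
      change (v : G) ∈ Z
      rw [he]
      exact Z.mul_mem (hC y hy hyz) hd
  have h2 : Function.Involutive φ := by
    intro q
    induction q using QuotientGroup.induction_on with
    | H v =>
      change (QuotientGroup.mk (ψ (ψ v)) : V ⧸ N) = QuotientGroup.mk v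
      congr 1
      apply Subtype.ext
      change z * (z * (v : G) * z⁻¹) * z⁻¹ = v
      have h3 : z⁻¹ = z := inv_eq_of_mul_eq_one_left hzz
      rw [h3]
      calc z * (z * (v : G) * z) * z = (z * z) * v * (z * z) := by group
        _ = v := by rw [hzz]; group
  have h3 := h1.coe_eq_inv_of_involutive h2
  have h4 : φ (QuotientGroup.mk ⟨x, hx⟩) = (QuotientGroup.mk ⟨x, hx⟩ : V ⧸ N)⁻¹ :=
    congrFun h3 _
  have h5 : (QuotientGroup.mk (ψ ⟨x, hx⟩) : V ⧸ N) = QuotientGroup.mk (⟨x, hx⟩ : V)⁻¹ := h4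
  have h6 : (ψ ⟨x, hx⟩)⁻¹ * (⟨x, hx⟩ : V)⁻¹ ∈ N := QuotientGroup.eq.1 h5
  have h7 : (z * x * z⁻¹)⁻¹ * x⁻¹ ∈ Z := h6
  have h8 := Z.inv_mem h7
  have h9 : ((z * x * z⁻¹)⁻¹ * x⁻¹)⁻¹ = x * (z * x * z⁻¹) := by group
  rw [h9] at h8
  have h10 := hZn x⁻¹ (V.inv_mem hx) _ h8
  have h11 : x⁻¹ * (x * (z * x * z⁻¹)) * x⁻¹⁻¹ = z * x * z⁻¹ * x := by group
  rwa [h11] at h10

end abs

/-- `p ^ c + 1 = 2 ^ s` with `p` odd forces `c ≤ 1`. -/
theorem le_one_of_pow {p c s : ℕ} (hp : 1 < p) (hodd : Odd p) (hs : 2 ≤ s)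
    (h : p ^ c + 1 = 2 ^ s) : c ≤ 1 := by
  by_contra hc
  push Not at hc
  have h4 : 4 ∣ p ^ c + 1 := by
    rw [h]
    exact (pow_dvd_pow 2 hs : (2 : ℕ) ^ 2 ∣ 2 ^ s)
  have hp4 : p % 4 = 1 ∨ p % 4 = 3 := by
    obtain ⟨j, hj⟩ := hodd
    omega
  have hsq : p ^ 2 % 4 = 1 := by
    rcases hp4 with h1 | h1 <;> simp [Nat.pow_mod, h1]
  rcases Nat.even_or_odd c with ⟨j, hj⟩ | ⟨j, hj⟩
  · have h1 : p ^ c % 4 = 1 := by
      rw [hj, ← two_mul, pow_mul, Nat.pow_mod, hsq]
      simp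
    omega
  · -- `c = 2 j + 1`
    have h1 : (p + 1) ∣ p ^ c + 1 := by
      have := Odd.nat_add_dvd_pow_add_pow p 1 (n := c) ⟨j, hj⟩
      simpa using this
    rw [h] at h1
    obtain ⟨r, hr, hpr⟩ := (Nat.dvd_prime_pow Nat.prime_two).1 h1
    have h2 : 2 ^ (r + 1) ∣ p ^ 2 - 1 := by
      have h3 : p ^ 2 - 1 = (p + 1) * (p - 1) := by
        have := Nat.sq_sub_sq p 1
        simpa using this
      rw [h3, hpr, pow_succ]
      refine Nat.mul_dvd_mul_left _ ?_
      obtain ⟨i, hi⟩ := hodd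
      omega
    have h3 : p ^ c ≡ p [MOD 2 ^ (r + 1)] := by
      have h5 : p ^ 2 ≡ 1 [MOD 2 ^ (r + 1)] := ((Nat.modEq_iff_dvd' (by
        have := Nat.one_le_pow 2 p (by omega)
        exact this)).2 h2).symm
      have h6 : p ^ c = (p ^ 2) ^ j * p := by rw [hj, pow_succ, pow_mul]
      rw [h6]
      have h7 := (h5.pow j).mul_right p
      simpa using h7
    have h5 : p ^ c + 1 ≡ p + 1 [MOD 2 ^ (r + 1)] := h3.add_right 1
    rw [h, hpr] at h5
    have h6 : s ≤ r := by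
      by_contra hsr
      push Not at hsr
      have h7 : 2 ^ (r + 1) ∣ 2 ^ s := pow_dvd_pow 2 hsr
      have h8 : 2 ^ r ≡ 0 [MOD 2 ^ (r + 1)] := h5.symm.trans ((Nat.modEq_zero_iff_dvd).2 h7)
      have h9 := (Nat.modEq_zero_iff_dvd).1 h8
      have h10 := Nat.le_of_dvd (by positivity) h9
      have h11 : 2 ^ r < 2 ^ (r + 1) := Nat.pow_lt_pow_right (by norm_num) (by omega)
      omega
    have h7 : 2 ^ s ≤ 2 ^ r := Nat.pow_le_pow_right (by norm_num) h6
    have h8 : p ^ 2 ≤ p ^ c := Nat.pow_le_pow_right (by omega) hc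
    have h9 : p * 2 ≤ p ^ 2 := by
      rw [sq]
      exact Nat.mul_le_mul_left _ hp
    omega

variable {G Ω : Type*} [Group G] [MulAction G Ω] {U : Ω → Subgroup G} {a b : Ω} {p k : ℕ}

theorem mem_cent {t x : G} : x ∈ centralizer (zpowers t : Set G) ↔ t * x = x * t := by
  rw [mem_centralizer_iff]
  constructor
  · intro h
    exact h t (mem_zpowers t)
  · rintro h _ ⟨n, rfl⟩
    exact (show Commute (t ^ n) x from (show Commute t x from h).zpow_left n)

theorem conj_eq_of_comm {s u : G} (h : s * u = u * s) : s * u * s⁻¹ = u := by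
  rw [h]; group

theorem comm_of_conj {s u : G} (h : s * u * s⁻¹ = u) : s * u = u * s := by
  calc s * u = s * u * s⁻¹ * s := by group
    _ = u * s := by rw [h]

theorem odd_U (C : CtxE U a b p k) : Odd (Nat.card (U a)) := by
  rw [C.cardU]
  exact (C.prime.odd_of_ne_two C.p_ne_two).pow

section basic

variable [Finite Ω] (C : CtxE U a b p k) (hV : NoFourFix U a b) {s t : G}
  (hs : s ∈ Dab G a b) (ht : t ∈ Dab G a b) (hs1 : s ≠ 1) (ht1 : t ≠ 1) (hst : s ≠ t)
  (hss : s * s = 1) (htt : t * t = 1) (hc : s * t = t * s)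

include C hV hs ht hs1 ht1 hst hss htt hc

/-- `t` inverts `C_{U a}(s)`. -/
theorem inverts {u : G} (hu : u ∈ U a) (hsu : s * u = u * s) : t * u * t⁻¹ = u⁻¹ := by
  have := C.split.finite_U a
  have h1 : Finite (U a ⊓ centralizer (zpowers s : Set G) : Subgroup G) :=
    Finite.of_injective (inclusion inf_le_left) (inclusion_injective _)
  refine PP2.inverts_of_fpf (V := U a ⊓ centralizer (zpowers s : Set G)) ?_ htt ?_
    ⟨hu, mem_cent.2 hsu⟩
  · rintro x ⟨hx, hxs⟩
    refine ⟨C.split.conj_of_fix ht.1 hx, mem_cent.2 ?_⟩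
    have h2 := mem_cent.1 hxs
    calc s * (t * x * t⁻¹) = (s * t) * x * t⁻¹ := by group
      _ = t * (s * x) * t⁻¹ := by rw [hc]; group
      _ = t * x * (s * t⁻¹) := by rw [h2]; group
      _ = t * x * t⁻¹ * s := by
        have h3 : s * t⁻¹ = t⁻¹ * s := by
          calc s * t⁻¹ = t⁻¹ * (t * s) * t⁻¹ := by group
            _ = t⁻¹ * (s * t) * t⁻¹ := by rw [hc]
            _ = t⁻¹ * s := by group
        rw [h3]; group
  · rintro x ⟨hx, hxs⟩ hxt
    exact hV s hs t ht hs1 ht1 hst hss htt hc x hx (mem_cent.1 hxs) hxt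

/-- `C_{U a}(s)` is abelian. -/
theorem comm_P {u v : G} (hu : u ∈ U a) (hv : v ∈ U a) (hsu : s * u = u * s)
    (hsv : s * v = v * s) : u * v = v * u := by
  have hsuv : s * (u * v) = u * v * s := by rw [← mul_assoc, hsu, mul_assoc, hsv, ← mul_assoc]
  have h1 := inverts C hV hs ht hs1 ht1 hst hss htt hc (mul_mem hu hv) hsuv
  have h2 := inverts C hV hs ht hs1 ht1 hst hss htt hc hu hsu
  have h3 := inverts C hV hs ht hs1 ht1 hst hss htt hc hv hsv
  have h4 : t * (u * v) * t⁻¹ = u⁻¹ * v⁻¹ := by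
    calc t * (u * v) * t⁻¹ = (t * u * t⁻¹) * (t * v * t⁻¹) := by group
      _ = _ := by rw [h2, h3]
  rw [h4] at h1
  have h5 := congrArg (·⁻¹) h1
  simp only [mul_inv_rev, inv_inv] at h5
  exact h5.symm

omit [Finite Ω] in
/-- `s` and `t` have only the common fixed points `a` and `b`. -/
theorem fix_pair {c : Ω} (hsc : s • c = c) (htc : t • c = c) : c = a ∨ c = b := by
  by_contra hcc
  push Not at hcc
  obtain ⟨u, hu, hub⟩ := C.split.trans C.ne hcc.1
  have h1 : ∀ r : G, r ∈ Dab G a b → r • c = c → r * u = u * r := by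
    intro r hr hrc
    refine comm_of_conj (C.split.eq_of_smul_eq C.ne (C.split.conj_of_fix hr.1 hu) hu ?_)
    rw [mul_smul, mul_smul, inv_smul_eq_iff.2 (show b = r • b from hr.2.symm), hub, hrc]
  have h2 := hV s hs t ht hs1 ht1 hst hss htt hc u hu (h1 s hs hsc) (h1 t ht htc)
  rw [h2, one_smul] at hub
  exact hcc.2 hub.symm

omit t ht ht1 hst htt hc hV hss in
/-- `C_{U a}(s) ≠ 1`. -/
theorem P_ne_bot' (hss : s * s = 1) : ∃ u ∈ U a, u ≠ 1 ∧ s * u = u * s := by
  classical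
  have h1 := C.fix s hs1 hss
  have := Fintype.ofFinite (fixedBy Ω s)
  have h2 : ∃ c : fixedBy Ω s, (c : Ω) ≠ a ∧ (c : Ω) ≠ b := by
    obtain ⟨c, hca, hcb⟩ := SSplit.three_of_card h1 (⟨a, hs.1⟩ : fixedBy Ω s) ⟨b, hs.2⟩
    exact ⟨c, fun e => hca (Subtype.ext e), fun e => hcb (Subtype.ext e)⟩
  obtain ⟨⟨c, hc'⟩, hca, hcb⟩ := h2
  obtain ⟨u, hu, hub⟩ := C.split.trans C.ne hca
  refine ⟨u, hu, ?_, ?_⟩
  · rintro rfl
    rw [one_smul] at hub
    exact hcb hub.symm
  · refine comm_of_conj (C.split.eq_of_smul_eq C.ne (C.split.conj_of_fix hs.1 hu) hu ?_)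
    rw [mul_smul, mul_smul, inv_smul_eq_iff.2 (show b = s • b from hs.2.symm), hub]
    exact hc'

/-- `C_{U a}(s)` is irreducible under the torus of `L_s`. -/
theorem irr {V : Subgroup G} (hVU : V ≤ U a ⊓ centralizer (zpowers s : Set G))
    (hne : ∃ v ∈ V, v ≠ 1)
    (hE : ∀ d ∈ Dab G a b ⊓ genFix U (zpowers s), ∀ v ∈ V, d * v * d⁻¹ ∈ V) :
    V = U a ⊓ centralizer (zpowers s : Set G) := by
  classical
  have hfU := C.split.finite_U a
  set P := U a ⊓ centralizer (zpowers s : Set G) with hP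
  have hfP : Finite P := Finite.of_injective (inclusion inf_le_left) (inclusion_injective _)
  have hfV : Finite V := Finite.of_injective (inclusion hVU) (inclusion_injective _)
  have hab : ∀ u ∈ P, ∀ v ∈ P, u * v = v * u := fun u hu v hv =>
    comm_P C hV hs ht hs1 ht1 hst hss htt hc hu.1 hv.1 (mem_cent.1 hu.2) (mem_cent.1 hv.2)
  have hPdvd : Nat.card P ∣ p ^ k := by
    rw [← C.cardU]; exact card_dvd_of_le inf_le_left
  obtain ⟨c, -, hcard⟩ := (Nat.dvd_prime_pow C.prime).1 hPdvd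
  have hPne : P ≠ ⊥ := by
    obtain ⟨v, hv, hv1⟩ := hne
    intro hc'
    rw [hc'] at hVU
    exact hv1 (mem_bot.1 (hVU hv))
  have hzD : zpowers s ≤ Dab G a b := zpowers_le.2 hs
  have hz1 : zpowers s ≠ ⊥ := by
    rw [Ne, zpowers_eq_bot]; exact hs1
  have hVcard : Nat.card V ∣ Nat.card P := card_dvd_of_le hVU
  have hV1 : 1 < Nat.card V := by
    obtain ⟨v, hv, hv1⟩ := hne
    rw [Finite.one_lt_card_iff_nontrivial]
    exact ⟨⟨⟨v, hv⟩, 1, fun e => hv1 (congrArg Subtype.val e)⟩⟩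
  have hfin : Nat.card V = Nat.card P → V = P := fun he => eq_of_le_of_card_ge hVU he.ge
  have hpodd : Odd p := C.prime.odd_of_ne_two C.p_ne_two
  rcases C.IH (zpowers s) hzD hz1 hPne with hT | ⟨q, hT⟩ | ⟨q, hT⟩ | ⟨n, hT⟩
  · obtain ⟨r, hr, hr'⟩ := hT.card
    have h1 : Nat.card P + 1 = 2 ^ r := hr'
    rw [hcard] at h1
    have h2 := le_one_of_pow C.prime.one_lt hpodd hr h1
    have h3 : c = 1 := by
      rcases Nat.eq_zero_or_pos c with h4 | h4
      · exfalso
        rw [h4, pow_zero] at hcard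
        rw [hcard] at hVcard
        have := Nat.le_of_dvd one_pos hVcard
        omega
      · omega
    rw [h3, pow_one] at hcard
    rw [hcard] at hVcard
    rcases (Nat.dvd_prime C.prime).1 hVcard with h4 | h4
    · omega
    · exact hfin (h4.trans hcard.symm)
  · -- type `PSL(2,q)`
    have hq : Nat.card P = q := hT.card
    set K := kerFix Ω (zpowers s) with hK
    set E := Dab G a b ⊓ genFix U (zpowers s) with hEd
    obtain ⟨v, hv, hv1⟩ := hne
    have hfE : Nat.card (E ⧸ K.subgroupOf E) ≤ Nat.card {x : V // x ≠ 1} := by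
      have : Finite {x : V // x ≠ 1} := Subtype.finite
      refine Nat.card_le_card_of_injective (fun d : E ⧸ K.subgroupOf E => Quotient.liftOn' d
        (fun d => (⟨⟨(d : G) * v * (d : G)⁻¹, hE d d.2 v hv⟩, fun hc' => hv1 ?_⟩ :
          {x : V // x ≠ 1})) ?_) ?_
      · have h1 : (d : G) * v * (d : G)⁻¹ = 1 := congrArg Subtype.val hc'
        exact conj_eq_one_iff.1 h1
      · intro d d' hdd
        have h1' := QuotientGroup.leftRel_apply.1 hdd
        have h1 : (d : G)⁻¹ * d' ∈ K := h1'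
        have h2 : ((d : G)⁻¹ * d') * v = v * ((d : G)⁻¹ * d') :=
          C.split.comm_of_fix (X := zpowers s) (a := a) (b := b) (fun x hx => (hzD hx).1)
            (fun x hx => (hzD hx).2) C.ne h1 (hVU hv).1 (hVU hv).2
        apply Subtype.ext
        apply Subtype.ext
        change (d : G) * v * (d : G)⁻¹ = d' * v * (d' : G)⁻¹
        calc (d : G) * v * (d : G)⁻¹ = d * (v * ((d : G)⁻¹ * d')) * (d' : G)⁻¹ := by group
          _ = d * (((d : G)⁻¹ * d') * v) * (d' : G)⁻¹ := by rw [h2]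
          _ = _ := by group
      · intro d
        induction d using Quotient.inductionOn' with
        | h d =>
          intro d'
          induction d' using Quotient.inductionOn' with
          | h d' =>
            intro he
            have h1 : (d : G) * v * (d : G)⁻¹ = d' * v * (d' : G)⁻¹ :=
              congrArg Subtype.val (congrArg Subtype.val he)
            apply Quotient.sound'
            rw [QuotientGroup.leftRel_apply]
            change (d : G)⁻¹ * d' ∈ K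
            have h2 : ((d : G)⁻¹ * d') * v = v * ((d : G)⁻¹ * d') := by
              calc ((d : G)⁻¹ * d') * v = (d : G)⁻¹ * (d' * v * (d' : G)⁻¹) * d' := by group
                _ = (d : G)⁻¹ * (d * v * (d : G)⁻¹) * d' := by rw [h1]
                _ = _ := by group
            rcases hT.free _ (E.mul_mem (E.inv_mem d.2) d'.2) v (hVU hv) h2 with h3 | h3
            · exact h3
            · exact absurd h3 hv1
    have h1 : 2 * Nat.card (E ⧸ K.subgroupOf E) = q - 1 := hT.cardE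
    have h2 : Nat.card {x : V // x ≠ 1} + 1 = Nat.card V := card_ne_pt (1 : V)
    have h3 := hT.three
    have h4 := hT.odd
    rw [hq] at hVcard
    obtain ⟨m, hm⟩ := hVcard
    have hm1 : m = 1 := by
      rw [hm] at h4
      obtain ⟨hoV, hom⟩ := Nat.odd_mul.1 h4
      by_contra hm1
      have hm3 : 3 ≤ m := by
        obtain ⟨j, hj⟩ := hom
        omega
      have h5 : Nat.card V * 3 ≤ q := by rw [hm]; exact Nat.mul_le_mul_left _ hm3
      omega
    rw [hm1, mul_one] at hm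
    exact hfin (hm.symm.trans hq.symm)
  · -- type `PSU(3,q)`
    exfalso
    have h1 := hT.cardZ
    have h2 : P ⊓ centralizer (P : Set G) = P := by
      rw [inf_eq_left]
      intro x hx
      rw [mem_centralizer_iff]
      intro y hy
      exact hab y hy x hx
    have h3 : Nat.card P = q := by rw [← h2]; exact h1
    have h4 : Nat.card P = q ^ 3 := hT.card
    have h5 : 1 < q := hT.pow.one_lt
    rw [h3] at h4
    have h6 : q ^ 1 < q ^ 3 := Nat.pow_lt_pow_right h5 (by norm_num)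
    rw [pow_one] at h6
    omega
  · exfalso
    obtain ⟨u, hu, v, hv, huv⟩ := hT.ncomm
    exact huv (hab u hu v hv)

end basic

/-! ### The centre of `U a` -/

/-- The centre of `U a`, as a subgroup of `G`. -/
def ZU (U : Ω → Subgroup G) (a : Ω) : Subgroup G := U a ⊓ centralizer (U a : Set G)

omit [MulAction G Ω] in
theorem mem_ZU {x : G} : x ∈ ZU U a ↔ x ∈ U a ∧ ∀ v ∈ U a, x * v = v * x := by
  rw [ZU, mem_inf, mem_centralizer_iff]
  exact and_congr_right fun _ => ⟨fun h v hv => (h v hv).symm, fun h v hv => (h v hv).symm⟩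

theorem ZU_conj (h : SSplit U) {d : G} (hd : d • a = a) {x : G} (hx : x ∈ ZU U a) :
    d * x * d⁻¹ ∈ ZU U a := by
  rw [mem_ZU] at hx ⊢
  refine ⟨h.conj_of_fix hd hx.1, fun v hv => ?_⟩
  have h1 := hx.2 _ (h.conj_of_fix' hd hv)
  calc d * x * d⁻¹ * v = d * (x * (d⁻¹ * v * d)) * d⁻¹ := by group
    _ = d * ((d⁻¹ * v * d) * x) * d⁻¹ := by rw [h1]
    _ = v * (d * x * d⁻¹) := by group

theorem ZU_ne (C : CtxE U a b p k) [Finite Ω] : ∃ x ∈ ZU U a, x ≠ 1 := by
  have := C.split.finite_U a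
  have h1 : IsPGroup p (U a) := IsPGroup.of_card C.cardU
  have h2 := C.split.one_lt_card a
  have h3 : Nontrivial (U a) := Finite.one_lt_card_iff_nontrivial.1 h2
  have := Fact.mk C.prime
  have h4 := h1.center_nontrivial
  obtain ⟨x, hx⟩ := exists_ne (1 : center (U a))
  refine ⟨(x : U a), ?_, fun hc => hx (Subtype.ext (Subtype.ext hc))⟩
  rw [mem_ZU]
  refine ⟨(x : U a).2, fun v hv => ?_⟩
  have h5 := mem_center_iff.1 x.2 ⟨v, hv⟩
  exact (congrArg Subtype.val h5).symm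

/-- If `C_{U a}(s) ≤ Z(U a)` then `s` inverts `U a / Z(U a)`. -/
theorem inv_mod_ZU (C : CtxE U a b p k) [Finite Ω] {s : G} (hs : s ∈ Dab G a b) (hss : s * s = 1)
    (hC : ∀ v ∈ U a, s * v = v * s → v ∈ ZU U a) {x : G} (hx : x ∈ U a) :
    s * x * s⁻¹ * x ∈ ZU U a := by
  have := C.split.finite_U a
  refine inv_mod (V := U a) (odd_U C) inf_le_left ?_ hss
    (fun v hv => C.split.conj_of_fix hs.1 hv) (fun v hv => ZU_conj C.split hs.1 hv) hC hx
  intro v hv x hx
  have h1 := (mem_ZU.1 hx).2 v hv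
  have h2 : v * x * v⁻¹ = x := by rw [← h1]; group
  rw [h2]
  exact hx

/-- An element of `G_ab` centralising `U a` is trivial. -/
theorem eq_one_of_cent (C : CtxE U a b p k) [FaithfulSMul G Ω] {d : G} (hd : d ∈ Dab G a b)
    (hc : ∀ x ∈ U a, d * x = x * d) : d = 1 :=
  eq_of_smul_eq_smul (α := Ω) fun c => by
    rw [one_smul]
    exact PP2.fix_all C.split (a := b) (b := a) (by rw [Dab_symm]; exact hd) hc C.ne.symm c

/-- If `C_{U a}(s), C_{U a}(t) ≤ Z(U a)` then `U a` is abelian. -/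
theorem abelian_of_two (C : CtxE U a b p k) (hV : NoFourFix U a b) [Finite Ω] {s t : G}
    (hs : s ∈ Dab G a b) (ht : t ∈ Dab G a b) (hs1 : s ≠ 1) (ht1 : t ≠ 1) (hst : s ≠ t)
    (hss : s * s = 1) (htt : t * t = 1) (hc : s * t = t * s)
    (hCs : ∀ v ∈ U a, s * v = v * s → v ∈ ZU U a) (hCt : ∀ v ∈ U a, t * v = v * t → v ∈ ZU U a) :
    ∀ x ∈ U a, ∀ y ∈ U a, x * y = y * x := by
  have := C.split.finite_U a
  have hff : (s * t) * (s * t) = 1 := by
    calc (s * t) * (s * t) = s * (t * s) * t := by group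
      _ = (s * s) * (t * t) := by rw [← hc]; group
      _ = 1 := by rw [hss, htt, mul_one]
  have hfD : s * t ∈ Dab G a b := mul_mem hs ht
  have hf1 : s * t ≠ 1 := fun h1 => hst (by
    have h2 := eq_inv_of_mul_eq_one_left h1
    rw [h2]
    exact inv_eq_of_mul_eq_one_left htt)
  have hfs : s * t ≠ s := fun h1 => ht1 (mul_eq_left.1 h1)
  have hcf : (s * t) * s = s * (s * t) := by rw [mul_assoc, ← hc]
  -- every `x` is `y d`, `y` commuting with `s t`, `d` central
  have key : ∀ x ∈ U a, ∃ y ∈ U a, (s * t) * y = y * (s * t) ∧ ∃ d ∈ ZU U a, x = y * d := by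
    intro x hx
    refine exists_mul_of_cop (odd_U C) inf_le_left hff hx ?_
    have h1 := inv_mod_ZU C hs hss hCs hx
    have h2 := inv_mod_ZU C ht htt hCt hx
    have h3 := ZU_conj C.split hs.1 h2
    have h4 : x⁻¹ * (s * t * x * (s * t)⁻¹) =
        x⁻¹ * ((s * (t * x * t⁻¹ * x) * s⁻¹) * x) * (s * x * s⁻¹ * x)⁻¹ := by group
    rw [h4, (mem_ZU.1 h3).2 x hx, ← mul_assoc, inv_mul_cancel, one_mul]
    exact (ZU U a).mul_mem h3 ((ZU U a).inv_mem h1)
  intro x hx x' hx'
  obtain ⟨y, hy, hyf, d, hd, rfl⟩ := key x hx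
  obtain ⟨y', hy', hyf', d', hd', rfl⟩ := key x' hx'
  have h1 : y * y' = y' * y :=
    comm_P C hV hfD hs hf1 hs1 hfs hff hss hcf hy hy' hyf hyf'
  have hdc := (mem_ZU.1 hd).2
  have hdc' := (mem_ZU.1 hd').2
  calc y * d * (y' * d') = y * (d * y') * d' := by group
    _ = (y * y') * d * d' := by rw [hdc y' hy']; group
    _ = y' * y * (d * d') := by rw [h1]; group
    _ = y' * (d' * y) * d := by rw [hdc d' (mem_ZU.1 hd').1, hdc' y hy]; group
    _ = y' * d' * (y * d) := by group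

/-- The involution `z` of `G_ab` is central in `W`, and `C_{U a}(z) = Z(U a) ≠ U a`. -/
structure Cen (U : Ω → Subgroup G) (a b : Ω) (z : G) : Prop where
  zD : z ∈ Dab G a b
  ne_one : z ≠ 1
  sq : z * z = 1
  cW : ∀ g ∈ Wab G a b, z * g = g * z
  cU : ∀ u ∈ U a, z * u = u * z ↔ ∀ v ∈ U a, u * v = v * u
  ncomm : ∃ u ∈ U a, ∃ v ∈ U a, u * v ≠ v * u
  inv : ∀ u ∈ U a, z * u * z⁻¹ * u ∈ ZU U a

section cen

variable [Finite G] [Finite Ω] [FaithfulSMul G Ω] (C : CtxE U a b p k) (hV : NoFourFix U a b)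

include C hV in
theorem cen_of {s t : G} (hs : s ∈ Dab G a b) (ht : t ∈ Dab G a b) (hs1 : s ≠ 1) (ht1 : t ≠ 1)
    (hst : s ≠ t) (hss : s * s = 1) (htt : t * t = 1) (hc : s * t = t * s)
    (hn : ¬ ∀ x ∈ U a, ∀ y ∈ U a, x * y = y * x)
    (hex : ∃ u ∈ ZU U a, u ≠ 1 ∧ s * u = u * s) : Cen U a b s := by
  have := C.split.finite_U a
  -- `C_{U a}(r) ≤ Z(U a)` as soon as `C_{Z(U a)}(r) ≠ 1`
  have key : ∀ r r' : G, r ∈ Dab G a b → r' ∈ Dab G a b → r ≠ 1 → r' ≠ 1 → r ≠ r' → r * r = 1 →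
      r' * r' = 1 → r * r' = r' * r → (∃ u ∈ ZU U a, u ≠ 1 ∧ r * u = u * r) →
      ∀ v ∈ U a, r * v = v * r → v ∈ ZU U a := by
    rintro r r' hr hr' hr1 hr1' hrr' hrr hrr2 hcr ⟨u, hu, hu1, hru⟩ v hv hrv
    have h1 : ZU U a ⊓ centralizer (zpowers r : Set G) =
        U a ⊓ centralizer (zpowers r : Set G) := by
      refine irr C hV hr hr' hr1 hr1' hrr' hrr hrr2 hcr
        (inf_le_inf_right _ inf_le_left) ⟨u, ⟨hu, mem_cent.2 hru⟩, hu1⟩ ?_
      rintro d ⟨hd, hdM⟩ x ⟨hx, hxr⟩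
      refine ⟨ZU_conj C.split hd.1 hx, ?_⟩
      have h2 : d ∈ centralizer (zpowers r : Set G) := by
        have h3 : genFix U (zpowers r) ≤ centralizer (zpowers r : Set G) :=
          iSup_le fun c => inf_le_right
        exact h3 hdM
      exact (centralizer (zpowers r : Set G)).mul_mem
        ((centralizer (zpowers r : Set G)).mul_mem h2 hxr)
        ((centralizer (zpowers r : Set G)).inv_mem h2)
    have h2 : v ∈ U a ⊓ centralizer (zpowers r : Set G) := ⟨hv, mem_cent.2 hrv⟩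
    rw [← h1] at h2
    exact h2.1
  have hCs := key s t hs ht hs1 ht1 hst hss htt hc hex
  have hff : (s * t) * (s * t) = 1 := by
    calc (s * t) * (s * t) = s * (t * s) * t := by group
      _ = (s * s) * (t * t) := by rw [← hc]; group
      _ = 1 := by rw [hss, htt, mul_one]
  have hfD : s * t ∈ Dab G a b := mul_mem hs ht
  have hf1 : s * t ≠ 1 := fun h1 => hst (by
    have h2 := eq_inv_of_mul_eq_one_left h1
    rw [h2]
    exact inv_eq_of_mul_eq_one_left htt)
  have hfs : s ≠ s * t := fun h1 => ht1 (mul_eq_left.1 h1.symm)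
  have hcf : s * (s * t) = (s * t) * s := by rw [mul_assoc, ← hc]
  -- an involution `r ≠ s` commuting with `s` acts without fixed points on `Z(U a)`
  have hno : ∀ r : G, r ∈ Dab G a b → r ≠ 1 → s ≠ r → r * r = 1 → s * r = r * s →
      ∀ u ∈ ZU U a, r * u * r⁻¹ = u⁻¹ := by
    intro r hr hr1 hsr hrr hsrc u hu
    have hfin : Finite (ZU U a) := Finite.of_injective (inclusion inf_le_left)
      (inclusion_injective (inf_le_left : ZU U a ≤ U a))
    refine PP2.inverts_of_fpf (V := ZU U a) (fun x hx => ZU_conj C.split hr.1 hx) hrr ?_ hu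
    intro x hx hrx
    by_contra hx1
    exact hn (abelian_of_two C hV hs hr hs1 hr1 hsr hss hrr hsrc hCs
      (key r s hr hs hr1 hs1 hsr.symm hrr hss hsrc.symm ⟨x, hx, hx1, hrx⟩))
  -- `s` centralises `Z(U a)`
  have hsZ : ∀ u ∈ ZU U a, s * u = u * s := by
    intro u hu
    have h1 := hno t ht ht1 hst htt hc u hu
    have h2 := hno (s * t) hfD hf1 hfs hff hcf _ (inv_mem hu)
    have h3 : s * u * s⁻¹ = u := by
      have hti : t⁻¹ = t := inv_eq_of_mul_eq_one_left htt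
      have h4 : t⁻¹ * u * t = t * u * t⁻¹ := by rw [hti]
      calc s * u * s⁻¹ = s * t * (t⁻¹ * u * t) * (s * t)⁻¹ := by group
        _ = s * t * (t * u * t⁻¹) * (s * t)⁻¹ := by rw [h4]
        _ = s * t * u⁻¹ * (s * t)⁻¹ := by rw [h1]
        _ = u := by rw [h2, inv_inv]
    exact comm_of_conj h3
  have hinv : ∀ x ∈ U a, s * x * s⁻¹ * x ∈ ZU U a := fun x hx => inv_mod_ZU C hs hss hCs hx
  -- `s` is central in `G_ab`
  have hD : ∀ d ∈ Dab G a b, s * d = d * s := by
    intro d hd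
    set r := d * s * d⁻¹ with hr
    have hrD : r ∈ Dab G a b := mul_mem (mul_mem hd hs) (inv_mem hd)
    have hrr : r * r = 1 := by
      calc r * r = d * (s * s) * d⁻¹ := by rw [hr]; group
        _ = 1 := by rw [hss]; group
    have hd' : d⁻¹ • a = a := inv_smul_eq_iff.2 hd.1.symm
    have hrZ : ∀ u ∈ ZU U a, r * u * r⁻¹ = u := by
      intro u hu
      have h1 : d⁻¹ * u * d ∈ ZU U a := by
        have := ZU_conj C.split hd' hu
        rwa [inv_inv] at this
      have h2 := hsZ _ h1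
      calc r * u * r⁻¹ = d * (s * (d⁻¹ * u * d)) * s⁻¹ * d⁻¹ := by rw [hr]; group
        _ = d * ((d⁻¹ * u * d) * s) * s⁻¹ * d⁻¹ := by rw [h2]
        _ = u := by group
    have hrinv : ∀ x ∈ U a, r * x * r⁻¹ * x ∈ ZU U a := by
      intro x hx
      have h1 : d⁻¹ * x * d ∈ U a := by
        have := C.split.conj_of_fix hd' hx
        rwa [inv_inv] at this
      have h2 := ZU_conj C.split hd.1 (hinv _ h1)
      have h3 : d * (s * (d⁻¹ * x * d) * s⁻¹ * (d⁻¹ * x * d)) * d⁻¹ = r * x * r⁻¹ * x := by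
        rw [hr]; group
      rwa [h3] at h2
    -- `g = s r` centralises `U a`
    have hg : ∀ x ∈ U a, x⁻¹ * ((s * r) * x * (s * r)⁻¹) ∈ ZU U a := by
      intro x hx
      have h1 := hinv x hx
      have h3 := ZU_conj C.split hs.1 (hrinv x hx)
      have h4 : x⁻¹ * (s * r * x * (s * r)⁻¹) =
          x⁻¹ * ((s * (r * x * r⁻¹ * x) * s⁻¹) * x) * (s * x * s⁻¹ * x)⁻¹ := by group
      rw [h4, (mem_ZU.1 h3).2 x hx, ← mul_assoc, inv_mul_cancel, one_mul]
      exact (ZU U a).mul_mem h3 ((ZU U a).inv_mem h1)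
    have hgZ : ∀ u ∈ ZU U a, (s * r) * u * (s * r)⁻¹ = u := by
      intro u hu
      calc (s * r) * u * (s * r)⁻¹ = s * (r * u * r⁻¹) * s⁻¹ := by group
        _ = s * u * s⁻¹ := by rw [hrZ u hu]
        _ = u := conj_eq_of_comm (hsZ u hu)
    have hgD : s * r ∈ Dab G a b := mul_mem hs hrD
    have hg1 : ∀ x ∈ U a, (s * r) * x = x * (s * r) := by
      intro x hx
      set g := s * r with hgd
      set c := x⁻¹ * (g * x * g⁻¹) with hcd
      have hcZ : c ∈ ZU U a := hg x hx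
      have h1 : g * x * g⁻¹ = x * c := by rw [hcd]; group
      have h2 : ∀ n : ℕ, g ^ n * x * (g ^ n)⁻¹ = x * c ^ n := by
        intro n
        induction n with
        | zero => simp
        | succ n ih =>
          have h3 : g * c ^ n * g⁻¹ = c ^ n := hgZ _ (pow_mem hcZ n)
          calc g ^ (n + 1) * x * (g ^ (n + 1))⁻¹ = g * (g ^ n * x * (g ^ n)⁻¹) * g⁻¹ := by
                rw [pow_succ']; group
            _ = (g * x * g⁻¹) * (g * c ^ n * g⁻¹) := by rw [ih]; group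
            _ = x * c * c ^ n := by rw [h1, h3]
            _ = x * c ^ (n + 1) := by rw [pow_succ', mul_assoc]
      have h3 : g ^ Nat.card (Dab G a b) = 1 := by
        have := pow_card_eq_one' (x := (⟨g, hgD⟩ : Dab G a b))
        exact congrArg Subtype.val this
      have h4 := h2 (Nat.card (Dab G a b))
      rw [h3, one_mul, inv_one, mul_one] at h4
      have h5 : c ^ Nat.card (Dab G a b) = 1 := (mul_eq_left.1 h4.symm)
      have h6 : c ^ p ^ k = 1 := by
        have := pow_card_eq_one' (x := (⟨c, (mem_ZU.1 hcZ).1⟩ : U a))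
        rw [C.cardU] at this
        exact congrArg Subtype.val this
      have h7 : ¬ p ∣ Nat.card (Dab G a b) :=
        C.split.not_dvd_Dab C.gen C.ne C.prime C.p_ne_two C.cardU
      have h8 : Nat.Coprime (Nat.card (Dab G a b)) (p ^ k) :=
        ((C.prime.coprime_iff_not_dvd.2 h7).symm).pow_right k
      have h9 : c = 1 := by
        have h10 := orderOf_dvd_of_pow_eq_one h5
        have h11 := orderOf_dvd_of_pow_eq_one h6
        exact orderOf_eq_one_iff.1 (Nat.dvd_one.1 (h8 ▸ Nat.dvd_gcd h10 h11))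
      rw [h9, mul_one] at h1
      exact comm_of_conj h1
    have h1 := eq_one_of_cent C hgD hg1
    have h2 : r = s := by
      have h3 := inv_eq_of_mul_eq_one_right h1
      rw [← h3]
      exact inv_eq_of_mul_eq_one_left hss
    rw [← h2]
    calc r * d = d * s * d⁻¹ * d := by rw [hr]
      _ = d * s := by group
      _ = d * r := by rw [h2]
  refine ⟨hs, hs1, hss, ?_, ?_, ?_, hinv⟩
  · -- central in `W`
    obtain ⟨u, hu, hu1, hsu⟩ := P_ne_bot' C hs hs1 hss
    have h1 : u • b ≠ a := C.split.smul_ne_center C.ne hu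
    have h2 : u • b ≠ b := C.split.smul_ne_of_ne C.ne hu hu1
    have h3 : s • u • b = u • b := by rw [← mul_smul, hsu, mul_smul, show s • b = b from hs.2]
    obtain ⟨m, hm, hms⟩ := C.split.exists_comm_swaps C.ne hs h1 h2 h3
    rintro g (hg | hg)
    · exact hD g hg
    · have h4 : m⁻¹ * g ∈ Dab G a b := (hm.inv).mul hg
      have h5 := hD _ h4
      calc s * g = (s * m) * (m⁻¹ * g) := by group
        _ = m * (s * (m⁻¹ * g)) := by rw [← hms]; group
        _ = m * ((m⁻¹ * g) * s) := by rw [h5]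
        _ = g * s := by group
  · intro u hu
    constructor
    · intro h1
      exact (mem_ZU.1 (hCs u hu h1)).2
    · intro h1
      exact hsZ u (mem_ZU.2 ⟨hu, h1⟩)
  · push Not at hn
    exact hn

include C hV in
/-- **(0)**: `U a` is abelian, or `Z(U a) = C_{U a}(z)` for an involution `z` central in `W`. -/
theorem exists_central {s t : G} (hs : s ∈ Dab G a b) (ht : t ∈ Dab G a b) (hs1 : s ≠ 1)
    (ht1 : t ≠ 1) (hst : s ≠ t) (hss : s * s = 1) (htt : t * t = 1) (hc : s * t = t * s) :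
    (∀ x ∈ U a, ∀ y ∈ U a, x * y = y * x) ∨
      ∃ z e : G, Cen U a b z ∧ e ∈ Dab G a b ∧ e ≠ 1 ∧ e ≠ z ∧ e * e = 1 ∧ z * e = e * z := by
  by_cases hn : ∀ x ∈ U a, ∀ y ∈ U a, x * y = y * x
  · exact Or.inl hn
  right
  have hff : (s * t) * (s * t) = 1 := by
    calc (s * t) * (s * t) = s * (t * s) * t := by group
      _ = (s * s) * (t * t) := by rw [← hc]; group
      _ = 1 := by rw [hss, htt, mul_one]
  have hfD : s * t ∈ Dab G a b := mul_mem hs ht
  have hf1 : s * t ≠ 1 := fun h1 => hst (by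
    have h2 := eq_inv_of_mul_eq_one_left h1
    rw [h2]
    exact inv_eq_of_mul_eq_one_left htt)
  have hfs : s * t ≠ s := fun h1 => ht1 (mul_eq_left.1 h1)
  have hcf : (s * t) * s = s * (s * t) := by rw [mul_assoc, ← hc]
  by_cases h1 : ∃ u ∈ ZU U a, u ≠ 1 ∧ s * u = u * s
  · exact ⟨s, t, cen_of C hV hs ht hs1 ht1 hst hss htt hc hn h1, ht, ht1, hst.symm, htt, hc⟩
  by_cases h2 : ∃ u ∈ ZU U a, u ≠ 1 ∧ t * u = u * t
  · exact ⟨t, s, cen_of C hV ht hs ht1 hs1 hst.symm htt hss hc.symm hn h2, hs, hs1, hst, hss,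
      hc.symm⟩
  push Not at h1 h2
  obtain ⟨u, hu, hu1⟩ := ZU_ne C
  have hfin' := C.split.finite_U a
  have hfin : Finite (ZU U a) := Finite.of_injective (inclusion inf_le_left)
    (inclusion_injective (inf_le_left : ZU U a ≤ U a))
  have h3 : ∀ x ∈ ZU U a, s * x * s⁻¹ = x⁻¹ := fun x hx =>
    PP2.inverts_of_fpf (V := ZU U a) (fun x hx => ZU_conj C.split hs.1 hx) hss
      (fun x hx hsx => by
        by_contra hx1
        exact h1 x hx hx1 hsx) hx
  have h4 : ∀ x ∈ ZU U a, t * x * t⁻¹ = x⁻¹ := fun x hx =>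
    PP2.inverts_of_fpf (V := ZU U a) (fun x hx => ZU_conj C.split ht.1 hx) htt
      (fun x hx hsx => by
        by_contra hx1
        exact h2 x hx hx1 hsx) hx
  have h5 : (s * t) * u = u * (s * t) := by
    apply comm_of_conj
    calc s * t * u * (s * t)⁻¹ = s * (t * u * t⁻¹) * s⁻¹ := by group
      _ = s * u⁻¹ * s⁻¹ := by rw [h4 u hu]
      _ = u := by rw [h3 _ (inv_mem hu), inv_inv]
  exact ⟨s * t, s, cen_of C hV hfD hs hf1 hs1 hfs hff hss hcf hn ⟨u, hu, hu1, h5⟩, hs, hs1,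
    hfs.symm, hss, hcf⟩

end cen

namespace Cen

variable {z : G}

/-- The only `G`-conjugate of `z` in `G_ab` is `z`. -/
theorem unique [Finite Ω] (C : CtxE U a b p k) (Z : Cen U a b z) {g : G}
    (hg : g * z * g⁻¹ ∈ Dab G a b) : g * z * g⁻¹ = z := by
  have hD : ∀ d ∈ Dab G a b, d * z = z * d := fun d hd => (Z.cW d (Dab_le_Wab a b hd)).symm
  -- `z` fixes `g⁻¹ a`, `g⁻¹ b`
  have ha : z • g⁻¹ • a = g⁻¹ • a := by
    have h1 : (g * z * g⁻¹) • a = a := hg.1
    rw [mul_smul, mul_smul] at h1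
    exact (inv_smul_eq_iff.2 h1.symm).symm
  have hb : z • g⁻¹ • b = g⁻¹ • b := by
    have h1 : (g * z * g⁻¹) • b = b := hg.2
    rw [mul_smul, mul_smul] at h1
    exact (inv_smul_eq_iff.2 h1.symm).symm
  obtain ⟨u, hu, hu1, hzu⟩ := P_ne_bot' C Z.zD Z.ne_one Z.sq
  have hz : ∀ e : Ω, z • e = e → ∀ x ∈ zpowers z, x • e = e := by
    intro e he x hx
    exact (zpowers_le.2 (show z ∈ stabilizer G e from he)) hx
  have h1 : u • b ≠ a := C.split.smul_ne_center C.ne hu
  have h2 : u • b ≠ b := C.split.smul_ne_of_ne C.ne hu hu1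
  have h3 : z • u • b = u • b := by rw [← mul_smul, hzu, mul_smul, show z • b = b from Z.zD.2]
  have : Finite (fixSub Ω (zpowers z)) := Subtype.finite
  have h4 : 2 < Nat.card (fixSub Ω (zpowers z)) :=
    SSplit.two_lt_card_of (Δ := fixSub Ω (zpowers z)) (x := ⟨a, hz a Z.zD.1⟩)
      (y := ⟨b, hz b Z.zD.2⟩) (z := ⟨u • b, hz _ h3⟩)
      (fun e => C.ne (congrArg Subtype.val e).symm) (fun e => h1 (congrArg Subtype.val e).symm)
      (fun e => h2 (congrArg Subtype.val e).symm)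
  obtain ⟨c, hc1, hc2⟩ := (C.split.fixed (zpowers z) (SSplit.three_of_card h4)).two
    (a := ⟨a, hz a Z.zD.1⟩) (b := ⟨b, hz b Z.zD.2⟩) (c := ⟨g⁻¹ • a, hz _ ha⟩)
    (d := ⟨g⁻¹ • b, hz _ hb⟩) (fun e => C.ne (congrArg Subtype.val e).symm)
    (fun e => C.ne (MulAction.injective g⁻¹ (congrArg Subtype.val e)).symm)
  have hc1' : (c : G) • a = g⁻¹ • a := congrArg Subtype.val hc1
  have hc2' : (c : G) • b = g⁻¹ • b := congrArg Subtype.val hc2
  have hcz : z * (c : G) = c * z := mem_cent.1 c.2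
  have hgc : g * (c : G) ∈ Dab G a b := by
    refine ⟨?_, ?_⟩
    · change (g * (c : G)) • a = a
      rw [mul_smul, hc1', smul_inv_smul]
    · change (g * (c : G)) • b = b
      rw [mul_smul, hc2', smul_inv_smul]
  have h5 := hD _ hgc
  calc g * z * g⁻¹ = g * (z * c) * (c : G)⁻¹ * g⁻¹ := by group
    _ = g * (c * z) * (c : G)⁻¹ * g⁻¹ := by rw [hcz]
    _ = ((g * c) * z) * (g * c)⁻¹ := by group
    _ = z := by rw [h5]; group

/-- `z` is the only involution of the pointwise stabiliser of `Fix z`. -/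
theorem ker_invol [Finite Ω] (C : CtxE U a b p k) (hV : NoFourFix U a b) (Z : Cen U a b z)
    {x : G} (hx : x ∈ kerFix Ω (zpowers z)) (hxx : x * x = 1) (hx1 : x ≠ 1) : x = z := by
  by_contra hxz
  have hz : ∀ e : Ω, z • e = e → ∀ x ∈ zpowers z, x • e = e := by
    intro e he x hx
    exact (zpowers_le.2 (show z ∈ stabilizer G e from he)) hx
  have hxD : x ∈ Dab G a b := ⟨hx a (hz a Z.zD.1), hx b (hz b Z.zD.2)⟩
  obtain ⟨u, hu, hu1, hzu⟩ := P_ne_bot' C Z.zD Z.ne_one Z.sq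
  have h1 : x * u = u * x := C.split.comm_of_fix (X := zpowers z) (hz a Z.zD.1) (hz b Z.zD.2) C.ne
    hx hu (mem_cent.2 hzu)
  exact hu1 (hV z Z.zD x hxD Z.ne_one hx1 (Ne.symm hxz) Z.sq hxx
    (Z.cW x (Dab_le_Wab a b hxD)) u hu hzu h1)

/-- Every other involution of `G_ab` inverts `Z(U a) = C_{U a}(z)`. -/
theorem inverts [Finite Ω] (C : CtxE U a b p k) (hV : NoFourFix U a b) (Z : Cen U a b z)
    {x : G} (hx : x ∈ Dab G a b) (hxx : x * x = 1) (hx1 : x ≠ 1) (hxz : x ≠ z) {u : G}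
    (hu : u ∈ U a) (hzu : z * u = u * z) : x * u * x⁻¹ = u⁻¹ :=
  FourZero.inverts C hV Z.zD hx Z.ne_one hx1 (Ne.symm hxz) Z.sq hxx
    (Z.cW x (Dab_le_Wab a b hx)) hu hzu

end Cen

end Cfsg.Agent.HKS.FourZero
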