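import Mathlib

/-!
# Semilinear involutions

`V` is a finite abelian group of odd order with a commutative irreducible group `A` of automorphisms,
normalised by the involution `s`. Then `s = 1`, `s = -1`, or the fixed points of `s` form a group of
order `r` with `r ^ 2 = |V|`, and `s a s⁻¹ = a ^ r` for all `a ∈ A`.
-/

set_option autoImplicit false

namespace Cfsg.Agent.HKS.Rig

section Field

variable {R : Type*} [Field R] [Finite R]

theorem two_ne_zero_of_odd (hodd : Odd (Nat.card R)) : (2 : R) ≠ 0 := by
  intro h2
  have := Fintype.ofFinite R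
  rw [Nat.card_eq_fintype_card] at hodd
  obtain ⟨k, hk⟩ := hodd
  have h1 : (Fintype.card R : R) = 0 := Nat.cast_card_eq_zero R
  rw [hk] at h1
  push_cast at h1
  rw [h2, zero_mul, zero_add] at h1
  exact one_ne_zero h1

/-- An involutory automorphism of a finite field of odd order. -/
theorem frob_of_invol (c : R →+* R) (hc : ∀ x, c (c x) = x) {x0 : R} (hx0 : c x0 ≠ x0)
    (hodd : Odd (Nat.card R)) :
    Nat.card {x : R // c x = x} ^ 2 = Nat.card R ∧
      ∀ x, c x = x ^ Nat.card {x : R // c x = x} := by
  classical
  have h2 := two_ne_zero_of_odd hodd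
  set K : Subfield R := RingHom.eqLocusField c (RingHom.id R) with hK
  have hKm : ∀ x, x ∈ K ↔ c x = x := fun x => Iff.rfl
  have hcard : Nat.card {x : R // c x = x} = Nat.card K := rfl
  rw [hcard]
  set l : R := x0 - c x0 with hl
  have hl0 : l ≠ 0 := sub_ne_zero.2 (Ne.symm hx0)
  have hcl : c l = -l := by rw [hl, map_sub, hc]; ring
  have hbij : Function.Bijective (fun p : K × K => (p.1 : R) + l * (p.2 : R)) := by
    constructor
    · rintro ⟨⟨a, ha⟩, ⟨b, hb⟩⟩ ⟨⟨a', ha'⟩, ⟨b', hb'⟩⟩ h
      rw [hKm] at ha hb ha' hb'
      have h1 : a + l * b = a' + l * b' := h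
      have h3 := congrArg c h1
      rw [map_add, map_add, map_mul, map_mul, ha, hb, ha', hb', hcl] at h3
      have h4 : (2 : R) * a = 2 * a' := by linear_combination h1 + h3
      have h5 : a = a' := mul_left_cancel₀ h2 h4
      have h6 : l * b = l * b' := by
        rw [h5] at h1
        exact add_left_cancel h1
      have h7 : b = b' := mul_left_cancel₀ hl0 h6
      subst h5 h7
      rfl
    · intro x
      refine ⟨⟨⟨(x + c x) / 2, ?_⟩, ⟨(x - c x) / (2 * l), ?_⟩⟩, ?_⟩
      · rw [hKm, map_div₀, map_add, hc, map_ofNat, add_comm]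
      · rw [hKm, map_div₀, map_sub, hc, map_mul, map_ofNat, hcl, div_eq_div_iff
          (mul_ne_zero h2 (neg_ne_zero.2 hl0)) (mul_ne_zero h2 hl0)]
        ring
      · change (x + c x) / 2 + l * ((x - c x) / (2 * l)) = x
        field_simp
        ring
  have hsq : Nat.card K ^ 2 = Nat.card R := by
    rw [← Nat.card_congr (Equiv.ofBijective _ hbij), Nat.card_prod, sq]
  refine ⟨hsq, ?_⟩
  have := Fintype.ofFinite R
  have := Fintype.ofFinite K
  obtain ⟨p, hp⟩ := CharP.exists R
  have hpp : Fact p.Prime := ⟨CharP.char_is_prime R p⟩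
  have hpK : CharP K p := K.charP p
  obtain ⟨n, -, hn⟩ := FiniteField.card K p
  rw [Nat.card_eq_fintype_card] at hsq ⊢
  have hpow : ∀ a ∈ K, a ^ Fintype.card K = a := by
    intro a ha
    have := FiniteField.pow_card (⟨a, ha⟩ : K)
    exact congrArg Subtype.val this
  have hlt : 1 < Fintype.card K := Fintype.one_lt_card
  intro x
  by_cases hx : c x = x
  · rw [hx]
    exact (hpow x ((hKm x).2 hx)).symm
  have h3 : x ^ Fintype.card K ≠ x := by
    intro h3
    have h4 := FiniteField.X_pow_card_sub_X_ne_zero R hlt
    have h5 : (insert x (Finset.univ.image (Subtype.val : K → R))) ⊆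
        ((Polynomial.X : Polynomial R) ^ Fintype.card K - Polynomial.X).roots.toFinset := by
      intro y hy
      rw [Multiset.mem_toFinset, Polynomial.mem_roots h4, Polynomial.IsRoot.def,
        Polynomial.eval_sub, Polynomial.eval_pow, Polynomial.eval_X, sub_eq_zero]
      rcases Finset.mem_insert.1 hy with hy | hy
      · rw [hy, h3]
      · obtain ⟨y', -, rfl⟩ := Finset.mem_image.1 hy
        exact hpow _ y'.2
    have h6 := Finset.card_le_card h5
    rw [Finset.card_insert_of_notMem, Finset.card_image_of_injective _ Subtype.val_injective,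
      Finset.card_univ] at h6
    · have h7 := (Multiset.toFinset_card_le
        ((Polynomial.X : Polynomial R) ^ Fintype.card K - Polynomial.X).roots).trans
        (Polynomial.card_roots' _)
      rw [FiniteField.X_pow_card_sub_X_natDegree_eq R hlt] at h7
      omega
    · intro hy
      obtain ⟨y', -, hy'⟩ := Finset.mem_image.1 hy
      exact hx ((hKm x).1 (hy' ▸ y'.2))
  have hb : (x + c x) ^ Fintype.card K = x + c x :=
    hpow _ ((hKm _).2 (by rw [map_add, hc, add_comm]))
  have hd : (x * c x) ^ Fintype.card K = x * c x :=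
    hpow _ ((hKm _).2 (by rw [map_mul, hc, mul_comm]))
  have h8 : (x ^ Fintype.card K - x) * (x ^ Fintype.card K - c x) = 0 := by
    have h9 : x ^ 2 - (x + c x) * x + x * c x = 0 := by ring
    have h10 := congrArg (fun y => y ^ Fintype.card K) h9
    rw [zero_pow (by omega), hn, add_pow_char_pow, sub_pow_char_pow, ← hn, mul_pow, hb, hd,
      ← pow_mul, mul_comm 2, pow_mul] at h10
    linear_combination h10
  rcases mul_eq_zero.1 h8 with h9 | h9
  · exact absurd (sub_eq_zero.1 h9) h3
  · exact (sub_eq_zero.1 h9).symm

end Field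

section Module

variable {V : Type*} [AddCommGroup V]

theorem finite_End [Finite V] : Finite (AddMonoid.End V) :=
  Finite.of_injective (fun f : AddMonoid.End V => (f : V → V)) DFunLike.coe_injective

theorem comm_closure {A : Set (AddMonoid.End V)} (hA : ∀ a ∈ A, ∀ b ∈ A, a * b = b * a)
    {x : AddMonoid.End V} (hx : x ∈ Subring.closure A) {y : AddMonoid.End V}
    (hy : y ∈ Subring.closure A) : x * y = y * x := by
  have := Subring.isMulCommutative_closure hA
  exact congrArg Subtype.val (mul_comm' (⟨x, hx⟩ : Subring.closure A) ⟨y, hy⟩)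

/-- Schur's lemma: a nonzero element of the ring is injective. -/
theorem inj_of_ne_zero {A : Set (AddMonoid.End V)} (hA : ∀ a ∈ A, ∀ b ∈ A, a * b = b * a)
    (hirr : ∀ W : AddSubgroup V, (∀ a ∈ A, ∀ w ∈ W, a w ∈ W) → W = ⊥ ∨ W = ⊤)
    {x : AddMonoid.End V} (hx : x ∈ Subring.closure A) (hx0 : x ≠ 0) {v : V} (hv : x v = 0) :
    v = 0 := by
  let W : AddSubgroup V :=
    { carrier := {w | x w = 0}
      add_mem' := by
        intro a b ha hb
        change x (a + b) = 0
        rw [map_add]
        change x a = 0 at ha
        change x b = 0 at hb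
        rw [ha, hb, add_zero]
      zero_mem' := map_zero x
      neg_mem' := by
        intro a ha
        change x (-a) = 0
        change x a = 0 at ha
        rw [map_neg, ha, neg_zero] }
  rcases hirr W (by
    intro a ha w hw
    have h1 := comm_closure hA hx (Subring.subset_closure ha)
    have h2 : x (a w) = a (x w) := DFunLike.congr_fun h1 w
    have h3 : x w = 0 := hw
    change x (a w) = 0
    rw [h2, h3, map_zero]) with h | h
  · have : v ∈ W := hv
    rw [h] at this
    exact AddSubgroup.mem_bot.1 this
  · exfalso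
    apply hx0
    ext w
    have : w ∈ W := by rw [h]; exact AddSubgroup.mem_top w
    exact this

theorem span_eq_top {A : Set (AddMonoid.End V)}
    (hirr : ∀ W : AddSubgroup V, (∀ a ∈ A, ∀ w ∈ W, a w ∈ W) → W = ⊥ ∨ W = ⊤)
    {v : V} (hv : v ≠ 0) (w : V) : ∃ x ∈ Subring.closure A, x v = w := by
  let W : AddSubgroup V :=
    { carrier := {w | ∃ x ∈ Subring.closure A, x v = w}
      add_mem' := by
        rintro _ _ ⟨x, hx, rfl⟩ ⟨y, hy, rfl⟩
        exact ⟨x + y, add_mem hx hy, rfl⟩
      zero_mem' := ⟨0, zero_mem _, rfl⟩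
      neg_mem' := by
        rintro _ ⟨x, hx, rfl⟩
        exact ⟨-x, neg_mem hx, rfl⟩ }
  rcases hirr W (by
    rintro a ha _ ⟨x, hx, rfl⟩
    exact ⟨a * x, mul_mem (Subring.subset_closure ha) hx, rfl⟩) with h | h
  · exfalso
    apply hv
    have : v ∈ W := ⟨1, one_mem _, rfl⟩
    rw [h] at this
    exact AddSubgroup.mem_bot.1 this
  · have : w ∈ W := by rw [h]; exact AddSubgroup.mem_top w
    exact this

/-- **Semilinear involutions**, additive form. -/
theorem semilinear_add [Finite V] (hodd : Odd (Nat.card V)) (A : Set (AddMonoid.End V))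
    (hA : ∀ a ∈ A, ∀ b ∈ A, a * b = b * a)
    (hirr : ∀ W : AddSubgroup V, (∀ a ∈ A, ∀ w ∈ W, a w ∈ W) → W = ⊥ ∨ W = ⊤)
    (s : AddMonoid.End V) (hs : s * s = 1) (hsA : ∀ a ∈ A, s * a * s ∈ A) :
    (∀ v, s v = v) ∨ (∀ v, s v = -v) ∨ (Nat.card {v : V // s v = v} ^ 2 = Nat.card V ∧
      ∀ a ∈ A, s * a * s = a ^ Nat.card {v : V // s v = v}) := by
  classical
  have hss : ∀ v, s (s v) = v := fun v => DFunLike.congr_fun hs v
  by_cases hneg : ∀ v, s v = v → v = 0
  · right; left
    intro v
    have := hneg (v + s v) (by rw [map_add, hss, add_comm])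
    rw [add_comm] at this
    exact eq_neg_of_add_eq_zero_left this
  push Not at hneg
  obtain ⟨v0, hv0, hv1⟩ := hneg
  have hfin : Finite (AddMonoid.End V) := finite_End
  have hmc := Subring.isMulCommutative_closure hA
  let _ : CommRing (Subring.closure A) :=
    { (inferInstance : Ring (Subring.closure A)) with
      mul_comm := fun x y => mul_comm' x y }
  have hval : ∀ x : Subring.closure A, x ≠ 0 → ∀ v, (x : AddMonoid.End V) v = 0 → v = 0 := by
    intro x hx v hv
    exact inj_of_ne_zero hA hirr x.2 (fun e => hx (Subtype.ext e)) hv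
  have hdom : IsDomain (Subring.closure A) := by
    have : NoZeroDivisors (Subring.closure A) := by
      constructor
      intro x y hxy
      by_contra hc
      push Not at hc
      apply hv1
      apply hval y hc.2
      apply hval x hc.1
      exact DFunLike.congr_fun (congrArg Subtype.val hxy) v0
    have : Nontrivial (Subring.closure A) := ⟨0, 1, fun e => hv1
      (DFunLike.congr_fun (congrArg Subtype.val e) v0).symm⟩
    exact NoZeroDivisors.to_isDomain _
  have := Fintype.ofFinite (Subring.closure A)
  let _ : Field (Subring.closure A) := Fintype.fieldOfDomain (Subring.closure A)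
  -- the evaluation map
  have hev : Function.Bijective (fun x : Subring.closure A => (x : AddMonoid.End V) v0) := by
    constructor
    · intro x y hxy
      by_contra hc
      apply hv1
      apply hval (x - y) (sub_ne_zero.2 hc)
      have : (x : AddMonoid.End V) v0 = (y : AddMonoid.End V) v0 := hxy
      change (x : AddMonoid.End V) v0 - (y : AddMonoid.End V) v0 = 0
      rw [this, sub_self]
    · intro w
      obtain ⟨x, hx, hxw⟩ := span_eq_top hirr hv1 w
      exact ⟨⟨x, hx⟩, hxw⟩
  have hcardR : Nat.card (Subring.closure A) = Nat.card V :=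
    Nat.card_congr (Equiv.ofBijective _ hev)
  -- conjugation by `s`
  let C : AddMonoid.End V →+* AddMonoid.End V :=
    { toFun := fun x => s * x * s
      map_one' := by rw [mul_one, hs]
      map_mul' := fun x y => by
        calc s * (x * y) * s = s * x * 1 * y * s := by rw [mul_one]; simp only [mul_assoc]
          _ = s * x * (s * s) * y * s := by rw [hs]
          _ = _ := by simp only [mul_assoc]
      map_zero' := by rw [mul_zero, zero_mul]
      map_add' := fun x y => by rw [mul_add, add_mul] }
  have hCA : ∀ x ∈ Subring.closure A, C x ∈ Subring.closure A := by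
    have h1 : (Subring.closure A).map C ≤ Subring.closure A := by
      rw [RingHom.map_closure]
      apply Subring.closure_mono
      rintro _ ⟨a, ha, rfl⟩
      exact hsA a ha
    intro x hx
    exact h1 ⟨x, hx, rfl⟩
  let c : Subring.closure A →+* Subring.closure A :=
    { toFun := fun x => ⟨C x, hCA x x.2⟩
      map_one' := Subtype.ext (map_one C)
      map_mul' := fun x y => Subtype.ext (map_mul C (x : AddMonoid.End V) y)
      map_zero' := Subtype.ext (map_zero C)
      map_add' := fun x y => Subtype.ext (map_add C (x : AddMonoid.End V) y) }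
  have hcc : ∀ x, c (c x) = x := by
    intro x
    apply Subtype.ext
    change s * (s * (x : AddMonoid.End V) * s) * s = x
    calc s * (s * (x : AddMonoid.End V) * s) * s
        = (s * s) * x * (s * s) := by simp only [mul_assoc]
      _ = x := by rw [hs, one_mul, mul_one]
  -- `V⁺ = R⁺ v0`
  have hev2 : ∀ x : Subring.closure A, c x = x ↔
      s ((x : AddMonoid.End V) v0) = (x : AddMonoid.End V) v0 := by
    intro x
    constructor
    · intro h
      have h1 := DFunLike.congr_fun (congrArg Subtype.val h) v0
      have h2 : s ((x : AddMonoid.End V) (s v0)) = (x : AddMonoid.End V) v0 := h1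
      rwa [hv0] at h2
    · intro h
      apply hev.1
      change s ((x : AddMonoid.End V) (s v0)) = (x : AddMonoid.End V) v0
      rw [hv0, h]
  have hcardP : Nat.card {x : Subring.closure A // c x = x} = Nat.card {v : V // s v = v} := by
    apply Nat.card_congr
    exact (Equiv.ofBijective _ hev).subtypeEquiv fun x => hev2 x
  by_cases hid : ∀ x : Subring.closure A, c x = x
  · left
    intro v
    obtain ⟨x, rfl⟩ := hev.2 v
    exact (hev2 x).1 (hid x)
  · right; right
    push Not at hid
    obtain ⟨x0, hx0⟩ := hid
    have h1 := frob_of_invol c hcc hx0 (by rw [hcardR]; exact hodd)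
    rw [hcardP, hcardR] at h1
    refine ⟨h1.1, fun a ha => ?_⟩
    exact congrArg Subtype.val (h1.2 ⟨a, Subring.subset_closure ha⟩)

end Module

section Mul

variable {V : Type*} [Group V] [Finite V]

/-- **Semilinear involutions.** -/
theorem semilinear (hV : ∀ x y : V, x * y = y * x) (hodd : Odd (Nat.card V))
    (A : Subgroup (MulAut V)) (hA : ∀ a ∈ A, ∀ b ∈ A, a * b = b * a)
    (hirr : ∀ W : Subgroup V, (∀ a ∈ A, ∀ w ∈ W, a w ∈ W) → W = ⊥ ∨ W = ⊤)
    (s : MulAut V) (hs : s * s = 1) (hsA : ∀ a ∈ A, s * a * s⁻¹ ∈ A) :
    (∀ v, s v = v) ∨ (∀ v, s v = v⁻¹) ∨ (Nat.card {v : V // s v = v} ^ 2 = Nat.card V ∧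
      ∀ a ∈ A, s * a * s⁻¹ = a ^ Nat.card {v : V // s v = v}) := by
  let _ : CommGroup V := { (inferInstance : Group V) with mul_comm := hV }
  have hsinv : s⁻¹ = s := inv_eq_of_mul_eq_one_left hs
  let F : MulAut V →* AddMonoid.End (Additive V) :=
    { toFun := fun a => MonoidHom.toAdditive a.toMonoidHom
      map_one' := rfl
      map_mul' := fun _ _ => rfl }
  have hF : ∀ (a : MulAut V) (v : V), F a (Additive.ofMul v) = Additive.ofMul (a v) :=
    fun _ _ => rfl
  have hinj : ∀ a b : MulAut V, F a = F b → a = b := by
    intro a b h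
    ext v
    exact congrArg Additive.toMul (DFunLike.congr_fun h (Additive.ofMul v))
  have hfinA : Finite (Additive V) := inferInstanceAs (Finite V)
  rcases semilinear_add (V := Additive V) hodd (F '' (A : Set (MulAut V))) (by
      rintro _ ⟨a, ha, rfl⟩ _ ⟨b, hb, rfl⟩
      rw [← map_mul, hA a ha b hb, map_mul]) (by
      intro W hW
      let W' : Subgroup V :=
        { carrier := {v | Additive.ofMul v ∈ W}
          mul_mem' := fun {a b} ha hb => W.add_mem ha hb
          one_mem' := W.zero_mem
          inv_mem' := fun {a} ha => W.neg_mem ha }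
      rcases hirr W' (fun a ha w hw => hW _ ⟨a, ha, rfl⟩ _ hw) with h | h
      · left
        ext v
        constructor
        · intro hv
          have h1 : Additive.toMul v ∈ W' := hv
          rw [h] at h1
          have h2 : Additive.toMul v = 1 := Subgroup.mem_bot.1 h1
          exact AddSubgroup.mem_bot.2 h2
        · intro hv
          rw [AddSubgroup.mem_bot.1 hv]
          exact W.zero_mem
      · right
        ext v
        constructor
        · intro _
          exact AddSubgroup.mem_top v
        · intro _
          have h1 : Additive.toMul v ∈ W' := by rw [h]; exact Subgroup.mem_top _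
          exact h1) (F s) (by rw [← map_mul, hs, map_one]) (by
      rintro _ ⟨a, ha, rfl⟩
      refine ⟨s * a * s⁻¹, hsA a ha, ?_⟩
      rw [hsinv, map_mul, map_mul]) with h | h | h
  · left
    intro v
    exact congrArg Additive.toMul (h (Additive.ofMul v))
  · right; left
    intro v
    exact congrArg Additive.toMul (h (Additive.ofMul v))
  · right; right
    have hcard : Nat.card {v : Additive V // F s v = v} = Nat.card {v : V // s v = v} :=
      Nat.card_congr (Additive.toMul.subtypeEquiv fun v => by
        rw [← Additive.toMul.injective.eq_iff]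
        rfl)
    rw [hcard] at h
    refine ⟨h.1, fun a ha => ?_⟩
    apply hinj
    rw [map_pow, ← h.2 _ ⟨a, ha, rfl⟩, hsinv, map_mul, map_mul]

end Mul

end Cfsg.Agent.HKS.Rig
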