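import Mathlib
import Cfsg.Agent.HKS.RigField

/-!
# Involutory automorphisms of the unipotent groups

Abstract forms of the RIG facts for the types `DL` and `DU`.
-/

set_option autoImplicit false

namespace Cfsg.Agent.HKS.Rig

open Subgroup

section Abs

variable {P : Type*} [Group P]

/-- irreducibility by counting -/
theorem irr_of_card [Finite P] {A : Subgroup (MulAut P)} (hodd : Odd (Nat.card P))
    (hfree : ∀ a ∈ A, ∀ u : P, a u = u → a = 1 ∨ u = 1)
    (hcard : Nat.card P < 3 * (Nat.card A + 1)) (W : Subgroup P)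
    (hW : ∀ a ∈ A, ∀ w ∈ W, a w ∈ W) : W = ⊥ ∨ W = ⊤ := by
  by_cases hbot : W = ⊥
  · exact Or.inl hbot
  right
  obtain ⟨w, hw, hw1⟩ := (bot_or_exists_ne_one W).resolve_left hbot
  have hinj : Function.Injective (fun o : Option A => match o with
      | none => (1 : W)
      | some a => ⟨(a : MulAut P) w, hW a a.2 w hw⟩) := by
    intro x y hxy
    rcases x with _ | x <;> rcases y with _ | y
    · rfl
    · exfalso
      have h1 : (1 : P) = (y : MulAut P) w := congrArg Subtype.val hxy
      apply hw1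
      apply (y : MulAut P).injective
      rw [← h1, map_one]
    · exfalso
      have h1 : (x : MulAut P) w = (1 : P) := congrArg Subtype.val hxy
      apply hw1
      apply (x : MulAut P).injective
      rw [h1, map_one]
    · have h1 : (x : MulAut P) w = (y : MulAut P) w := congrArg Subtype.val hxy
      have h2 : ((y : MulAut P)⁻¹ * x) w = w := by
        rw [MulAut.mul_apply, h1, MulAut.inv_apply_self]
      rcases hfree _ (A.mul_mem (A.inv_mem y.2) x.2) w h2 with h3 | h3
      · rw [inv_mul_eq_one] at h3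
        rw [Subtype.ext h3.symm]
      · exact absurd h3 hw1
  have h1 := Nat.card_le_card_of_injective _ hinj
  rw [Finite.card_option] at h1
  have h2 := W.card_mul_index
  have h3 : W.index < 3 := by
    by_contra hc
    push Not at hc
    have : Nat.card W * 3 ≤ Nat.card W * W.index := Nat.mul_le_mul_left _ hc
    omega
  have h4 : Odd W.index := Odd.of_dvd_nat hodd W.index_dvd_card
  have h5 : W.index = 1 := by
    obtain ⟨k, hk⟩ := h4
    omega
  exact index_eq_one.1 h5

/-- abstract form of the RIG facts for `DL` -/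
theorem rigL [Finite P] {q : ℕ} (hq : Odd q) (hq3 : 3 < q) (hP : Nat.card P = q)
    (hcomm : ∀ x y : P, x * y = y * x) (A : Subgroup (MulAut P))
    (hA : ∀ a ∈ A, ∀ b ∈ A, a * b = b * a) (hcard : 2 * Nat.card A = q - 1)
    (hfree : ∀ a ∈ A, ∀ u : P, a u = u → a = 1 ∨ u = 1)
    (s : MulAut P) (hs : s * s = 1) (hsA : ∀ a ∈ A, s * a * s⁻¹ ∈ A) :
    (∀ v, s v = v) ∨ (∀ v, s v = v⁻¹) ∨ (Nat.card {v : P // s v = v} ^ 2 = q ∧
      ∀ a ∈ A, s * a * s⁻¹ = a ^ Nat.card {v : P // s v = v}) := by
  have h1 := semilinear hcomm (by rw [hP]; exact hq) A hA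
    (fun W hW => irr_of_card (by rw [hP]; exact hq) hfree (by omega) W hW) s hs hsA
  rw [hP] at h1
  exact h1

/-! ### Automorphisms modulo the centre -/

/-- the automorphism induced on the group modulo its centre -/
def bar : MulAut P →* MulAut (P ⧸ center P) where
  toFun a := QuotientGroup.congr (center P) (center P) a
    (characteristic_iff_map_eq.1 inferInstance a)
  map_one' := by
    ext v
    induction v using QuotientGroup.induction_on with
    | H v => rfl
  map_mul' := by
    intro a b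
    ext v
    induction v using QuotientGroup.induction_on with
    | H v => rfl

theorem bar_mk (a : MulAut P) (u : P) : bar a (u : P ⧸ center P) = ((a u : P) : P ⧸ center P) := rfl

/-- coprime action on the group modulo its centre -/
theorem exists_fix {φ : MulAut P} {m : ℕ} (hφ : φ ^ m = 1)
    (hm : Nat.Coprime m (Nat.card (center P))) {u : P} (hu : u⁻¹ * φ u ∈ center P) :
    ∃ z ∈ center P, φ (u * z) = u * z := by
  have hchar : ∀ z ∈ center P, φ z ∈ center P := by
    intro z hz
    have h1 : (center P).map φ.toMonoidHom = center P :=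
      characteristic_iff_map_eq.1 inferInstance φ
    rw [← h1]
    exact ⟨z, hz, rfl⟩
  -- `c i = u⁻¹ φ^i u`
  have hc : ∀ i : ℕ, u⁻¹ * (φ ^ i) u ∈ center P := by
    intro i
    induction i with
    | zero => rw [pow_zero, MulAut.one_apply, inv_mul_cancel]; exact one_mem _
    | succ i ih =>
      have h1 : u⁻¹ * (φ ^ (i + 1)) u = (u⁻¹ * φ u) * φ (u⁻¹ * (φ ^ i) u) := by
        rw [pow_succ', MulAut.mul_apply, map_mul, map_inv]
        group
      rw [h1]
      exact mul_mem hu (hchar _ ih)
  let _ : CommGroup (center P) :=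
    { (inferInstance : Group (center P)) with
      mul_comm := fun a b => Subtype.ext (mem_center_iff.1 b.2 a) }
  let c : ℕ → center P := fun i => ⟨u⁻¹ * (φ ^ i) u, hc i⟩
  let f : center P →* center P :=
    { toFun := fun z => ⟨φ z, hchar z z.2⟩
      map_one' := Subtype.ext (map_one φ)
      map_mul' := fun x y => Subtype.ext (map_mul φ _ _) }
  have hf : ∀ i, f (c i) = (c 1)⁻¹ * c (i + 1) := by
    intro i
    apply Subtype.ext
    change φ (u⁻¹ * (φ ^ i) u) = (u⁻¹ * (φ ^ 1) u)⁻¹ * (u⁻¹ * (φ ^ (i + 1)) u)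
    rw [pow_one, pow_succ', MulAut.mul_apply, map_mul, map_inv]
    group
  have hc0 : c 0 = 1 := Subtype.ext (by
    change u⁻¹ * (φ ^ 0) u = 1
    rw [pow_zero, MulAut.one_apply, inv_mul_cancel])
  have hcm : c m = 1 := Subtype.ext (by
    change u⁻¹ * (φ ^ m) u = 1
    rw [hφ, MulAut.one_apply, inv_mul_cancel])
  have hy : f (∏ i ∈ Finset.range m, c i) = (c 1)⁻¹ ^ m * ∏ i ∈ Finset.range m, c i := by
    rw [map_prod]
    simp only [hf]
    rw [Finset.prod_mul_distrib, Finset.prod_const, Finset.card_range]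
    congr 1
    have h1 := Finset.prod_range_succ c m
    have h2 := Finset.prod_range_succ' c m
    rw [h1, hcm, hc0, mul_one, mul_one] at h2
    exact h2.symm
  set y := ∏ i ∈ Finset.range m, c i with hydef
  -- `m k = 1 mod |Z|`
  have hbij := (Nat.Coprime.pow_left_bijective (G := center P) hm.symm)
  obtain ⟨y', hy'⟩ := hbij.2 y
  simp only at hy'
  have h3 : f y' = (c 1)⁻¹ * y' := by
    apply hbij.1
    simp only
    rw [← map_pow, hy', hy, mul_pow, hy']
  refine ⟨y', y'.2, ?_⟩
  have h4 : φ (y' : P) = (u⁻¹ * φ u)⁻¹ * y' := by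
    have := congrArg Subtype.val h3
    change φ (y' : P) = (u⁻¹ * (φ ^ 1) u)⁻¹ * y' at this
    rwa [pow_one] at this
  have h5 : (u⁻¹ * φ u)⁻¹ * (y' : P) = y' * (u⁻¹ * φ u)⁻¹ :=
    (mem_center_iff.1 y'.2 _)
  rw [map_mul, h4, h5]
  have h6 : φ u * (↑y' * (u⁻¹ * φ u)⁻¹) = (y' : P) * u := by
    have h7 : φ u * (y' : P) = y' * φ u := mem_center_iff.1 y'.2 _
    rw [← mul_assoc, h7, mul_inv_rev, inv_inv, mul_assoc, mul_inv_cancel_left]
  rw [h6]
  exact (mem_center_iff.1 y'.2 u).symm

/-- Data of type `DU`, as groups of automorphisms of the unipotent group. -/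
structure AbsU (P : Type*) [Group P] (A : Subgroup (MulAut P)) (q : ℕ) : Prop where
  pow : IsPrimePow q
  odd : Odd q
  card : Nat.card P = q ^ 3
  cardZ : Nat.card (center P) = q
  comm : ∀ a ∈ A, ∀ b ∈ A, a * b = b * a
  cardA : Nat.gcd 3 (q + 1) * Nat.card A = q ^ 2 - 1
  free : ∀ a ∈ A, ∀ u : P, a u = u → a = 1 ∨ u ∈ center P
  transZ : ∀ u ∈ center P, ∀ u' ∈ center P, u ≠ 1 → u' ≠ 1 → ∃ a ∈ A, a u = u'

namespace AbsU

variable [Finite P] {A : Subgroup (MulAut P)} {q : ℕ}

omit [Finite P] in
theorem one_lt (h : AbsU P A q) : 2 < q := by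
  have h1 := h.pow.two_le
  obtain ⟨k, hk⟩ := h.odd
  omega

omit [Finite P] in
theorem two_le_sq (h : AbsU P A q) : 9 ≤ q ^ 2 := by
  have h1 := h.one_lt
  nlinarith

omit [Finite P] in
theorem odd_card (h : AbsU P A q) : Odd (Nat.card P) := by
  rw [h.card]
  exact h.odd.pow

theorem card_quot (h : AbsU P A q) : Nat.card (P ⧸ center P) = q ^ 2 := by
  have h1 := (center P).card_mul_index
  rw [h.cardZ, h.card] at h1
  have h2 : q * (center P).index = q * q ^ 2 := by rw [h1]; ring
  exact Nat.eq_of_mul_eq_mul_left (by have := h.one_lt; omega) h2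

omit [Finite P] in
theorem char {a : MulAut P} {z : P} (hz : z ∈ center P) : a z ∈ center P := by
  have h1 : (center P).map a.toMonoidHom = center P :=
    characteristic_iff_map_eq.1 inferInstance a
  rw [← h1]
  exact ⟨z, hz, rfl⟩

omit [Finite P] in
theorem cop (h : AbsU P A q) : Nat.Coprime (Nat.card A) (Nat.card (center P)) := by
  rw [h.cardZ]
  have h1 : Nat.card A ∣ q ^ 2 - 1 := ⟨_, by rw [← h.cardA, mul_comm]⟩
  apply Nat.Coprime.coprime_dvd_left h1
  have h2 := h.two_le_sq
  have h3 : Nat.Coprime (q ^ 2 - 1) (q ^ 2) := by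
    have := Nat.coprime_self_sub_right (m := 1) (n := q ^ 2) (by omega)
    rw [Nat.coprime_comm]
    exact this.2 (Nat.coprime_one_right _)
  exact Nat.Coprime.coprime_dvd_right (dvd_pow_self q two_ne_zero) h3

omit [Finite P] in
theorem free_bar (h : AbsU P A q) {a : MulAut P} (ha : a ∈ A) {v : P ⧸ center P}
    (hv : bar a v = v) : a = 1 ∨ v = 1 := by
  induction v using QuotientGroup.induction_on with
  | H u =>
    rw [bar_mk, eq_comm, QuotientGroup.eq] at hv
    have h1 : a ^ Nat.card A = 1 := by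
      have : (⟨a, ha⟩ : A) ^ Nat.card A = 1 := pow_card_eq_one'
      exact congrArg Subtype.val this
    obtain ⟨z, hz, hz'⟩ := exists_fix h1 h.cop hv
    rcases h.free a ha _ hz' with h2 | h2
    · exact Or.inl h2
    · right
      rw [QuotientGroup.eq_one_iff]
      have h3 : u = u * z * z⁻¹ := by group
      rw [h3]
      exact mul_mem h2 (inv_mem hz)

theorem exists_quot_ne (h : AbsU P A q) : ∃ v : P ⧸ center P, v ≠ 1 := by
  have h1 : 1 < Nat.card (P ⧸ center P) := by
    rw [h.card_quot]
    have := h.two_le_sq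
    omega
  have := Finite.one_lt_card_iff_nontrivial.1 h1
  exact _root_.exists_ne 1

theorem bar_inj (h : AbsU P A q) {a : MulAut P} (ha : a ∈ A) {b : MulAut P} (hb : b ∈ A)
    (hab : bar a = bar b) : a = b := by
  obtain ⟨v, hv⟩ := h.exists_quot_ne
  have h1 : bar (b⁻¹ * a) v = v := by
    rw [map_mul, map_inv, hab, inv_mul_cancel, MulAut.one_apply]
  rcases h.free_bar (A.mul_mem (A.inv_mem hb) ha) h1 with h2 | h2
  · exact (inv_mul_eq_one.1 h2).symm
  · exact absurd h2 hv

theorem card_bar (h : AbsU P A q) : Nat.card (A.map bar) = Nat.card A := by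
  symm
  apply Nat.card_congr
  refine Equiv.ofBijective (fun a : A => (⟨bar a, a, a.2, rfl⟩ : A.map bar)) ⟨?_, ?_⟩
  · intro a b hab
    exact Subtype.ext (h.bar_inj a.2 b.2 (congrArg Subtype.val hab))
  · rintro ⟨_, a, ha, rfl⟩
    exact ⟨⟨a, ha⟩, rfl⟩

theorem irr (h : AbsU P A q) (W : Subgroup (P ⧸ center P))
    (hW : ∀ a ∈ A, ∀ w ∈ W, bar a w ∈ W) : W = ⊥ ∨ W = ⊤ := by
  apply irr_of_card (A := A.map bar)
  · rw [h.card_quot]
    exact h.odd.pow
  · rintro _ ⟨a, ha, rfl⟩ u hu
    rcases h.free_bar ha hu with h1 | h1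
    · left
      rw [h1, map_one]
    · exact Or.inr h1
  · rw [h.card_quot, h.card_bar]
    have h1 : Nat.gcd 3 (q + 1) ≤ 3 := Nat.gcd_le_left _ (by norm_num)
    have h2 : Nat.gcd 3 (q + 1) * Nat.card A ≤ 3 * Nat.card A := Nat.mul_le_mul_right _ h1
    rw [h.cardA] at h2
    have := h.two_le_sq
    omega
  · rintro _ ⟨a, ha, rfl⟩ w hw
    exact hW a ha w hw

theorem comm_quot (h : AbsU P A q) (x y : P ⧸ center P) : x * y = y * x := by
  have h1 : center (P ⧸ center P) = ⊤ := by
    rcases h.irr (center (P ⧸ center P)) (fun a _ w hw => char hw) with h2 | h2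
    · exfalso
      obtain ⟨p, k, hp, -, hk⟩ := h.pow
      have : Fact p.Prime := ⟨hp.nat_prime⟩
      have h3 : IsPGroup p (P ⧸ center P) := IsPGroup.of_card (n := k * 2) (by
        rw [h.card_quot, ← hk, pow_mul])
      obtain ⟨v, hv⟩ := h.exists_quot_ne
      have : Nontrivial (P ⧸ center P) := ⟨v, 1, hv⟩
      have h4 := h3.center_nontrivial
      rw [h2] at h4
      exact not_nontrivial _ h4
    · exact h2
  have h2 : y ∈ center (P ⧸ center P) := by rw [h1]; exact mem_top _
  exact mem_center_iff.1 h2 x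

theorem comm_mem (h : AbsU P A q) (x y : P) : x * y * x⁻¹ * y⁻¹ ∈ center P := by
  rw [← QuotientGroup.eq_one_iff]
  change (x : P ⧸ center P) * y * (x : P ⧸ center P)⁻¹ * (y : P ⧸ center P)⁻¹ = 1
  rw [h.comm_quot (x : P ⧸ center P) y]
  group

theorem not_comm (h : AbsU P A q) : ∃ x y : P, x * y * x⁻¹ * y⁻¹ ≠ 1 := by
  by_contra hc
  push Not at hc
  obtain ⟨v, hv⟩ := h.exists_quot_ne
  induction v using QuotientGroup.induction_on with
  | H u =>
    apply hv
    rw [QuotientGroup.eq_one_iff, mem_center_iff]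
    intro g
    have := hc g u
    rw [mul_inv_eq_one, mul_inv_eq_iff_eq_mul] at this
    exact this

omit [Finite P] in
theorem comm_central {x y z1 z2 : P} (c1 : ∀ g, g * z1 = z1 * g) (c2 : ∀ g, g * z2 = z2 * g) :
    (x * z1) * (y * z2) * (x * z1)⁻¹ * (y * z2)⁻¹ = x * y * x⁻¹ * y⁻¹ := by
  have e1 : (x * z1) * (y * z2) = (x * y) * (z1 * z2) := by
    rw [mul_assoc, ← mul_assoc z1, ← c1 y, mul_assoc, mul_assoc]
  have e2 : (y * z2) * (x * z1) = (y * x) * (z1 * z2) := by
    rw [mul_assoc, ← mul_assoc z2, ← c2 x, mul_assoc, mul_assoc, c1 z2]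
  calc (x * z1) * (y * z2) * (x * z1)⁻¹ * (y * z2)⁻¹
      = ((x * z1) * (y * z2)) * ((y * z2) * (x * z1))⁻¹ := by
        rw [mul_inv_rev (y * z2)]; simp only [mul_assoc]
    _ = x * y * x⁻¹ * y⁻¹ := by rw [e1, e2]; group

/-- an involution acting trivially modulo the centre -/
theorem case_one (h : AbsU P A q) {s : MulAut P} (hs : s * s = 1)
    (hsA : ∀ a ∈ A, s * a * s⁻¹ ∈ A) (h1 : bar s = 1) : s = 1 := by
  have hsc : ∀ a ∈ A, ∀ u, s (a u) = a (s u) := by
    intro a ha u
    have h2 : s * a * s⁻¹ = a := h.bar_inj (hsA a ha) ha (by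
      rw [map_mul, map_mul, map_inv, h1, one_mul, inv_one, mul_one])
    have h3 : s * a = a * s := by
      calc s * a = s * a * s⁻¹ * s := by group
        _ = a * s := by rw [h2]
    exact DFunLike.congr_fun h3 u
  have hu : ∀ u, u⁻¹ * s u ∈ center P := by
    intro u
    rw [← QuotientGroup.eq, ← bar_mk, h1]
    rfl
  -- `s` centralises the commutators
  have hcom : ∀ x y : P, s (x * y * x⁻¹ * y⁻¹) = x * y * x⁻¹ * y⁻¹ := by
    intro x y
    have hx := hu x
    have hy := hu y
    have e1 : s x = x * (x⁻¹ * s x) := by group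
    have e2 : s y = y * (y⁻¹ * s y) := by group
    have c1 : ∀ g, g * (x⁻¹ * s x) = (x⁻¹ * s x) * g := mem_center_iff.1 hx
    have c2 : ∀ g, g * (y⁻¹ * s y) = (y⁻¹ * s y) * g := mem_center_iff.1 hy
    rw [map_mul, map_mul, map_mul, map_inv, map_inv]
    conv_lhs => rw [e1, e2]
    exact comm_central c1 c2
  obtain ⟨x, y, hxy⟩ := h.not_comm
  have hZ : ∀ z ∈ center P, s z = z := by
    intro z hz
    by_cases hz1 : z = 1
    · rw [hz1, map_one]
    obtain ⟨a, ha, rfl⟩ := h.transZ _ (h.comm_mem x y) z hz hxy hz1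
    rw [hsc a ha, hcom]
  ext u
  rw [MulAut.one_apply]
  have e1 : s u = u * (u⁻¹ * s u) := by group
  have h2 : s (s u) = u := DFunLike.congr_fun hs u
  have h3 : u * ((u⁻¹ * s u) * (u⁻¹ * s u)) = u := by
    have h3 : s (u * (u⁻¹ * s u)) = u := by rw [← e1, h2]
    rw [map_mul, hZ _ (hu u)] at h3
    calc u * ((u⁻¹ * s u) * (u⁻¹ * s u)) = s u * (u⁻¹ * s u) := by group
      _ = u := h3
  rw [mul_eq_left] at h3
  have h4 : u⁻¹ * s u = 1 := by
    have h5 : orderOf (u⁻¹ * s u) ∣ 2 := orderOf_dvd_of_pow_eq_one (by rw [sq, h3])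
    have h6 : Odd (orderOf (u⁻¹ * s u)) := Odd.of_dvd_nat h.odd_card (orderOf_dvd_natCard _)
    rw [← orderOf_eq_one_iff]
    rcases (Nat.dvd_prime Nat.prime_two).1 h5 with h7 | h7
    · exact h7
    · rw [h7] at h6
      exact absurd h6 (by decide)
  rw [e1, h4, mul_one]

/-- `a ^ q = a` on the centre -/
theorem pow_center (h : AbsU P A q) {a : MulAut P} (ha : a ∈ A) {u : P} (hu : u ∈ center P) :
    (a ^ q) u = a u := by
  by_cases hu1 : u = 1
  · rw [hu1, map_one, map_one]
  have horb : MulAction.orbit A u = {v : P | v ∈ center P ∧ v ≠ 1} := by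
    ext v
    constructor
    · rintro ⟨b, rfl⟩
      refine ⟨char hu, fun hc => hu1 ?_⟩
      exact (map_eq_one_iff (b : MulAut P) (b : MulAut P).injective).1 hc
    · rintro ⟨hv, hv1⟩
      obtain ⟨b, hb, hbu⟩ := h.transZ u hu v hv hu1 hv1
      exact ⟨⟨b, hb⟩, hbu⟩
  have hcard : (MulAction.orbit A u).ncard = q - 1 := by
    rw [horb]
    have h1 : {v : P | v ∈ center P ∧ v ≠ 1} = (center P : Set P) \ {1} := by
      ext v
      simp
    rw [h1, Set.ncard_sdiff_singleton_of_mem (one_mem (center P)), ← Nat.card_coe_set_eq]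
    have : Nat.card ((center P : Set P)) = q := h.cardZ
    rw [this]
  rw [← MulAction.index_stabilizer] at hcard
  have hn : (MulAction.stabilizer A u).Normal := by
    constructor
    intro n hn g
    have : g * n * g⁻¹ = n := by
      rw [Subtype.ext (h.comm g g.2 n n.2) (a1 := g * n) (a2 := n * g), mul_inv_cancel_right]
    rw [this]
    exact hn
  have h2 := (MulAction.stabilizer A u).pow_index_mem ⟨a, ha⟩
  rw [hcard] at h2
  have h3 : (a ^ (q - 1)) u = u := h2
  have h4 : q = 1 + (q - 1) := by have := h.one_lt; omega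
  conv_lhs => rw [h4]
  rw [pow_add, pow_one, MulAut.mul_apply, h3]

theorem card_fix (h : AbsU P A q) {s : MulAut P} (hs : s * s = 1) :
    Nat.card {u : P // s u = u} =
      Nat.card {v : P ⧸ center P // bar s v = v} * Nat.card {u : center P // s u = u} := by
  let F : Subgroup P :=
    { carrier := {u | s u = u}
      mul_mem' := by
        intro a b ha hb
        change s (a * b) = a * b
        change s a = a at ha
        change s b = b at hb
        rw [map_mul, ha, hb]
      one_mem' := map_one s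
      inv_mem' := by
        intro a ha
        change s a⁻¹ = a⁻¹
        change s a = a at ha
        rw [map_inv, ha] }
  have hF : ∀ u, u ∈ F ↔ s u = u := fun _ => Iff.rfl
  have h1 : Nat.card (center P ⊓ F : Subgroup P) * (center P ⊓ F).relIndex F = Nat.card F := by
    rw [← relIndex_bot_left, ← relIndex_bot_left]
    exact relIndex_mul_relIndex _ _ _ bot_le inf_le_right
  rw [inf_relIndex_right] at h1
  have h2 : (center P).relIndex F = Nat.card (F.map (QuotientGroup.mk' (center P))) := by
    rw [← relIndex_ker, QuotientGroup.ker_mk']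
  have h3 : Nat.card (F.map (QuotientGroup.mk' (center P))) =
      Nat.card {v : P ⧸ center P // bar s v = v} := by
    apply Nat.card_congr
    refine Equiv.subtypeEquivRight fun v => ?_
    constructor
    · rintro ⟨u, hu, rfl⟩
      change bar s (u : P ⧸ center P) = u
      rw [bar_mk, (hF u).1 hu]
    · intro hv
      induction v using QuotientGroup.induction_on with
      | H u =>
        rw [bar_mk, eq_comm, QuotientGroup.eq] at hv
        obtain ⟨z, hz, hz'⟩ := exists_fix (m := 2) (by rw [sq, hs]) (by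
          rw [h.cardZ, Nat.coprime_comm]
          exact h.odd.coprime_two_right) hv
        refine ⟨u * z, hz', ?_⟩
        change ((u * z : P) : P ⧸ center P) = u
        rw [eq_comm, QuotientGroup.eq, inv_mul_cancel_left]
        exact hz
  have h4 : Nat.card (center P ⊓ F : Subgroup P) = Nat.card {u : center P // s u = u} := by
    apply Nat.card_congr
    exact
      { toFun := fun x => ⟨⟨x, x.2.1⟩, x.2.2⟩
        invFun := fun x => ⟨x, x.1.2, x.2⟩
        left_inv := fun _ => rfl
        right_inv := fun _ => rfl }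
  have h5 : Nat.card {u : P // s u = u} = Nat.card F := rfl
  rw [h5, ← h1, h2, h3, h4, mul_comm]

/-- **abstract form of the RIG facts for `DU`** -/
theorem rig (h : AbsU P A q) {s : MulAut P} (hs : s * s = 1) (hsA : ∀ a ∈ A, s * a * s⁻¹ ∈ A) :
    s = 1 ∨ (∀ z ∈ A, z ≠ 1 → z * z = 1 → s * z = 1) ∨
    (Nat.card {u : P // s u = u} = q ∧ (∀ u ∈ center P, s u = u⁻¹) ∧
      ∀ a ∈ A, s * a * s⁻¹ = a ^ q) ∨
    (Nat.card {u : P // s u = u} = q ^ 2 ∧ (∀ u ∈ center P, s u = u) ∧
      ∀ a ∈ A, s * a * s⁻¹ = a ^ q) := by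
  have hss : ∀ v, s (s v) = v := fun v => DFunLike.congr_fun hs v
  have hsinv : s⁻¹ = s := inv_eq_of_mul_eq_one_left hs
  rcases semilinear (V := P ⧸ center P) h.comm_quot (by rw [h.card_quot]; exact h.odd.pow)
    (A.map bar) (by
      rintro _ ⟨a, ha, rfl⟩ _ ⟨b, hb, rfl⟩
      rw [← map_mul, h.comm a ha b hb, map_mul]) (by
      intro W hW
      exact h.irr W fun a ha w hw => hW _ ⟨a, ha, rfl⟩ w hw) (bar s)
      (by rw [← map_mul, hs, map_one]) (by
      rintro _ ⟨a, ha, rfl⟩
      rw [← map_inv, ← map_mul, ← map_mul]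
      exact ⟨_, hsA a ha, rfl⟩) with h1 | h1 | ⟨h1, h2⟩
  · left
    apply h.case_one hs hsA
    ext v
    exact h1 v
  · right; left
    intro z hz hz1 hz2
    have hz3 : ∀ v, bar z v = v⁻¹ := by
      intro v
      have h3 : bar z (v * bar z v) = v * bar z v := by
        have h4 : bar z (bar z v) = v := by
          have : bar (z * z) v = v := by rw [hz2, map_one, MulAut.one_apply]
          rwa [map_mul] at this
        rw [map_mul, h4, h.comm_quot]
      rcases h.free_bar hz h3 with h4 | h4
      · exact absurd h4 hz1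
      · exact eq_inv_of_mul_eq_one_right h4
    have hb : bar (s * z) = 1 := by
      ext v
      rw [map_mul, MulAut.mul_apply, hz3, h1, inv_inv, MulAut.one_apply]
    have h4 : (s * z) * (s * z) = 1 := by
      have h5 : s * z * (s * z) = (s * z * s⁻¹) * z := by rw [hsinv]; simp only [mul_assoc]
      rw [h5]
      have h6 : bar ((s * z * s⁻¹) * z) = bar 1 := by
        rw [← h5, map_mul, hb, one_mul, map_one]
      exact h.bar_inj (A.mul_mem (hsA z hz) hz) A.one_mem h6
    exact h.case_one h4 (by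
      intro a ha
      have h5 : s * z * a * (s * z)⁻¹ = s * (z * a * z⁻¹) * s⁻¹ := by group
      rw [h5, h.comm z hz a ha, mul_inv_cancel_right]
      exact hsA a ha) hb
  · right; right
    rw [h.card_quot] at h1
    have h3 : Nat.card {v : P ⧸ center P // bar s v = v} = q :=
      Nat.pow_left_injective (n := 2) (by norm_num) h1
    rw [h3] at h2
    have h4 : ∀ a ∈ A, s * a * s⁻¹ = a ^ q := by
      intro a ha
      apply h.bar_inj (hsA a ha) (A.pow_mem ha q)
      rw [map_mul, map_mul, map_inv, map_pow]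
      exact h2 _ ⟨a, ha, rfl⟩
    have h5 : ∀ a ∈ A, ∀ u ∈ center P, s (a u) = a (s u) := by
      intro a ha u hu
      have h6 : s * a = a ^ q * s := by
        rw [← h4 a ha, inv_mul_cancel_right]
      have h7 := DFunLike.congr_fun h6 u
      rw [MulAut.mul_apply, MulAut.mul_apply, h.pow_center ha (char hu)] at h7
      exact h7
    have h6 := h.card_fix hs
    rw [h3] at h6
    by_cases hfix : ∃ u ∈ center P, u ≠ 1 ∧ s u = u
    · right
      obtain ⟨u, hu, hu1, hu2⟩ := hfix
      have h7 : ∀ v ∈ center P, s v = v := by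
        intro v hv
        by_cases hv1 : v = 1
        · rw [hv1, map_one]
        obtain ⟨a, ha, rfl⟩ := h.transZ u hu v hv hu1 hv1
        rw [h5 a ha u hu, hu2]
      refine ⟨?_, h7, h4⟩
      have h8 : Nat.card {u : center P // s u = u} = q := by
        rw [← h.cardZ]
        exact Nat.card_congr (Equiv.subtypeUnivEquiv fun u => h7 u u.2)
      rw [h6, h8, sq]
    · left
      push Not at hfix
      have h7 : ∀ v ∈ center P, s v = v⁻¹ := by
        intro v hv
        by_contra hne
        have h8 : s (v * s v) = v * s v := by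
          rw [map_mul, hss]
          exact (mem_center_iff.1 hv _)
        refine hfix _ (mul_mem hv (char hv)) ?_ h8
        intro hc
        exact hne (eq_inv_of_mul_eq_one_right hc)
      refine ⟨?_, h7, h4⟩
      have h8 : Nat.card {u : center P // s u = u} = 1 := by
        rw [Nat.card_eq_one_iff_unique]
        refine ⟨⟨?_⟩, ⟨⟨1, map_one s⟩⟩⟩
        have h9 : ∀ x : {u : center P // s u = u}, x = ⟨1, map_one s⟩ := by
          rintro ⟨⟨u, hu⟩, hu'⟩
          apply Subtype.ext
          apply Subtype.ext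
          by_contra hne
          exact hfix u hu hne hu'
        intro x y
        rw [h9 x, h9 y]
      rw [h6, h8, mul_one]

end AbsU

end Abs

end Cfsg.Agent.HKS.Rig
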