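import Mathlib
import Cfsg.Agent.HKS.RigAbs
import Cfsg.Agent.HKS.Induct

/-!
# RIG facts: involutions of `G_ab` acting on the fixed points of `X`

`s ∈ G_ab` normalises `X ≤ G_ab`, and `s * s` is trivial on `Fix X`.
-/

set_option autoImplicit false

namespace Cfsg.Agent.HKS

open Subgroup MulAction

namespace Rig

section Conj

variable {G : Type*} [Group G] {P : Subgroup G}

theorem mem_normalizer_of_finite [Finite P] {g : G} (hg : ∀ u ∈ P, g * u * g⁻¹ ∈ P) :
    g ∈ normalizer (P : Set G) := by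
  rw [mem_normalizer_iff]
  intro u
  refine ⟨hg u, fun hu => ?_⟩
  have hinj : Function.Injective (fun x : P => (⟨g * x * g⁻¹, hg x x.2⟩ : P)) := by
    intro x y hxy
    have h1 : g * (x : G) * g⁻¹ = g * y * g⁻¹ := congrArg Subtype.val hxy
    exact Subtype.ext (mul_left_cancel (mul_right_cancel h1))
  obtain ⟨v, hv⟩ := (Finite.injective_iff_surjective.1 hinj) ⟨_, hu⟩
  have h1 : g * (v : G) * g⁻¹ = g * u * g⁻¹ := congrArg Subtype.val hv
  rw [← mul_left_cancel (mul_right_cancel h1)]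
  exact v.2

/-- conjugation by `g` on `P` -/
noncomputable def cj (P : Subgroup G) : normalizer (P : Set G) →* MulAut P := P.normalizerMonoidHom

theorem cj_apply (g : normalizer (P : Set G)) (u : P) : ((cj P g u : P) : G) = g * u * (g : G)⁻¹ :=
  rfl

theorem cj_eq_one {g : normalizer (P : Set G)} :
    cj P g = 1 ↔ ∀ u ∈ P, (g : G) * u = u * g := by
  constructor
  · intro h u hu
    have h1 := congrArg Subtype.val (DFunLike.congr_fun h ⟨u, hu⟩)
    have h2 : (g : G) * u * (g : G)⁻¹ = u := h1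
    exact mul_inv_eq_iff_eq_mul.1 h2
  · intro h
    ext u
    rw [cj_apply, h u u.2, mul_inv_cancel_right]
    rfl

/-- the automorphisms induced by `E` -/
noncomputable def img (P E : Subgroup G) : Subgroup (MulAut P) :=
  (E.subgroupOf (normalizer (P : Set G))).map (cj P)

theorem mem_img {P E : Subgroup G} {d : G} (hd : d ∈ E) (hP : d ∈ normalizer (P : Set G)) :
    cj P ⟨d, hP⟩ ∈ img P E := ⟨⟨d, hP⟩, hd, rfl⟩

theorem exists_of_img {P E : Subgroup G} {a : MulAut P} (ha : a ∈ img P E) :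
    ∃ (d : G) (_ : d ∈ E) (hP : d ∈ normalizer (P : Set G)), a = cj P ⟨d, hP⟩ := by
  obtain ⟨⟨d, hP⟩, hd, rfl⟩ := ha
  exact ⟨d, hd, hP, rfl⟩

variable {E K : Subgroup G}

/-- the number of automorphisms induced by `E` -/
theorem card_img (hE : E ≤ normalizer (P : Set G)) (hK : ∀ d ∈ E, (∀ u ∈ P, d * u = u * d) ↔ d ∈ K) :
    Nat.card (img P E) = K.relIndex E := by
  rw [img, ← relIndex_ker]
  have h1 : (cj P).ker.relIndex (E.subgroupOf (normalizer (P : Set G))) =
      ((cj P).ker.map (normalizer (P : Set G)).subtype).relIndex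
        ((E.subgroupOf (normalizer (P : Set G))).map (normalizer (P : Set G)).subtype) :=
    (relIndex_map_map_of_injective _ _ (subtype_injective _)).symm
  rw [h1, subgroupOf_map_subtype, inf_eq_left.2 hE]
  rw [← inf_relIndex_right, ← inf_relIndex_right K]
  congr 1
  ext d
  constructor
  · rintro ⟨⟨g, hg, rfl⟩, hd⟩
    exact ⟨(hK _ hd).1 (cj_eq_one.1 hg), hd⟩
  · rintro ⟨hd, hd'⟩
    exact ⟨⟨⟨d, hE hd'⟩, cj_eq_one.2 ((hK d hd').2 hd), rfl⟩, hd'⟩

theorem comm_img (hE : E ≤ normalizer (P : Set G)) (hcyc : ∃ e ∈ E, ∀ d ∈ E, ∃ k : ℕ, d * e ^ k ∈ K)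
    (hK : ∀ k ∈ K, k ∈ E → ∀ u ∈ P, k * u = u * k) :
    ∀ a ∈ img P E, ∀ b ∈ img P E, a * b = b * a := by
  obtain ⟨e, he, hcyc⟩ := hcyc
  have key : ∀ a ∈ img P E, ∃ k : ℕ, a = (cj P ⟨e, hE he⟩ ^ k)⁻¹ := by
    intro a ha
    obtain ⟨d, hd, hP, rfl⟩ := exists_of_img ha
    obtain ⟨k, hk⟩ := hcyc d hd
    refine ⟨k, ?_⟩
    rw [← mul_eq_one_iff_eq_inv, ← map_pow, ← map_mul, cj_eq_one]
    exact hK _ hk (E.mul_mem hd (E.pow_mem he k))
  intro a ha b hb
  obtain ⟨k, rfl⟩ := key a ha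
  obtain ⟨l, rfl⟩ := key b hb
  rw [← mul_inv_rev, ← mul_inv_rev, ← pow_add, ← pow_add, add_comm]

theorem card_fix_eq {s : G} (hs : s ∈ normalizer (P : Set G)) :
    Nat.card {u : P // cj P ⟨s, hs⟩ u = u} =
      Nat.card (P ⊓ centralizer ({s} : Set G) : Subgroup G) := by
  apply Nat.card_congr
  exact
    { toFun := fun u => ⟨u.1, u.1.2, mem_centralizer_singleton_iff.2 (by
        have h1 : s * (u.1 : G) * s⁻¹ = u.1 := congrArg Subtype.val u.2
        exact (mul_inv_eq_iff_eq_mul.1 h1).symm)⟩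
      invFun := fun u => ⟨⟨u, u.2.1⟩, Subtype.ext (by
        change s * (u : G) * s⁻¹ = u
        have h1 := mem_centralizer_singleton_iff.1 u.2.2
        rw [← h1, mul_inv_cancel_right])⟩
      left_inv := fun _ => rfl
      right_inv := fun _ => rfl }

end Conj

section Data

variable {G : Type*} [Group G] {M P E K : Subgroup G} {Sw : G → Prop} {s : G}

/-- RIG facts, type `DL` -/
theorem dl {q : ℕ} (h : DL M P E K Sw q) (hE : ∀ d ∈ E, ∀ u ∈ P, d * u * d⁻¹ ∈ P)
    (hK : ∀ k ∈ K, ∀ u ∈ P, k * u = u * k) (hsP : ∀ u ∈ P, s * u * s⁻¹ ∈ P)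
    (hsE : ∀ d ∈ E, s * d * s⁻¹ ∈ E) (hs2 : ∀ u ∈ P, s * s * u = u * (s * s)) :
    (∀ u ∈ P, s * u = u * s) ∨ (∀ u ∈ P, s * u * s⁻¹ = u⁻¹) ∨
      Nat.card (P ⊓ centralizer ({s} : Set G) : Subgroup G) ^ 2 = q := by
  have hq := h.three
  have hfin : Finite P := Nat.finite_of_card_ne_zero (by rw [h.card]; omega)
  have hEN : E ≤ normalizer (P : Set G) := fun d hd => mem_normalizer_of_finite (hE d hd)
  have hsN : s ∈ normalizer (P : Set G) := mem_normalizer_of_finite hsP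
  obtain ⟨v, hv, hv1⟩ := (bot_or_exists_ne_one P).resolve_left (by
    rintro rfl
    have := h.card
    rw [card_bot] at this
    omega)
  have hKE : ∀ d ∈ E, (∀ u ∈ P, d * u = u * d) ↔ d ∈ K := by
    intro d hd
    refine ⟨fun h1 => (h.free d hd v hv (h1 v hv)).resolve_right hv1, fun h1 => hK d h1⟩
  have hcomm := comm_img hEN h.cyc (fun k hk _ => hK k hk)
  have hcard := card_img hEN hKE
  have h1 := rigL (P := P) h.odd h.three h.card
    (fun x y => Subtype.ext (h.comm x x.2 y y.2)) (img P E) hcomm (by rw [hcard]; exact h.cardE) (by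
      intro a ha u hu
      obtain ⟨d, hd, hP, rfl⟩ := exists_of_img ha
      have h2 : d * (u : G) * d⁻¹ = u := congrArg Subtype.val hu
      rcases h.free d hd u u.2 (mul_inv_eq_iff_eq_mul.1 h2) with h3 | h3
      · left
        exact cj_eq_one.2 (hK d h3)
      · right
        exact Subtype.ext h3) (cj P ⟨s, hsN⟩) (by
      rw [← map_mul, cj_eq_one]
      exact hs2) (by
      intro a ha
      obtain ⟨d, hd, hP, rfl⟩ := exists_of_img ha
      rw [← map_inv, ← map_mul, ← map_mul]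
      exact mem_img (hsE d hd) _)
  rcases h1 with h1 | h1 | h1
  · left
    intro u hu
    have h2 : s * u * s⁻¹ = u := congrArg Subtype.val (h1 ⟨u, hu⟩)
    exact mul_inv_eq_iff_eq_mul.1 h2
  · right; left
    intro u hu
    exact congrArg Subtype.val (h1 ⟨u, hu⟩)
  · right; right
    rw [← h1.1, card_fix_eq]

/-- the centre of `P` -/
theorem mem_center_P {u : P} : u ∈ center P ↔ ∀ v ∈ P, (u : G) * v = v * u := by
  rw [mem_center_iff]
  constructor
  · intro h v hv
    exact (congrArg Subtype.val (h ⟨v, hv⟩)).symm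
  · intro h v
    exact Subtype.ext (h v v.2).symm

theorem card_center_P : Nat.card (center P) =
    Nat.card (P ⊓ centralizer (P : Set G) : Subgroup G) := by
  apply Nat.card_congr
  exact
    { toFun := fun u => ⟨u.1, u.1.2, mem_centralizer_iff.2 fun v hv =>
        (mem_center_P.1 u.2 v hv).symm⟩
      invFun := fun u => ⟨⟨u, u.2.1⟩, mem_center_P.2 fun v hv =>
        (mem_centralizer_iff.1 u.2.2 v hv).symm⟩
      left_inv := fun _ => rfl
      right_inv := fun _ => rfl }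

/-- RIG facts, type `DU` -/
theorem du {q : ℕ} (h : DU M P E K Sw q) (hE : ∀ d ∈ E, ∀ u ∈ P, d * u * d⁻¹ ∈ P)
    (hK : ∀ k ∈ K, ∀ u ∈ P, k * u = u * k) (hsP : ∀ u ∈ P, s * u * s⁻¹ ∈ P)
    (hsE : ∀ d ∈ E, s * d * s⁻¹ ∈ E) (hs2 : ∀ u ∈ P, s * s * u = u * (s * s)) :
    (∀ u ∈ P, s * u = u * s) ∨
    (∀ z ∈ E, z ∉ K → z * z ∈ K → ∀ u ∈ P, s * z * u = u * (s * z)) ∨
    (Nat.card (P ⊓ centralizer ({s} : Set G) : Subgroup G) = q ∧
      (∀ u ∈ P, (∀ v ∈ P, u * v = v * u) → s * u * s⁻¹ = u⁻¹) ∧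
      ∀ d ∈ E, ∀ u ∈ P, s * d * s⁻¹ * u * (s * d * s⁻¹)⁻¹ = d ^ q * u * (d ^ q)⁻¹) ∨
    (Nat.card (P ⊓ centralizer ({s} : Set G) : Subgroup G) = q ^ 2 ∧
      (∀ u ∈ P, (∀ v ∈ P, u * v = v * u) → s * u = u * s) ∧
      ∀ d ∈ E, ∀ u ∈ P, s * d * s⁻¹ * u * (s * d * s⁻¹)⁻¹ = d ^ q * u * (d ^ q)⁻¹) := by
  have hq := h.pow.two_le
  have hfin : Finite P := Nat.finite_of_card_ne_zero (by rw [h.card]; positivity)
  have hEN : E ≤ normalizer (P : Set G) := fun d hd => mem_normalizer_of_finite (hE d hd)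
  have hsN : s ∈ normalizer (P : Set G) := mem_normalizer_of_finite hsP
  have hcen : ∀ d ∈ E, (∀ u ∈ P, d * u = u * d) → d ∈ K := by
    intro d hd h1
    by_contra hc
    have h2 : ∀ u ∈ P, ∀ v ∈ P, u * v = v * u := fun u hu =>
      (h.free d hd u hu (h1 u hu)).resolve_left hc
    have h3 : P ⊓ centralizer (P : Set G) = P := by
      rw [inf_eq_left]
      intro u hu
      rw [mem_centralizer_iff]
      intro v hv
      exact (h2 u hu v hv).symm
    have h4 := h.cardZ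
    rw [h3, h.card] at h4
    have h5 : q ^ 3 = q * q * q := by ring
    rw [h5] at h4
    nlinarith
  have hKE : ∀ d ∈ E, (∀ u ∈ P, d * u = u * d) ↔ d ∈ K :=
    fun d hd => ⟨hcen d hd, fun h1 => hK d h1⟩
  have hcomm := comm_img hEN h.cyc (fun k hk _ => hK k hk)
  have hcard := card_img hEN hKE
  have habs : AbsU P (img P E) q :=
    { pow := h.pow
      odd := h.odd
      card := h.card
      cardZ := by rw [card_center_P, h.cardZ]
      comm := hcomm
      cardA := by rw [hcard]; exact h.cardE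
      free := by
        intro a ha u hu
        obtain ⟨d, hd, hP, rfl⟩ := exists_of_img ha
        have h2 : d * (u : G) * d⁻¹ = u := congrArg Subtype.val hu
        rcases h.free d hd u u.2 (mul_inv_eq_iff_eq_mul.1 h2) with h3 | h3
        · left
          exact cj_eq_one.2 (hK d h3)
        · right
          exact mem_center_P.2 h3
      transZ := by
        intro u hu u' hu' h1 h1'
        obtain ⟨d, hd, hdu⟩ := h.transZ u u.2 u' u'.2 (mem_center_P.1 hu) (mem_center_P.1 hu')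
          (fun e => h1 (Subtype.ext e)) (fun e => h1' (Subtype.ext e))
        exact ⟨_, mem_img hd (hEN hd), Subtype.ext hdu⟩ }
  have hpow : (∀ a ∈ img P E, cj P ⟨s, hsN⟩ * a * (cj P ⟨s, hsN⟩)⁻¹ = a ^ q) →
      ∀ d ∈ E, ∀ u ∈ P, s * d * s⁻¹ * u * (s * d * s⁻¹)⁻¹ = d ^ q * u * (d ^ q)⁻¹ := by
    intro h1 d hd u hu
    have h2 := h1 _ (mem_img hd (hEN hd))
    rw [← map_inv, ← map_mul, ← map_mul, ← map_pow] at h2
    exact congrArg Subtype.val (DFunLike.congr_fun h2 ⟨u, hu⟩)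
  rcases habs.rig (s := cj P ⟨s, hsN⟩) (by rw [← map_mul, cj_eq_one]; exact hs2) (by
      intro a ha
      obtain ⟨d, hd, hP, rfl⟩ := exists_of_img ha
      rw [← map_inv, ← map_mul, ← map_mul]
      exact mem_img (hsE d hd) _) with h1 | h1 | ⟨h1, h2, h3⟩ | ⟨h1, h2, h3⟩
  · left
    exact cj_eq_one.1 h1
  · right; left
    intro z hz hzK hz2
    have h2 := h1 _ (mem_img hz (hEN hz)) (fun e => hzK (hcen z hz (cj_eq_one.1 e))) (by
      rw [← map_mul, cj_eq_one]
      exact hK _ hz2)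
    rw [← map_mul, cj_eq_one] at h2
    exact h2
  · right; right; left
    refine ⟨by rw [← h1, card_fix_eq], ?_, hpow h3⟩
    intro u hu hc
    exact congrArg Subtype.val (h2 ⟨u, hu⟩ (mem_center_P.2 hc))
  · right; right; right
    refine ⟨by rw [← h1, card_fix_eq], ?_, hpow h3⟩
    intro u hu hc
    have h4 : s * u * s⁻¹ = u := congrArg Subtype.val (h2 ⟨u, hu⟩ (mem_center_P.2 hc))
    exact mul_inv_eq_iff_eq_mul.1 h4

end Data

end Rig

end Cfsg.Agent.HKS
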