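import Mathlib
import Cfsg.Agent.HKS.RigX
import Cfsg.Agent.HKS.PP1

/-!
# RIG facts on the fixed points of `X`

`X ≤ G_ab`, `s ∈ G_ab` normalises `X`, and `s * s` is trivial on `Fix X`. `P = C_{U a}(X)`.

* `SSplit.rigL` (type `DL q`): `s` is trivial on `Fix X`, or inverts `P`, or `|C_P(s)|² = q`;
* `SSplit.rigU` (type `DU q`): `s` or `s z` is trivial on `Fix X`, or `|C_P(s)| = q` and `s` inverts
  `Z(P)` (`z` an involution of `G_ab ∩ genFix U X`).
-/

set_option autoImplicit false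

namespace Cfsg.Agent.HKS

open Subgroup MulAction PP1

variable {G Ω : Type*} [Group G] [MulAction G Ω] {U : Ω → Subgroup G}

/-- `s` fixes `a`, `b`, normalises `X`, and `s * s` is trivial on the fixed points of `X`. -/
structure RigElt (X : Subgroup G) (a b : Ω) (s : G) : Prop where
  mem : s ∈ Dab G a b
  conj : ∀ x ∈ X, s * x * s⁻¹ ∈ X
  conj' : ∀ x ∈ X, s⁻¹ * x * s ∈ X
  sq : s * s ∈ kerFix Ω X

theorem RigElt.of_comm {X : Subgroup G} {a b : Ω} {s : G} (hs : s ∈ Dab G a b)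
    (hc : ∀ x ∈ X, s * x = x * s) (h2 : s * s ∈ kerFix Ω X) : RigElt X a b s where
  mem := hs
  conj := fun x hx => by rw [hc x hx, mul_inv_cancel_right]; exact hx
  conj' := fun x hx => by rw [mul_assoc, ← hc x hx, inv_mul_cancel_left]; exact hx
  sq := h2

namespace RigElt

variable {X : Subgroup G} {a b : Ω} {s : G}

theorem conj_centralizer (hs : RigElt X a b s) {u : G} (hu : u ∈ centralizer (X : Set G)) :
    s * u * s⁻¹ ∈ centralizer (X : Set G) := by
  rw [mem_centralizer_iff]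
  intro x hx
  have h3 : (s⁻¹ * x * s) * u = u * (s⁻¹ * x * s) := mem_centralizer_iff.1 hu _ (hs.conj' x hx)
  calc x * (s * u * s⁻¹) = s * ((s⁻¹ * x * s) * u) * s⁻¹ := by group
    _ = s * (u * (s⁻¹ * x * s)) * s⁻¹ := by rw [h3]
    _ = s * u * s⁻¹ * x := by group

theorem conj_P (hs : RigElt X a b s) (h : SSplit U) {u : G}
    (hu : u ∈ U a ⊓ centralizer (X : Set G)) : s * u * s⁻¹ ∈ U a ⊓ centralizer (X : Set G) :=
  ⟨h.conj_of_fix hs.mem.1 hu.1, hs.conj_centralizer hu.2⟩

theorem conj_E (hs : RigElt X a b s) (h : SSplit U) {d : G}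
    (hd : d ∈ Dab G a b ⊓ genFix U X) : s * d * s⁻¹ ∈ Dab G a b ⊓ genFix U X :=
  ⟨(Dab G a b).mul_mem ((Dab G a b).mul_mem hs.mem hd.1) ((Dab G a b).inv_mem hs.mem),
    conj_genFix h hs.conj' hd.2⟩

end RigElt

namespace SSplit

variable {X : Subgroup G} {a b : Ω}

/-- the elements of `kerFix` centralise `P` -/
theorem comm_kerFix (h : SSplit U) (hab : b ≠ a) (hX : X ≤ Dab G a b) {k : G}
    (hk : k ∈ kerFix Ω X) : ∀ u ∈ U a ⊓ centralizer (X : Set G), k * u = u * k :=
  fun _ hu => h.comm_of_fix (fun _ hx => (hX hx).1) (fun _ hx => (hX hx).2) hab hk hu.1 hu.2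

/-- an element of `G_ab` centralising `P` lies in `kerFix` -/
theorem mem_kerFix_of_comm (h : SSplit U) (hab : b ≠ a) (hX : X ≤ Dab G a b) {k : G}
    (hk : k ∈ Dab G a b) (hc : ∀ u ∈ U a ⊓ centralizer (X : Set G), k * u = u * k) :
    k ∈ kerFix Ω X := by
  intro c hc'
  by_cases hca : c = a
  · rw [hca]; exact hk.1
  obtain ⟨u, hu, hub⟩ := h.trans hab hca
  have huX : u ∈ centralizer (X : Set G) :=
    h.comm_of_fixSub (fun x hx => (hX hx).1) (fun x hx => (hX hx).2) hab hu
      (by rw [hub]; exact hc')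
  rw [← hub, ← mul_smul, hc u ⟨hu, huX⟩, mul_smul]
  congr 1
  exact hk.2

theorem conj_EP (h : SSplit U) {d : G} (hd : d ∈ Dab G a b ⊓ genFix U X) :
    ∀ u ∈ U a ⊓ centralizer (X : Set G), d * u * d⁻¹ ∈ U a ⊓ centralizer (X : Set G) := by
  intro u hu
  have h1 := genFix_le_centralizer X hd.2
  exact mem_inf.2 ⟨h.conj_of_fix hd.1.1 hu.1, mul_mem (mul_mem h1 hu.2) (inv_mem h1)⟩

/-- the centraliser of `X` and `s` -/
theorem centralizer_sup (X : Subgroup G) (s : G) :
    (centralizer ((X ⊔ zpowers s : Subgroup G) : Set G)) =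
      centralizer (X : Set G) ⊓ centralizer ({s} : Set G) := by
  ext g
  constructor
  · intro hg
    refine mem_inf.2 ⟨?_, ?_⟩
    · rw [mem_centralizer_iff] at hg ⊢
      exact fun x hx => hg x (le_sup_left (a := X) hx)
    · rw [mem_centralizer_singleton_iff]
      exact (mem_centralizer_iff.1 hg s (le_sup_right (a := X) (mem_zpowers s))).symm
  · rintro ⟨h1, h2⟩
    have h3 : X ⊔ zpowers s ≤ centralizer ({g} : Set G) := by
      refine sup_le ?_ ?_
      · intro x hx
        rw [mem_centralizer_singleton_iff]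
        exact mem_centralizer_iff.1 h1 x hx
      · rw [zpowers_le, mem_centralizer_singleton_iff]
        exact (mem_centralizer_singleton_iff.1 h2).symm
    rw [mem_centralizer_iff]
    intro y hy
    exact mem_centralizer_singleton_iff.1 (h3 hy)

omit [MulAction G Ω] in
theorem inf_centralizer_sup (U : Ω → Subgroup G) (a : Ω) (X : Subgroup G) (s : G) :
    U a ⊓ centralizer ((X ⊔ zpowers s : Subgroup G) : Set G) =
      U a ⊓ centralizer (X : Set G) ⊓ centralizer ({s} : Set G) := by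
  rw [centralizer_sup, inf_assoc]

/-- **RIG facts, type `DL`** -/
theorem rigL (h : SSplit U) (hab : b ≠ a) (hX : X ≤ Dab G a b) {q : ℕ} {s : G}
    (hs : RigElt X a b s)
    (hT : DL (genFix U X) (U a ⊓ centralizer (X : Set G)) (Dab G a b ⊓ genFix U X) (kerFix Ω X)
      (fun w => w ∈ genFix U X ∧ Swaps w a b) q) :
    s ∈ kerFix Ω X ∨ (∀ u ∈ U a ⊓ centralizer (X : Set G), s * u * s⁻¹ = u⁻¹) ∨
      Nat.card (U a ⊓ centralizer (X : Set G) ⊓ centralizer ({s} : Set G) : Subgroup G) ^ 2 = q := by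
  rcases Rig.dl hT (fun d hd => h.conj_EP hd) (fun k hk => h.comm_kerFix hab hX hk)
    (fun u hu => hs.conj_P h hu) (fun d hd => hs.conj_E h hd) (h.comm_kerFix hab hX hs.sq) with
    h1 | h1 | h1
  · exact Or.inl (h.mem_kerFix_of_comm hab hX hs.mem h1)
  · exact Or.inr (Or.inl h1)
  · exact Or.inr (Or.inr h1)

/-- monotonicity -/
theorem genFix_mono {Y : Subgroup G} (hXY : X ≤ Y) : genFix U Y ≤ genFix U X := by
  apply genFix_le
  intro c hc u hu hu'
  exact mem_genFix (fun x hx => hc x (hXY hx)) hu (centralizer_le hXY hu')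

theorem kerFix_mono {Y : Subgroup G} (hXY : X ≤ Y) : kerFix Ω X ≤ kerFix Ω Y :=
  fun _ hg c hc => hg c fun x hx => hc x (hXY hx)

/-- the case `|C_P(s)| = q²` in type `DU q` does not occur -/
theorem no_sq (h : SSplit U) (hab : b ≠ a) {Y : Subgroup G} (hXY : X ≤ Y) (hY : Y ≤ Dab G a b)
    {q : ℕ}
    (hT : DU (genFix U X) (U a ⊓ centralizer (X : Set G)) (Dab G a b ⊓ genFix U X) (kerFix Ω X)
      (fun w => w ∈ genFix U X ∧ Swaps w a b) q)
    (hcard : Nat.card (U a ⊓ centralizer (Y : Set G) : Subgroup G) = q ^ 2)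
    (hZ : ∀ u ∈ U a ⊓ centralizer (X : Set G),
      (∀ v ∈ U a ⊓ centralizer (X : Set G), u * v = v * u) → u ∈ centralizer (Y : Set G))
    (hTY : XType U Y a b) : False := by
  have hq2 : 2 < q := by
    have h1 := hT.pow.two_le
    obtain ⟨k, hk⟩ := hT.odd
    omega
  have hq9 : q ^ 2 % 8 = 1 := by
    obtain ⟨k, hk⟩ := hT.odd
    have h1 : (2 * k + 1) ^ 2 = 4 * (k * (k + 1)) + 1 := by ring
    obtain ⟨l, hl⟩ := Nat.even_mul_succ_self k
    rw [hk, h1, hl]
    omega
  have hPY : U a ⊓ centralizer (Y : Set G) ≤ U a ⊓ centralizer (X : Set G) :=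
    inf_le_inf_left _ (centralizer_le hXY)
  have hZ' : (U a ⊓ centralizer (X : Set G)) ⊓
      centralizer ((U a ⊓ centralizer (X : Set G) : Subgroup G) : Set G) ≤
      (U a ⊓ centralizer (Y : Set G)) ⊓
        centralizer ((U a ⊓ centralizer (Y : Set G) : Subgroup G) : Set G) := by
    rintro u ⟨hu, hu'⟩
    refine mem_inf.2 ⟨⟨hu.1, hZ u hu fun v hv => (mem_centralizer_iff.1 hu' v hv).symm⟩, ?_⟩
    rw [mem_centralizer_iff]
    exact fun v hv => mem_centralizer_iff.1 hu' v (hPY hv)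
  rcases hTY with hD | ⟨q', hD⟩ | ⟨q', hD⟩ | ⟨n, hD⟩
  · obtain ⟨m, hm, h1⟩ := hD.card
    rw [hcard] at h1
    obtain ⟨j, rfl⟩ : ∃ j, m = j + 2 := ⟨m - 2, by omega⟩
    rw [pow_add] at h1
    omega
  · have h1 := hD.card
    rw [hcard] at h1
    have h2 := hD.cardE
    -- `E_Y` is semiregular on `Z(P)`
    set ZP : Subgroup G := (U a ⊓ centralizer (X : Set G)) ⊓
      centralizer ((U a ⊓ centralizer (X : Set G) : Subgroup G) : Set G) with hZP
    have hZcard : Nat.card ZP = q := hT.cardZ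
    have hfin : Finite ZP := Nat.finite_of_card_ne_zero (by rw [hZcard]; omega)
    obtain ⟨v, hv, hv1⟩ := (bot_or_exists_ne_one ZP).resolve_left (by
      intro hb
      rw [hb, card_bot] at hZcard
      omega)
    have hconj : ∀ d ∈ Dab G a b ⊓ genFix U Y, d * v * d⁻¹ ∈ ZP := by
      intro d hd
      have hd' : d ∈ Dab G a b ⊓ genFix U X := ⟨hd.1, genFix_mono hXY hd.2⟩
      refine mem_inf.2 ⟨h.conj_EP hd' v hv.1, ?_⟩
      rw [mem_centralizer_iff]
      intro u hu
      have h3 : d⁻¹ * u * d ∈ U a ⊓ centralizer (X : Set G) := by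
        have := h.conj_EP (inv_mem hd') u hu
        rwa [inv_inv] at this
      have h4 := mem_centralizer_iff.1 hv.2 _ h3
      calc u * (d * v * d⁻¹) = d * ((d⁻¹ * u * d) * v) * d⁻¹ := by group
        _ = d * (v * (d⁻¹ * u * d)) * d⁻¹ := by rw [h4]
        _ = d * v * d⁻¹ * u := by group
    have h3 : (kerFix Ω Y).relIndex (Dab G a b ⊓ genFix U Y) ≤ q := by
      rw [← hZcard, relIndex, index_eq_card]
      let f : (Dab G a b ⊓ genFix U Y : Subgroup G) ⧸
          (kerFix Ω Y).subgroupOf (Dab G a b ⊓ genFix U Y) → ZP :=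
        Quotient.lift (fun d => ⟨(d : G) * v * (d : G)⁻¹, hconj d d.2⟩) (by
          intro d d' hdd
          apply Subtype.ext
          have h5 : (d⁻¹ * d') ∈ (kerFix Ω Y).subgroupOf (Dab G a b ⊓ genFix U Y) :=
            QuotientGroup.leftRel_apply.1 hdd
          have h6 := h.comm_kerFix hab hY (mem_subgroupOf.1 h5) v (hZ' hv).1
          change ((d : G)⁻¹ * (d' : G)) * v = v * ((d : G)⁻¹ * (d' : G)) at h6
          change (d : G) * v * (d : G)⁻¹ = (d' : G) * v * (d' : G)⁻¹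
          have h7 : (d' : G) * v = d * v * (d : G)⁻¹ * d' := by
            calc (d' : G) * v = d * (((d : G)⁻¹ * d') * v) := by group
              _ = d * (v * ((d : G)⁻¹ * d')) := by rw [h6]
              _ = _ := by group
          rw [h7]
          group)
      apply Nat.card_le_card_of_injective f
      intro x y
      induction x using QuotientGroup.induction_on with
      | H x =>
      induction y using QuotientGroup.induction_on with
      | H y =>
      intro hxy
      have h5 : (x : G) * v * (x : G)⁻¹ = (y : G) * v * (y : G)⁻¹ := congrArg Subtype.val hxy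
      rw [QuotientGroup.eq, mem_subgroupOf]
      have h6 : ((x : G)⁻¹ * (y : G)) * v = v * ((x : G)⁻¹ * (y : G)) := by
        calc ((x : G)⁻¹ * (y : G)) * v = (x : G)⁻¹ * ((y : G) * v * (y : G)⁻¹) * y := by group
          _ = (x : G)⁻¹ * ((x : G) * v * (x : G)⁻¹) * y := by rw [h5]
          _ = _ := by group
      exact (hD.free _ (mul_mem (inv_mem x.2) y.2) v (hZ' hv).1 h6).resolve_right hv1
    rw [← h1] at h2
    have h4 : q * q = q ^ 2 := by ring
    have h5 : 3 * q ≤ q * q := Nat.mul_le_mul_right _ hq2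
    omega
  · have h1 := hD.card
    rw [hcard] at h1
    have h2 : q ≤ q' := by
      have hfin : Finite ((U a ⊓ centralizer (Y : Set G)) ⊓
        centralizer ((U a ⊓ centralizer (Y : Set G) : Subgroup G) : Set G) : Subgroup G) :=
        Nat.finite_of_card_ne_zero (by rw [hD.cardZ]; have := hD.pow.two_le; omega)
      rw [← hT.cardZ, ← hD.cardZ]
      exact Nat.card_le_card_of_injective _ (inclusion_injective hZ')
    have h3 : q ^ 3 ≤ q' ^ 3 := Nat.pow_le_pow_left h2 3
    rw [← h1] at h3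
    have h4 : q ^ 2 < q ^ 3 := Nat.pow_lt_pow_right (by omega) (by norm_num)
    omega
  · have h1 := hD.card
    rw [hcard, ← pow_mul] at h1
    have h2 := congrArg (fun k => k.factorization 3) h1
    simp only [Nat.factorization_pow, Finsupp.smul_apply, smul_eq_mul,
      Nat.Prime.factorization_self Nat.prime_three] at h2
    obtain ⟨j, hj⟩ := hD.odd
    omega

/-- **RIG facts, type `DU`** -/
theorem rigU (h : SSplit U) (hab : b ≠ a) (hX : X ≤ Dab G a b) {q : ℕ} {s : G}
    (hs : RigElt X a b s)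
    (hT : DU (genFix U X) (U a ⊓ centralizer (X : Set G)) (Dab G a b ⊓ genFix U X) (kerFix Ω X)
      (fun w => w ∈ genFix U X ∧ Swaps w a b) q)
    (IH : U a ⊓ centralizer ((X ⊔ zpowers s : Subgroup G) : Set G) ≠ ⊥ →
      XType U (X ⊔ zpowers s) a b) :
    s ∈ kerFix Ω X ∨
    (∀ z ∈ Dab G a b ⊓ genFix U X, z ∉ kerFix Ω X → z * z ∈ kerFix Ω X → s * z ∈ kerFix Ω X) ∨
    (Nat.card (U a ⊓ centralizer (X : Set G) ⊓ centralizer ({s} : Set G) : Subgroup G) = q ∧
      (∀ u ∈ U a ⊓ centralizer (X : Set G), (∀ v ∈ U a ⊓ centralizer (X : Set G), u * v = v * u) →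
        s * u * s⁻¹ = u⁻¹) ∧
      ∀ d ∈ Dab G a b ⊓ genFix U X, s * d * s⁻¹ * (d ^ q)⁻¹ ∈ kerFix Ω X) := by
  have hq2 : 2 < q := by
    have h1 := hT.pow.two_le
    obtain ⟨k, hk⟩ := hT.odd
    omega
  rcases Rig.du hT (fun d hd => h.conj_EP hd) (fun k hk => h.comm_kerFix hab hX hk)
    (fun u hu => hs.conj_P h hu) (fun d hd => hs.conj_E h hd) (h.comm_kerFix hab hX hs.sq) with
    h1 | h1 | ⟨h1, h2, h3⟩ | ⟨h1, h2, h3⟩
  · exact Or.inl (h.mem_kerFix_of_comm hab hX hs.mem h1)
  · right; left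
    intro z hz hz1 hz2
    exact h.mem_kerFix_of_comm hab hX ((Dab G a b).mul_mem hs.mem hz.1) (h1 z hz hz1 hz2)
  · right; right
    refine ⟨h1, h2, fun d hd => ?_⟩
    have hd1 := (hs.conj_E h hd)
    have hd2 : d ^ q ∈ Dab G a b ⊓ genFix U X := Subgroup.pow_mem _ hd q
    refine h.mem_kerFix_of_comm hab hX ((Dab G a b).mul_mem hd1.1 ((Dab G a b).inv_mem hd2.1)) ?_
    intro u hu
    have h4 := h.conj_EP (inv_mem hd2) u hu
    rw [inv_inv] at h4
    have h5 := h3 d hd _ h4
    have h6 : d ^ q * ((d ^ q)⁻¹ * u * d ^ q) * (d ^ q)⁻¹ = u := by group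
    rw [h6] at h5
    calc s * d * s⁻¹ * (d ^ q)⁻¹ * u
        = s * d * s⁻¹ * ((d ^ q)⁻¹ * u * d ^ q) * (s * d * s⁻¹)⁻¹ * (s * d * s⁻¹ * (d ^ q)⁻¹) := by
          group
      _ = u * (s * d * s⁻¹ * (d ^ q)⁻¹) := by rw [h5]
  · exfalso
    rw [← inf_centralizer_sup] at h1
    have hY : X ⊔ zpowers s ≤ Dab G a b := sup_le hX (by rw [zpowers_le]; exact hs.mem)
    refine h.no_sq hab (Y := X ⊔ zpowers s) le_sup_left hY hT h1 ?_ (IH ?_)
    · intro u hu hc
      rw [centralizer_sup]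
      refine mem_inf.2 ⟨hu.2, ?_⟩
      rw [mem_centralizer_singleton_iff]
      exact (h2 u hu hc).symm
    · intro hb
      rw [hb, card_bot] at h1
      have h4 : q ^ 2 = q * q := by ring
      have h5 : 3 * q ≤ q * q := Nat.mul_le_mul_right _ hq2
      omega

end SSplit

end Cfsg.Agent.HKS
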