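import Mathlib
import Cfsg.Agent.HKS.SLCoord
import Cfsg.Agent.HKS.RigFix

/-!
# `SL₂` coordinates: range, torus, swaps

`S : SLX U X a b φ`.

* `range_eq` : `genFix U X = φ.range`;
* `swaps_mM`, `nM_mem_Dab`; `eq_nM_of_Dab`, `eq_mM_of_swaps`, `eq_one_of_kerFix`.
-/

set_option autoImplicit false

namespace Cfsg.Agent.HKS.SLXAux

open Subgroup MulAction Cfsg.Agent.HKS Cfsg.Agent.ONan.SL2Hom Cfsg.Agent.HKS.SLRel
  Cfsg.Agent.HKS.SLCoord

section mat

variable {F : Type*} [Field F]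

theorem neg_one_ne : (-1 : F) ≠ 0 := neg_ne_zero.mpr one_ne_zero

/-- the matrix `-1` -/
def zM : Matrix.SpecialLinearGroup (Fin 2) F := nM (-1) neg_one_ne

theorem mM_mul_mM (c : F) (hc : c ≠ 0) : mM c hc * mM c hc = zM := by
  apply ext' <;> simp [mul_apply', zM, hc]

theorem zM_mul_zM : (zM : Matrix.SpecialLinearGroup (Fin 2) F) * zM = 1 := by
  apply ext' <;> simp [mul_apply', zM]

theorem mM_mul_mM' (r : F) (hr : r ≠ 0) : mM (-r) (neg_ne_zero.2 hr) * mM 1 one_ne_zero = nM r hr := by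
  apply ext' <;> simp [mul_apply']

theorem mM_mul_nM (r : F) (hr : r ≠ 0) : mM 1 one_ne_zero * nM r hr = mM r⁻¹ (inv_ne_zero hr) := by
  apply ext' <;> simp [mul_apply']

theorem nM_mul_nM (r s : F) (hr : r ≠ 0) (hs : s ≠ 0) :
    nM r hr * nM s hs = nM (r * s) (mul_ne_zero hr hs) := by
  apply ext' <;> simp [mul_apply', mul_comm]

theorem nM_tM (r : F) (hr : r ≠ 0) (s : F) : nM r hr * tM s = tM (r ^ 2 * s) * nM r hr := by
  apply ext' <;> (simp [mul_apply']; try field_simp)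

theorem nM_lM (r : F) (hr : r ≠ 0) (s : F) : nM r hr * lM s = lM (r⁻¹ ^ 2 * s) * nM r hr := by
  apply ext' <;> (simp [mul_apply']; try field_simp)

theorem nM_eq_one {r : F} (hr : r ≠ 0) (h : r = 1) : nM r hr = 1 := by
  subst h
  apply ext' <;> simp

theorem nM_eq_zM {r : F} (hr : r ≠ 0) (h : r = -1) : nM r hr = zM := by
  subst h
  rfl

theorem eq_nM_of_zero {A : Matrix.SpecialLinearGroup (Fin 2) F} (h10 : A.1 1 0 = 0)
    (h01 : A.1 0 1 = 0) : ∃ (r : F) (hr : r ≠ 0), A = nM r hr := by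
  have hd := det_eq A
  rw [h01, zero_mul, sub_zero] at hd
  have h0 : A.1 0 0 ≠ 0 := left_ne_zero_of_mul_eq_one hd
  refine ⟨A.1 0 0, h0, ?_⟩
  apply ext'
  · simp
  · simp [h01]
  · simp [h10]
  · rw [nM_11]; exact eq_inv_of_mul_eq_one_right hd

end mat

section slx

variable {G Ω F : Type*} [Group G] [MulAction G Ω] [Field F] {U : Ω → Subgroup G} {X : Subgroup G}
  {a b : Ω} {φ : Matrix.SpecialLinearGroup (Fin 2) F →* G}

theorem phi_mM_mem (S : SLX U X a b φ) (c : F) (hc : c ≠ 0) : φ (mM c hc) ∈ genFix U X := by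
  have h1 := wS_tM (F := F) (s := -c) (neg_ne_zero.2 hc)
  have h2 : mM c hc = wS (tM : F → _) lM (-c) := by
    rw [h1]
    apply ext' <;> simp
  rw [h2, wS, map_mul, map_mul]
  have ht := inf_le_genFix (U := U) S.fixa (S.up (-c))
  exact mul_mem (mul_mem ht (inf_le_genFix S.fixb (S.lo _))) ht

theorem phi_mem (S : SLX U X a b φ) (A : Matrix.SpecialLinearGroup (Fin 2) F) :
    φ A ∈ genFix U X := by
  have hn : ∀ (r : F) (hr : r ≠ 0), φ (nM r hr) ∈ genFix U X := by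
    intro r hr
    rw [← mM_mul_mM' r hr, map_mul]
    exact mul_mem (phi_mM_mem S _ _) (phi_mM_mem S _ _)
  rcases decomp (one_ne_zero : (1 : F) ≠ 0) A with ⟨r, hr, x, rfl⟩ | ⟨r, hr, x, y, rfl⟩
  · rw [map_mul]
    exact mul_mem (hn r hr) (inf_le_genFix S.fixa (S.up x))
  · rw [map_mul, map_mul, map_mul]
    exact mul_mem (inf_le_genFix S.fixa (S.up x)) (mul_mem (hn r hr)
      (mul_mem (phi_mM_mem S _ _) (inf_le_genFix S.fixa (S.up y))))

theorem range_eq (h : SSplit U) (S : SLX U X a b φ) {g : G} (hg : g ∈ genFix U X) :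
    ∃ A, φ A = g := by
  have h1 : genFix U X ≤ φ.range := by
    rw [genFix_eq_sup h S.ne S.fixa S.fixb]
    apply sup_le
    · intro u hu
      obtain ⟨s, hs⟩ := S.up_surj u hu
      exact ⟨_, hs⟩
    · intro u hu
      obtain ⟨s, hs⟩ := S.lo_surj u hu
      exact ⟨_, hs⟩
  exact h1 hg

theorem phi_tM_ne (S : SLX U X a b φ) : φ (tM 1) ≠ 1 := fun h => one_ne_zero (S.inj 1 h)

theorem phi_lM_ne (S : SLX U X a b φ) : φ (lM 1) ≠ 1 := by
  intro h
  apply phi_tM_ne S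
  have h1 := mM_lM (1 : F) one_ne_zero (-1)
  have h2 : -((1 : F) ^ 2 * -1) = 1 := by ring
  rw [h2] at h1
  have h3 : tM (1 : F) = mM 1 one_ne_zero * (lM 1)⁻¹ * (mM 1 one_ne_zero)⁻¹ := by
    have h4 : (lM (1 : F))⁻¹ = lM (-1) := by
      rw [inv_eq_iff_mul_eq_one, ← lM_add, add_neg_cancel, lM_zero]
    rw [h4, h1]
    group
  rw [h3, map_mul, map_mul, map_inv, h, inv_one, mul_one, ← map_mul, mul_inv_cancel, map_one]

theorem swaps_mM (h : SSplit U) (S : SLX U X a b φ) (c : F) (hc : c ≠ 0) :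
    Swaps (φ (mM c hc)) a b := by
  constructor
  · by_contra hne
    have h1 : φ (mM c hc) * φ (tM 1) * (φ (mM c hc))⁻¹ = φ (lM (-(c⁻¹ ^ 2 * 1))) := by
      rw [← map_mul, mM_tM, map_mul, mul_inv_cancel_right]
    have h2 : φ (mM c hc) * φ (tM 1) * (φ (mM c hc))⁻¹ ∈ U (φ (mM c hc) • a) :=
      h.conj _ (S.up 1).1
    have h3 : φ (mM c hc) * φ (tM 1) * (φ (mM c hc))⁻¹ ∈ U b := by
      rw [h1]; exact (S.lo _).1
    have h4 := h.inf_eq_bot (Ne.symm hne) h2 h3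
    exact phi_tM_ne S (conj_eq_one_iff.1 h4)
  · by_contra hne
    have h1 : φ (mM c hc) * φ (lM 1) * (φ (mM c hc))⁻¹ = φ (tM (-(c ^ 2 * 1))) := by
      rw [← map_mul, mM_lM, map_mul, mul_inv_cancel_right]
    have h2 : φ (mM c hc) * φ (lM 1) * (φ (mM c hc))⁻¹ ∈ U (φ (mM c hc) • b) :=
      h.conj _ (S.lo 1).1
    have h3 : φ (mM c hc) * φ (lM 1) * (φ (mM c hc))⁻¹ ∈ U a := by
      rw [h1]; exact (S.up _).1
    have h4 := h.inf_eq_bot (Ne.symm hne) h2 h3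
    exact phi_lM_ne S (conj_eq_one_iff.1 h4)

theorem nM_mem_Dab (h : SSplit U) (S : SLX U X a b φ) (r : F) (hr : r ≠ 0) :
    φ (nM r hr) ∈ Dab G a b := by
  rw [← mM_mul_mM' r hr, map_mul]
  exact (swaps_mM h S _ _).mul (swaps_mM h S _ _)

theorem eq_nM_of_Dab (h : SSplit U) (S : SLX U X a b φ)
    {A : Matrix.SpecialLinearGroup (Fin 2) F} (hA : φ A ∈ Dab G a b) :
    ∃ (r : F) (hr : r ≠ 0), A = nM r hr := by
  rcases decomp (one_ne_zero : (1 : F) ≠ 0) A with ⟨r, hr, x, rfl⟩ | ⟨r, hr, x, y, rfl⟩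
  · refine ⟨r, hr, ?_⟩
    have h1 : φ (tM x) • b = b := by
      have h2 := hA.2
      change φ (nM r hr * tM x) • b = b at h2
      rw [map_mul, mul_smul, smul_eq_iff_eq_inv_smul] at h2
      rw [h2]
      exact (inv_mem (nM_mem_Dab h S r hr)).2
    have h3 := h.free S.ne (S.up x).1 h1
    rw [S.inj x h3, tM_zero, mul_one]
  · exfalso
    have h2 := hA.1
    change φ (tM x * (nM r hr * (mM 1 one_ne_zero * tM y))) • a = a at h2
    rw [map_mul, map_mul, map_mul, mul_smul, mul_smul, mul_smul, h.fix (S.up y).1,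
      (swaps_mM h S _ _).1, (nM_mem_Dab h S r hr).2] at h2
    exact h.smul_ne_center S.ne (S.up x).1 h2

theorem eq_mM_of_swaps (h : SSplit U) (S : SLX U X a b φ)
    {A : Matrix.SpecialLinearGroup (Fin 2) F} (hA : Swaps (φ A) a b) :
    ∃ (c : F) (hc : c ≠ 0), A = mM c hc := by
  have h1 : φ ((mM 1 one_ne_zero)⁻¹ * A) ∈ Dab G a b := by
    rw [map_mul, map_inv]
    exact (swaps_mM h S _ _).inv.mul hA
  obtain ⟨r, hr, h2⟩ := eq_nM_of_Dab h S h1
  refine ⟨r⁻¹, inv_ne_zero hr, ?_⟩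
  rw [← mM_mul_nM r hr, ← h2, mul_inv_cancel_left]

theorem eq_of_tM_eq (S : SLX U X a b φ) {r s : F} (he : φ (tM r) = φ (tM s)) : r = s := by
  have h1 : φ (tM (r - s)) = 1 := by
    rw [sub_eq_add_neg, tM_add, map_mul]
    have h2 : tM (-s) = (tM s)⁻¹ := by
      rw [eq_inv_iff_mul_eq_one, ← tM_add, neg_add_cancel, tM_zero]
    rw [h2, map_inv, he, mul_inv_cancel]
  exact sub_eq_zero.1 (S.inj _ h1)

theorem phi_nM_conj (S : SLX U X a b φ) (r : F) (hr : r ≠ 0) (s : F) :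
    φ (nM r hr) * φ (tM s) * (φ (nM r hr))⁻¹ = φ (tM (r ^ 2 * s)) := by
  have _ := S
  rw [← map_mul, nM_tM, map_mul, mul_inv_cancel_right]

/-- an element of `genFix` in the kernel is `1` or `φ(-1)` -/
theorem eq_of_kerFix (h : SSplit U) (S : SLX U X a b φ) (hX : X ≤ Dab G a b) {g : G}
    (hg : g ∈ genFix U X) (hk : g ∈ kerFix Ω X) : g = 1 ∨ g = φ zM := by
  obtain ⟨A, rfl⟩ := range_eq h S hg
  have hD : φ A ∈ Dab G a b := ⟨hk a S.fixa, hk b S.fixb⟩
  obtain ⟨r, hr, rfl⟩ := eq_nM_of_Dab h S hD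
  have h1 := h.comm_kerFix S.ne hX hk _ (S.up 1)
  have h2 := phi_nM_conj S r hr 1
  rw [h1, mul_inv_cancel_right] at h2
  have h3 := eq_of_tM_eq S h2
  have h4 : (r - 1) * (r + 1) = 0 := by linear_combination -h3
  rcases mul_eq_zero.1 h4 with h5 | h5
  · left
    rw [nM_eq_one hr (sub_eq_zero.1 h5), map_one]
  · right
    rw [nM_eq_zM hr (eq_neg_of_add_eq_zero_left h5)]

theorem zM_comm (A : Matrix.SpecialLinearGroup (Fin 2) F) : zM * A = A * zM := by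
  apply ext' <;> simp [mul_apply', zM]

theorem phi_zM_mem_kerFix (h : SSplit U) (S : SLX U X a b φ) (hX : X ≤ Dab G a b) :
    φ zM ∈ kerFix Ω X := by
  refine h.mem_kerFix_of_comm S.ne hX (nM_mem_Dab h S _ _) ?_
  intro u hu
  obtain ⟨s, rfl⟩ := S.up_surj u hu
  rw [← map_mul, zM_comm, map_mul]

end slx

end Cfsg.Agent.HKS.SLXAux
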