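import Mathlib
import Cfsg.Agent.HKS.SLXAux
import Cfsg.Agent.HKS.SLXFacts
import Cfsg.Agent.HKS.SLNorm
import Cfsg.Agent.HKS.FourZero
import Cfsg.Agent.Lib.KleinOrder

/-!
# Four-groups of `G_ab`: type `(2,2,2)`

`cc U a x = |C_{U a}(x)|`, `c2 U a x y = |C_{U a}(x) ∩ C_{U a}(y)|`.

`kill222`: commuting involutions `s, t` of `G_ab` with `c2 s t = q > 1` and
`cc s = cc t = cc (s t) = q²` do not exist, provided `cc x ≠ c2 x y` for all commuting involutions
`x ≠ y` of `G_ab` with `c2 x y > 1`.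
-/

set_option autoImplicit false
set_option linter.unusedSectionVars false

namespace Cfsg.Agent.HKS.FourTwo

open Subgroup MulAction Cfsg.Agent.HKS Cfsg.Agent.ONan.SL2Hom Cfsg.Agent.HKS.SLCoord
  Cfsg.Agent.HKS.SLXAux

section num

variable {G Ω : Type*} [Group G] [MulAction G Ω]

theorem card_congr_sub {G : Type*} [Group G] {A B : Subgroup G} (h : A = B) :
    Nat.card A = Nat.card B := by rw [h]

/-- `|C_{U a}(x)|` -/
noncomputable def cc (U : Ω → Subgroup G) (a : Ω) (x : G) : ℕ :=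
  Nat.card (U a ⊓ centralizer ({x} : Set G) : Subgroup G)

/-- `|C_{U a}(x, y)|` -/
noncomputable def c2 (U : Ω → Subgroup G) (a : Ω) (x y : G) : ℕ :=
  Nat.card (U a ⊓ centralizer ({x} : Set G) ⊓ centralizer ({y} : Set G) : Subgroup G)

/-- no `e = 1` -/
def NoOne (U : Ω → Subgroup G) (a b : Ω) : Prop :=
  ∀ x ∈ Dab G a b, ∀ y ∈ Dab G a b, x ≠ 1 → y ≠ 1 → x ≠ y → x * x = 1 → y * y = 1 →
    x * y = y * x → 1 < c2 U a x y → cc U a x ≠ c2 U a x y

variable {U : Ω → Subgroup G} {a b : Ω}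

theorem mem_cc {x u : G} : u ∈ (U a ⊓ centralizer ({x} : Set G) : Subgroup G) ↔
    u ∈ U a ∧ x * u = u * x := by
  rw [mem_inf, mem_centralizer_singleton_iff]
  exact ⟨fun h => ⟨h.1, h.2.symm⟩, fun h => ⟨h.1, h.2.symm⟩⟩

theorem mem_c2 {x y u : G} :
    u ∈ (U a ⊓ centralizer ({x} : Set G) ⊓ centralizer ({y} : Set G) : Subgroup G) ↔
      u ∈ U a ∧ x * u = u * x ∧ y * u = u * y := by
  rw [mem_inf, mem_cc, mem_centralizer_singleton_iff]
  exact ⟨fun h => ⟨h.1.1, h.1.2, h.2.symm⟩, fun h => ⟨⟨h.1, h.2.1⟩, h.2.2.symm⟩⟩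

theorem c2_comm (x y : G) : c2 U a x y = c2 U a y x := by
  exact card_congr_sub (inf_right_comm _ _ _)

theorem centralizer_zpowers (x : G) :
    centralizer (zpowers x : Set G) = centralizer ({x} : Set G) := by
  ext g
  rw [FourZero.mem_cent, mem_centralizer_singleton_iff]
  exact eq_comm

theorem cc_zpowers (x : G) :
    Nat.card (U a ⊓ centralizer (zpowers x : Set G) : Subgroup G) = cc U a x := by
  rw [centralizer_zpowers]; rfl

theorem c2_zpowers (x y : G) :
    Nat.card (U a ⊓ centralizer (zpowers x : Set G) ⊓ centralizer ({y} : Set G) : Subgroup G) =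
      c2 U a x y := by
  rw [centralizer_zpowers]; rfl

/-- if `y` centralises `C_{U a}(x)` then `c2 x y = cc x` -/
theorem c2_eq_cc {x y : G} (h : ∀ u ∈ U a, x * u = u * x → y * u = u * y) :
    c2 U a x y = cc U a x := by
  unfold c2 cc
  refine card_congr_sub (le_antisymm inf_le_left ?_)
  intro u hu
  have h1 := mem_cc.1 hu
  exact mem_c2.2 ⟨h1.1, h1.2, h u h1.1 h1.2⟩

theorem c2_congr {x y x' y' : G}
    (h : ∀ u ∈ U a, (x * u = u * x ∧ y * u = u * y) ↔ (x' * u = u * x' ∧ y' * u = u * y')) :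
    c2 U a x y = c2 U a x' y' := by
  unfold c2
  apply card_congr_sub
  ext u
  rw [mem_c2, mem_c2]
  exact ⟨fun hu => ⟨hu.1, (h u hu.1).1 hu.2⟩, fun hu => ⟨hu.1, (h u hu.1).2 hu.2⟩⟩

theorem c2_eq_one {x y : G} (h : ∀ u ∈ U a, x * u = u * x → y * u = u * y → u = 1) :
    c2 U a x y = 1 := by
  unfold c2
  rw [card_eq_one, eq_bot_iff]
  intro u hu
  have h1 := mem_c2.1 hu
  exact mem_bot.2 (h u h1.1 h1.2.1 h1.2.2)

theorem exists_c2 {x y : G} (h : 1 < c2 U a x y) :
    ∃ u ∈ U a, u ≠ 1 ∧ x * u = u * x ∧ y * u = u * y := by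
  by_contra hc
  push Not at hc
  have h1 := c2_eq_one (U := U) (a := a) (x := x) (y := y) (fun u hu hx hy => by
    by_contra hu1
    exact hc u hu hu1 hx hy)
  omega

/-- `u` with `u * u = 1` in a group of odd order -/
theorem eq_one_of_inv {P : Subgroup G} (hodd : Odd (Nat.card P)) {u : G} (hu : u ∈ P)
    (h : u = u⁻¹) : u = 1 := by
  obtain ⟨n, hn⟩ := hodd
  have hfin : Finite P := Nat.finite_of_card_ne_zero (by omega)
  have h2 : u * u = 1 := by
    nth_rewrite 2 [h]
    exact mul_inv_cancel u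
  have h3 : u ^ (2 * n + 1) = 1 := by
    have := pow_card_eq_one' (x := (⟨u, hu⟩ : P))
    rw [hn] at this
    exact congrArg Subtype.val this
  rwa [pow_succ, pow_mul, pow_two, h2, one_pow, one_mul] at h3

/-- the four-group formula on `C_{U a}(x)` -/
theorem card_three (h : SSplit U) [Finite Ω] (hodd : Odd (Nat.card (U a))) {x y z : G}
    (hya : y • a = a) (hza : z • a = a) (hyy : y * y = 1) (hzz : z * z = 1)
    (hxy : x * y = y * x) (hxz : x * z = z * x) (hyz : y * z = z * y)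
    (h1 : ∀ u ∈ U a, x * u = u * x → y * u = u * y → z * u = u * z → u = 1) :
    cc U a x = c2 U a x y * c2 U a x z * c2 U a x (y * z) := by
  have hfin := h.finite_U a
  have hodd' : Odd (Nat.card (U a ⊓ centralizer ({x} : Set G) : Subgroup G)) :=
    hodd.of_dvd_nat (card_dvd_of_le inf_le_left)
  have hconj : ∀ r : G, r • a = a → x * r = r * x → ∀ u ∈ U a ⊓ centralizer ({x} : Set G),
      r * u * r⁻¹ ∈ U a ⊓ centralizer ({x} : Set G) := by
    intro r hr hxr u hu
    obtain ⟨hu1, hu2⟩ := mem_cc.1 hu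
    refine mem_cc.2 ⟨h.conj_of_fix hr hu1, ?_⟩
    have hri : x * r⁻¹ = r⁻¹ * x := by
      calc x * r⁻¹ = r⁻¹ * (r * x) * r⁻¹ := by group
        _ = r⁻¹ * (x * r) * r⁻¹ := by rw [hxr]
        _ = r⁻¹ * x := by group
    calc x * (r * u * r⁻¹) = (x * r) * u * r⁻¹ := by group
      _ = r * (x * u) * r⁻¹ := by rw [hxr]; group
      _ = r * u * (x * r⁻¹) := by rw [hu2]; group
      _ = r * u * r⁻¹ * x := by rw [hri]; group
  have key := Lib.KleinOrder.card_klein (a := y) (b := z)
    (U a ⊓ centralizer ({x} : Set G)) hodd' hyy hzz hyz (hconj y hya hxy) (hconj z hza hxz)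
  have h2 : Nat.card (U a ⊓ centralizer ({x} : Set G) ⊓ centralizer {y} ⊓ centralizer {z} :
      Subgroup G) = 1 := by
    rw [card_eq_one, eq_bot_iff]
    intro u hu
    obtain ⟨hu1, hu2⟩ := mem_inf.1 hu
    obtain ⟨h3, h4, h5⟩ := mem_c2.1 hu1
    exact mem_bot.2 (h1 u h3 h4 h5 (mem_centralizer_singleton_iff.1 hu2).symm)
  rw [h2, one_pow, mul_one] at key
  exact key

end num

section ctx

variable {G Ω : Type*} [Group G] [MulAction G Ω] {U : Ω → Subgroup G} {a b : Ω} {p k : ℕ}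

/-- `cc x > 1` -/
theorem one_lt_cc [Finite Ω] (C : CtxE U a b p k) {x : G} (hx : x ∈ Dab G a b) (hx1 : x ≠ 1)
    (hxx : x * x = 1) : 1 < cc U a x := by
  obtain ⟨u, hu, hu1, hxu⟩ := FourZero.P_ne_bot' C hx hx1 hxx
  have hfin := C.split.finite_U a
  have : Finite (U a ⊓ centralizer ({x} : Set G) : Subgroup G) :=
    Finite.of_injective (inclusion inf_le_left) (inclusion_injective _)
  unfold cc
  rw [Finite.one_lt_card_iff_nontrivial]
  exact ⟨⟨⟨u, mem_cc.2 ⟨hu, hxu⟩⟩, 1, fun e => hu1 (congrArg Subtype.val e)⟩⟩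

theorem IHx (C : CtxE U a b p k) {x : G} (hx : x ∈ Dab G a b) (hx1 : x ≠ 1)
    (h : 1 < cc U a x) : XType U (zpowers x) a b := by
  refine C.IH (zpowers x) (zpowers_le.2 hx) (by rwa [Ne, zpowers_eq_bot]) ?_
  intro hb
  rw [← cc_zpowers, hb, card_bot] at h
  exact absurd h (lt_irrefl _)

theorem pow_six {q Q : ℕ} (h : Q ^ 3 = q ^ 2) (h1 : q = Q) (hq : 1 < q) : False := by
  subst h1
  have h2 : q ^ 3 = q * q ^ 2 := by ring
  rw [h2] at h
  have h3 : 0 < q ^ 2 := by positivity
  nlinarith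

/-- the type of `x` is `PSL(2,q²)` if `cc x = q²`, `c2 x y = q` -/
theorem dl_of_sq [Finite Ω] (C : CtxE U a b p k) {x y : G} (hx : x ∈ Dab G a b) (hx1 : x ≠ 1)
    (hy : y ∈ Dab G a b) (hxy : x * y = y * x) (hyy : y * y = 1) {q : ℕ} (hq : 1 < q)
    (hc : cc U a x = q ^ 2) (h2 : c2 U a x y = q) :
    DL (genFix U (zpowers x)) (U a ⊓ centralizer (zpowers x : Set G))
      (Dab G a b ⊓ genFix U (zpowers x)) (kerFix Ω (zpowers x))
      (fun w => w ∈ genFix U (zpowers x) ∧ Swaps w a b) (q ^ 2) := by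
  have hqodd : Odd (q ^ 2) := by
    rw [← hc]
    have hfin := C.split.finite_U a
    exact (FourZero.odd_U C).of_dvd_nat (card_dvd_of_le inf_le_left)
  have hq8 : q ^ 2 % 8 = 1 := by
    have hqo : Odd q := Nat.Odd.of_mul_left (by rwa [pow_two] at hqodd)
    obtain ⟨j, rfl⟩ := hqo
    obtain ⟨l, hl⟩ := Nat.even_mul_succ_self j
    have h1 : (2 * j + 1) ^ 2 = 4 * (j * (j + 1)) + 1 := by ring
    rw [h1, hl]
    omega
  have hX : zpowers x ≤ Dab G a b := zpowers_le.2 hx
  have hcx := cc_zpowers (U := U) (a := a) x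
  have hqq : q < q ^ 2 := by nlinarith
  have hs : RigElt (zpowers x) a b y := by
    refine RigElt.of_comm hy ?_ ?_
    · rintro _ ⟨n, rfl⟩
      exact ((show Commute x y from hxy).zpow_left n).symm
    · rw [hyy]
      exact one_mem _
  rcases IHx C hx hx1 (by rw [hc]; omega) with hT | ⟨Q, hT⟩ | ⟨Q, hT⟩ | ⟨n, hT⟩
  · exfalso
    obtain ⟨r, hr, h1⟩ := hT.card
    rw [hcx, hc] at h1
    obtain ⟨j, rfl⟩ : ∃ j, r = j + 2 := ⟨r - 2, by omega⟩
    rw [pow_add] at h1
    omega
  · have h1 := hT.card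
    rw [hcx, hc] at h1
    rw [h1]
    exact hT
  · exfalso
    have h1 := hT.card
    rw [hcx, hc] at h1
    rcases C.split.rigU C.ne hX hs hT (fun hb => C.IH _ (sup_le hX (zpowers_le.2 hy))
      (fun e => hx1 (by
        have h3 : x ∈ zpowers x ⊔ zpowers y := mem_sup_left (mem_zpowers x)
        rw [e] at h3
        exact mem_bot.1 h3)) hb) with h3 | h3 | h3
    · have h4 : c2 U a x y = cc U a x := c2_eq_cc fun u hu hxu =>
        C.split.comm_kerFix C.ne hX h3 u ⟨hu, FourZero.mem_cent.2 hxu⟩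
      omega
    · obtain ⟨z, hzE, hzK, hzz, hz⟩ := hT.invol
      have h4 := h3 z hzE hzK (by rw [hzz]; exact one_mem _)
      have h5 : c2 U a x y = Q := by
        rw [← hT.cardZ]
        unfold c2
        apply card_congr_sub
        ext u
        rw [mem_c2, mem_inf, mem_inf, mem_centralizer_iff]
        constructor
        · rintro ⟨hu, hxu, hyu⟩
          have hu' : u ∈ U a ⊓ centralizer (zpowers x : Set G) := ⟨hu, FourZero.mem_cent.2 hxu⟩
          refine ⟨hu', fun v hv => ?_⟩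
          have h6 : (y * z) * u = u * (y * z) := C.split.comm_kerFix C.ne hX h4 u hu'
          have h7 : z * u = u * z := by
            have h8 : y * (z * u) = y * (u * z) := by
              rw [← mul_assoc, h6, ← mul_assoc, ← mul_assoc, hyu]
            exact mul_left_cancel h8
          exact ((hz u hu').1 h7 v hv).symm
        · rintro ⟨hu', hv⟩
          refine ⟨hu'.1, FourZero.mem_cent.1 hu'.2, ?_⟩
          have h6 : (y * z) * u = u * (y * z) := C.split.comm_kerFix C.ne hX h4 u hu'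
          have h7 : z * u = u * z := (hz u hu').2 fun v hv' => (hv v hv').symm
          have h8 : y * u * z = u * y * z := by
            rw [mul_assoc, ← h7, ← mul_assoc, h6, mul_assoc]
          exact mul_right_cancel h8
      exact pow_six h1.symm (h2.symm.trans h5) hq
    · have h4 := h3.1
      rw [c2_zpowers, h2] at h4
      exact pow_six h1.symm h4 hq
  · exfalso
    have h1 := hT.card
    rw [hcx, hc, ← pow_mul] at h1
    have h3 := congrArg (fun k => k.factorization 3) h1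
    simp only [Nat.factorization_pow, Finsupp.smul_apply, smul_eq_mul,
      Nat.Prime.factorization_self Nat.prime_three] at h3
    obtain ⟨j, hj⟩ := hT.odd
    omega

/-- case `φ(-1) ≠ 1` -/
theorem caseA [Finite Ω] (C : CtxE U a b p k) (H : NoOne U a b) {s t : G}
    (hs : s ∈ Dab G a b) (ht : t ∈ Dab G a b) (hs1 : s ≠ 1) (hss : s * s = 1)
    (h2 : 1 < c2 U a s t) (hne : c2 U a s t ≠ cc U a t)
    {q : ℕ} (hT : DL (genFix U (zpowers t)) (U a ⊓ centralizer (zpowers t : Set G))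
      (Dab G a b ⊓ genFix U (zpowers t)) (kerFix Ω (zpowers t))
      (fun w => w ∈ genFix U (zpowers t) ∧ Swaps w a b) q)
    {F : Type*} [Field F] {φ : Matrix.SpecialLinearGroup (Fin 2) F →* G}
    (S : SLX U (zpowers s) a b φ) : φ zM = 1 := by
  by_contra hz1
  have hXs : zpowers s ≤ Dab G a b := zpowers_le.2 hs
  have hXt : zpowers t ≤ Dab G a b := zpowers_le.2 ht
  have hzD : φ zM ∈ Dab G a b := nM_mem_Dab C.split S _ _
  have hzz : φ zM * φ zM = 1 := by rw [← map_mul, zM_mul_zM, map_one]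
  have hzK := phi_zM_mem_kerFix C.split S hXs
  have hsz : s * φ zM = φ zM * s :=
    FourZero.mem_cent.1 (PP1.genFix_le_centralizer _ (phi_mem S zM))
  obtain ⟨u, hu, hu1, hsu, htu⟩ := exists_c2 h2
  by_cases hzs : φ zM = s
  · -- `s ∈ genFix U V`
    set V := zpowers s ⊔ zpowers t with hV
    have hVD : V ≤ Dab G a b := sup_le hXs hXt
    have huV : u ∈ centralizer (V : Set G) := by
      rw [SSplit.centralizer_sup]
      exact mem_inf.2 ⟨FourZero.mem_cent.2 hsu, mem_centralizer_singleton_iff.2 htu.symm⟩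
    obtain ⟨m, hm, hsw⟩ : ∃ m ∈ genFix U V, Swaps m b a :=
      ⟨_, PP1.mu_mem_genFix C.split (a := b) (b := a) C.ne.symm (X := V)
        (by rw [Dab_symm]; exact hVD) hu hu1 huV,
        (C.split.mu_spec (a := b) (b := a) C.ne.symm hu hu1).1⟩
    obtain ⟨A, hA⟩ := range_eq C.split S (SSplit.genFix_mono le_sup_left hm)
    have hsw' : Swaps (φ A) a b := by rw [hA]; exact hsw.symm
    obtain ⟨c, hc, rfl⟩ := eq_mM_of_swaps C.split S hsw'
    have hmm : m * m = s := by
      rw [← hA, ← map_mul, mM_mul_mM, hzs]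
    have hsV : s ∈ genFix U V := by
      rw [← hmm]; exact mul_mem hm hm
    have hst' : s ∈ Dab G a b ⊓ genFix U (zpowers t) :=
      ⟨hs, SSplit.genFix_mono le_sup_right hsV⟩
    have huP : u ∈ U a ⊓ centralizer (zpowers t : Set G) := ⟨hu, FourZero.mem_cent.2 htu⟩
    rcases hT.free s hst' u huP hsu with h3 | h3
    · apply hne
      rw [c2_comm]
      exact c2_eq_cc fun v hv htv =>
        C.split.comm_kerFix C.ne hXt h3 v ⟨hv, FourZero.mem_cent.2 htv⟩
    · exact hu1 h3
  · have h3 : c2 U a s (φ zM) = cc U a s := c2_eq_cc fun v hv hsv =>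
      C.split.comm_kerFix C.ne hXs hzK v ⟨hv, FourZero.mem_cent.2 hsv⟩
    refine H s hs (φ zM) hzD hs1 hz1 (Ne.symm hzs) hss hzz hsz ?_ h3.symm
    rw [h3]
    exact one_lt_cc C hs hs1 hss

/-- case `φ(-1) = 1`: the involution of the torus of `L_s` -/
theorem exists_torus [Finite Ω] (C : CtxE U a b p k) {s : G}
    (hs : s ∈ Dab G a b) {F : Type*} [Field F] {φ : Matrix.SpecialLinearGroup (Fin 2) F →* G}
    (S : SLX U (zpowers s) a b φ) (h1 : φ zM = 1) {i : F} (hi : i * i = -1) :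
    ∃ y ∈ Dab G a b, y * y = 1 ∧ s * y = y * s ∧ (∀ u ∈ U a, s * u = u * s → y * u * y⁻¹ = u⁻¹) ∧
      ∀ t ∈ Dab G a b, s * t = t * s → t * t = 1 → t * y = y * t := by
  have hXs : zpowers s ≤ Dab G a b := zpowers_le.2 hs
  have hi0 : i ≠ 0 := by
    rintro rfl
    rw [mul_zero] at hi
    exact neg_one_ne hi.symm
  have hinv : ∀ u ∈ U a, s * u = u * s → φ (nM i hi0) * u * (φ (nM i hi0))⁻¹ = u⁻¹ := by
    intro u hu hsu
    obtain ⟨r, rfl⟩ := S.up_surj u ⟨hu, FourZero.mem_cent.2 hsu⟩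
    rw [phi_nM_conj S]
    have h2 : i ^ 2 * r = -r := by rw [pow_two, hi]; ring
    have h3 : tM (-r) = (tM r)⁻¹ := by
      rw [eq_inv_iff_mul_eq_one, ← SLCoord.tM_add, neg_add_cancel, tM_zero]
    rw [h2, h3, map_inv]
  have hyG : φ (nM i hi0) ∈ genFix U (zpowers s) := phi_mem S _
  refine ⟨φ (nM i hi0), nM_mem_Dab C.split S _ _, ?_,
    FourZero.mem_cent.1 (PP1.genFix_le_centralizer _ hyG), hinv, ?_⟩
  · rw [← map_mul, nM_mul_nM, ← h1]
    congr 1
    exact nM_eq_zM _ hi
  · intro t ht hst htt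
    set y := φ (nM i hi0) with hy
    have hti : t⁻¹ = t := inv_eq_of_mul_eq_one_left htt
    have hcs : ∀ x ∈ zpowers s, t⁻¹ * x * t ∈ zpowers s := by
      rintro _ ⟨n, rfl⟩
      have h2 : Commute (s ^ n) t := (show Commute s t from hst).zpow_left n
      change t⁻¹ * s ^ n * t ∈ zpowers s
      rw [mul_assoc, h2.eq, inv_mul_cancel_left]
      exact zpow_mem (mem_zpowers s) n
    have hg : t * y * t⁻¹ ∈ genFix U (zpowers s) := PP1.conj_genFix C.split hcs hyG
    have hd : y⁻¹ * (t * y * t⁻¹) ∈ kerFix Ω (zpowers s) := by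
      refine C.split.mem_kerFix_of_comm C.ne hXs ?_ ?_
      · have hyD := nM_mem_Dab C.split S i hi0
        exact mul_mem (inv_mem hyD) (mul_mem (mul_mem ht hyD) (inv_mem ht))
      · intro u hu
        have hu2 := FourZero.mem_cent.1 hu.2
        have h3 : t⁻¹ * u * t ∈ U a := C.split.conj_of_fix' ht.1 hu.1
        have h4 : s * (t⁻¹ * u * t) = t⁻¹ * u * t * s := by
          have hst' : s * t⁻¹ = t⁻¹ * s := by rw [hti]; exact hst
          calc s * (t⁻¹ * u * t) = (s * t⁻¹) * u * t := by group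
            _ = t⁻¹ * (s * u) * t := by rw [hst']; group
            _ = t⁻¹ * u * (s * t) := by rw [hu2]; group
            _ = t⁻¹ * u * t * s := by rw [hst]; group
        have h5 := hinv _ h3 h4
        have h6 := hinv u hu.1 hu2
        have h7 : (t * y * t⁻¹) * u * (t * y * t⁻¹)⁻¹ = u⁻¹ := by
          calc (t * y * t⁻¹) * u * (t * y * t⁻¹)⁻¹ = t * (y * (t⁻¹ * u * t) * y⁻¹) * t⁻¹ := by group
            _ = t * (t⁻¹ * u * t)⁻¹ * t⁻¹ := by rw [h5]
            _ = u⁻¹ := by group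
        have h8 : y⁻¹ * u⁻¹ * y = u := by
          rw [← h6]; group
        calc y⁻¹ * (t * y * t⁻¹) * u
            = y⁻¹ * ((t * y * t⁻¹) * u * (t * y * t⁻¹)⁻¹) * (t * y * t⁻¹) := by group
          _ = y⁻¹ * u⁻¹ * y * (y⁻¹ * (t * y * t⁻¹)) := by rw [h7]; group
          _ = u * (y⁻¹ * (t * y * t⁻¹)) := by rw [h8]
    have h2 : y⁻¹ * (t * y * t⁻¹) = 1 := by
      rcases SLXAux.eq_of_kerFix C.split S hXs (mul_mem (inv_mem hyG) hg) hd with h3 | h3
      · exact h3
      · rw [h3, h1]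
    have h3 : t * y * t⁻¹ = y := (inv_mul_eq_one.1 h2).symm
    calc t * y = t * y * t⁻¹ * t := by group
      _ = y * t := by rw [h3]

/-- **The kill of `(2,2,2)`.** -/
theorem kill222 [Finite Ω] (C : CtxE U a b p k) (H : NoOne U a b) {s t : G}
    (hs : s ∈ Dab G a b) (ht : t ∈ Dab G a b) (hs1 : s ≠ 1) (ht1 : t ≠ 1) (hst1 : s ≠ t)
    (hss : s * s = 1) (htt : t * t = 1) (hst : s * t = t * s) {q : ℕ} (hq : 1 < q)
    (h2 : c2 U a s t = q) (hcs : cc U a s = q ^ 2) (hct : cc U a t = q ^ 2)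
    (hcst : cc U a (s * t) = q ^ 2) : False := by
  have hodd := FourZero.odd_U C
  have hfinU := C.split.finite_U a
  have hqq : q < q ^ 2 := by nlinarith
  have hff : (s * t) * (s * t) = 1 := by
    calc (s * t) * (s * t) = s * (t * s) * t := by group
      _ = (s * s) * (t * t) := by rw [← hst]; group
      _ = 1 := by rw [hss, htt, mul_one]
  have hfD : s * t ∈ Dab G a b := mul_mem hs ht
  have hf1 : s * t ≠ 1 := fun h1 => hst1 (by
    have h2 := eq_inv_of_mul_eq_one_left h1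
    rw [h2]
    exact inv_eq_of_mul_eq_one_left htt)
  have hsf : s * (s * t) = (s * t) * s := by rw [mul_assoc, ← hst]
  have h2' : c2 U a (s * t) s = q := by
    rw [← h2]
    apply c2_congr
    intro u _
    constructor
    · rintro ⟨h3, h4⟩
      refine ⟨h4, ?_⟩
      have h5 : s * (t * u) = s * (u * t) := by
        rw [← mul_assoc, h3, ← mul_assoc, ← mul_assoc, h4]
      exact mul_left_cancel h5
    · rintro ⟨h3, h4⟩
      refine ⟨?_, h3⟩
      rw [mul_assoc, h4, ← mul_assoc, h3, mul_assoc]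
  have hTs := dl_of_sq C hs hs1 ht hst htt hq hcs h2
  have hTt := dl_of_sq C ht ht1 hs hst.symm hss hq hct (by rw [c2_comm]; exact h2)
  have hTf := dl_of_sq C hfD hf1 hs hsf.symm hss hq hcst h2'
  have hfa : ∀ x ∈ zpowers s, x • a = a := fun x hx => ((zpowers_le.2 hs : zpowers s ≤ Dab G a b) hx).1
  have hfb : ∀ x ∈ zpowers s, x • b = b := fun x hx => ((zpowers_le.2 hs : zpowers s ≤ Dab G a b) hx).2
  obtain ⟨F, _, _, hF, φ, S⟩ := exists_slx_of_DL C.split C.ne hfa hfb hTs
  have hz := caseA C H hs ht hs1 hss (by rw [h2]; exact hq) (by rw [h2, hct]; omega) hTt S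
  -- a square root of `-1`
  have hq8 : q ^ 2 % 4 = 1 := by
    have hqo : Odd (q ^ 2) := by
      rw [← hcs]
      exact hodd.of_dvd_nat (card_dvd_of_le inf_le_left)
    have hqo : Odd q := Nat.Odd.of_mul_left (by rwa [pow_two] at hqo)
    obtain ⟨j, rfl⟩ := hqo
    have h1 : (2 * j + 1) ^ 2 = 4 * (j * j + j) + 1 := by ring
    rw [h1]
    omega
  obtain ⟨i, hi⟩ : IsSquare (-1 : F) := by
    rw [FiniteField.isSquare_neg_one_iff, hF]
    omega
  obtain ⟨y, hyD, hyy, hsy, hyinv, hycomm⟩ := exists_torus C hs S hz hi.symm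
  have hty : t * y = y * t := hycomm t ht hst htt
  have hfy : (s * t) * y = y * (s * t) := by
    rw [mul_assoc, hty, ← mul_assoc, hsy, mul_assoc]
  -- `C_{U a}(s, y) = 1`
  have hno : ∀ u ∈ U a, s * u = u * s → y * u = u * y → u = 1 := by
    intro u hu hsu hyu
    refine eq_one_of_inv hodd hu ?_
    rw [← hyinv u hu hsu, hyu, mul_inv_cancel_right]
  have hy1 : y ≠ 1 := by
    rintro rfl
    obtain ⟨u, hu, hu1, hsu, -⟩ := exists_c2 (U := U) (a := a) (x := s) (y := t) (by omega)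
    exact hu1 (hno u hu hsu (by rw [one_mul, mul_one]))
  have hsy1 : s * y ≠ 1 := by
    intro h3
    obtain ⟨u, hu, hu1, hsu, -⟩ := exists_c2 (U := U) (a := a) (x := s) (y := t) (by omega)
    refine hu1 (hno u hu hsu ?_)
    have h4 : y = s := by
      have := eq_inv_of_mul_eq_one_right h3
      rw [this]
      exact inv_eq_of_mul_eq_one_left hss
    rw [h4, hsu]
  have hyt1 : y ≠ t := by
    rintro rfl
    obtain ⟨u, hu, hu1, hsu, htu⟩ := exists_c2 (U := U) (a := a) (x := s) (y := y) (by omega)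
    exact hu1 (hno u hu hsu htu)
  have hyf1 : y ≠ s * t := by
    intro h3
    obtain ⟨u, hu, hu1, hsu, htu⟩ := exists_c2 (U := U) (a := a) (x := s) (y := t) (by omega)
    refine hu1 (hno u hu hsu ?_)
    rw [h3, mul_assoc, htu, ← mul_assoc, hsu, mul_assoc]
  have hsyD : s * y ∈ Dab G a b := mul_mem hs hyD
  have hsysy : (s * y) * (s * y) = 1 := by
    calc (s * y) * (s * y) = s * (y * s) * y := by group
      _ = (s * s) * (y * y) := by rw [← hsy]; group
      _ = 1 := by rw [hss, hyy, mul_one]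
  -- the equations
  have e1 : c2 U a y s = 1 := c2_eq_one fun u hu h3 h4 => hno u hu h4 h3
  have e2 : c2 U a (s * y) s = 1 := by
    apply c2_eq_one
    intro u hu h3 h4
    refine hno u hu h4 ?_
    have h5 : s * (y * u) = s * (u * y) := by
      rw [← mul_assoc, h3, ← mul_assoc, ← mul_assoc, h4]
    exact mul_left_cancel h5
  have k1 := card_three C.split hodd (x := t) (y := s) (z := y) hs.1 hyD.1 hss hyy hst.symm hty hsy
    (fun u hu _ h4 h5 => hno u hu h4 h5)
  have k2 := card_three C.split hodd (x := s * t) (y := s) (z := y) hs.1 hyD.1 hss hyy hsf.symm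
    hfy hsy (fun u hu _ h4 h5 => hno u hu h4 h5)
  have k3 := card_three C.split hodd (x := y) (y := s) (z := t) hs.1 ht.1 hss htt hsy.symm
    hty.symm hst (fun u hu h3 h4 _ => hno u hu h4 h3)
  have hsyt : (s * y) * t = t * (s * y) := by
    rw [mul_assoc, ← hty, ← mul_assoc, hst, mul_assoc]
  have hsys : (s * y) * s = s * (s * y) := by rw [mul_assoc, ← hsy]
  have k4 := card_three C.split hodd (x := s * y) (y := s) (z := t) hs.1 ht.1 hss htt
    hsys hsyt hst (fun u hu h3 h4 _ => by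
      refine hno u hu h4 ?_
      have h5 : s * (y * u) = s * (u * y) := by
        rw [← mul_assoc, h3, ← mul_assoc, ← mul_assoc, h4]
      exact mul_left_cancel h5)
  rw [c2_comm t s, h2, hct] at k1
  rw [h2', hcst] at k2
  rw [e1, one_mul] at k3
  rw [e2, one_mul] at k4
  have k1' : q = c2 U a t y * c2 U a t (s * y) := by
    have h3 : q * q = q * (c2 U a t y * c2 U a t (s * y)) := by rw [← mul_assoc, ← k1, pow_two]
    exact Nat.eq_of_mul_eq_mul_left (by omega) h3
  have k2' : q = c2 U a (s * t) y * c2 U a (s * t) (s * y) := by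
    have h3 : q * q = q * (c2 U a (s * t) y * c2 U a (s * t) (s * y)) := by
      rw [← mul_assoc, ← k2, pow_two]
    exact Nat.eq_of_mul_eq_mul_left (by omega) h3
  -- the values of `c2 t y`, `c2 (s t) y`
  have rig : ∀ x : G, x ∈ Dab G a b → x * y = y * x → cc U a x = q ^ 2 → c2 U a x y ≤ q →
      DL (genFix U (zpowers x)) (U a ⊓ centralizer (zpowers x : Set G))
      (Dab G a b ⊓ genFix U (zpowers x)) (kerFix Ω (zpowers x))
      (fun w => w ∈ genFix U (zpowers x) ∧ Swaps w a b) (q ^ 2) →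
      c2 U a x y = 1 ∨ c2 U a x y = q := by
    intro x hx hxy hcx hle hT
    have hX : zpowers x ≤ Dab G a b := zpowers_le.2 hx
    have hr : RigElt (zpowers x) a b y := by
      refine RigElt.of_comm hyD ?_ ?_
      · rintro _ ⟨n, rfl⟩
        exact ((show Commute x y from hxy).zpow_left n).symm
      · rw [hyy]
        exact one_mem _
    rcases C.split.rigL C.ne hX hr hT with h3 | h3 | h3
    · exfalso
      have h4 : c2 U a x y = cc U a x := c2_eq_cc fun u hu hxu =>
        C.split.comm_kerFix C.ne hX h3 u ⟨hu, FourZero.mem_cent.2 hxu⟩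
      omega
    · left
      apply c2_eq_one
      intro u hu hxu hyu
      refine eq_one_of_inv hodd hu ?_
      rw [← h3 u ⟨hu, FourZero.mem_cent.2 hxu⟩, hyu, mul_inv_cancel_right]
    · right
      rw [c2_zpowers] at h3
      exact Nat.pow_left_injective (n := 2) (by norm_num) h3
  have hle1 : c2 U a t y ≤ q := Nat.le_of_dvd (by omega) (Dvd.intro _ k1'.symm)
  have hle2 : c2 U a (s * t) y ≤ q := Nat.le_of_dvd (by omega) (Dvd.intro _ k2'.symm)
  have r1 := rig t ht hty hct hle1 hTt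
  have r2 := rig (s * t) hfD hfy hcst hle2 hTf
  have g1 := one_lt_cc C hyD hy1 hyy
  have g2 := one_lt_cc C hsyD hsy1 hsysy
  rw [k3] at g1
  rw [k4] at g2
  rw [c2_comm y t, c2_comm y (s * t)] at g1
  rw [c2_comm (s * y) t, c2_comm (s * y) (s * t)] at g2
  rcases r1 with r1 | r1 <;> rcases r2 with r2 | r2
  · rw [r1, r2] at g1
    omega
  · -- `c2 (st) y = q`, `c2 t y = 1`
    refine H y hyD (s * t) hfD hy1 hf1 hyf1 hyy hff hfy.symm ?_ ?_
    · rw [c2_comm, r2]; exact hq
    · rw [k3, c2_comm y t, r1, one_mul]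
  · refine H y hyD t ht hy1 ht1 hyt1 hyy htt hty.symm ?_ ?_
    · rw [c2_comm, r1]; exact hq
    · rw [k3, c2_comm y (s * t), r2, mul_one]
  · rw [r1] at k1'
    rw [r2] at k2'
    have h3 : c2 U a t (s * y) = 1 := by
      have : q * c2 U a t (s * y) = q * 1 := by rw [← k1', mul_one]
      exact Nat.eq_of_mul_eq_mul_left (by omega) this
    have h4 : c2 U a (s * t) (s * y) = 1 := by
      have : q * c2 U a (s * t) (s * y) = q * 1 := by rw [← k2', mul_one]
      exact Nat.eq_of_mul_eq_mul_left (by omega) this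
    rw [h3, h4] at g2
    omega

end ctx

end Cfsg.Agent.HKS.FourTwo
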