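import Mathlib
import Cfsg.Agent.HKS.RigFix

/-!
# RIG facts on the fixed points of `X`, type `DA`

`SSplit.rigA` (type `DA`, `|P|` a prime power): `s` is trivial on `Fix X`, or `|P| = 3` and `s`
inverts `P`.
-/

set_option autoImplicit false

namespace Cfsg.Agent.HKS

open Subgroup MulAction PP1

/-- a prime power of the form `2^m - 1`, `m ≥ 2`, is a prime -/
theorem Rig.prime_of_mersenne {p k m : ℕ} (hp : p.Prime) (hk : k ≠ 0) (hm : 2 ≤ m)
    (h : p ^ k + 1 = 2 ^ m) : k = 1 := by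
  obtain ⟨l, rfl⟩ : ∃ l, m = l + 2 := ⟨m - 2, by omega⟩
  have hpo : p % 2 = 1 := by
    rcases hp.eq_two_or_odd with h2 | h2
    · exfalso
      rw [h2, pow_add] at h
      obtain ⟨k', rfl⟩ : ∃ k', k = k' + 1 := ⟨k - 1, by omega⟩
      rw [pow_succ] at h
      omega
    · exact h2
  have hkodd : ∃ j, k = 2 * j + 1 := by
    rcases Nat.even_or_odd k with ⟨j, hj⟩ | hk
    · exfalso
      rw [hj, ← two_mul, pow_mul', pow_add] at h
      have h1 : p ^ j % 2 = 1 := by
        rw [Nat.pow_mod, hpo, one_pow]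
        rfl
      obtain ⟨t, ht⟩ : ∃ t, p ^ j = 2 * t + 1 := ⟨p ^ j / 2, by omega⟩
      rw [ht] at h
      have h2 : (2 * t + 1) ^ 2 = 4 * (t * t + t) + 1 := by ring
      rw [h2] at h
      omega
    · exact hk
  obtain ⟨j, rfl⟩ := hkodd
  have hd : p + 1 ∣ 2 ^ (l + 2) := by
    rw [← h]
    have := Odd.nat_add_dvd_pow_add_pow p 1 (n := 2 * j + 1) ⟨j, rfl⟩
    rwa [one_pow] at this
  obtain ⟨r, hr, hr2⟩ := (Nat.dvd_prime_pow Nat.prime_two).1 hd
  have h2 : p ^ 2 ≡ 1 [MOD 2 ^ (r + 1)] := by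
    apply Nat.ModEq.symm
    rw [Nat.modEq_iff_dvd' (Nat.one_le_pow _ _ hp.pos)]
    obtain ⟨t, ht⟩ : ∃ t, p = 2 * t + 1 := ⟨p / 2, by omega⟩
    have h3 : p ^ 2 - 1 = (p + 1) * (2 * t) := by
      rw [ht]
      have : (2 * t + 1) ^ 2 = (2 * t + 1 + 1) * (2 * t) + 1 := by ring
      omega
    rw [h3, hr2, pow_succ]
    exact ⟨t, by ring⟩
  have h3 : p ^ (2 * j + 1) ≡ p [MOD 2 ^ (r + 1)] := by
    have := (h2.pow j).mul_right p
    rwa [one_pow, one_mul, ← pow_mul, ← pow_succ] at this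
  have h4 : p ^ (2 * j + 1) + 1 ≡ 2 ^ r [MOD 2 ^ (r + 1)] := by
    rw [← hr2]
    exact h3.add_right 1
  rw [h] at h4
  rcases Nat.lt_or_ge r (l + 2) with h5 | h5
  · exfalso
    have h6 : 2 ^ (r + 1) ∣ 2 ^ r := by
      have h7 : 2 ^ (r + 1) ∣ 2 ^ (l + 2) := pow_dvd_pow 2 h5
      exact (h4.dvd_iff (dvd_refl _)).1 h7
    have h7 := Nat.le_of_dvd (by positivity) h6
    have h8 : 2 ^ r < 2 ^ (r + 1) := Nat.pow_lt_pow_right (by norm_num) (Nat.lt_succ_self r)
    omega
  · have h6 : r = l + 2 := le_antisymm hr h5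
    rw [h6, ← h] at hr2
    have h7 : p ^ (2 * j + 1) = p ^ 1 := by rw [pow_one]; omega
    exact Nat.pow_right_injective hp.two_le h7

universe v

variable {G Ω : Type v} [Group G] [MulAction G Ω] {U : Ω → Subgroup G}

namespace SSplit

variable {X : Subgroup G} {a b : Ω}

/-- **RIG facts, type `DA`** -/
theorem rigA [Finite Ω] (h : SSplit U) (hev : Even (Nat.card Ω)) (hab : b ≠ a)
    (hX : X ≤ Dab G a b) {s : G} (hs : RigElt X a b s)
    (hT : DA (U a ⊓ centralizer (X : Set G)) (Dab G a b ⊓ genFix U X) (kerFix Ω X)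
      (fun w => w ∈ genFix U X ∧ Swaps w a b))
    (hU : U a ⊓ centralizer (X : Set G) ≠ ⊥) {p k : ℕ} (hp : p.Prime)
    (hN : Nat.card (U a) = p ^ k) :
    s ∈ kerFix Ω X ∨ (Nat.card (U a ⊓ centralizer (X : Set G) : Subgroup G) = 3 ∧
      ∀ u ∈ U a ⊓ centralizer (X : Set G), s * u * s⁻¹ = u⁻¹) := by
  have ha : ∀ x ∈ X, x • a = a := fun x hx => (hX hx).1
  have hb : ∀ x ∈ X, x • b = b := fun x hx => (hX hx).2
  set P : Subgroup G := U a ⊓ centralizer (X : Set G) with hP
  have hfinU := h.finite_U a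
  have hfin : Finite P := Finite.of_injective _ (inclusion_injective (inf_le_left : P ≤ U a))
  obtain ⟨hoddP, hev', h3⟩ := h.fix_card (X := X) hev ha hb hab hU
  -- `|P|` is a prime
  obtain ⟨m, hm2, hm⟩ := hT.card
  have hd : Nat.card P ∣ p ^ k := by rw [← hN]; exact card_dvd_of_le inf_le_left
  obtain ⟨j, -, hj⟩ := (Nat.dvd_prime_pow hp).1 hd
  have hj0 : j ≠ 0 := by
    rintro rfl
    rw [pow_zero] at hj
    exact hU (card_eq_one.1 hj)
  rw [hj] at hm
  have hj1 := Rig.prime_of_mersenne hp hj0 hm2 hm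
  rw [hj1, pow_one] at hj hm
  by_cases hsK : s ∈ kerFix Ω X
  · exact Or.inl hsK
  right
  -- `C_P(s) = 1`
  have hCs : ∀ u ∈ P, s * u = u * s → u = 1 := by
    by_contra hc
    push Not at hc
    obtain ⟨u, hu, hsu, hu1⟩ := hc
    apply hsK
    refine h.mem_kerFix_of_comm hab hX hs.mem fun v hv => ?_
    have h4 : P ⊓ centralizer ({s} : Set G) = P := by
      have h5 : Nat.card (P ⊓ centralizer ({s} : Set G) : Subgroup G) ∣ p := by
        rw [← hj]; exact card_dvd_of_le inf_le_left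
      rcases (Nat.dvd_prime hp).1 h5 with h6 | h6
      · exfalso
        have h7 := card_eq_one.1 h6
        apply hu1
        have h8 : u ∈ P ⊓ centralizer ({s} : Set G) :=
          mem_inf.2 ⟨hu, mem_centralizer_singleton_iff.2 hsu.symm⟩
        rw [h7] at h8
        exact mem_bot.1 h8
      · exact eq_of_le_of_card_ge inf_le_left (by rw [h6, hj])
    have h5 : v ∈ P ⊓ centralizer ({s} : Set G) := by rw [h4]; exact hv
    exact (mem_centralizer_singleton_iff.1 h5.2).symm
  -- `s` inverts `P`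
  have hcomm : ∀ u ∈ P, ∀ v ∈ P, u * v = v * u := by
    obtain ⟨g, hg⟩ := hT.cyc.exists_generator
    intro u hu v hv
    obtain ⟨i, hi⟩ := mem_zpowers_iff.1 (hg ⟨u, hu⟩)
    obtain ⟨j, hj⟩ := mem_zpowers_iff.1 (hg ⟨v, hv⟩)
    have h4 : g ^ i * g ^ j = g ^ j * g ^ i := by rw [← zpow_add, ← zpow_add, add_comm]
    rw [hi, hj] at h4
    exact congrArg Subtype.val h4
  have hsinv : ∀ u ∈ P, s * u * s⁻¹ = u⁻¹ := by
    intro u hu
    have hsu := hs.conj_P h hu
    have h4 : u * (s * u * s⁻¹) = 1 := by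
      apply hCs _ (mul_mem hu hsu)
      have h5 : s * s * u = u * (s * s) := h.comm_kerFix hab hX hs.sq u hu
      have h6 : s * (s * u * s⁻¹) * s⁻¹ = u := by
        calc s * (s * u * s⁻¹) * s⁻¹ = (s * s * u) * (s * s)⁻¹ := by group
          _ = u := by rw [h5]; group
      have h7 : s * (u * (s * u * s⁻¹)) * s⁻¹ = u * (s * u * s⁻¹) := by
        calc s * (u * (s * u * s⁻¹)) * s⁻¹ = (s * u * s⁻¹) * (s * (s * u * s⁻¹) * s⁻¹) := by group
          _ = (s * u * s⁻¹) * u := by rw [h6]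
          _ = u * (s * u * s⁻¹) := (hcomm _ hsu _ hu)
      exact mul_inv_eq_iff_eq_mul.1 h7
    exact (eq_inv_of_mul_eq_one_right h4)
  refine ⟨?_, hsinv⟩
  -- the regular normal subgroup
  have h4 := SSplit.three_of_card h3
  have hS := h.permFix X h4
  have hab' : (⟨b, hb⟩ : fixSub Ω X) ≠ ⟨a, ha⟩ := fun e => hab (congrArg Subtype.val e)
  have hL := h.lift X ha hb hab h4
  have hD : Dab (Cfsg.Agent.HKS.permFix U X) (⟨a, ha⟩ : fixSub Ω X) ⟨b, hb⟩ = ⊥ := by
    rw [eq_bot_iff]
    intro y hy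
    obtain ⟨x, hx, rfl⟩ := hL.lift_E hy
    exact mem_bot.2 ((hL.K_iff x).1 (hT.triv hx))
  obtain ⟨E, -, hEc, hE2, hEt, hEf, hEiff, -, -⟩ := hS.sharp_normal hev' hab' hD
  set a' : fixSub Ω X := ⟨a, ha⟩ with ha'
  set b' : fixSub Ω X := ⟨b, hb⟩ with hb'
  -- the action of `s`
  have hsm : ∀ (x : (⨆ c, famFix U X c : Subgroup (centralizer (X : Set G)))) (c : fixSub Ω X),
      (((toPermHom (⨆ c, famFix U X c : Subgroup (centralizer (X : Set G)))
        (fixSub Ω X)).rangeRestrict x • c : fixSub Ω X) : Ω) = embFix U X x • (c : Ω) :=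
    fun x c => rfl
  have hexT : ∀ y : Cfsg.Agent.HKS.permFix U X, ∃ y' : Cfsg.Agent.HKS.permFix U X,
      ∀ c d : fixSub Ω X, (d : Ω) = s • (c : Ω) →
        ((y' • d : fixSub Ω X) : Ω) = s • ((y • c : fixSub Ω X) : Ω) := by
    intro y
    obtain ⟨x, rfl⟩ := hL.surj y
    have h5 : embFix U X x ∈ genFix U X := by
      rw [← hL.rangeM]
      exact ⟨x, rfl⟩
    have h6 : s * embFix U X x * s⁻¹ ∈ genFix U X := conj_genFix h hs.conj' h5
    rw [← hL.rangeM] at h6
    obtain ⟨x', hx'⟩ := h6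
    refine ⟨(toPermHom (⨆ c, famFix U X c : Subgroup (centralizer (X : Set G)))
        (fixSub Ω X)).rangeRestrict x', fun c d hd => ?_⟩
    rw [hsm, hsm, hx', hd, mul_smul, inv_smul_smul, mul_smul]
  choose T hTs using hexT
  -- points
  have hpt : ∀ c : fixSub Ω X, ∃ d : fixSub Ω X, (d : Ω) = s • (c : Ω) := by
    intro c
    refine ⟨⟨s • (c : Ω), fun x hx => ?_⟩, rfl⟩
    have h5 := c.2 _ (hs.conj' x hx)
    rw [mul_smul, mul_smul, inv_smul_eq_iff] at h5
    exact h5
  have hpt' : ∀ d : fixSub Ω X, ∃ c : fixSub Ω X, (d : Ω) = s • (c : Ω) := by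
    intro d
    refine ⟨⟨s⁻¹ • (d : Ω), fun x hx => ?_⟩, (smul_inv_smul _ _).symm⟩
    have h5 := d.2 _ (hs.conj x hx)
    rw [mul_smul, mul_smul] at h5
    rw [eq_inv_smul_iff]
    exact h5
  have hext : ∀ y y' : Cfsg.Agent.HKS.permFix U X,
      (∀ c : fixSub Ω X, y • c = y' • c) → y = y' := fun y y' h5 =>
    Subtype.ext (Equiv.ext h5)
  have hT1 : ∀ x y, T (x * y) = T x * T y := by
    intro x y
    apply hext
    intro d
    obtain ⟨c, hc⟩ := hpt' d
    apply Subtype.ext
    rw [hTs _ c d hc, mul_smul, mul_smul]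
    exact (hTs x (y • c) (T y • d) (hTs y c d hc)).symm
  have hT2 : ∀ x, T (T x) = x := by
    intro x
    apply hext
    intro d
    obtain ⟨c, hc⟩ := hpt' d
    obtain ⟨e, he⟩ := hpt' c
    apply Subtype.ext
    rw [hTs _ c d hc, hTs _ e c he]
    have h5 : (e : Ω) = d := by
      have h6 : (s * s) • (e : Ω) = e := hs.sq _ e.2
      rw [hc, he, ← mul_smul, h6]
    have h6 : e = d := Subtype.ext h5
    rw [h6, ← mul_smul]
    exact hs.sq _ (x • d).2
  have hTE : ∀ x ∈ E, T x ∈ E := by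
    intro x hx
    rw [hEiff] at hx ⊢
    by_cases h5 : T x = 1
    · exact Or.inl h5
    right
    intro d hd
    obtain ⟨c, hc⟩ := hpt' d
    have h6 := hTs x c d hc
    rw [hd, hc] at h6
    have h7 : x • c = c := Subtype.ext (MulAction.injective s h6).symm
    rcases hx with hx | hx
    · apply h5
      rw [hx]
      have h8 : T 1 * T 1 = T 1 * 1 := by rw [← hT1, mul_one, mul_one]
      exact mul_left_cancel h8
    · exact hx c h7
  -- fixed points of `s`
  have hfix : ∀ c : fixSub Ω X, s • (c : Ω) = c → c = a' ∨ c = b' := by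
    intro c hc
    by_cases hca : (c : Ω) = a
    · left
      exact Subtype.ext hca
    right
    obtain ⟨u, hu, hub⟩ := h.trans hab hca
    have huX : u ∈ centralizer (X : Set G) := h.comm_of_fixSub ha hb hab hu (by
      rw [hub]
      exact c.2)
    have huP : u ∈ P := mem_inf.2 ⟨hu, huX⟩
    have h5 : s * u * s⁻¹ = u := h.eq_of_smul_eq hab (hs.conj_P h huP).1 hu (by
      rw [mul_smul, mul_smul, inv_smul_eq_iff.2 hs.mem.2.symm, hub, hc])
    have h6 := hCs u huP (mul_inv_eq_iff_eq_mul.1 h5)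
    rw [h6, one_smul] at hub
    exact Subtype.ext hub.symm
  obtain ⟨tb, htb, htb'⟩ := hEt a' b'
  have hsa : (a' : Ω) = s • (a' : Ω) := hs.mem.1.symm
  have hF : ∀ x ∈ E, T x = x → x = 1 ∨ x = tb := by
    intro x hx hTx
    have h5 := hTs x a' a' hsa
    rw [hTx] at h5
    rcases hfix (x • a') h5.symm with h6 | h6
    · exact Or.inl (hEf a' x hx h6)
    · right
      have h7 : tb * x = 1 := by
        apply hEf a' _ (E.mul_mem htb hx)
        rw [mul_smul, h6, ← htb', ← mul_smul, hE2 tb htb, one_smul]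
      have h8 : tb * tb = tb * x := by rw [h7, hE2 tb htb]
      exact (mul_left_cancel h8).symm
  have hψ : ∀ x ∈ E, T x ≠ x → x * T x = tb := by
    intro x hx hTx
    have h5 : T (x * T x) = x * T x := by
      rw [hT1, hT2, hEc _ (hTE x hx) _ hx]
    rcases hF _ (E.mul_mem hx (hTE x hx)) h5 with h6 | h6
    · exfalso
      apply hTx
      have h7 : x * T x = x * x := by rw [h6, hE2 x hx]
      exact mul_left_cancel h7
    · exact h6
  have hfour : Nat.card (fixSub Ω X) ≤ 4 := by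
    classical
    have : Finite (fixSub Ω X) := Subtype.finite
    have := Fintype.ofFinite (fixSub Ω X)
    have key : ∃ x0 : Cfsg.Agent.HKS.permFix U X, ∀ c : fixSub Ω X,
        c = a' ∨ c = b' ∨ c = x0 • a' ∨ c = x0 • b' := by
      by_cases hall : ∀ x ∈ E, T x = x
      · refine ⟨1, fun c => ?_⟩
        obtain ⟨x, hx, hxc⟩ := hEt a' c
        rcases hF x hx (hall x hx) with h5 | h5
        · left
          rw [← hxc, h5, one_smul]
        · right; left
          rw [← hxc, h5, htb']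
      · push Not at hall
        obtain ⟨x0, hx0, hTx0⟩ := hall
        refine ⟨x0, fun c => ?_⟩
        obtain ⟨x, hx, hxc⟩ := hEt a' c
        by_cases hTx : T x = x
        · rcases hF x hx hTx with h5 | h5
          · left
            rw [← hxc, h5, one_smul]
          · right; left
            rw [← hxc, h5, htb']
        · have h5 := hψ x hx hTx
          have h6 := hψ x0 hx0 hTx0
          have h7 : T (x0 * x) = x0 * x := by
            have h8 : (x0 * x) * T (x0 * x) = 1 := by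
              calc (x0 * x) * T (x0 * x) = x0 * (x * T x0) * T x := by
                    rw [hT1]; simp only [mul_assoc]
                _ = x0 * (T x0 * x) * T x := by rw [hEc x hx _ (hTE x0 hx0)]
                _ = (x0 * T x0) * (x * T x) := by simp only [mul_assoc]
                _ = 1 := by rw [h5, h6, hE2 tb htb]
            have h9 : (x0 * x) * T (x0 * x) = (x0 * x) * (x0 * x) := by
              rw [h8, hE2 _ (E.mul_mem hx0 hx)]
            exact mul_left_cancel h9
          have h10 : x = x0 * (x0 * x) := by rw [← mul_assoc, hE2 x0 hx0, one_mul]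
          rcases hF _ (E.mul_mem hx0 hx) h7 with h8 | h8
          · right; right; left
            rw [← hxc, h10, h8, mul_one]
          · right; right; right
            rw [← hxc, h10, h8, mul_smul, htb']
    obtain ⟨x0, hx0⟩ := key
    rw [Nat.card_eq_fintype_card, ← Finset.card_univ]
    have h5 : (Finset.univ : Finset (fixSub Ω X)) ⊆ {a', b', x0 • a', x0 • b'} := by
      intro c _
      simp only [Finset.mem_insert, Finset.mem_singleton]
      exact hx0 c
    exact (Finset.card_le_card h5).trans Finset.card_le_four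
  rw [h.card_fixSub hab ha hb] at hfour h3
  change Nat.card P + 1 ≤ 4 at hfour
  obtain ⟨l, rfl⟩ : ∃ l, m = l + 2 := ⟨m - 2, by omega⟩
  rw [← hj, pow_add] at hm
  have h5 : 1 ≤ 2 ^ l := Nat.one_le_pow _ _ (by norm_num)
  omega

end SSplit

end Cfsg.Agent.HKS
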