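import Mathlib
import Cfsg.Agent.Lib.KleinGen

/-!
# Auxiliary results for the groups of Ree type

* `card_dvd_mul`: orbit counting;
* `eq_one_of_E8`: an involutory automorphism of a group of order 8 and exponent 2 normalising an odd
  order group of automorphisms transitive on the seven involutions is trivial;
* `card_eq_sq`: an abelian group of odd order acted on by `r, s` with `s² = 1`, `s r s⁻¹ = r⁻¹`, `r²` without
  fixed points has order `|C(s)|²`.
-/

set_option autoImplicit false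

namespace Cfsg.Agent.HKS.ReeAux

open Subgroup MulAction
open scoped Pointwise

/-- orbit counting -/
theorem card_dvd_mul {R X : Type*} [Group R] [Finite R] [Finite X] [MulAction R X] {k : ℕ}
    (hk : ∀ x : X, Nat.card (stabilizer R x) ∣ k) : Nat.card R ∣ k * Nat.card X := by
  classical
  have h0 := MulAction.selfEquivSigmaOrbitsQuotientStabilizer R X
  rw [Nat.card_congr h0]
  have : Finite (orbitRel.Quotient R X) := Quotient.finite _
  have := Fintype.ofFinite (orbitRel.Quotient R X)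
  rw [Nat.card_sigma, Finset.mul_sum]
  refine Finset.dvd_sum fun ω _ => ?_
  have h1 := Subgroup.card_eq_card_quotient_mul_card_subgroup (stabilizer R ω.out)
  obtain ⟨c, hc⟩ := hk ω.out
  rw [h1, hc]
  exact ⟨c, by ring⟩

section E8

variable {E : Type*} [Group E] [Finite E]

/-- a nontrivial 7-automorphism of a group of order 8 has no fixed points -/
theorem seven_free (h8 : Nat.card E = 8) {x : MulAut E} (hx : x ≠ 1) {k : ℕ} (hk : orderOf x = 7 ^ k)
    {v : E} (hv : v ≠ 1) : x v ≠ v := by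
  classical
  intro hc
  have hp : Fact (Nat.Prime 7) := ⟨by norm_num⟩
  have hP : IsPGroup 7 (zpowers x) := by
    rw [IsPGroup.iff_card]
    exact ⟨k, by rw [Nat.card_zpowers, hk]⟩
  have h1 := hP.card_modEq_card_fixedPoints E
  rw [h8] at h1
  -- fixed points contain `1, v`
  have h2 : ∀ e ∈ fixedPoints (zpowers x) E, x e = e := fun e he => he ⟨x, mem_zpowers x⟩
  have h3 : ∀ e : E, x e = e → e ∈ fixedPoints (zpowers x) E := by
    intro e he
    rintro ⟨y, hy⟩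
    obtain ⟨m, rfl⟩ := mem_zpowers_iff.1 hy
    have h4 : x ∈ stabilizer (MulAut E) e := he
    exact (stabilizer (MulAut E) e).zpow_mem h4 m
  have hle : Nat.card (fixedPoints (zpowers x) E) ≤ 8 := by
    rw [← h8]
    exact Nat.card_le_card_of_injective _ Subtype.val_injective
  have hge : 2 ≤ Nat.card (fixedPoints (zpowers x) E) := by
    have h5 : Nontrivial (fixedPoints (zpowers x) E) :=
      ⟨⟨1, h3 1 (map_one x)⟩, ⟨v, h3 v hc⟩, fun e => hv (congrArg Subtype.val e).symm⟩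
    exact Finite.one_lt_card
  have h6 : Nat.card (fixedPoints (zpowers x) E) = 8 := by
    rw [Nat.ModEq] at h1
    omega
  have h7 : Function.Bijective (Subtype.val : fixedPoints (zpowers x) E → E) :=
    (Nat.bijective_iff_injective_and_card _).2 ⟨Subtype.val_injective, by rw [h6, h8]⟩
  apply hx
  ext e
  obtain ⟨⟨d, hd⟩, rfl⟩ := h7.2 e
  exact h2 d hd

/-- it permutes the nontrivial elements regularly -/
theorem seven_orbit (h8 : Nat.card E = 8) {x : MulAut E} (hx : x ≠ 1) {k : ℕ} (hk : orderOf x = 7 ^ k)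
    {v w : E} (hv : v ≠ 1) (hw : w ≠ 1) : ∃ i : ℤ, (x ^ i) v = w := by
  classical
  have hp : Fact (Nat.Prime 7) := ⟨by norm_num⟩
  have hP : IsPGroup 7 (zpowers x) := by
    rw [IsPGroup.iff_card]
    exact ⟨k, by rw [Nat.card_zpowers, hk]⟩
  obtain ⟨n, hn⟩ := hP.card_orbit v
  have hsub : orbit (zpowers x) v ⊆ {e : E | e ≠ 1} := by
    rintro _ ⟨⟨y, hy⟩, rfl⟩
    change y v ≠ 1
    exact (MulEquiv.map_ne_one_iff y).2 hv
  have hcard : ({e : E | e ≠ 1} : Set E).ncard = 7 := by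
    have h1 : ({e : E | e ≠ 1} : Set E) = ({1} : Set E)ᶜ := by ext e; simp
    rw [h1, Set.ncard_compl, Set.ncard_singleton, h8]
  have hle : (orbit (zpowers x) v).ncard ≤ 7 := by
    rw [← hcard]
    exact Set.ncard_le_ncard hsub (Set.toFinite _)
  rw [Nat.card_coe_set_eq] at hn
  have hn0 : n ≠ 0 := by
    rintro rfl
    rw [pow_zero, Set.ncard_eq_one] at hn
    obtain ⟨u, hu⟩ := hn
    have h1 : v ∈ orbit (zpowers x) v := mem_orbit_self v
    have h2 : x v ∈ orbit (zpowers x) v := ⟨⟨x, mem_zpowers x⟩, rfl⟩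
    rw [hu] at h1 h2
    exact seven_free h8 hx hk hv (h2.trans h1.symm)
  have hn7 : (orbit (zpowers x) v).ncard = 7 := by
    have h1 : 7 ∣ 7 ^ n := dvd_pow_self 7 hn0
    rw [← hn] at h1
    have h2 : 0 < (orbit (zpowers x) v).ncard := by rw [hn]; positivity
    exact le_antisymm hle (Nat.le_of_dvd h2 h1)
  have heq : orbit (zpowers x) v = {e : E | e ≠ 1} :=
    Set.eq_of_subset_of_ncard_le hsub (by rw [hcard, hn7]) (Set.toFinite _)
  have h1 : w ∈ orbit (zpowers x) v := by rw [heq]; exact hw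
  obtain ⟨⟨y, hy⟩, h2⟩ := h1
  obtain ⟨i, rfl⟩ := mem_zpowers_iff.1 hy
  exact ⟨i, h2⟩

/-- An involutory automorphism centralising or inverting a nontrivial 7-automorphism is trivial. -/
theorem eq_one_of_seven (h8 : Nat.card E = 8) (hsq : ∀ e : E, e * e = 1) {g x : MulAut E}
    (hg : g * g = 1) (hx : x ≠ 1) {k : ℕ} (hk : orderOf x = 7 ^ k)
    (h : g * x * g⁻¹ = x ∨ g * x * g⁻¹ = x⁻¹) : g = 1 := by
  by_contra hg1
  have hcomm : ∀ e f : E, e * f = f * e := by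
    intro e f
    have h1 : ∀ y : E, y⁻¹ = y := fun y => inv_eq_of_mul_eq_one_left (hsq y)
    calc e * f = (e * f)⁻¹ := (h1 _).symm
      _ = f⁻¹ * e⁻¹ := mul_inv_rev _ _
      _ = f * e := by rw [h1, h1]
  -- a fixed point of `g`
  obtain ⟨e, he⟩ : ∃ e : E, g e ≠ e := by
    by_contra hc
    push Not at hc
    exact hg1 (MulEquiv.ext hc)
  have hgg : ∀ y : E, g (g y) = y := fun y => by
    have := congrArg (fun f : MulAut E => f y) hg
    exact this
  obtain ⟨v, hv, hgv⟩ : ∃ v : E, v ≠ 1 ∧ g v = v := by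
    refine ⟨e * g e, ?_, ?_⟩
    · intro hc
      apply he
      have h1 : e⁻¹ = e := inv_eq_of_mul_eq_one_left (hsq e)
      exact (eq_inv_of_mul_eq_one_right hc).trans h1
    · rw [map_mul, hgg, hcomm]
  rcases h with h | h
  · -- centralises
    apply hg1
    ext w
    by_cases hw : w = 1
    · rw [hw, map_one, map_one]
    obtain ⟨i, rfl⟩ := seven_orbit h8 hx hk hv hw
    have h1 : g * x ^ i = x ^ i * g := by
      have h2 : g * x ^ i * g⁻¹ = x ^ i := by
        rw [← conj_zpow, h]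
      exact mul_inv_eq_iff_eq_mul.1 h2
    have h2 := congrArg (fun f : MulAut E => f v) h1
    change g ((x ^ i) v) = (x ^ i) (g v) at h2
    rw [h2, hgv]
    rfl
  · have hgx : ∀ i : ℤ, g ((x ^ i) v) = (x ^ (-i)) v := by
      intro i
      have h1 : g * x ^ i = x ^ (-i) * g := by
        have h2 : g * x ^ i * g⁻¹ = x ^ (-i) := by
          rw [← conj_zpow, h, inv_zpow, zpow_neg]
        exact mul_inv_eq_iff_eq_mul.1 h2
      have h2 := congrArg (fun f : MulAut E => f v) h1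
      change g ((x ^ i) v) = (x ^ (-i)) (g v) at h2
      rw [h2, hgv]
    -- powers of `x`
    have hfree : ∀ j : ℤ, ∀ u : E, u ≠ 1 → (x ^ j) u = u → x ^ j = 1 := by
      intro j u hu hju
      by_contra hc
      have hp : Fact (Nat.Prime 7) := ⟨by norm_num⟩
      obtain ⟨k', -, hk'⟩ : ∃ k' ≤ k, orderOf (x ^ j) = 7 ^ k' := by
        have h1 : orderOf (x ^ j) ∣ 7 ^ k := by
          rw [← hk]
          exact orderOf_dvd_of_mem_zpowers (zpow_mem (mem_zpowers x) j)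
        exact (Nat.dvd_prime_pow hp.out).1 h1
      exact seven_free h8 hc hk' hu hju
    have hodd : Odd (orderOf x) := by rw [hk]; exact Odd.pow (by decide)
    have hev : ∀ j : ℤ, x ^ (2 * j) = 1 → x ^ j = 1 := by
      intro j hj
      rw [zpow_mul, zpow_comm] at hj
      have h1 : orderOf (x ^ j) ∣ 2 := orderOf_dvd_of_pow_eq_one (by exact_mod_cast hj)
      have h2 : Odd (orderOf (x ^ j)) :=
        Odd.of_dvd_nat hodd (orderOf_dvd_of_mem_zpowers (zpow_mem (mem_zpowers x) j))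
      rcases (Nat.dvd_prime Nat.prime_two).1 h1 with h3 | h3
      · exact orderOf_eq_one_iff.1 h3
      · rw [h3] at h2
        exact absurd h2 (by decide)
    have hw0 : (x ^ (1 : ℤ)) v * (x ^ (-1 : ℤ)) v = v := by
      have hw1 : (x ^ (1 : ℤ)) v * (x ^ (-1 : ℤ)) v ≠ 1 := by
        intro hc
        have h1 : (x ^ (-1 : ℤ)) v = (x ^ (1 : ℤ)) v := by
          have h2 : ((x ^ (-1 : ℤ)) v)⁻¹ = (x ^ (-1 : ℤ)) v := inv_eq_of_mul_eq_one_left (hsq _)
          rw [← h2]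
          exact (eq_inv_of_mul_eq_one_left hc).symm
        have h2 : (x ^ (2 : ℤ)) v = v := by
          have h3 : (x ^ (2 : ℤ)) v = (x ^ (1 : ℤ)) ((x ^ (1 : ℤ)) v) := by
            rw [show (2 : ℤ) = 1 + 1 by norm_num, zpow_add]; rfl
          rw [h3, ← h1]
          have h4 : (x ^ (1 : ℤ)) ((x ^ (-1 : ℤ)) v) = (x ^ (1 + -1 : ℤ)) v := by
            rw [zpow_add]; rfl
          rw [h4]
          simp
        have h3 := hfree 2 v hv h2
        have h4 := hev 1 (by rw [mul_one]; exact h3)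
        rw [zpow_one] at h4
        exact hx h4
      obtain ⟨i, hi⟩ := seven_orbit h8 hx hk hv hw1
      have h1 : g ((x ^ i) v) = (x ^ i) v := by
        rw [hi, map_mul, hgx, hgx, neg_neg, hcomm]
      rw [hgx] at h1
      have h2 : (x ^ (2 * i)) v = v := by
        have h3 : (x ^ (2 * i)) v = (x ^ i) ((x ^ i) v) := by
          rw [two_mul, zpow_add]; rfl
        rw [h3, ← h1]
        have h4 : (x ^ i) ((x ^ (-i)) v) = (x ^ (i + -i)) v := by
          rw [zpow_add]; rfl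
        rw [h4]
        simp
      have h3 := hev i (hfree _ v hv h2)
      rw [h3] at hi
      exact hi.symm
    -- `x² v = x v * v`, `x³ v = v`
    have h1 : (x ^ (2 : ℤ)) v * v = (x ^ (1 : ℤ)) v := by
      have h2 := congrArg (x ^ (1 : ℤ)) hw0
      rw [map_mul] at h2
      have h3 : (x ^ (1 : ℤ)) ((x ^ (1 : ℤ)) v) = (x ^ (2 : ℤ)) v := by
        rw [show (2 : ℤ) = 1 + 1 by norm_num, zpow_add]; rfl
      have h4 : (x ^ (1 : ℤ)) ((x ^ (-1 : ℤ)) v) = v := by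
        have h4 : (x ^ (1 : ℤ)) ((x ^ (-1 : ℤ)) v) = (x ^ (1 + -1 : ℤ)) v := by
          rw [zpow_add]; rfl
        rw [h4]
        simp
      rw [h3, h4] at h2
      exact h2
    have h2 : (x ^ (2 : ℤ)) v = (x ^ (1 : ℤ)) v * v := by
      rw [← h1, mul_assoc, hsq, mul_one]
    have h3 : (x ^ (3 : ℤ)) v = v := by
      have h4 : (x ^ (3 : ℤ)) v = (x ^ (1 : ℤ)) ((x ^ (2 : ℤ)) v) := by
        rw [show (3 : ℤ) = 1 + 2 by norm_num, zpow_add]; rfl
      have h5 : (x ^ (1 : ℤ)) ((x ^ (1 : ℤ)) v) = (x ^ (2 : ℤ)) v := by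
        rw [show (2 : ℤ) = 1 + 1 by norm_num, zpow_add]; rfl
      rw [h4, h2, map_mul, h5, h2, mul_assoc, hcomm v, ← mul_assoc, hsq, one_mul]
    have h4 := hfree 3 v hv h3
    have h5 : orderOf x ∣ 3 := orderOf_dvd_of_pow_eq_one (by exact_mod_cast h4)
    rw [hk] at h5
    have h6 : k ≠ 0 := by
      rintro rfl
      rw [pow_zero, orderOf_eq_one_iff] at hk
      exact hx hk
    have h7 : 7 ∣ 3 := (dvd_pow_self 7 h6).trans h5
    omega

/-- An involutory automorphism of a group of order 8 and exponent 2, normalising an odd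
order group `B` of automorphisms transitive on the seven involutions, is trivial. -/
theorem eq_one_of_E8 (h8 : Nat.card E = 8) (hsq : ∀ e : E, e * e = 1) (B : Subgroup (MulAut E))
    (hB : Odd (Nat.card B)) (htr : ∀ e f : E, e ≠ 1 → f ≠ 1 → ∃ y ∈ B, y e = f) {g : MulAut E}
    (hg : g * g = 1) (hgB : ∀ y ∈ B, g * y * g⁻¹ ∈ B) : g = 1 := by
  classical
  have hp : Fact (Nat.Prime 7) := ⟨by norm_num⟩
  have hginv : g⁻¹ = g := inv_eq_of_mul_eq_one_left hg
  -- `7 ∣ |B|`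
  obtain ⟨v, hv⟩ : ∃ v : E, v ≠ 1 := by
    have : Nontrivial E := Finite.one_lt_card_iff_nontrivial.1 (by rw [h8]; norm_num)
    exact exists_ne 1
  have h7 : 7 ∣ Nat.card B := by
    have h1 : orbit B v = {e : E | e ≠ 1} := by
      ext w
      constructor
      · rintro ⟨⟨y, hy⟩, rfl⟩
        change y v ≠ 1
        exact (MulEquiv.map_ne_one_iff y).2 hv
      · intro hw
        obtain ⟨y, hy, h2⟩ := htr v w hv hw
        exact ⟨⟨y, hy⟩, h2⟩
    have hcard : ({e : E | e ≠ 1} : Set E).ncard = 7 := by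
      have h1 : ({e : E | e ≠ 1} : Set E) = ({1} : Set E)ᶜ := by ext e; simp
      rw [h1, Set.ncard_compl, Set.ncard_singleton, h8]
    have h2 := Nat.card_congr (MulAction.orbitEquivQuotientStabilizer B v)
    rw [Nat.card_coe_set_eq, h1, hcard] at h2
    have h3 := Subgroup.card_eq_card_quotient_mul_card_subgroup (stabilizer B v)
    rw [← h2] at h3
    exact ⟨_, h3⟩
  -- the automorphism of `B`
  let ψ : MulAut B :=
    { toFun := fun y => ⟨g * y * g⁻¹, hgB y y.2⟩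
      invFun := fun y => ⟨g * y * g⁻¹, hgB y y.2⟩
      left_inv := fun y => Subtype.ext (by
        change g * (g * y * g⁻¹) * g⁻¹ = y
        calc g * (g * y * g⁻¹) * g⁻¹ = (g * g) * y * (g * g)⁻¹ := by group
          _ = y := by rw [hg]; group)
      right_inv := fun y => Subtype.ext (by
        change g * (g * y * g⁻¹) * g⁻¹ = y
        calc g * (g * y * g⁻¹) * g⁻¹ = (g * g) * y * (g * g)⁻¹ := by group
          _ = y := by rw [hg]; group)
      map_mul' := fun y y' => Subtype.ext (by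
        change g * (y * y') * g⁻¹ = (g * y * g⁻¹) * (g * y' * g⁻¹)
        group) }
  have hψ : ψ * ψ = 1 := by
    ext1 y
    exact ψ.left_inv y
  have hψv : ∀ y : B, ((ψ y : B) : MulAut E) = g * y * g⁻¹ := fun _ => rfl
  have : Finite (MulAut E) := inferInstance
  have : Finite B := inferInstance
  have : Fintype (Sylow 7 B) := Fintype.ofFinite _
  obtain ⟨P, hP⟩ : ∃ P : Sylow 7 B, ψ • P = P := by
    have h2 : Fact (Nat.Prime 2) := ⟨Nat.prime_two⟩
    have hc : ¬ 2 ∣ Fintype.card (Sylow 7 B) := by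
      have P0 : Sylow 7 B := default
      have h3 : Nat.card (Sylow 7 B) ∣ Nat.card B :=
        (Sylow.card_dvd_index P0).trans (Subgroup.index_dvd_card _)
      rw [Nat.card_eq_fintype_card] at h3
      intro h4
      exact (Nat.not_even_iff_odd.2 hB) (even_iff_two_dvd.2 (h4.trans h3))
    obtain ⟨P, hP⟩ := Equiv.Perm.exists_fixed_point_of_prime (p := 2) (n := 1) hc
      (σ := MulAction.toPermHom (MulAut B) (Sylow 7 B) ψ) (by
        rw [pow_one, pow_two, ← map_mul, hψ, map_one])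
    exact ⟨P, hP⟩
  have hPm : ∀ y ∈ P, ψ y ∈ P := by
    intro y hy
    have h3 : ψ • y ∈ ψ • P.toSubgroup := Subgroup.smul_mem_pointwise_smul _ _ _ hy
    have h4 : (ψ • P).toSubgroup = ψ • P.toSubgroup := rfl
    rw [← h4, hP] at h3
    exact h3
  -- nontrivial element of `P`, centralised or inverted
  have hne : P.toSubgroup ≠ ⊥ := by
    intro hc
    have h1 := P.card_eq_multiplicity
    rw [hc, Subgroup.card_bot] at h1
    have h2 : (Nat.card B).factorization 7 ≠ 0 := by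
      intro h0
      rcases (Nat.factorization_eq_zero_iff _ _).1 h0 with h3 | h3 | h3
      · exact h3 hp.out
      · exact h3 h7
      · exact Nat.card_pos.ne' h3
    have h3 : 1 < 7 ^ (Nat.card B).factorization 7 := Nat.one_lt_pow h2 (by norm_num)
    omega
  have key : ∃ x : B, x ∈ P ∧ x ≠ 1 ∧ (ψ x = x ∨ ψ x = x⁻¹) := by
    by_cases hc : ∀ y ∈ P, ψ y = y
    · obtain ⟨⟨x, hx⟩, hx1⟩ := Subgroup.ne_bot_iff_exists_ne_one.1 hne
      exact ⟨x, hx, fun e => hx1 (Subtype.ext e), Or.inl (hc _ hx)⟩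
    · push Not at hc
      obtain ⟨y, hy, hyc⟩ := hc
      refine ⟨ψ y * y⁻¹, mul_mem (hPm y hy) (inv_mem hy), ?_, Or.inr ?_⟩
      · intro h1
        exact hyc (mul_inv_eq_one.1 h1)
      · have h1 : ψ (ψ y) = y := by
          have := congrArg (fun f : MulAut B => f y) hψ
          exact this
        rw [map_mul, map_inv, h1]
        group
  obtain ⟨x, hxP, hx1, hx⟩ := key
  obtain ⟨k, hk⟩ := (IsPGroup.iff_orderOf.1 P.isPGroup') ⟨x, hxP⟩
  have hk' : orderOf (x : MulAut E) = 7 ^ k := by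
    rw [Subgroup.orderOf_coe, ← hk]
    exact (Subgroup.orderOf_coe (⟨x, hxP⟩ : P.toSubgroup))
  refine eq_one_of_seven h8 hsq hg (x := x) (fun h1 => hx1 (Subtype.ext h1)) hk' ?_
  rcases hx with hx | hx
  · exact Or.inl (congrArg Subtype.val hx)
  · exact Or.inr (congrArg Subtype.val hx)

end E8

/-- An abelian group `W` of odd order acted on by `r, s` with `s² = 1`, `s r s⁻¹ = r⁻¹`, `r²` without
fixed points on `W` has order `|C_W(s)|²`. -/
theorem card_eq_sq {G : Type*} [Group G] (W : Subgroup G) [Finite W]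
    (hcomm : ∀ x ∈ W, ∀ y ∈ W, x * y = y * x) (hodd : Odd (Nat.card W)) {s r : G}
    (hs : s * s = 1) (hsr : s * r * s⁻¹ = r⁻¹) (hsW : ∀ x ∈ W, s * x * s⁻¹ ∈ W)
    (hrW : ∀ x ∈ W, r * x * r⁻¹ ∈ W) (hrW' : ∀ x ∈ W, r⁻¹ * x * r ∈ W)
    (hr : ∀ x ∈ W, r * r * x = x * (r * r) → x = 1) :
    Nat.card W = Nat.card (W ⊓ centralizer ({s} : Set G) : Subgroup G) ^ 2 := by
  classical
  have hsinv : s⁻¹ = s := inv_eq_of_mul_eq_one_left hs
  have hss : ∀ x : G, s * (s * x * s⁻¹) * s⁻¹ = x := fun x => by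
    calc s * (s * x * s⁻¹) * s⁻¹ = (s * s) * x * (s * s)⁻¹ := by group
      _ = x := by rw [hs]; group
  -- the fixed and the inverted elements
  let Wp : Subgroup G := W ⊓ centralizer ({s} : Set G)
  have hWp : ∀ x, x ∈ Wp ↔ x ∈ W ∧ s * x * s⁻¹ = x := by
    intro x
    rw [mem_inf, mem_centralizer_singleton_iff, mul_inv_eq_iff_eq_mul]
    exact ⟨fun h => ⟨h.1, h.2.symm⟩, fun h => ⟨h.1, h.2.symm⟩⟩
  let Wm : Subgroup G :=
    { carrier := {x | x ∈ W ∧ s * x * s⁻¹ = x⁻¹}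
      mul_mem' := by
        rintro x y ⟨hx, hx'⟩ ⟨hy, hy'⟩
        refine ⟨mul_mem hx hy, ?_⟩
        calc s * (x * y) * s⁻¹ = (s * x * s⁻¹) * (s * y * s⁻¹) := by group
          _ = x⁻¹ * y⁻¹ := by rw [hx', hy']
          _ = (y * x)⁻¹ := by group
          _ = (x * y)⁻¹ := by rw [hcomm x hx y hy]
      one_mem' := ⟨one_mem _, by group⟩
      inv_mem' := by
        rintro x ⟨hx, hx'⟩
        refine ⟨inv_mem hx, ?_⟩
        calc s * x⁻¹ * s⁻¹ = (s * x * s⁻¹)⁻¹ := by group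
          _ = x⁻¹⁻¹ := by rw [hx'] }
  have hWm : ∀ x, x ∈ Wm ↔ x ∈ W ∧ s * x * s⁻¹ = x⁻¹ := fun x => Iff.rfl
  have hWpW : Wp ≤ W := inf_le_left
  have hWmW : Wm ≤ W := fun x hx => hx.1
  have hfp : Finite Wp := Finite.of_injective _ (Subgroup.inclusion_injective hWpW)
  have hfm : Finite Wm := Finite.of_injective _ (Subgroup.inclusion_injective hWmW)
  -- square roots
  obtain ⟨n, hn⟩ := Lib.KleinGen.exists_sqrt_exponent W hodd
  -- `W = Wp × Wm`
  have hprod : Nat.card W = Nat.card Wp * Nat.card Wm := by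
    have hb : Function.Bijective (fun p : Wp × Wm => (⟨p.1 * p.2,
        mul_mem (hWpW p.1.2) (hWmW p.2.2)⟩ : W)) := by
      constructor
      · rintro ⟨⟨x, hx⟩, ⟨y, hy⟩⟩ ⟨⟨x', hx'⟩, ⟨y', hy'⟩⟩ he
        have he : x * y = x' * y' := congrArg Subtype.val he
        rw [hWp] at hx hx'
        rw [hWm] at hy hy'
        have h1 : x'⁻¹ * x = y' * y⁻¹ := by
          calc x'⁻¹ * x = x'⁻¹ * (x * y) * y⁻¹ := by group
            _ = y' * y⁻¹ := by rw [he]; group
        have hc : x'⁻¹ * x ∈ W := mul_mem (inv_mem hx'.1) hx.1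
        have h2 : s * (x'⁻¹ * x) * s⁻¹ = x'⁻¹ * x := by
          calc s * (x'⁻¹ * x) * s⁻¹ = (s * x' * s⁻¹)⁻¹ * (s * x * s⁻¹) := by group
            _ = x'⁻¹ * x := by rw [hx.2, hx'.2]
        have h3 : s * (y' * y⁻¹) * s⁻¹ = (y' * y⁻¹)⁻¹ := by
          calc s * (y' * y⁻¹) * s⁻¹ = (s * y' * s⁻¹) * (s * y * s⁻¹)⁻¹ := by group
            _ = y'⁻¹ * y := by rw [hy.2, hy'.2, inv_inv]
            _ = y * y'⁻¹ := hcomm _ (inv_mem hy'.1) _ hy.1
            _ = (y' * y⁻¹)⁻¹ := by group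
        rw [← h1, h2] at h3
        have h4 : x'⁻¹ * x = 1 := by
          apply Lib.KleinGen.eq_of_mul_self_eq hodd hc (one_mem _)
          rw [one_mul]
          exact mul_eq_one_iff_eq_inv.2 h3
        have h5 : y' * y⁻¹ = 1 := h1 ▸ h4
        have h6 : x = x' := (inv_mul_eq_one.1 h4).symm
        have h7 : y = y' := (mul_inv_eq_one.1 h5).symm
        subst h6 h7
        rfl
      · rintro ⟨x, hx⟩
        set y := x * (s * x * s⁻¹) with hy
        have hyW : y ∈ W := mul_mem hx (hsW x hx)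
        have hys : s * y * s⁻¹ = y := by
          calc s * y * s⁻¹ = (s * x * s⁻¹) * (s * (s * x * s⁻¹) * s⁻¹) := by rw [hy]; group
            _ = y := by rw [hss, hcomm _ (hsW x hx) _ hx]
        have hyn : s * y ^ n * s⁻¹ = y ^ n := by rw [← conj_pow, hys]
        have hynW : y ^ n ∈ W := pow_mem hyW n
        have hyy := (hn y hyW).1
        refine ⟨⟨⟨y ^ n, (hWp _).2 ⟨hynW, hyn⟩⟩, ⟨(y ^ n)⁻¹ * x, (hWm _).2
          ⟨mul_mem (inv_mem hynW) hx, ?_⟩⟩⟩, Subtype.ext (by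
            change y ^ n * ((y ^ n)⁻¹ * x) = x
            group)⟩
        have h1 : s * x * s⁻¹ = x⁻¹ * y := by rw [hy]; group
        calc s * ((y ^ n)⁻¹ * x) * s⁻¹ = (s * y ^ n * s⁻¹)⁻¹ * (s * x * s⁻¹) := by group
          _ = (y ^ n)⁻¹ * (x⁻¹ * y) := by rw [hyn, h1]
          _ = (y ^ n)⁻¹ * (y * x⁻¹) := by rw [hcomm _ (inv_mem hx) _ hyW]
          _ = (y ^ n)⁻¹ * ((y ^ n * y ^ n) * x⁻¹) := by rw [hyy]
          _ = y ^ n * x⁻¹ := by group
          _ = x⁻¹ * y ^ n := hcomm _ hynW _ (inv_mem hx)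
          _ = ((y ^ n)⁻¹ * x)⁻¹ := by group
    rw [← Nat.card_prod, Nat.card_congr (Equiv.ofBijective _ hb)]
  -- the map `x ↦ (r x r⁻¹) (r⁻¹ x r)⁻¹`
  have hrs : s * r⁻¹ * s⁻¹ = r := by
    calc s * r⁻¹ * s⁻¹ = (s * r * s⁻¹)⁻¹ := by group
      _ = r := by rw [hsr, inv_inv]
  have hinj : ∀ x ∈ W, ∀ y ∈ W, (r * x * r⁻¹) * (r⁻¹ * x * r)⁻¹ =
      (r * y * r⁻¹) * (r⁻¹ * y * r)⁻¹ → x = y := by
    intro x hx y hy h
    have h0 : (r * y * r⁻¹)⁻¹ * (r * x * r⁻¹) = (r⁻¹ * y * r)⁻¹ * (r⁻¹ * x * r) := by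
      calc (r * y * r⁻¹)⁻¹ * (r * x * r⁻¹)
          = (r * y * r⁻¹)⁻¹ * ((r * x * r⁻¹) * (r⁻¹ * x * r)⁻¹) * (r⁻¹ * x * r) := by group
        _ = (r * y * r⁻¹)⁻¹ * ((r * y * r⁻¹) * (r⁻¹ * y * r)⁻¹) * (r⁻¹ * x * r) := by rw [h]
        _ = _ := by group
    have h1 : r * (y⁻¹ * x) * r⁻¹ = r⁻¹ * (y⁻¹ * x) * r := by
      calc r * (y⁻¹ * x) * r⁻¹ = (r * y * r⁻¹)⁻¹ * (r * x * r⁻¹) := by group
        _ = (r⁻¹ * y * r)⁻¹ * (r⁻¹ * x * r) := h0
        _ = r⁻¹ * (y⁻¹ * x) * r := by group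
    have h2 : r * r * (y⁻¹ * x) = (y⁻¹ * x) * (r * r) := by
      calc r * r * (y⁻¹ * x) = r * (r * (y⁻¹ * x) * r⁻¹) * r := by group
        _ = r * (r⁻¹ * (y⁻¹ * x) * r) * r := by rw [h1]
        _ = (y⁻¹ * x) * (r * r) := by group
    have h3 := hr _ (mul_mem (inv_mem hy) hx) h2
    exact (inv_mul_eq_one.1 h3).symm
  have hmapp : ∀ x ∈ Wp, (r * x * r⁻¹) * (r⁻¹ * x * r)⁻¹ ∈ Wm := by
    intro x hx
    have hx' := (hWp x).1 hx
    rw [hWm]
    refine ⟨mul_mem (hrW x hx'.1) (inv_mem (hrW' x hx'.1)), ?_⟩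
    calc s * ((r * x * r⁻¹) * (r⁻¹ * x * r)⁻¹) * s⁻¹
        = ((s * r * s⁻¹) * (s * x * s⁻¹) * (s * r⁻¹ * s⁻¹)) *
          ((s * r⁻¹ * s⁻¹) * (s * x * s⁻¹) * (s * r * s⁻¹))⁻¹ := by group
      _ = (r⁻¹ * x * r) * (r * x * r⁻¹)⁻¹ := by rw [hsr, hrs, hx'.2]
      _ = ((r⁻¹ * x * r)⁻¹)⁻¹ * (r * x * r⁻¹)⁻¹ := by rw [inv_inv (r⁻¹ * x * r)]
      _ = ((r * x * r⁻¹) * (r⁻¹ * x * r)⁻¹)⁻¹ := (mul_inv_rev _ _).symm
  have hmapm : ∀ x ∈ Wm, (r * x * r⁻¹) * (r⁻¹ * x * r)⁻¹ ∈ Wp := by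
    intro x hx
    have hx' := (hWm x).1 hx
    rw [hWp]
    refine ⟨mul_mem (hrW x hx'.1) (inv_mem (hrW' x hx'.1)), ?_⟩
    calc s * ((r * x * r⁻¹) * (r⁻¹ * x * r)⁻¹) * s⁻¹
        = ((s * r * s⁻¹) * (s * x * s⁻¹) * (s * r⁻¹ * s⁻¹)) *
          ((s * r⁻¹ * s⁻¹) * (s * x * s⁻¹) * (s * r * s⁻¹))⁻¹ := by group
      _ = (r⁻¹ * x * r)⁻¹ * (r * x * r⁻¹) := by rw [hsr, hrs, hx'.2]; group
      _ = (r * x * r⁻¹) * (r⁻¹ * x * r)⁻¹ := hcomm _ (inv_mem (hrW' x hx'.1)) _ (hrW x hx'.1)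
  have hle1 : Nat.card Wp ≤ Nat.card Wm :=
    Nat.card_le_card_of_injective (fun x : Wp => (⟨_, hmapp x x.2⟩ : Wm)) fun x y h =>
      Subtype.ext (hinj x (hWpW x.2) y (hWpW y.2) (congrArg Subtype.val h))
  have hle2 : Nat.card Wm ≤ Nat.card Wp :=
    Nat.card_le_card_of_injective (fun x : Wm => (⟨_, hmapm x x.2⟩ : Wp)) fun x y h =>
      Subtype.ext (hinj x (hWmW x.2) y (hWmW y.2) (congrArg Subtype.val h))
  rw [hprod, le_antisymm hle2 hle1, pow_two]

/-! ### Numbers -/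

theorem three_pow_mod (n : ℕ) : 3 ^ n % 8 = if Even n then 1 else 3 := by
  induction n with
  | zero => rfl
  | succ n ih =>
    rw [pow_succ, Nat.mul_mod, ih]
    by_cases h : Even n
    · rw [if_pos h, if_neg (fun h' => by rw [Nat.even_add_one] at h'; exact h' h)]
    · rw [if_neg h, if_pos (by rw [Nat.even_add_one]; exact h)]

theorem odd_of_four_dvd {n : ℕ} (h : 4 ∣ 3 ^ n + 1) : Odd n := by
  have h1 := three_pow_mod n
  rw [← Nat.not_even_iff_odd]
  intro he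
  rw [if_pos he] at h1
  omega

theorem not_eight_dvd (n : ℕ) : ¬ 8 ∣ 3 ^ n + 1 := by
  have h1 := three_pow_mod n
  split_ifs at h1 <;> omega

/-- `(3ⁿ - 1) / 2` divides `3ⁱ - 1` only if `n ∣ i`. -/
theorem dvd_of_half {n i k : ℕ} (hn : n ≠ 0) (hk : 2 * k = 3 ^ n - 1) (h : k ∣ 3 ^ i - 1) :
    n ∣ i := by
  have h3 : ∀ m : ℕ, 1 ≤ 3 ^ m := fun m => Nat.one_le_pow _ _ (by norm_num)
  have hmod : ∀ c : ℕ, 3 ^ (n * c) ≡ 1 [MOD k] := by
    intro c
    have h1 : 3 ^ n ≡ 1 [MOD k] := by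
      apply Nat.ModEq.symm
      rw [Nat.modEq_iff_dvd' (h3 n), ← hk]
      exact dvd_mul_left _ _
    have := h1.pow c
    rwa [one_pow, ← pow_mul] at this
  have hdiv := Nat.div_add_mod i n
  have hlt : i % n < n := Nat.mod_lt _ (Nat.pos_of_ne_zero hn)
  have h1 : 3 ^ i ≡ 3 ^ (i % n) [MOD k] := by
    calc 3 ^ i = 3 ^ (n * (i / n)) * 3 ^ (i % n) := by rw [← pow_add, hdiv]
      _ ≡ 1 * 3 ^ (i % n) [MOD k] := (hmod _).mul_right _
      _ = 3 ^ (i % n) := one_mul _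
  have h2 : 3 ^ i ≡ 1 [MOD k] := ((Nat.modEq_iff_dvd' (h3 i)).2 h).symm
  have h4 : k ∣ 3 ^ (i % n) - 1 := (Nat.modEq_iff_dvd' (h3 _)).1 (h2.symm.trans h1)
  have h5 : 3 ^ (i % n) - 1 < k := by
    have h6 : 3 ^ (i % n) * 3 ≤ 3 ^ n := by
      rw [← pow_succ]
      exact Nat.pow_le_pow_right (by norm_num) hlt
    have := h3 (i % n)
    omega
  have h6 : 3 ^ (i % n) - 1 = 0 := Nat.eq_zero_of_dvd_of_lt h4 h5
  have h7 : i % n = 0 := by
    by_contra hc
    have : 3 ^ 1 ≤ 3 ^ (i % n) := Nat.pow_le_pow_right (by norm_num) (by omega)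
    omega
  exact Nat.dvd_of_mod_eq_zero h7

end Cfsg.Agent.HKS.ReeAux
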