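import Mathlib
import Cfsg.Agent.HKS.ReeAux
import Cfsg.Agent.HKS.Types
import Cfsg.Agent.HKS.FrameCount
import Cfsg.Agent.HKS.FrameGen

/-!
# Overgroups of the groups of Ree type

`SSplit.ree_over` : if the group generated by the `U c` is of type `TR`, then every involution of `G` has a
fixed point and the involution of `G_ab` lies in every nontrivial normal subgroup of `G`.
-/

set_option autoImplicit false

namespace Cfsg.Agent.HKS

open Subgroup MulAction
open ReeAux

variable {G Ω : Type*} [Group G] [MulAction G Ω] {U : Ω → Subgroup G}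

/-- The data of a normal subgroup of Ree type, in the big group. -/
structure RO (U : Ω → Subgroup G) (M : Subgroup G) (a b : Ω) (n : ℕ) (e z : G) : Prop where
  split : SSplit U
  hM : M.Normal
  le : ∀ c, U c ≤ M
  hab : b ≠ a
  odd : Odd n
  card : Nat.card (U a) = (3 ^ n) ^ 3
  eM : e ∈ M
  eD : e ∈ Dab G a b
  gen : ∀ d ∈ M, d ∈ Dab G a b → d ∈ zpowers e
  ord : orderOf e = 3 ^ n - 1
  fpf : ∀ d ∈ M, d ∈ Dab G a b → ∀ k : ℕ, Odd k → d ^ k = 1 → ∀ u ∈ U a, d * u = u * d → d = 1 ∨ u = 1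
  zM : z ∈ M
  zD : z ∈ Dab G a b
  z1 : z ≠ 1
  z2 : z * z = 1
  cardz : Nat.card (U a ⊓ centralizer ({z} : Set G) : Subgroup G) = 3 ^ n
  syl : ∀ S : Sylow 2 M, Nat.card S = 8 ∧ ∀ x ∈ S, x * x = 1
  fix : ∀ t ∈ M, t * t = 1 → ∃ c : Ω, t • c = c

/-- the only involution of a cyclic group -/
theorem sq_cyclic {e t : G} {m : ℕ} (he : orderOf e = 2 * m) (ht : t ∈ zpowers e)
    (h2 : t * t = 1) : t = 1 ∨ t = e ^ m := by
  obtain ⟨i, rfl⟩ := mem_zpowers_iff.1 ht
  have h1 : e ^ (i * 2) = 1 := by rw [zpow_mul, zpow_ofNat, pow_two]; exact h2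
  have h3 : ((2 * m : ℕ) : ℤ) ∣ i * 2 := by rw [← he]; exact orderOf_dvd_iff_zpow_eq_one.2 h1
  obtain ⟨j, hj⟩ := h3
  have h4 : i = m * j := by push_cast at hj; linarith
  rcases Int.even_or_odd j with ⟨l, hl⟩ | ⟨l, hl⟩
  · left
    rw [h4, hl, show (m : ℤ) * (l + l) = ((2 * m : ℕ) : ℤ) * l by push_cast; ring, zpow_mul,
      zpow_natCast, ← he, pow_orderOf_eq_one, one_zpow]
  · right
    rw [h4, hl, show (m : ℤ) * (2 * l + 1) = ((2 * m : ℕ) : ℤ) * l + m by push_cast; ring, zpow_add,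
      zpow_mul, zpow_natCast, ← he, pow_orderOf_eq_one, one_zpow, one_mul, zpow_natCast]

/-- A 2-group fixing a point of a set of even size fixes another point. -/
theorem exists_second_fix [Finite Ω] (hev : Even (Nat.card Ω)) {P : Subgroup G} (hP : IsPGroup 2 P)
    {c : Ω} (hc : ∀ x ∈ P, x • c = c) : ∃ d : Ω, d ≠ c ∧ ∀ x ∈ P, x • d = d := by
  classical
  have h2 : Fact (Nat.Prime 2) := ⟨Nat.prime_two⟩
  have h1 := hP.card_modEq_card_fixedPoints Ω
  have hc' : c ∈ fixedPoints P Ω := fun x => hc x x.2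
  by_contra hcon
  push Not at hcon
  have h3 : Nat.card (fixedPoints P Ω) = 1 := by
    rw [Nat.card_eq_one_iff_unique]
    refine ⟨⟨fun x y => ?_⟩, ⟨⟨c, hc'⟩⟩⟩
    have h4 : ∀ x : fixedPoints P Ω, (x : Ω) = c := by
      intro x
      by_contra hx
      obtain ⟨y, hy, hyc⟩ := hcon x hx
      exact hyc (x.2 ⟨y, hy⟩)
    exact Subtype.ext ((h4 x).trans (h4 y).symm)
  rw [h3, Nat.ModEq] at h1
  obtain ⟨k, hk⟩ := hev
  omega

/-- orbit counting on the fixed points of `X` -/
theorem dvd_fixSub [Finite Ω] (R : Subgroup G) [Finite R] (X : Subgroup G)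
    (hRX : R ≤ centralizer (X : Set G)) {k : ℕ}
    (hk : ∀ c : Ω, (∀ x ∈ X, x • c = c) → Nat.card (R ⊓ stabilizer G c : Subgroup G) ∣ k) :
    Nat.card R ∣ k * Nat.card (fixSub Ω X) := by
  let _ : MulAction R (fixSub Ω X) := MulAction.compHom (fixSub Ω X) (Subgroup.inclusion hRX)
  have : Finite (fixSub Ω X) := Subtype.finite
  refine card_dvd_mul fun c => ?_
  have h1 := hk c c.2
  have h2 : Nat.card (stabilizer R c) = Nat.card (R ⊓ stabilizer G (c : Ω) : Subgroup G) := by
    refine Nat.card_congr ⟨fun x => ⟨x.1, x.1.2, ?_⟩, fun x => ⟨⟨x.1, x.2.1⟩, ?_⟩, ?_, ?_⟩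
    · exact congrArg Subtype.val x.2
    · exact Subtype.ext x.2.2
    · intro x; rfl
    · intro x; rfl
  rw [h2]
  exact h1

namespace RO

variable {M : Subgroup G} {a b : Ω} {n : ℕ} {e z : G}

theorem three_le (h : RO U M a b n e z) : 3 ≤ 3 ^ n := by
  obtain ⟨k, hk⟩ := h.odd
  calc 3 = 3 ^ 1 := rfl
    _ ≤ 3 ^ n := Nat.pow_le_pow_right (by norm_num) (by omega)

/-- `3ⁿ - 1 = 2 m`, `m` odd -/
theorem half (h : RO U M a b n e z) : ∃ m : ℕ, 2 * m = 3 ^ n - 1 ∧ Odd m := by
  have h1 := three_pow_mod n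
  rw [if_neg (Nat.not_even_iff_odd.2 h.odd)] at h1
  generalize 3 ^ n = x at h1 ⊢
  refine ⟨(x - 1) / 2, by omega, ?_⟩
  rw [Nat.odd_iff]
  omega

theorem eq_z (h : RO U M a b n e z) {t : G} (ht : t ∈ M) (htD : t ∈ Dab G a b) (h2 : t * t = 1) :
    t = 1 ∨ t = z := by
  obtain ⟨m, hm, -⟩ := h.half
  have he : orderOf e = 2 * m := by rw [h.ord, hm]
  rcases sq_cyclic he (h.gen t ht htD) h2 with h3 | h3
  · exact Or.inl h3
  · rcases sq_cyclic he (h.gen z h.zM h.zD) h.z2 with h4 | h4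
    · exact absurd h4 h.z1
    · exact Or.inr (h3.trans h4.symm)

/-- `M` is 2-transitive -/
theorem twoM (h : RO U M a b n e z) {c d : Ω} (hcd : d ≠ c) : ∃ m ∈ M, m • c = a ∧ m • d = b := by
  obtain ⟨⟨g, hg⟩, h1, h2⟩ := (h.split.gen_of_le M h.le).two (Ne.symm hcd) h.hab.symm
  exact ⟨g, hg, h1, h2⟩

/-- an elementary abelian 2-subgroup of `M` fixing a point has order at most 2 -/
theorem card_stab (h : RO U M a b n e z) [Finite Ω] (hev : Even (Nat.card Ω)) {T : Subgroup G}
    (hT : T ≤ M) (hT2 : ∀ x ∈ T, x * x = 1) {c : Ω} (hc : ∀ x ∈ T, x • c = c) :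
    Nat.card T ∣ 2 := by
  have hp : IsPGroup 2 T := fun x => ⟨1, Subtype.ext (by rw [pow_one, pow_two]; exact hT2 x x.2)⟩
  obtain ⟨d, hdc, hd⟩ := exists_second_fix hev hp hc
  obtain ⟨m, hm, hmc, hmd⟩ := h.twoM hdc
  have h1 : T ≤ zpowers (m⁻¹ * z * m) := by
    intro x hx
    have h2 := h.eq_z (t := m * x * m⁻¹) (h.hM.conj_mem x (hT hx) m) ⟨by
      change (m * x * m⁻¹) • a = a
      rw [mul_smul, mul_smul, inv_smul_eq_iff.2 hmc.symm, hc x hx, hmc], by
      change (m * x * m⁻¹) • b = b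
      rw [mul_smul, mul_smul, inv_smul_eq_iff.2 hmd.symm, hd x hx, hmd]⟩ (by
      calc m * x * m⁻¹ * (m * x * m⁻¹) = m * (x * x) * m⁻¹ := by group
        _ = 1 := by rw [hT2 x hx]; group)
    have h3 : x = m⁻¹ * (m * x * m⁻¹) * m := by group
    rcases h2 with h2 | h2
    · rw [h2] at h3
      rw [h3]
      have : m⁻¹ * 1 * m = 1 := by group
      rw [this]
      exact one_mem _
    · rw [h2] at h3
      rw [h3]
      exact mem_zpowers _
  have h2 := Subgroup.card_dvd_of_le h1
  rw [Nat.card_zpowers] at h2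
  refine h2.trans (orderOf_dvd_of_pow_eq_one ?_)
  calc (m⁻¹ * z * m) ^ 2 = m⁻¹ * (z * z) * m := by rw [pow_two]; group
    _ = 1 := by rw [h.z2]; group

/-- commuting involutions of `M` fixing a common point are equal -/
theorem eq_of_comm (h : RO U M a b n e z) [Finite Ω] (hev : Even (Nat.card Ω)) {x y : G}
    (hx : x ∈ M) (hy : y ∈ M) (hx2 : x * x = 1) (hy2 : y * y = 1) (hx1 : x ≠ 1) (hy1 : y ≠ 1)
    (hxy : x * y = y * x) {c : Ω} (hxc : x • c = c) (hyc : y • c = c) : x = y := by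
  have hxi : x⁻¹ = x := inv_eq_of_mul_eq_one_left hx2
  have hyi : y⁻¹ = y := inv_eq_of_mul_eq_one_left hy2
  -- the group `{1, x, y, x y}`
  have hcl : ∀ g ∈ closure ({x, y} : Set G), g = 1 ∨ g = x ∨ g = y ∨ g = x * y := by
    intro g hg
    induction hg using closure_induction with
    | mem g hg =>
      rcases hg with rfl | hg
      · exact Or.inr (Or.inl rfl)
      · exact Or.inr (Or.inr (Or.inl hg))
    | one => exact Or.inl rfl
    | mul g k _ _ hg hk =>
      have e1 : x * y * x = y := by rw [hxy, mul_assoc, hx2, mul_one]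
      have e2 : x * y * y = x := by rw [mul_assoc, hy2, mul_one]
      have e3 : x * (x * y) = y := by rw [← mul_assoc, hx2, one_mul]
      have e4 : y * (x * y) = x := by rw [← mul_assoc, ← hxy, e2]
      have e5 : x * y * (x * y) = 1 := by rw [← mul_assoc, e1, hy2]
      rcases hg with rfl | rfl | rfl | rfl <;> rcases hk with rfl | rfl | rfl | rfl <;>
        simp [hx2, hy2, e1, e2, e3, e4, e5, ← hxy]
    | inv g _ hg =>
      rcases hg with rfl | rfl | rfl | rfl
      · simp
      · simp [hxi]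
      · simp [hyi]
      · right; right; right
        rw [mul_inv_rev, hxi, hyi, hxy]
  have h1 := h.card_stab hev (T := closure ({x, y} : Set G)) ((closure_le _).2 (by
      rintro g (rfl | hg)
      · exact hx
      · rw [Set.mem_singleton_iff.1 hg]; exact hy))
    (by
      intro g hg
      rcases hcl g hg with rfl | rfl | rfl | rfl
      · simp
      · exact hx2
      · exact hy2
      · calc x * y * (x * y) = x * (y * x) * y := by group
          _ = (x * x) * (y * y) := by rw [← hxy]; group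
          _ = 1 := by rw [hx2, hy2, one_mul])
    (c := c) (by
      intro g hg
      rcases hcl g hg with rfl | rfl | rfl | rfl
      · exact one_smul _ _
      · exact hxc
      · exact hyc
      · rw [mul_smul, hyc, hxc])
  by_contra hne
  have hfin : Finite (closure ({x, y} : Set G)) := by
    have : (closure ({x, y} : Set G) : Set G) ⊆ {1, x, y, x * y} := by
      intro g hg
      rcases hcl g hg with h | h | h | h <;> simp [h]
    exact (Set.toFinite ({1, x, y, x * y} : Set G)).subset this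
  have h3 : 2 < Nat.card (closure ({x, y} : Set G)) := by
    have h4 : Function.Injective (fun i : Fin 3 =>
        (![⟨1, one_mem _⟩, ⟨x, subset_closure (by simp)⟩, ⟨y, subset_closure (by simp)⟩] i :
          closure ({x, y} : Set G))) := by
      intro i j hij
      fin_cases i <;> fin_cases j <;>
        simp [Subtype.ext_iff, hx1, hy1, hne, Ne.symm hx1, Ne.symm hy1, Ne.symm hne] at hij ⊢
    have h5 := Nat.card_le_card_of_injective _ h4
    rw [Nat.card_eq_fintype_card, Fintype.card_fin] at h5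
    exact h5
  have h4 := Nat.le_of_dvd (by norm_num) h1
  omega

theorem sq_of_isConj {x t : G} (h2 : t * t = 1) (hx : IsConj t x) : x * x = 1 := by
  obtain ⟨g, rfl⟩ := isConj_iff.1 hx
  calc g * t * g⁻¹ * (g * t * g⁻¹) = g * (t * t) * g⁻¹ := by group
    _ = 1 := by rw [h2]; group

/-- all involutions of `M` are conjugate in `M` -/
theorem conj_z (h : RO U M a b n e z) [Finite Ω] (hev : Even (Nat.card Ω)) {t : G} (ht : t ∈ M)
    (h2 : t * t = 1) (h1 : t ≠ 1) : ∃ m ∈ M, m * t * m⁻¹ = z := by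
  obtain ⟨c, hc⟩ := h.fix t ht h2
  have hp : IsPGroup 2 (zpowers t) := by
    rintro ⟨x, hx⟩
    obtain ⟨i, rfl⟩ := mem_zpowers_iff.1 hx
    refine ⟨1, Subtype.ext ?_⟩
    change (t ^ i) ^ (2 ^ 1) = 1
    rw [pow_one, ← zpow_natCast, ← zpow_mul, mul_comm, zpow_mul, zpow_natCast, pow_two, h2,
      one_zpow]
  have hfix : ∀ d : Ω, t • d = d → ∀ x ∈ zpowers t, x • d = d := by
    intro d hd x hx
    obtain ⟨i, rfl⟩ := mem_zpowers_iff.1 hx
    have h4 : t ∈ stabilizer G d := hd
    exact (stabilizer G d).zpow_mem h4 i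
  obtain ⟨d, hdc, hd⟩ := exists_second_fix hev hp (hfix c hc)
  obtain ⟨m, hm, hmc, hmd⟩ := h.twoM hdc
  refine ⟨m, hm, ?_⟩
  have h3 := h.eq_z (t := m * t * m⁻¹) (h.hM.conj_mem t ht m) ⟨by
      change (m * t * m⁻¹) • a = a
      rw [mul_smul, mul_smul, inv_smul_eq_iff.2 hmc.symm, hc, hmc], by
      change (m * t * m⁻¹) • b = b
      rw [mul_smul, mul_smul, inv_smul_eq_iff.2 hmd.symm, hd t (mem_zpowers t), hmd]⟩ (by
      calc m * t * m⁻¹ * (m * t * m⁻¹) = m * (t * t) * m⁻¹ := by group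
        _ = 1 := by rw [h2]; group)
  rcases h3 with h3 | h3
  · exfalso
    apply h1
    calc t = m⁻¹ * (m * t * m⁻¹) * m := by group
      _ = 1 := by rw [h3]; group
  · exact h3

theorem comm_z (h : RO U M a b n e z) {g : G} (hg : g ∈ Dab G a b) : g * z = z * g := by
  have hzD : z • a = a ∧ z • b = b := h.zD
  have hgD : g • a = a ∧ g • b = b := hg
  have h1 := h.eq_z (t := g * z * g⁻¹) (h.hM.conj_mem z h.zM g) ⟨by
      change (g * z * g⁻¹) • a = a
      rw [mul_smul, mul_smul, inv_smul_eq_iff.2 hgD.1.symm, hzD.1, hgD.1], by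
      change (g * z * g⁻¹) • b = b
      rw [mul_smul, mul_smul, inv_smul_eq_iff.2 hgD.2.symm, hzD.2, hgD.2]⟩ (by
      calc g * z * g⁻¹ * (g * z * g⁻¹) = g * (z * z) * g⁻¹ := by group
        _ = 1 := by rw [h.z2]; group)
  rcases h1 with h1 | h1
  · exfalso
    apply h.z1
    calc z = g⁻¹ * (g * z * g⁻¹) * g := by group
      _ = 1 := by rw [h1]; group
  · exact mul_inv_eq_iff_eq_mul.1 h1

end RO

namespace RO

variable {M : Subgroup G} {a b : Ω} {n : ℕ} {e z : G}

/-- A Sylow 2-subgroup of `M` normalised by a given 2-subgroup of `G`. -/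
theorem exists_S (h : RO U M a b n e z) [Finite G] [Finite Ω] (hev : Even (Nat.card Ω))
    {P : Subgroup G} (hP : IsPGroup 2 P) : ∃ S : Subgroup G, S ≤ M ∧ Nat.card S = 8 ∧
      (∀ x ∈ S, x * x = 1) ∧ P ≤ normalizer (S : Set G) ∧ P ⊓ M ≤ S ∧ Odd (S.relIndex M) ∧
      ∀ x ∈ S, ∀ y ∈ S, x ≠ 1 → y ≠ 1 → ∃ m ∈ M, m ∈ normalizer (S : Set G) ∧ m * x * m⁻¹ = y := by
  have h2 : Fact (Nat.Prime 2) := ⟨Nat.prime_two⟩
  have hMn := h.hM
  obtain ⟨SG, hSG⟩ := hP.exists_le_sylow
  have hS1 : IsPGroup 2 (((SG : Subgroup G) ⊓ M).subgroupOf M) :=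
    (SG.isPGroup'.to_le inf_le_left).comap_of_injective M.subtype M.subtype_injective
  obtain ⟨S1, hS1'⟩ := hS1.exists_le_sylow
  -- `S1` is the intersection
  have hS1M : (S1 : Subgroup M).map M.subtype ≤ M := by
    rintro _ ⟨x, -, rfl⟩
    exact x.2
  have hp1 : IsPGroup 2 ((S1 : Subgroup M).map M.subtype) := S1.isPGroup'.map _
  obtain ⟨T, hT⟩ := hp1.exists_le_sylow
  obtain ⟨g, hg⟩ := MulAction.exists_smul_eq G T SG
  have hconj : ((S1 : Subgroup M).map M.subtype).map (MulAut.conj g).toMonoidHom ≤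
      (SG : Subgroup G) ⊓ M := by
    rintro _ ⟨x, hx, rfl⟩
    refine ⟨?_, ?_⟩
    · rw [← hg]
      exact ⟨x, hT hx, rfl⟩
    · exact h.hM.conj_mem x (hS1M hx) g
  have hc1 : Nat.card (S1 : Subgroup M) ≤ Nat.card ((SG : Subgroup G) ⊓ M : Subgroup G) := by
    have h3 := Subgroup.card_le_of_le hconj
    rw [Subgroup.card_map_of_injective (MulAut.conj g).injective,
      Subgroup.card_map_of_injective M.subtype_injective] at h3
    exact h3
  have hc2 : Nat.card ((SG : Subgroup G) ⊓ M : Subgroup G) =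
      Nat.card (((SG : Subgroup G) ⊓ M).subgroupOf M) :=
    (Nat.card_congr (Subgroup.subgroupOfEquivOfLe inf_le_right).toEquiv).symm
  have heq : ((SG : Subgroup G) ⊓ M).subgroupOf M = (S1 : Subgroup M) :=
    Subgroup.eq_of_le_of_card_ge hS1' (by rw [← hc2]; exact hc1)
  have hmap : (S1 : Subgroup M).map M.subtype = (SG : Subgroup G) ⊓ M := by
    rw [← heq, subgroupOf_map_subtype, inf_assoc, inf_idem]
  have hmem : ∀ x : M, x ∈ S1 ↔ (x : G) ∈ (SG : Subgroup G) ⊓ M := by
    intro x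
    have h3 : x ∈ (S1 : Subgroup M) ↔ x ∈ ((SG : Subgroup G) ⊓ M).subgroupOf M := by rw [heq]
    exact h3.trans mem_subgroupOf
  obtain ⟨h8, hsq⟩ := h.syl S1
  have hsq' : ∀ x ∈ (SG : Subgroup G) ⊓ M, x * x = 1 := by
    intro x hx
    have := hsq ⟨x, hx.2⟩ ((hmem _).2 hx)
    exact congrArg Subtype.val this
  refine ⟨(SG : Subgroup G) ⊓ M, inf_le_right, ?_, hsq', ?_, ?_, ?_, ?_⟩
  · rw [hc2, heq]; exact h8
  · intro x hx
    rw [mem_normalizer_iff]
    intro y
    have hxS := hSG hx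
    constructor
    · intro hy
      exact ⟨mul_mem (mul_mem hxS hy.1) (Subgroup.inv_mem _ hxS), h.hM.conj_mem y hy.2 x⟩
    · intro hy
      have h3 : y = x⁻¹ * (x * y * x⁻¹) * x := by group
      rw [h3]
      refine ⟨mul_mem (mul_mem (Subgroup.inv_mem _ hxS) hy.1) hxS, ?_⟩
      have := h.hM.conj_mem _ hy.2 x⁻¹
      rwa [inv_inv] at this
  · exact inf_le_inf_right M hSG
  · rw [Subgroup.relIndex, heq]
    have h3 := S1.not_dvd_index
    rwa [← even_iff_two_dvd, Nat.not_even_iff_odd] at h3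
  · intro x hx y hy hx1 hy1
    obtain ⟨m, hm, hmx⟩ := h.conj_z hev hx.2 (hsq' x hx) hx1
    obtain ⟨m', hm', hmy⟩ := h.conj_z hev hy.2 (hsq' y hy) hy1
    -- abelian
    have hcomm : IsMulCommutative (S1 : Subgroup M) := by
      refine ⟨⟨fun u v => ?_⟩⟩
      have h3 : ∀ w : (S1 : Subgroup M), w⁻¹ = w := fun w =>
        inv_eq_of_mul_eq_one_left (Subtype.ext (hsq w w.2))
      calc u * v = (u * v)⁻¹ := (h3 _).symm
        _ = v⁻¹ * u⁻¹ := mul_inv_rev _ _
        _ = v * u := by rw [h3, h3]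
    have hcomm' : IsMulCommutative S1 := hcomm
    obtain ⟨k, hk, hke⟩ := S1.conj_eq_normalizer_conj_of_mem ⟨x, hx.2⟩
      ((⟨m, hm⟩ : M)⁻¹ * ⟨m', hm'⟩) ((hmem _).2 hx) (by
        rw [hmem]
        have h3 : (((((⟨m, hm⟩ : M)⁻¹ * ⟨m', hm'⟩)⁻¹ * ⟨x, hx.2⟩ * ((⟨m, hm⟩ : M)⁻¹ * ⟨m', hm'⟩)) :
          M) : G) = y := by
          change (m⁻¹ * m')⁻¹ * x * (m⁻¹ * m') = y
          calc (m⁻¹ * m')⁻¹ * x * (m⁻¹ * m') = m'⁻¹ * (m * x * m⁻¹) * m' := by group
            _ = m'⁻¹ * (m' * y * m'⁻¹) * m' := by rw [hmx, hmy]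
            _ = y := by group
        rw [h3]
        exact hy)
    refine ⟨(k : G)⁻¹, inv_mem k.2, ?_, ?_⟩
    · apply Subgroup.inv_mem
      rw [mem_normalizer_iff]
      intro u
      replace hk : k ∈ normalizer ((S1 : Subgroup M) : Set M) := hk
      rw [mem_normalizer_iff] at hk
      constructor
      · intro hu
        exact (hmem _).1 ((hk ⟨u, hu.2⟩).1 ((hmem _).2 hu))
      · intro hu
        have huM : u ∈ M := by
          have := h.hM.conj_mem _ hu.2 (k : G)⁻¹
          have h3 : (k : G)⁻¹ * (k * u * (k : G)⁻¹) * (k : G)⁻¹⁻¹ = u := by group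
          rwa [h3] at this
        exact (hmem ⟨u, huM⟩).1 ((hk ⟨u, huM⟩).2 ((hmem _).2 hu))
    · have h3 := congrArg Subtype.val hke
      change (m⁻¹ * m')⁻¹ * x * (m⁻¹ * m') = (k : G)⁻¹ * x * k at h3
      rw [inv_inv, ← h3]
      calc (m⁻¹ * m')⁻¹ * x * (m⁻¹ * m') = m'⁻¹ * (m * x * m⁻¹) * m' := by group
        _ = m'⁻¹ * (m' * y * m'⁻¹) * m' := by rw [hmx, hmy]
        _ = y := by group

/-- an element normalising `S` with square in `S` centralises `S` -/
theorem comm_S {S : Subgroup G} [Finite G] (hMn : M.Normal) (hSM : S ≤ M) (h8 : Nat.card S = 8)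
    (hsq : ∀ x ∈ S, x * x = 1) (hodd : Odd (S.relIndex M))
    (htr : ∀ x ∈ S, ∀ y ∈ S, x ≠ 1 → y ≠ 1 → ∃ m ∈ M, m ∈ normalizer (S : Set G) ∧
      m * x * m⁻¹ = y) {g : G} (hg : g ∈ normalizer (S : Set G)) (hgg : g * g ∈ S) :
    ∀ x ∈ S, g * x = x * g := by
  classical
  have hcomm : ∀ x ∈ S, ∀ y ∈ S, x * y = y * x := by
    intro x hx y hy
    have h3 : ∀ w ∈ S, w⁻¹ = w := fun w hw => inv_eq_of_mul_eq_one_left (hsq w hw)
    calc x * y = (x * y)⁻¹ := (h3 _ (mul_mem hx hy)).symm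
      _ = y⁻¹ * x⁻¹ := mul_inv_rev _ _
      _ = y * x := by rw [h3 x hx, h3 y hy]
  let N : Subgroup G := M ⊓ normalizer (S : Set G)
  have hSN : S ≤ N := le_inf hSM le_normalizer
  let f : normalizer (S : Set G) →* MulAut S := S.normalizerMonoidHom
  have hf : ∀ (y : normalizer (S : Set G)) (x : S), ((f y x : S) : G) = y * x * (y : G)⁻¹ :=
    fun y x => rfl
  let f' : N →* MulAut S := f.comp (Subgroup.inclusion inf_le_right)
  have hf' : ∀ (y : N) (x : S), ((f' y x : S) : G) = y * x * (y : G)⁻¹ := fun y x => rfl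
  have hB : Odd (Nat.card f'.range) := by
    have h1 : S.subgroupOf N ≤ f'.ker := by
      intro x hx
      rw [MonoidHom.mem_ker]
      ext y
      rw [hf']
      change (x : G) * y * (x : G)⁻¹ = y
      rw [mul_inv_eq_iff_eq_mul]
      exact hcomm _ (mem_subgroupOf.1 hx) _ y.2
    have h2 : Nat.card f'.range ∣ S.relIndex N := by
      rw [← Subgroup.index_ker]
      exact Subgroup.index_dvd_of_le h1
    have h3 : S.relIndex N ∣ S.relIndex M := by
      rw [← Subgroup.relIndex_mul_relIndex S N M hSN inf_le_left]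
      exact dvd_mul_right _ _
    exact Odd.of_dvd_nat hodd (h2.trans h3)
  have hmain := eq_one_of_E8 (E := S) h8 (fun x => Subtype.ext (hsq x x.2)) f'.range hB
    (by
      intro x y hx hy
      obtain ⟨m, hmM, hmN, hm⟩ := htr x x.2 y y.2 (fun hc => hx (Subtype.ext hc))
        (fun hc => hy (Subtype.ext hc))
      exact ⟨f' ⟨m, hmM, hmN⟩, ⟨_, rfl⟩, Subtype.ext (by rw [hf']; exact hm)⟩)
    (g := f ⟨g, hg⟩) (by
      rw [← map_mul]
      ext y
      rw [hf]
      change (g * g) * y * (g * g)⁻¹ = y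
      rw [mul_inv_eq_iff_eq_mul]
      exact hcomm _ hgg _ y.2)
    (by
      rintro _ ⟨m, rfl⟩
      have h1 : f ⟨g, hg⟩ * f' m * (f ⟨g, hg⟩)⁻¹ = f' ⟨g * m * g⁻¹, hMn.conj_mem _ m.2.1 g,
          Subgroup.mul_mem _ (Subgroup.mul_mem _ hg m.2.2) (Subgroup.inv_mem _ hg)⟩ := by
        rw [← map_inv]
        change f ⟨g, hg⟩ * f (Subgroup.inclusion inf_le_right m) * f (⟨g, hg⟩⁻¹) = f _
        rw [← map_mul, ← map_mul]
        rfl
      rw [h1]
      exact ⟨_, rfl⟩)
  intro x hx
  have h1 := hf ⟨g, hg⟩ ⟨x, hx⟩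
  rw [hmain] at h1
  change x = g * x * g⁻¹ at h1
  rw [eq_comm, mul_inv_eq_iff_eq_mul] at h1
  exact h1

end RO

namespace RO

variable {M : Subgroup G} {a b : Ω} {n : ℕ} {e z : G}

theorem card_fixSub_zpowers [Finite Ω] (s : G) :
    Nat.card (fixSub Ω (zpowers s)) = Nat.card (fixedBy Ω s) := by
  refine Nat.card_congr (Equiv.subtypeEquivRight fun c => ?_)
  constructor
  · intro hc
    exact hc s (mem_zpowers s)
  · intro hc x hx
    obtain ⟨i, rfl⟩ := mem_zpowers_iff.1 hx
    have h4 : s ∈ stabilizer G c := hc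
    exact (stabilizer G c).zpow_mem h4 i

/-- the number of fixed points of an involution of `M` -/
theorem card_fix (h : RO U M a b n e z) [Finite Ω] (hev : Even (Nat.card Ω)) {y : G} (hy : y ∈ M)
    (hy2 : y * y = 1) (hy1 : y ≠ 1) : Nat.card (fixSub Ω (zpowers y)) = 3 ^ n + 1 := by
  obtain ⟨m, -, hm⟩ := h.conj_z hev hy hy2 hy1
  have hz : ∀ c : Ω, z • c = c → ∀ x ∈ zpowers z, x • c = c := by
    intro c hc x hx
    obtain ⟨i, rfl⟩ := mem_zpowers_iff.1 hx
    have h4 : z ∈ stabilizer G c := hc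
    exact (stabilizer G c).zpow_mem h4 i
  have h1 := h.split.card_fixSub (X := zpowers z) h.hab (hz a h.zD.1) (hz b h.zD.2)
  have h2 : (centralizer ((zpowers z : Subgroup G) : Set G)) = centralizer ({z} : Set G) := by
    rw [zpowers_eq_closure, centralizer_closure]
  have h3 : Nat.card (U a ⊓ centralizer ((zpowers z : Subgroup G) : Set G) : Subgroup G) = 3 ^ n := by
    rw [h2, h.cardz]
  rw [h3] at h1
  rw [card_fixSub_zpowers, SSplit.card_fixedBy_isConj (isConj_iff.2 ⟨m, hm⟩), ← card_fixSub_zpowers, h1]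

/-- no element of `G_ab` outside `M` centralising `S` has square `z` -/
theorem no_root (h : RO U M a b n e z) [Finite Ω] (hev : Even (Nat.card Ω)) {S : Subgroup G}
    (hSM : S ≤ M) (h8 : Nat.card S = 8) (hsq : ∀ x ∈ S, x * x = 1) (hzS : z ∈ S) {g : G}
    (hgM : g ∉ M) (hgz : g * g = z) (hg : ∀ x ∈ S, g * x = x * g) : False := by
  classical
  have hzi : z⁻¹ = z := inv_eq_of_mul_eq_one_left h.z2
  have hinv : ∀ w ∈ S, w⁻¹ = w := fun w hw => inv_eq_of_mul_eq_one_left (hsq w hw)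
  have hcomm : ∀ x ∈ S, ∀ y ∈ S, x * y = y * x := by
    intro x hx y hy
    calc x * y = (x * y)⁻¹ := (hinv _ (mul_mem hx hy)).symm
      _ = y⁻¹ * x⁻¹ := mul_inv_rev _ _
      _ = y * x := by rw [hinv x hx, hinv y hy]
  -- the group `R = S ∪ g S`
  let R : Subgroup G :=
    { carrier := {x | x ∈ S ∨ g * x ∈ S}
      mul_mem' := by
        rintro x y (hx | hx) (hy | hy)
        · exact Or.inl (mul_mem hx hy)
        · right
          have : g * (x * y) = x * (g * y) := by rw [← mul_assoc, hg x hx, mul_assoc]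
          rw [this]
          exact mul_mem hx hy
        · right
          rw [← mul_assoc]
          exact mul_mem hx hy
        · left
          have h1 : x * y = z⁻¹ * ((g * x) * (g * y)) := by
            calc x * y = (g * g)⁻¹ * (g * (g * x) * y) := by group
              _ = z⁻¹ * ((g * x) * (g * y)) := by rw [hgz, hg _ hx]; group
          rw [h1]
          exact mul_mem (inv_mem hzS) (mul_mem hx hy)
      one_mem' := Or.inl (one_mem _)
      inv_mem' := by
        rintro x (hx | hx)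
        · exact Or.inl (inv_mem hx)
        · right
          have h1 : g * x⁻¹ = z * (g * x)⁻¹ := by
            calc g * x⁻¹ = g * (g * x)⁻¹ * g := by group
              _ = (g * x)⁻¹ * g * g := by rw [hg _ (inv_mem hx)]
              _ = (g * x)⁻¹ * z := by rw [mul_assoc, hgz]
              _ = z * (g * x)⁻¹ := hcomm _ (inv_mem hx) _ hzS
          rw [h1]
          exact mul_mem hzS (inv_mem hx) }
  have hR : ∀ x, x ∈ R ↔ x ∈ S ∨ g * x ∈ S := fun x => Iff.rfl
  have hgS : g ∉ S := fun hc => hgM (hSM hc)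
  have hSR : S ≤ R := fun x hx => Or.inl hx
  have hRcard : Nat.card R = 16 := by
    have h1 : S.relIndex R = 2 := by
      rw [relIindex_eq_two_iff']
      refine ⟨g, Or.inr (by rw [hgz]; exact hzS), fun x hx => ?_⟩
      rcases (hR x).1 hx with hx | hx
      · right
        refine ⟨hx, fun hc => hgS ?_⟩
        have : g = (g * x) * x⁻¹ := by group
        rw [this]
        exact mul_mem hc (inv_mem hx)
      · left
        refine ⟨hx, fun hc => hgS ?_⟩
        have : g = (g * x) * x⁻¹ := by group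
        rw [this]
        exact mul_mem hx (inv_mem hc)
    have h2 := Subgroup.card_mul_index (S.subgroupOf R)
    rw [Nat.card_congr (Subgroup.subgroupOfEquivOfLe hSR).toEquiv, h8] at h2
    rw [Subgroup.relIndex] at h1
    rw [h1] at h2
    exact h2.symm
  have hfR : Finite R := Nat.finite_of_card_ne_zero (by rw [hRcard]; norm_num)
  have hfS : Finite S := Nat.finite_of_card_ne_zero (by rw [h8]; norm_num)
  -- `y ∈ S`, `y ≠ 1, z`
  obtain ⟨y, hy, hy1, hyz⟩ : ∃ y ∈ S, y ≠ 1 ∧ y ≠ z := by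
    by_contra hc
    push Not at hc
    have h1 : S ≤ zpowers z := by
      intro y hy
      by_cases hy1 : y = 1
      · rw [hy1]; exact one_mem _
      · rw [hc y hy hy1]; exact mem_zpowers z
    have h2 := Subgroup.card_dvd_of_le h1
    rw [h8, Nat.card_zpowers] at h2
    have h3 : orderOf z ∣ 2 := orderOf_dvd_of_pow_eq_one (by rw [pow_two]; exact h.z2)
    have h4 := Nat.le_of_dvd (by norm_num) (h2.trans h3)
    omega
  have hRy : R ≤ centralizer ((zpowers y : Subgroup G) : Set G) := by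
    rw [zpowers_eq_closure, centralizer_closure]
    intro x hx
    rw [mem_centralizer_singleton_iff]
    rcases (hR x).1 hx with hx | hx
    · exact hcomm _ hx _ hy
    · have h1 : x = g⁻¹ * (g * x) := by group
      rw [h1]
      have h2 : g⁻¹ * y = y * g⁻¹ := by
        rw [inv_mul_eq_iff_eq_mul, ← mul_assoc, hg y hy, mul_inv_cancel_right]
      calc g⁻¹ * (g * x) * y = g⁻¹ * ((g * x) * y) := by group
        _ = g⁻¹ * (y * (g * x)) := by rw [hcomm _ hx _ hy]
        _ = (g⁻¹ * y) * (g * x) := by group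
        _ = y * (g⁻¹ * (g * x)) := by rw [h2]; group
  have hdvd := dvd_fixSub (Ω := Ω) R (zpowers y) hRy (k := 2) (by
    intro c hc
    have hyc : y • c = c := hc y (mem_zpowers y)
    have hle : R ⊓ stabilizer G c ≤ S := by
      intro x hx
      rcases (hR x).1 hx.1 with h1 | h1
      · exact h1
      · exfalso
        -- `x² = z` fixes `c`
        have hxx : x * x = z := by
          have h2 : g⁻¹ * (g * x) = (g * x) * g⁻¹ := by
            rw [inv_mul_eq_iff_eq_mul, ← mul_assoc, hg _ h1, mul_inv_cancel_right]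
          calc x * x = (g⁻¹ * (g * x)) * (g⁻¹ * (g * x)) := by group
            _ = ((g * x) * g⁻¹) * (g⁻¹ * (g * x)) := by rw [h2]
            _ = (g * x) * (g * g)⁻¹ * (g * x) := by group
            _ = (g * x) * z * (g * x) := by rw [hgz, hzi]
            _ = z * (g * x) * (g * x) := by rw [hcomm _ h1 _ hzS]
            _ = z := by rw [mul_assoc, hsq _ h1, mul_one]
        have hxc : x • c = c := hx.2
        have hzc : z • c = c := by rw [← hxx, mul_smul, hxc, hxc]
        exact hyz (h.eq_of_comm hev (hSM hy) h.zM (hsq y hy) h.z2 hy1 h.z1 (hcomm _ hy _ hzS)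
          hyc hzc)
    exact h.card_stab hev (hle.trans hSM) (fun x hx => hsq x (hle hx)) (c := c)
      (fun x hx => hx.2))
  rw [hRcard, h.card_fix hev (hSM hy) (hsq y hy) hy1] at hdvd
  have h9 : 8 ∣ 3 ^ n + 1 := by omega
  exact not_eight_dvd n h9

/-- if `X ≤ G_ab` centralises `S`, then `|C_{U a}(X)|` is an odd power of 3 -/
theorem card_fix_X (h : RO U M a b n e z) [Finite Ω] (hev : Even (Nat.card Ω)) {S : Subgroup G}
    (hSM : S ≤ M) (h8 : Nat.card S = 8) (hsq : ∀ x ∈ S, x * x = 1) {X : Subgroup G}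
    (hX : X ≤ Dab G a b) (hSX : S ≤ centralizer (X : Set G)) :
    ∃ i, Odd i ∧ i ≤ 3 * n ∧ Nat.card (U a ⊓ centralizer (X : Set G) : Subgroup G) = 3 ^ i := by
  have hfS : Finite S := Nat.finite_of_card_ne_zero (by rw [h8]; norm_num)
  have hd : Nat.card (U a ⊓ centralizer (X : Set G) : Subgroup G) ∣ 3 ^ (3 * n) := by
    rw [show 3 * n = n * 3 by ring, pow_mul, ← h.card]
    exact Subgroup.card_dvd_of_le inf_le_left
  obtain ⟨i, hi, he⟩ := (Nat.dvd_prime_pow Nat.prime_three).1 hd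
  refine ⟨i, ?_, hi, he⟩
  have h1 := dvd_fixSub (Ω := Ω) S X hSX (k := 2) (by
    intro c _
    exact h.card_stab hev (T := S ⊓ stabilizer G c) (inf_le_left.trans hSM)
      (fun x hx => hsq x hx.1) (c := c) (fun x hx => hx.2))
  rw [h8, h.split.card_fixSub h.hab (fun x hx => (hX hx).1) (fun x hx => (hX hx).2), he] at h1
  exact odd_of_four_dvd (by omega)

/-- `f ∈ M ∩ G_ab` of odd order acts semiregularly on `U a` -/
theorem semireg (h : RO U M a b n e z) [Finite G] {f : G} (hfM : f ∈ M) (hfD : f ∈ Dab G a b)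
    (hf : Odd (orderOf f)) {V : Subgroup G} (hV : V ≤ U a) (hfV : ∀ v ∈ V, f * v * f⁻¹ ∈ V) :
    orderOf f ∣ Nat.card V - 1 := by
  classical
  have hfV' : ∀ r ∈ zpowers f, ∀ v ∈ V, r * v * r⁻¹ ∈ V := by
    intro r hr
    have h1 : zpowers f ≤ normalizer (V : Set G) := by
      rw [zpowers_le]
      have h2 : V.map (MulAut.conj f).toMonoidHom ≤ V := by
        rintro _ ⟨v, hv, rfl⟩
        exact hfV v hv
      have h3 : V.map (MulAut.conj f).toMonoidHom = V :=
        Subgroup.eq_of_le_of_card_ge h2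
          (by rw [Subgroup.card_map_of_injective (MulAut.conj f).injective])
      rw [mem_normalizer_iff]
      intro v
      refine ⟨hfV v, fun hv => ?_⟩
      rw [← h3] at hv
      obtain ⟨w, hw, hwe⟩ := hv
      have hwe : f * w * f⁻¹ = f * v * f⁻¹ := hwe
      have : w = v := mul_left_cancel (mul_right_cancel hwe)
      rw [← this]
      exact hw
    intro v hv
    exact (mem_normalizer_iff.1 (h1 hr) v).1 hv
  let _ : MulAction (zpowers f) {v : G // v ∈ V ∧ v ≠ 1} :=
    { smul := fun r v => ⟨(r : G) * v.1 * (r : G)⁻¹, hfV' r r.2 v.1 v.2.1, fun hc => v.2.2 (by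
        calc v.1 = (r : G)⁻¹ * ((r : G) * v.1 * (r : G)⁻¹) * r := by group
          _ = 1 := by rw [hc]; group)⟩
      one_smul := fun v => Subtype.ext (by
        change (1 : G) * v.1 * (1 : G)⁻¹ = v.1
        group)
      mul_smul := fun r r' v => Subtype.ext (by
        change ((r : G) * r') * v.1 * ((r : G) * r')⁻¹ = r * (r' * v.1 * (r' : G)⁻¹) * (r : G)⁻¹
        group) }
  have hsmul : ∀ (r : zpowers f) (v : {v : G // v ∈ V ∧ v ≠ 1}), (r • v).1 = r * v.1 * (r : G)⁻¹ :=
    fun _ _ => rfl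
  have h1 := card_dvd_mul (R := zpowers f) (X := {v : G // v ∈ V ∧ v ≠ 1}) (k := 1) (by
    rintro ⟨v, hv, hv1⟩
    rw [Nat.dvd_one, Subgroup.card_eq_one, eq_bot_iff]
    intro r hr
    have hr' : r • (⟨v, hv, hv1⟩ : {v : G // v ∈ V ∧ v ≠ 1}) = ⟨v, hv, hv1⟩ := hr
    have hr2 : (r : G) * v * (r : G)⁻¹ = v := congrArg Subtype.val hr'
    have hr3 : (r : G) * v = v * r := mul_inv_eq_iff_eq_mul.1 hr2
    have hrM : (r : G) ∈ M := (zpowers_le.2 hfM) r.2
    have hrD : (r : G) ∈ Dab G a b := (zpowers_le.2 hfD) r.2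
    have hro : Odd (orderOf (r : G)) := Odd.of_dvd_nat hf (orderOf_dvd_of_mem_zpowers r.2)
    rcases h.fpf r hrM hrD _ hro (pow_orderOf_eq_one _) v (hV hv) hr3 with h2 | h2
    · exact mem_bot.2 (Subtype.ext h2)
    · exact absurd h2 hv1)
  rw [Nat.card_zpowers, one_mul] at h1
  have h2 : Nat.card {v : G // v ∈ V ∧ v ≠ 1} + 1 = Nat.card V := by
    rw [← card_ne_pt (Ω := V) 1]
    congr 1
    refine Nat.card_congr ⟨fun v => ⟨⟨v.1, v.2.1⟩, fun hc => v.2.2 (congrArg Subtype.val hc)⟩,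
      fun v => ⟨v.1.1, v.1.2, fun hc => v.2 (Subtype.ext hc)⟩, fun _ => rfl, fun _ => rfl⟩
  have h3 : Nat.card {v : G // v ∈ V ∧ v ≠ 1} = Nat.card V - 1 := by omega
  rwa [h3] at h1

end RO

namespace RO

variable {M : Subgroup G} {a b : Ω} {n : ℕ} {e z : G}

theorem conj_U (h : RO U M a b n e z) {g : G} (hg : g ∈ Dab G a b) {v : G} (hv : v ∈ U a) :
    g * v * g⁻¹ ∈ U a := h.split.conj_of_fix hg.1 hv

/-- an element of `G_ab` centralising `U a` is trivial -/
theorem eq_one_of_comm (h : RO U M a b n e z) [FaithfulSMul G Ω] {g : G} (hg : g ∈ Dab G a b)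
    (hc : ∀ v ∈ U a, g * v = v * g) : g = 1 := by
  refine eq_of_smul_eq_smul (α := Ω) fun c => ?_
  rw [one_smul]
  by_cases hca : c = a
  · rw [hca]; exact hg.1
  · obtain ⟨v, hv, hvb⟩ := h.split.trans h.hab hca
    rw [← hvb, ← mul_smul, hc v hv, mul_smul, show g • b = b from hg.2]

/-- the squares `f = e²`: order odd `(3ⁿ-1)/2` -/
theorem ord_f (h : RO U M a b n e z) : Odd (orderOf (e * e)) ∧ 2 * orderOf (e * e) = 3 ^ n - 1 := by
  obtain ⟨m, hm, hmo⟩ := h.half
  have h1 : orderOf (e * e) = m := by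
    rw [← pow_two, orderOf_pow' e (by norm_num), h.ord, ← hm]
    have : Nat.gcd (2 * m) 2 = 2 := Nat.gcd_eq_right (dvd_mul_right 2 m)
    rw [this, Nat.mul_div_cancel_left _ (by norm_num)]
  rw [h1]
  exact ⟨hmo, hm⟩

/-- `C_{U a}(z)` is abelian -/
theorem comm_W (h : RO U M a b n e z) [Finite G] : ∀ x ∈ U a ⊓ centralizer ({z} : Set G),
    ∀ y ∈ U a ⊓ centralizer ({z} : Set G), x * y = y * x := by
  classical
  set W : Subgroup G := U a ⊓ centralizer ({z} : Set G) with hW
  have hn0 : n ≠ 0 := fun hc => by have := h.odd; rw [hc] at this; exact absurd this (by decide)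
  have h3 : Fact (Nat.Prime 3) := ⟨Nat.prime_three⟩
  have hp : IsPGroup 3 W := IsPGroup.iff_card.2 ⟨n, h.cardz⟩
  have hnt : Nontrivial W := by
    apply Finite.one_lt_card_iff_nontrivial.1
    rw [h.cardz]
    have := h.three_le
    omega
  have hZ : Nontrivial (center W) := hp.center_nontrivial
  let Z : Subgroup G := (center W).map W.subtype
  have hZW : Z ≤ W := by
    rintro _ ⟨x, -, rfl⟩
    exact x.2
  have hZc : Nat.card Z = Nat.card (center W) :=
    Subgroup.card_map_of_injective W.subtype_injective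
  obtain ⟨ho, hf⟩ := h.ord_f
  have heW : ∀ x ∈ W, (e * e) * x * (e * e)⁻¹ ∈ W := by
    intro x hx
    have hD : e * e ∈ Dab G a b := mul_mem h.eD h.eD
    refine mem_inf.2 ⟨h.conj_U hD hx.1, ?_⟩
    have h1 := h.comm_z hD
    have h2 := mem_centralizer_singleton_iff.1 hx.2
    rw [mem_centralizer_singleton_iff]
    have h4 : (e * e)⁻¹ * z = z * (e * e)⁻¹ := by
      rw [inv_mul_eq_iff_eq_mul, ← mul_assoc, h1, mul_inv_cancel_right]
    calc (e * e) * x * (e * e)⁻¹ * z = (e * e) * x * ((e * e)⁻¹ * z) := by group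
      _ = (e * e) * (x * z) * (e * e)⁻¹ := by rw [h4]; group
      _ = ((e * e) * z) * x * (e * e)⁻¹ := by rw [h2]; group
      _ = z * ((e * e) * x * (e * e)⁻¹) := by rw [h1]; group
  have heWb : ∀ x ∈ W, ∃ y ∈ W, (e * e) * y * (e * e)⁻¹ = x := by
    intro x hx
    have h1 : W.map (MulAut.conj (e * e)).toMonoidHom ≤ W := by
      rintro _ ⟨v, hv, rfl⟩
      exact heW v hv
    have h2 : W.map (MulAut.conj (e * e)).toMonoidHom = W :=
      Subgroup.eq_of_le_of_card_ge h1
        (by rw [Subgroup.card_map_of_injective (MulAut.conj (e * e)).injective])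
    rw [← h2] at hx
    obtain ⟨y, hy, hye⟩ := hx
    exact ⟨y, hy, hye⟩
  have h1 := h.semireg (f := e * e) (mul_mem h.eM h.eM) (mul_mem h.eD h.eD) ho (V := Z)
    (hZW.trans inf_le_left) (by
      rintro _ ⟨x, hx, rfl⟩
      refine ⟨⟨(e * e) * x * (e * e)⁻¹, heW x x.2⟩, ?_, rfl⟩
      change _ ∈ center W
      rw [mem_center_iff]
      rintro ⟨y, hy⟩
      obtain ⟨y', hy', rfl⟩ := heWb y hy
      apply Subtype.ext
      change (e * e) * y' * (e * e)⁻¹ * ((e * e) * x * (e * e)⁻¹) =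
        (e * e) * x * (e * e)⁻¹ * ((e * e) * y' * (e * e)⁻¹)
      have hx' := congrArg Subtype.val (mem_center_iff.1 hx ⟨y', hy'⟩)
      change y' * (x : G) = x * y' at hx'
      calc (e * e) * y' * (e * e)⁻¹ * ((e * e) * x * (e * e)⁻¹)
          = (e * e) * (y' * x) * (e * e)⁻¹ := by group
        _ = (e * e) * (x * y') * (e * e)⁻¹ := by rw [hx']
        _ = _ := by group)
  have h4 : Nat.card (center W) ∣ 3 ^ n := by
    rw [← h.cardz]
    exact Subgroup.card_subgroup_dvd_card _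
  obtain ⟨j, hj, hje⟩ := (Nat.dvd_prime_pow Nat.prime_three).1 h4
  have hj0 : j ≠ 0 := by
    rintro rfl
    rw [pow_zero] at hje
    have := Finite.one_lt_card_iff_nontrivial.2 hZ
    omega
  rw [hZc, hje] at h1
  have h5 := Nat.le_of_dvd (Nat.pos_of_ne_zero hj0) (dvd_of_half hn0 hf h1)
  have h6 : j = n := le_antisymm hj h5
  have h7 : center W = ⊤ := by
    apply Subgroup.eq_top_of_card_eq
    rw [hje, h6, h.cardz]
  intro x hx y hy
  have h8 : (⟨y, hy⟩ : W) ∈ center W := by rw [h7]; exact mem_top _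
  have := congrArg Subtype.val (mem_center_iff.1 h8 ⟨x, hx⟩)
  exact this

/-- no involution of `G_ab` outside `M` centralises `S` -/
theorem no_inv (h : RO U M a b n e z) [Finite G] [Finite Ω] [FaithfulSMul G Ω]
    (hev : Even (Nat.card Ω)) {S : Subgroup G}
    (hSM : S ≤ M) (h8 : Nat.card S = 8) (hsq : ∀ x ∈ S, x * x = 1) (hzS : z ∈ S) {s : G}
    (hsD : s ∈ Dab G a b) (hsM : s ∉ M) (hs2 : s * s = 1) (hsS : ∀ x ∈ S, s * x = x * s) :
    False := by
  classical
  have hsi : s⁻¹ = s := inv_eq_of_mul_eq_one_left hs2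
  have hinv : ∀ w ∈ S, w⁻¹ = w := fun w hw => inv_eq_of_mul_eq_one_left (hsq w hw)
  have hcomm : ∀ x ∈ S, ∀ y ∈ S, x * y = y * x := by
    intro x hx y hy
    calc x * y = (x * y)⁻¹ := (hinv _ (mul_mem hx hy)).symm
      _ = y⁻¹ * x⁻¹ := mul_inv_rev _ _
      _ = y * x := by rw [hinv x hx, hinv y hy]
  have hsz : s * z = z * s := h.comm_z hsD
  have hn0 : n ≠ 0 := fun hc => by have := h.odd; rw [hc] at this; exact absurd this (by decide)
  obtain ⟨ho, hf2⟩ := h.ord_f
  set f := e * e with hf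
  have hfM : f ∈ M := mul_mem h.eM h.eM
  have hfD : f ∈ Dab G a b := mul_mem h.eD h.eD
  -- `s` centralises `f`
  have hsf : s * f = f * s := by
    by_contra hne
    set r := s * f * s⁻¹ * f⁻¹ with hr
    have hsfM : s * f * s⁻¹ ∈ M := h.hM.conj_mem f hfM s
    have hsfD : s * f * s⁻¹ ∈ Dab G a b := mul_mem (mul_mem hsD hfD) (inv_mem hsD)
    have hrM : r ∈ M := mul_mem hsfM (inv_mem hfM)
    have hrD : r ∈ Dab G a b := mul_mem hsfD (inv_mem hfD)
    have hr1 : r ≠ 1 := by
      intro hc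
      apply hne
      exact mul_inv_eq_iff_eq_mul.1 (mul_inv_eq_one.1 hc)
    have hsr : s * r * s⁻¹ = r⁻¹ := by
      have h1 : r⁻¹ = f * (s * f⁻¹ * s⁻¹) := by rw [hr]; group
      rw [h1, hr]
      calc s * (s * f * s⁻¹ * f⁻¹) * s⁻¹ = (s * s) * f * s⁻¹ * f⁻¹ * s⁻¹ := by group
        _ = f * (s * f⁻¹ * s⁻¹) := by rw [hs2, one_mul, hsi]; group
    -- `r` has odd order
    have hrc : Commute (s * f * s⁻¹) f⁻¹ := by
      obtain ⟨i, hi⟩ := mem_zpowers_iff.1 (h.gen _ hsfM hsfD)
      rw [← hi, hf]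
      have h1 : Commute e (e * e) := (Commute.refl e).mul_right (Commute.refl e)
      exact (h1.zpow_left i).inv_right
    have hrpow : r ^ orderOf f = 1 := by
      have h1 : r = (s * f * s⁻¹) * f⁻¹ := hr
      rw [h1, hrc.mul_pow, conj_pow, pow_orderOf_eq_one, inv_pow, pow_orderOf_eq_one]
      group
    have hconjW : ∀ g : G, g ∈ Dab G a b → ∀ x ∈ U a ⊓ centralizer ({z} : Set G),
        g * x * g⁻¹ ∈ U a ⊓ centralizer ({z} : Set G) := by
      intro g hg x hx
      refine mem_inf.2 ⟨h.conj_U hg hx.1, ?_⟩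
      have h1 := h.comm_z hg
      have h2 := mem_centralizer_singleton_iff.1 hx.2
      rw [mem_centralizer_singleton_iff]
      have h4 : g⁻¹ * z = z * g⁻¹ := by
        rw [inv_mul_eq_iff_eq_mul, ← mul_assoc, h1, mul_inv_cancel_right]
      calc g * x * g⁻¹ * z = g * x * (g⁻¹ * z) := by group
        _ = g * (x * z) * g⁻¹ := by rw [h4]; group
        _ = (g * z) * x * g⁻¹ := by rw [h2]; group
        _ = z * (g * x * g⁻¹) := by rw [h1]; group
    have hWodd : Odd (Nat.card (U a ⊓ centralizer ({z} : Set G) : Subgroup G)) := by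
      rw [h.cardz]
      exact Odd.pow (by decide)
    have h1 := card_eq_sq (U a ⊓ centralizer ({z} : Set G)) h.comm_W hWodd hs2 hsr
      (hconjW s hsD) (hconjW r hrD)
      (by
        intro x hx
        have := hconjW r⁻¹ (inv_mem hrD) x hx
        rwa [inv_inv] at this)
      (by
        intro x hx hxr
        rcases h.fpf (r * r) (mul_mem hrM hrM) (mul_mem hrD hrD) _ ho
          (by rw [(Commute.refl r).mul_pow, hrpow, one_mul]) x hx.1 hxr with h2 | h2
        · exfalso
          apply hr1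
          have h3 : orderOf r ∣ 2 := orderOf_dvd_of_pow_eq_one (by rw [pow_two]; exact h2)
          have h4 : Odd (orderOf r) := Odd.of_dvd_nat ho (orderOf_dvd_of_pow_eq_one hrpow)
          rcases (Nat.dvd_prime Nat.prime_two).1 h3 with h5 | h5
          · exact orderOf_eq_one_iff.1 h5
          · rw [h5] at h4
            exact absurd h4 (by decide)
        · exact h2)
    rw [h.cardz] at h1
    -- `3ⁿ` is not a square
    have h2 : Nat.card (U a ⊓ centralizer ({z} : Set G) ⊓ centralizer ({s} : Set G) : Subgroup G) ∣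
        3 ^ n := by
      rw [← h.cardz]
      exact Subgroup.card_dvd_of_le inf_le_left
    obtain ⟨j, -, hj⟩ := (Nat.dvd_prime_pow Nat.prime_three).1 h2
    rw [hj, ← pow_mul] at h1
    have h3 := Nat.pow_right_injective (le_refl 2 |>.trans (by norm_num : 2 ≤ 3)) h1
    have h4 := h.odd
    rw [h3, mul_comm] at h4
    exact (Nat.not_even_iff_odd.2 h4) (even_two_mul j)
  -- the orders of the fixed subgroups
  have key : ∀ X : Subgroup G, X ≤ Dab G a b → S ≤ centralizer (X : Set G) →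
      (∀ x ∈ X, f * x = x * f) → ∃ i, Odd i ∧ i ≤ 3 * n ∧ n ∣ i ∧
        Nat.card (U a ⊓ centralizer (X : Set G) : Subgroup G) = 3 ^ i := by
    intro X hX hSX hfX
    obtain ⟨i, hi, hi2, hi3⟩ := h.card_fix_X hev hSM h8 hsq hX hSX
    refine ⟨i, hi, hi2, ?_, hi3⟩
    have h1 := h.semireg hfM hfD ho (V := U a ⊓ centralizer (X : Set G)) inf_le_left (by
      intro v hv'
      obtain ⟨hv, hvX⟩ := mem_inf.1 hv'
      refine mem_inf.2 ⟨h.conj_U hfD hv, ?_⟩
      rw [mem_centralizer_iff] at hvX ⊢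
      intro x hx
      have h1 := hfX x hx
      have h2 := hvX x hx
      have h4 : f⁻¹ * x = x * f⁻¹ := by
        rw [inv_mul_eq_iff_eq_mul, ← mul_assoc, h1, mul_inv_cancel_right]
      calc x * (f * v * f⁻¹) = (x * f) * v * f⁻¹ := by group
        _ = f * (x * v) * f⁻¹ := by rw [← h1]; group
        _ = f * v * (x * f⁻¹) := by rw [h2]; group
        _ = f * v * f⁻¹ * x := by rw [← h4]; group)
    rw [hi3] at h1
    exact dvd_of_half hn0 hf2 h1
  -- for a single involution
  have key1 : ∀ t : G, t ∈ Dab G a b → t ∉ M → (∀ x ∈ S, t * x = x * t) → f * t = t * f →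
      Nat.card (U a ⊓ centralizer ({t} : Set G) : Subgroup G) = 3 ^ n := by
    intro t htD htM htS hft
    have hce : (centralizer ((zpowers t : Subgroup G) : Set G)) = centralizer ({t} : Set G) := by
      rw [zpowers_eq_closure, centralizer_closure]
    obtain ⟨i, hi, hi2, ⟨j, hj⟩, hi3⟩ := key (zpowers t) (zpowers_le.2 htD) (by
      rw [hce]
      intro x hx
      rw [mem_centralizer_singleton_iff]
      exact (htS x hx).symm) (by
      intro x hx
      obtain ⟨i, rfl⟩ := mem_zpowers_iff.1 hx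
      exact ((show Commute f t from hft).zpow_right i))
    rw [hce] at hi3
    rw [hi3]
    have hjo : Odd j := by
      rw [hj] at hi
      exact (Nat.odd_mul.1 hi).2
    have hj3 : j ≤ 3 := by
      by_contra hc
      have : n * 4 ≤ n * j := Nat.mul_le_mul_left n (by omega)
      have hn1 : 0 < n := Nat.pos_of_ne_zero hn0
      omega
    have hj2 : j = 1 ∨ j = 3 := by
      obtain ⟨l, hl⟩ := hjo
      omega
    rcases hj2 with hj2 | hj2
    · rw [hj, hj2, mul_one]
    · exfalso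
      apply htM
      have h1 : U a ⊓ centralizer ({t} : Set G) = U a := by
        apply Subgroup.eq_of_le_of_card_ge inf_le_left
        rw [hi3, hj, hj2, h.card, pow_mul]
      have h2 : t = 1 := h.eq_one_of_comm htD fun v hv => by
        rw [← h1] at hv
        exact (mem_centralizer_singleton_iff.1 hv.2).symm
      rw [h2]
      exact one_mem _
  have hfs : f * s = s * f := hsf.symm
  have hfz : f * z = z * f := h.comm_z hfD
  have hu1 := key1 s hsD hsM hsS hfs
  have hszM : s * z ∉ M := fun hc => hsM (by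
    have : s = (s * z) * z⁻¹ := by group
    rw [this]
    exact mul_mem hc (inv_mem h.zM))
  have hu2 := key1 (s * z) (mul_mem hsD h.zD) hszM (by
    intro x hx
    calc s * z * x = s * (z * x) := by group
      _ = (s * x) * z := by rw [hcomm _ hzS _ hx]; group
      _ = x * (s * z) := by rw [hsS x hx]; group) (by
    calc f * (s * z) = (f * s) * z := by group
      _ = s * (f * z) := by rw [hfs]; group
      _ = s * z * f := by rw [hfz]; group)
  -- the four-group
  let X : Subgroup G := closure ({s, z} : Set G)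
  have hXc : centralizer (X : Set G) = centralizer ({s} : Set G) ⊓ centralizer ({z} : Set G) := by
    change centralizer ((closure ({s, z} : Set G) : Subgroup G) : Set G) = _
    rw [centralizer_closure]
    ext x
    rw [mem_inf, mem_centralizer_iff, mem_centralizer_singleton_iff, mem_centralizer_singleton_iff]
    constructor
    · intro hx
      exact ⟨(hx s (by simp)).symm, (hx z (by simp)).symm⟩
    · rintro ⟨h1, h2⟩ y (rfl | hy)
      · exact h1.symm
      · rw [Set.mem_singleton_iff.1 hy]; exact h2.symm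
  obtain ⟨i, hi, -, hin, hi3⟩ := key X ((closure_le _).2 (by
      rintro x (rfl | hx)
      · exact hsD
      · rw [Set.mem_singleton_iff.1 hx]; exact h.zD)) (by
      rw [hXc]
      intro x hx
      rw [mem_inf, mem_centralizer_singleton_iff, mem_centralizer_singleton_iff]
      exact ⟨(hsS x hx).symm, hcomm _ hx _ hzS⟩) (by
      intro x hx
      have h1 : X ≤ centralizer ({f} : Set G) := (closure_le _).2 (by
        rintro x (rfl | hx)
        · exact mem_centralizer_singleton_iff.2 hsf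
        · rw [Set.mem_singleton_iff.1 hx]
          exact mem_centralizer_singleton_iff.2 hfz.symm)
      exact (mem_centralizer_singleton_iff.1 (h1 hx)).symm)
  have hi0 : 0 < i := hi.pos
  have hni : n ≤ i := Nat.le_of_dvd hi0 hin
  have hXle : 3 ^ n ≤ Nat.card (U a ⊓ centralizer (X : Set G) : Subgroup G) := by
    rw [hi3]
    exact Nat.pow_le_pow_right (by norm_num) hni
  have heq : ∀ t : G, Nat.card (U a ⊓ centralizer ({t} : Set G) : Subgroup G) = 3 ^ n →
      centralizer (X : Set G) ≤ centralizer ({t} : Set G) →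
      U a ⊓ centralizer (X : Set G) = U a ⊓ centralizer ({t} : Set G) := by
    intro t ht hXt
    apply Subgroup.eq_of_le_of_card_ge (inf_le_inf_left _ hXt)
    rw [ht]
    exact hXle
  have hW : U a ⊓ centralizer (X : Set G) = U a ⊓ centralizer ({z} : Set G) :=
    heq z h.cardz (by rw [hXc]; exact inf_le_right)
  have hW1 : U a ⊓ centralizer (X : Set G) = U a ⊓ centralizer ({s} : Set G) :=
    heq s hu1 (by rw [hXc]; exact inf_le_left)
  have hW2 : U a ⊓ centralizer (X : Set G) = U a ⊓ centralizer ({s * z} : Set G) :=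
    heq (s * z) hu2 (by
      rw [hXc]
      intro x hx
      have h1 := mem_centralizer_singleton_iff.1 hx.1
      have h2 := mem_centralizer_singleton_iff.1 hx.2
      rw [mem_centralizer_singleton_iff]
      calc x * (s * z) = (x * s) * z := by group
        _ = s * (x * z) := by rw [h1]; group
        _ = s * z * x := by rw [h2]; group)
  have hUodd : Odd (Nat.card (U a)) := by
    rw [h.card]
    exact (Odd.pow (by decide : Odd 3)).pow
  have hle := Lib.KleinGen.le_of_klein (U a) (U a ⊓ centralizer (X : Set G)) hUodd s z hs2 h.z2 hsz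
    (fun v hv => h.conj_U hsD hv) (fun v hv => h.conj_U h.zD hv) (by rw [hW1])
    (by rw [hW]) (by rw [hW2])
  have h1 := Subgroup.card_le_of_le hle
  rw [hW, h.cardz, h.card] at h1
  have h2 := h.three_le
  have h4 : (3 ^ n) ^ 1 < (3 ^ n) ^ 3 := Nat.pow_lt_pow_right (by omega) (by norm_num)
  rw [pow_one] at h4
  omega

end RO

namespace RO

variable {M : Subgroup G} {a b : Ω} {n : ℕ} {e z : G}

/-- every involution of `G` lies in `M` -/
theorem inv_mem_M (h : RO U M a b n e z) [Finite G] [Finite Ω] [FaithfulSMul G Ω]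
    (hev : Even (Nat.card Ω)) {t : G} (ht : t * t = 1) : t ∈ M := by
  classical
  by_contra htM
  obtain ⟨m, hm, hma, hmb⟩ := h.twoM (c := t • a) (d := t • b)
    (fun hc => h.hab (MulAction.injective t hc))
  set g0 := m * t with hg0
  have hg0D : g0 ∈ Dab G a b := ⟨by
    change (m * t) • a = a
    rw [mul_smul, hma], by
    change (m * t) • b = b
    rw [mul_smul, hmb]⟩
  have hg0M : g0 ∉ M := fun hc => htM (by
    have : t = m⁻¹ * g0 := by rw [hg0]; group
    rw [this]
    exact mul_mem (inv_mem hm) hc)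
  have hg0sq : g0 * g0 ∈ M := by
    have h1 : g0 * g0 = m * (t * m * t⁻¹) := by
      rw [hg0]
      calc m * t * (m * t) = m * (t * m * t⁻¹) * (t * t) := by group
        _ = m * (t * m * t⁻¹) := by rw [ht, mul_one]
    rw [h1]
    exact mul_mem hm (h.hM.conj_mem m hm t)
  obtain ⟨k, hk, hko⟩ := h.half
  set g := g0 ^ k with hg
  have hgD : g ∈ Dab G a b := pow_mem hg0D k
  obtain ⟨l, hl⟩ := hko
  have hgM : g ∉ M := by
    intro hc
    apply hg0M
    have h1 : g = (g0 * g0) ^ l * g0 := by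
      rw [hg, hl, pow_succ, pow_mul, pow_two]
    have h2 : g0 = ((g0 * g0) ^ l)⁻¹ * g := by rw [h1]; group
    rw [h2]
    exact mul_mem (inv_mem (pow_mem hg0sq l)) hc
  have hgg : g * g = (g0 * g0) ^ k := by
    rw [hg, (Commute.refl g0).mul_pow]
  have hggM : g * g ∈ M := by rw [hgg]; exact pow_mem hg0sq k
  have h4 : (g * g) * (g * g) = 1 := by
    rw [hgg, ← pow_add, ← two_mul, hk, ← h.ord]
    obtain ⟨i, hi⟩ := mem_zpowers_iff.1 (h.gen _ hg0sq (mul_mem hg0D hg0D))
    rw [← hi, ← zpow_natCast, ← zpow_mul, mul_comm, zpow_mul, zpow_natCast, pow_orderOf_eq_one,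
      one_zpow]
  have hsq := h.eq_z hggM (mul_mem hgD hgD) h4
  have hgz := h.comm_z hgD
  -- the 2-group `⟨g⟩⟨z⟩`
  have hP1 : IsPGroup 2 (zpowers g) := by
    rintro ⟨x, hx⟩
    obtain ⟨i, rfl⟩ := mem_zpowers_iff.1 hx
    refine ⟨2, Subtype.ext ?_⟩
    change (g ^ i) ^ (2 ^ 2) = 1
    rw [← zpow_natCast, ← zpow_mul, mul_comm, zpow_mul, zpow_natCast]
    have : g ^ (2 ^ 2) = 1 := by
      rw [show (2 ^ 2 : ℕ) = 2 + 2 by norm_num, pow_add, pow_two]
      exact h4
    rw [this, one_zpow]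
  have hP2 : IsPGroup 2 (zpowers z) := by
    rintro ⟨x, hx⟩
    obtain ⟨i, rfl⟩ := mem_zpowers_iff.1 hx
    refine ⟨1, Subtype.ext ?_⟩
    change (z ^ i) ^ (2 ^ 1) = 1
    rw [← zpow_natCast, ← zpow_mul, mul_comm, zpow_mul, zpow_natCast, pow_one, pow_two, h.z2,
      one_zpow]
  have hP : IsPGroup 2 (zpowers g ⊔ zpowers z : Subgroup G) := by
    refine hP1.to_sup_of_normal_right' hP2 ?_
    rw [zpowers_le, mem_normalizer_iff]
    have hfix : ∀ x ∈ zpowers z, g * x * g⁻¹ = x := by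
      intro x hx
      obtain ⟨i, rfl⟩ := mem_zpowers_iff.1 hx
      rw [mul_inv_eq_iff_eq_mul]
      exact (show Commute g z from hgz).zpow_right i
    intro x
    constructor
    · intro hx
      rw [hfix x hx]; exact hx
    · intro hx
      have h1 := hfix _ hx
      have h2 : g * (g * x * g⁻¹) * g⁻¹ = g * x * g⁻¹ := h1
      have h3 : g * x * g⁻¹ = x := mul_left_cancel (mul_right_cancel h2)
      rw [h3] at hx
      exact hx
  obtain ⟨S, hSM, h8, hSsq, hPN, hPS, hodd, htr⟩ := h.exists_S hev hP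
  have hzS : z ∈ S := hPS ⟨le_sup_right (a := zpowers g) (mem_zpowers z), h.zM⟩
  have hgN : g ∈ normalizer (S : Set G) := hPN (le_sup_left (a := zpowers g) (mem_zpowers g))
  have hggS : g * g ∈ S := by
    rcases hsq with h1 | h1
    · rw [h1]; exact one_mem _
    · rw [h1]; exact hzS
  have hgS := comm_S h.hM hSM h8 hSsq hodd htr hgN hggS
  rcases hsq with h1 | h1
  · exact h.no_inv hev hSM h8 hSsq hzS hgD hgM h1 hgS
  · exact h.no_root hev hSM h8 hSsq hzS hgM h1 hgS

/-- `z` lies in every nontrivial normal subgroup of `G`. -/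
theorem z_mem (h : RO U M a b n e z) [Finite G] [Finite Ω] [FaithfulSMul G Ω]
    (hev : Even (Nat.card Ω)) {N : Subgroup G} (hN : N.Normal) (hN1 : N ≠ ⊥) : z ∈ N := by
  classical
  have hMn := h.hM
  -- `N ∩ M ≠ 1`
  have hNM : N ⊓ M ≠ ⊥ := by
    intro hc
    apply hN1
    rw [eq_bot_iff]
    intro x hx
    rw [mem_bot]
    have hcomm : ∀ m ∈ M, x * m = m * x := by
      intro m hm
      have h1 : x * m * x⁻¹ * m⁻¹ ∈ N ⊓ M := by
        refine mem_inf.2 ⟨?_, mul_mem (h.hM.conj_mem m hm x) (inv_mem hm)⟩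
        have : x * m * x⁻¹ * m⁻¹ = x * (m * x⁻¹ * m⁻¹) := by group
        rw [this]
        exact mul_mem hx (hN.conj_mem _ (inv_mem hx) m)
      rw [hc, mem_bot] at h1
      exact mul_inv_eq_iff_eq_mul.1 (mul_inv_eq_one.1 h1)
    refine eq_of_smul_eq_smul (α := Ω) fun c => ?_
    rw [one_smul]
    by_contra hxc
    obtain ⟨u, hu, hu1⟩ : ∃ u ∈ U c, u ≠ 1 := by
      have h1 : Nat.card (U c) ≠ 1 := by
        have h2 := h.split.card c
        have h3 := h.split.card a
        have h4 := h.card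
        have h5 := h.three_le
        have h6 : 3 ^ 3 ≤ (3 ^ n) ^ 3 := Nat.pow_le_pow_left h5 3
        omega
      have h2 : U c ≠ ⊥ := fun hb => h1 (by rw [hb, Subgroup.card_bot])
      obtain ⟨⟨u, hu⟩, hu1⟩ := Subgroup.ne_bot_iff_exists_ne_one.1 h2
      exact ⟨u, hu, fun hc => hu1 (Subtype.ext hc)⟩
    have h1 : x * u * x⁻¹ ∈ U (x • c) := h.split.conj x hu
    have h2 : x * u * x⁻¹ = u := mul_inv_eq_iff_eq_mul.2 (hcomm u (h.le c hu))
    rw [h2] at h1
    exact hu1 (h.split.inf_eq_bot hxc hu h1)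
  -- `N ∩ M` is transitive
  have hmove : ∃ x ∈ N ⊓ M, ∃ c : Ω, x • c ≠ c := by
    obtain ⟨⟨x, hx⟩, hx1⟩ := Subgroup.ne_bot_iff_exists_ne_one.1 hNM
    refine ⟨x, hx, ?_⟩
    by_contra hc
    push Not at hc
    have hx2 : x = 1 := eq_of_smul_eq_smul (α := Ω) fun c => by
      rw [one_smul]; exact hc c
    exact hx1 (Subtype.ext hx2)
  have hNMn : (N ⊓ M).Normal := ⟨fun x hx g => mem_inf.2
    ⟨hN.conj_mem x hx.1 g, h.hM.conj_mem x hx.2 g⟩⟩
  have htrans := h.split.normal_trans hNMn hmove a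
  have hdvd : Nat.card Ω ∣ Nat.card (N ⊓ M : Subgroup G) := by
    have h1 : orbit (N ⊓ M : Subgroup G) a = Set.univ := by
      ext c
      simp only [Set.mem_univ, iff_true]
      obtain ⟨x, hx, hxc⟩ := htrans c
      exact ⟨⟨x, hx⟩, hxc⟩
    have h2 := Nat.card_congr (MulAction.orbitEquivQuotientStabilizer (N ⊓ M : Subgroup G) a)
    rw [Nat.card_coe_set_eq, h1, Set.ncard_univ] at h2
    have h3 := Subgroup.card_eq_card_quotient_mul_card_subgroup
      (stabilizer (N ⊓ M : Subgroup G) a)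
    rw [← h2] at h3
    exact ⟨_, h3⟩
  have h2 : 2 ∣ Nat.card (N ⊓ M : Subgroup G) := (even_iff_two_dvd.1 hev).trans hdvd
  have hp2 : Fact (Nat.Prime 2) := ⟨Nat.prime_two⟩
  obtain ⟨⟨t, ht⟩, hto⟩ := exists_prime_orderOf_dvd_card' 2 h2
  have ht1 : t ≠ 1 := by
    rintro rfl
    have : (⟨1, ht⟩ : (N ⊓ M : Subgroup G)) = 1 := rfl
    rw [this, orderOf_one] at hto
    omega
  have ht2 : t * t = 1 := by
    have h3 := pow_orderOf_eq_one (⟨t, ht⟩ : (N ⊓ M : Subgroup G))
    rw [hto, pow_two] at h3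
    exact congrArg Subtype.val h3
  obtain ⟨m, -, hm⟩ := h.conj_z hev ht.2 ht2 ht1
  rw [← hm]
  exact hN.conj_mem t ht.1 m

end RO

/-- From the list to the data. -/
theorem SSplit.ro (h : SSplit U) {a b : Ω} (hab : b ≠ a) {n : ℕ}
    (hT : TR (fun c => (U c).subgroupOf (⨆ c, U c)) a b n) :
    ∃ e z : G, RO U (⨆ c, U c) a b n e z := by
  classical
  set M : Subgroup G := ⨆ c, U c with hM
  have hUM : ∀ c, U c ≤ M := fun c => by rw [hM]; exact le_iSup U c
  have hmemU : ∀ (c : Ω) (x : M), x ∈ (U c).subgroupOf M ↔ (x : G) ∈ U c := fun c x =>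
    mem_subgroupOf
  have hmemD : ∀ x : M, x ∈ Dab M a b ↔ (x : G) ∈ Dab G a b := fun x => Iff.rfl
  have hd := hT.data
  obtain ⟨e, heD, he⟩ := hd.cyc
  obtain ⟨z, hzD, hz1, hz2, hzc⟩ := hd.invol
  have hcardU : ∀ c, Nat.card ((U c).subgroupOf M) = Nat.card (U c) := fun c =>
    Nat.card_congr (Subgroup.subgroupOfEquivOfLe (hUM c)).toEquiv
  have hgen : ∀ d : M, d ∈ Dab M a b → d ∈ zpowers e := by
    intro d hdD
    obtain ⟨k, hk⟩ := he d hdD
    have h1 : d * e ^ k = 1 := by simpa using hk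
    rw [eq_inv_of_mul_eq_one_left h1]
    exact inv_mem (pow_mem (mem_zpowers e) k)
  have hz2' : z * z = 1 := by simpa using hz2
  have hz1' : z ≠ 1 := by simpa using hz1
  refine ⟨e, z, ?_⟩
  refine
    { split := h
      hM := h.iSup_normal
      le := hUM
      hab := hab
      odd := hd.odd
      card := by rw [← hcardU a]; exact hd.card
      eM := e.2
      eD := heD
      gen := ?_
      ord := ?_
      fpf := ?_
      zM := z.2
      zD := hzD
      z1 := fun hc => hz1' (Subtype.ext hc)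
      z2 := congrArg Subtype.val hz2'
      cardz := ?_
      syl := hT.syl
      fix := ?_ }
  · intro d hdM hdD
    have h1 := hgen ⟨d, hdM⟩ hdD
    obtain ⟨i, hi⟩ := mem_zpowers_iff.1 h1
    rw [mem_zpowers_iff]
    exact ⟨i, congrArg Subtype.val hi⟩
  · have h1 : Dab M a b = zpowers e := le_antisymm (fun d hd => hgen d hd) (zpowers_le.2 heD)
    have h2 := hd.cardE
    rw [Subgroup.relIndex_bot_left, h1, Nat.card_zpowers] at h2
    rw [Subgroup.orderOf_coe]
    exact h2
  · intro d hdM hdD k hk hdk u hu hdu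
    have h1 := hd.fpf ⟨d, hdM⟩ hdD k hk (by
      rw [mem_bot]
      exact Subtype.ext hdk) ⟨u, hUM a hu⟩ ((hmemU a _).2 hu) (Subtype.ext hdu)
    rcases h1 with h1 | h1
    · left
      exact congrArg Subtype.val (mem_bot.1 h1)
    · right
      exact congrArg Subtype.val h1
  · rw [← hzc]
    refine Nat.card_congr ⟨fun x => ⟨⟨x.1, hUM a x.2.1⟩, (hmemU a _).2 x.2.1, ?_⟩,
      fun x => ⟨x.1.1, (hmemU a _).1 x.2.1, ?_⟩, fun _ => rfl, fun _ => rfl⟩
    · have := mem_centralizer_singleton_iff.1 x.2.2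
      exact mem_centralizer_singleton_iff.2 (Subtype.ext this)
    · have := mem_centralizer_singleton_iff.1 x.2.2
      exact mem_centralizer_singleton_iff.2 (congrArg Subtype.val this)
  · intro t ht ht2
    exact hT.fix ⟨t, ht⟩ (Subtype.ext ht2)

/-- **Overgroups of the groups of Ree type.** -/
theorem SSplit.ree_over [Finite Ω] [FaithfulSMul G Ω] (h : SSplit U) (hev : Even (Nat.card Ω))
    {a b : Ω} (hab : b ≠ a) {n : ℕ} (hT : TR (fun c => (U c).subgroupOf (⨆ c, U c)) a b n) :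
    (∀ t : G, t * t = 1 → ∃ c : Ω, t • c = c) ∧
      ∃ t : G, t ≠ 1 ∧ t * t = 1 ∧ t • a = a ∧ t • b = b ∧
        ∀ N : Subgroup G, N.Normal → N ≠ ⊥ → t ∈ N := by
  have hfin : Finite G := Finite.of_injective (MulAction.toPermHom G Ω) MulAction.toPerm_injective
  obtain ⟨e, z, hR⟩ := h.ro hab hT
  exact ⟨fun t ht => hR.fix t (hR.inv_mem_M hev ht) ht,
    z, hR.z1, hR.z2, hR.zD.1, hR.zD.2, fun N hN hN1 => hR.z_mem hev hN hN1⟩

end Cfsg.Agent.HKS
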