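import Mathlib

/-!
# The fixed point formula for a four-group of automorphisms of a group of odd order

`card_four` : `|P| |C_P(V)|² = |C_P(α)| |C_P(β)| |C_P(αβ)|`.
-/

set_option autoImplicit false

namespace Cfsg.Agent.HKS.Rig

section

variable {P : Type*} [Group P]

theorem exists_sqrt (hodd : Odd (Nat.card P)) :
    ∃ r : ℕ, ∀ x : P, x ^ r * x ^ r = x ∧ (x * x) ^ r = x := by
  obtain ⟨m, hm⟩ := hodd
  refine ⟨m + 1, fun x => ?_⟩
  have h2 : x ^ (m + 1 + (m + 1)) = x := by
    have : m + 1 + (m + 1) = Nat.card P + 1 := by omega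
    rw [this, pow_succ, pow_card_eq_one', one_mul]
  constructor
  · rw [← pow_add, h2]
  · rw [← pow_two, ← pow_mul, two_mul, h2]

theorem eq_of_sq_eq (hodd : Odd (Nat.card P)) {x y : P} (h : x * x = y * y) : x = y := by
  obtain ⟨r, hr⟩ := exists_sqrt hodd
  rw [← (hr x).2, h, (hr y).2]

/-- `|P| = |C(α)| |I(α)|`, for an `α`-invariant subset of the form `C(β)` (`β` commuting with `α`) -/
theorem card_split (hodd : Odd (Nat.card P)) {α β : MulAut P} (hα : α * α = 1)
    (hc : α * β = β * α) :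
    Nat.card {x : P // β x = x} =
      Nat.card {x : P // α x = x ∧ β x = x} * Nat.card {x : P // α x = x⁻¹ ∧ β x = x} := by
  have hαα : ∀ x, α (α x) = x := fun x => DFunLike.congr_fun hα x
  have hαβ : ∀ x, α (β x) = β (α x) := fun x => DFunLike.congr_fun hc x
  obtain ⟨r, hr⟩ := exists_sqrt hodd
  rw [← Nat.card_prod]
  symm
  apply Nat.card_congr
  refine Equiv.ofBijective (fun p => ⟨p.1.1 * p.2.1, by
    rw [map_mul, p.1.2.2, p.2.2.2]⟩) ⟨?_, ?_⟩
  · rintro ⟨⟨c, hc1, hc2⟩, ⟨k, hk1, hk2⟩⟩ ⟨⟨c', hc1', hc2'⟩, ⟨k', hk1', hk2'⟩⟩ h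
    have h1 : c * k = c' * k' := congrArg Subtype.val h
    have h2 := congrArg α h1
    rw [map_mul, map_mul, hc1, hk1, hc1', hk1'] at h2
    have h3 : k * k = k' * k' := by
      calc k * k = (c * k⁻¹)⁻¹ * (c * k) := by group
        _ = (c' * k'⁻¹)⁻¹ * (c' * k') := by rw [h2, h1]
        _ = k' * k' := by group
    have h4 : k = k' := eq_of_sq_eq hodd h3
    subst h4
    have h5 : c = c' := mul_right_cancel h1
    subst h5
    rfl
  · rintro ⟨x, hx⟩
    set w := (α x)⁻¹ * x with hw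
    have hαw : α w = w⁻¹ := by rw [hw, map_mul, map_inv, hαα, mul_inv_rev, inv_inv]
    have hβw : β w = w := by rw [hw, map_mul, map_inv, ← hαβ, hx]
    have hk1 : α (w ^ r) = (w ^ r)⁻¹ := by rw [map_pow, hαw, inv_pow]
    have hk2 : β (w ^ r) = w ^ r := by rw [map_pow, hβw]
    refine ⟨⟨⟨x * (w ^ r)⁻¹, ?_, ?_⟩, ⟨w ^ r, hk1, hk2⟩⟩, ?_⟩
    · rw [map_mul, map_inv, hk1, inv_inv, eq_mul_inv_iff_mul_eq, mul_assoc, (hr w).1, hw]
      group
    · rw [map_mul, map_inv, hk2, hx]
    · apply Subtype.ext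
      change x * (w ^ r)⁻¹ * w ^ r = x
      group

/-- `|I(α)| = |I(α) ∩ C(β)| |I(α) ∩ I(β)|` -/
theorem card_inv_split (hodd : Odd (Nat.card P)) {α β : MulAut P}
    (hβ : β * β = 1) (hc : α * β = β * α) :
    Nat.card {x : P // α x = x⁻¹} =
      Nat.card {x : P // α x = x⁻¹ ∧ β x = x} * Nat.card {x : P // α x = x⁻¹ ∧ β x = x⁻¹} := by
  have hββ : ∀ x, β (β x) = x := fun x => DFunLike.congr_fun hβ x
  have hαβ : ∀ x, α (β x) = β (α x) := fun x => DFunLike.congr_fun hc x
  obtain ⟨r, hr⟩ := exists_sqrt hodd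
  -- uniqueness
  have huniq : ∀ b x y y' : P, y * b * y = x → y' * b * y' = x → y = y' := by
    intro b x y y' h1 h2
    have h3 : (y * b) * (y * b) = (y' * b) * (y' * b) := by
      calc (y * b) * (y * b) = (y * b * y) * b := by group
        _ = (y' * b * y') * b := by rw [h1, h2]
        _ = _ := by group
    exact mul_right_cancel (eq_of_sq_eq hodd h3)
  rw [← Nat.card_prod]
  symm
  apply Nat.card_congr
  refine Equiv.ofBijective (fun p => ⟨p.2.1 * p.1.1 * p.2.1, by
    rw [map_mul, map_mul, p.1.2.1, p.2.2.1]; group⟩) ⟨?_, ?_⟩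
  · rintro ⟨⟨c, hc1, hc2⟩, ⟨k, hk1, hk2⟩⟩ ⟨⟨c', hc1', hc2'⟩, ⟨k', hk1', hk2'⟩⟩ h
    have h1 : k * c * k = k' * c' * k' := congrArg Subtype.val h
    have h2 := congrArg β h1
    rw [map_mul, map_mul, map_mul, map_mul, hc2, hk2, hc2', hk2'] at h2
    have h3 : k * k = k' * k' := by
      refine huniq (k⁻¹ * c * k⁻¹) (k * c * k) _ _ (by group) ?_
      rw [h2, h1]
      group
    have h4 : k = k' := eq_of_sq_eq hodd h3
    subst h4
    have h5 : c = c' := mul_left_cancel (mul_right_cancel h1)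
    subst h5
    rfl
  · rintro ⟨x, hx⟩
    set b := β x with hb
    have hαb : α b = b⁻¹ := by rw [hb, hαβ, hx, map_inv]
    set y := (x * b) ^ r * b⁻¹ with hy
    have hyx : y * b * y = x := by
      calc y * b * y = ((x * b) ^ r * (x * b) ^ r) * b⁻¹ := by rw [hy]; group
        _ = x := by rw [(hr _).1]; group
    have hαy : α y = y⁻¹ := by
      have h1 : (α y)⁻¹ * b * (α y)⁻¹ = x := by
        have h2 := congrArg α hyx
        rw [map_mul, map_mul, hαb, hx] at h2
        have h3 := congrArg (fun g => g⁻¹) h2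
        simp only [mul_inv_rev, inv_inv] at h3
        rw [← h3]
        group
      exact inv_eq_iff_eq_inv.1 (huniq b x _ _ h1 hyx)
    have hβy : β y = y⁻¹ := by
      have h1 : (β y)⁻¹ * b * (β y)⁻¹ = x := by
        have h2 := congrArg β hyx
        rw [map_mul, map_mul, ← hb] at h2
        have h4 : β b = x := by rw [hb, hββ]
        rw [h4] at h2
        rw [← h2]
        group
      exact inv_eq_iff_eq_inv.1 (huniq b x _ _ h1 hyx)
    have hαk : α (y ^ r) = (y ^ r)⁻¹ := by rw [map_pow, hαy, inv_pow]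
    have hβk : β (y ^ r) = (y ^ r)⁻¹ := by rw [map_pow, hβy, inv_pow]
    refine ⟨⟨⟨(y ^ r)⁻¹ * x * (y ^ r)⁻¹, ?_, ?_⟩, ⟨y ^ r, hαk, hβk⟩⟩, ?_⟩
    · rw [map_mul, map_mul, map_inv, hαk, hx]
      group
    · rw [map_mul, map_mul, map_inv, hβk, inv_inv, ← hb]
      have h1 : x = (y ^ r * y ^ r) * b * (y ^ r * y ^ r) := by rw [(hr y).1, hyx]
      conv_rhs => rw [h1]
      group
    · apply Subtype.ext
      change y ^ r * ((y ^ r)⁻¹ * x * (y ^ r)⁻¹) * y ^ r = x
      group

/-- **The fixed point formula for a four-group.** -/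
theorem card_four (hodd : Odd (Nat.card P)) {α β : MulAut P} (hα : α * α = 1) (hβ : β * β = 1)
    (hc : α * β = β * α) :
    Nat.card P * Nat.card {x : P // α x = x ∧ β x = x} ^ 2 =
      Nat.card {x : P // α x = x} * Nat.card {x : P // β x = x} *
        Nat.card {x : P // (α * β) x = x} := by
  have hαα : ∀ x, α (α x) = x := fun x => DFunLike.congr_fun hα x
  have hββ : ∀ x, β (β x) = x := fun x => DFunLike.congr_fun hβ x
  have h1 := card_split hodd (α := α) (β := 1) hα (by rw [mul_one, one_mul])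
  have h2 := card_split hodd (α := α) (β := β) hα hc
  have h3 := card_split hodd (α := α) (β := α * β) hα (by rw [mul_assoc, hc])
  have h4 := card_inv_split hodd hβ hc
  have e1 : Nat.card {x : P // (1 : MulAut P) x = x} = Nat.card P :=
    Nat.card_congr (Equiv.subtypeUnivEquiv fun x => rfl)
  have e2 : Nat.card {x : P // α x = x ∧ (1 : MulAut P) x = x} = Nat.card {x : P // α x = x} :=
    Nat.card_congr (Equiv.subtypeEquivRight fun x => ⟨fun h => h.1, fun h => ⟨h, rfl⟩⟩)
  have e3 : Nat.card {x : P // α x = x⁻¹ ∧ (1 : MulAut P) x = x} =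
      Nat.card {x : P // α x = x⁻¹} :=
    Nat.card_congr (Equiv.subtypeEquivRight fun x => ⟨fun h => h.1, fun h => ⟨h, rfl⟩⟩)
  have e4 : Nat.card {x : P // α x = x ∧ (α * β) x = x} =
      Nat.card {x : P // α x = x ∧ β x = x} :=
    Nat.card_congr (Equiv.subtypeEquivRight fun x => by
      constructor
      · rintro ⟨h5, h6⟩
        refine ⟨h5, ?_⟩
        rw [MulAut.mul_apply] at h6
        apply α.injective
        rw [h6, h5]
      · rintro ⟨h5, h6⟩
        exact ⟨h5, by rw [MulAut.mul_apply, h6, h5]⟩)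
  have e5 : Nat.card {x : P // α x = x⁻¹ ∧ (α * β) x = x} =
      Nat.card {x : P // α x = x⁻¹ ∧ β x = x⁻¹} :=
    Nat.card_congr (Equiv.subtypeEquivRight fun x => by
      constructor
      · rintro ⟨h5, h6⟩
        refine ⟨h5, ?_⟩
        rw [MulAut.mul_apply] at h6
        apply α.injective
        rw [h6, map_inv, h5, inv_inv]
      · rintro ⟨h5, h6⟩
        exact ⟨h5, by rw [MulAut.mul_apply, h6, map_inv, h5, inv_inv]⟩)
  rw [e1, e2, e3] at h1
  rw [e4, e5] at h3
  rw [h1, h2, h3, h4]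
  ring

end

end Cfsg.Agent.HKS.Rig
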