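import Mathlib
import Cfsg.Agent.HKS.RigFix
import Cfsg.Agent.HKS.RigFour
import Cfsg.Agent.HKS.ReeOver

/-!
# RIG facts on the fixed points of `X`, types `DR` and `DA`

* `SSplit.rigR` (type `DR n`): `s` or `s z` is trivial on `Fix X`, or
  `|C_P(s)| = |C_P(s z)| = 3^n` and `C_P(s) ∩ C_P(z) = 1`;


-/

set_option autoImplicit false

namespace Cfsg.Agent.HKS

open Subgroup MulAction PP1

variable {G Ω : Type*} [Group G] [MulAction G Ω] {U : Ω → Subgroup G}

namespace SSplit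

variable {X : Subgroup G} {a b : Ω}

theorem conj_kerFix {d k : G} (hd : d ∈ genFix U X) (hk : k ∈ kerFix Ω X) :
    d * k * d⁻¹ ∈ kerFix Ω X := by
  have hdX := genFix_le_centralizer X hd
  intro c hc
  have h1 : k • d⁻¹ • c = d⁻¹ • c := by
    refine hk _ fun x hx => ?_
    have h2 : x * d⁻¹ = d⁻¹ * x := by
      have := mem_centralizer_iff.1 hdX x hx
      calc x * d⁻¹ = d⁻¹ * (d * x) * d⁻¹ := by group
        _ = d⁻¹ * (x * d) * d⁻¹ := by rw [this]
        _ = d⁻¹ * x := by group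
    rw [← mul_smul, h2, mul_smul, hc x hx]
  rw [mul_smul, mul_smul, h1, smul_inv_smul]

theorem relIndex_dvd {Y : Subgroup G} (hXY : X ≤ Y) :
    (kerFix Ω Y).relIndex (Dab G a b ⊓ genFix U Y) ∣
      (kerFix Ω X).relIndex (Dab G a b ⊓ genFix U X) := by
  have hE : Dab G a b ⊓ genFix U Y ≤ Dab G a b ⊓ genFix U X := inf_le_inf_left _ (genFix_mono hXY)
  refine (relIndex_dvd_of_le_left _ (kerFix_mono hXY)).trans ?_
  have hn : ((kerFix Ω X).subgroupOf (Dab G a b ⊓ genFix U X)).Normal := by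
    constructor
    intro k hk d
    rw [mem_subgroupOf] at hk ⊢
    exact conj_kerFix d.2.2 hk
  have h1 := relIndex_dvd_index_of_normal ((kerFix Ω X).subgroupOf (Dab G a b ⊓ genFix U X))
    ((Dab G a b ⊓ genFix U Y).subgroupOf (Dab G a b ⊓ genFix U X))
  rwa [relIndex_subgroupOf hE] at h1

theorem one_le_three_pow (j : ℕ) : 1 ≤ 3 ^ j := Nat.one_le_pow _ _ (by norm_num)

theorem aux4 {N m t : ℕ} (h8 : N % 8 = 3) (ht : N - 1 = m * t) (hm : m % 4 = 0) : False := by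
  obtain ⟨m', hm'⟩ : ∃ m', m = 4 * m' := ⟨m / 4, by omega⟩
  rw [hm', mul_assoc] at ht
  generalize m' * t = x at ht
  omega

theorem three_pow_odd {n : ℕ} (h : Odd n) : 3 ^ n % 8 = 3 := by
  rw [ReeAux.three_pow_mod, if_neg (Nat.not_even_iff_odd.2 h)]

theorem three_pow_even {n : ℕ} (h : Even n) : 3 ^ n % 8 = 1 := by
  rw [ReeAux.three_pow_mod, if_pos h]

theorem gcd_three {i : ℕ} (hi : i ≠ 0) : Nat.gcd 3 (3 ^ i + 1) = 1 := by
  obtain ⟨k, rfl⟩ : ∃ k, i = k + 1 := ⟨i - 1, by omega⟩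
  have h1 : 3 ^ (k + 1) + 1 = 1 + 3 * 3 ^ k := by rw [pow_succ]; ring
  rw [h1, Nat.gcd_add_mul_left_right]
  rfl

/-- the fixed points of `Y ≥ X` in type `DR` -/
theorem dr_sub {Y : Subgroup G} (hXY : X ≤ Y)
    {n : ℕ} (hT : DR (U a ⊓ centralizer (X : Set G)) (Dab G a b ⊓ genFix U X) (kerFix Ω X) n)
    (hTY : XType U Y a b) :
    ∃ j, Odd j ∧ Nat.card (U a ⊓ centralizer (Y : Set G) : Subgroup G) = 3 ^ j ∧
      (j ≤ n ∨ j = 3 * n) := by
  have hPY : U a ⊓ centralizer (Y : Set G) ≤ U a ⊓ centralizer (X : Set G) :=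
    inf_le_inf_left _ (centralizer_le hXY)
  have hd1 : Nat.card (U a ⊓ centralizer (Y : Set G) : Subgroup G) ∣ 3 ^ (n * 3) := by
    rw [pow_mul, ← hT.card]
    exact card_dvd_of_le hPY
  obtain ⟨j, -, hj⟩ := (Nat.dvd_prime_pow Nat.prime_three).1 hd1
  have hm : (kerFix Ω Y).relIndex (Dab G a b ⊓ genFix U Y) ∣ 3 ^ n - 1 := by
    rw [← hT.cardE]
    exact relIndex_dvd hXY
  have hn8 : 3 ^ n % 8 = 3 := three_pow_odd hT.odd
  obtain ⟨t, ht⟩ := hm
  obtain ⟨i, hi⟩ := hT.odd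
  rcases hTY with hD | ⟨q', hD⟩ | ⟨q', hD⟩ | ⟨n', hD⟩
  · obtain ⟨m, hm2, h1⟩ := hD.card
    rw [hj] at h1
    obtain ⟨l, rfl⟩ : ∃ l, m = l + 2 := ⟨m - 2, by omega⟩
    have hjodd : Odd j := by
      rw [← Nat.not_even_iff_odd]
      intro he
      have h2 := three_pow_even he
      rw [pow_add] at h1
      generalize 3 ^ j = x at h1 h2
      omega
    have h2 := three_pow_odd hjodd
    have hl : l = 0 := by
      by_contra hl
      obtain ⟨l', rfl⟩ : ∃ l', l = l' + 1 := ⟨l - 1, by omega⟩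
      rw [show l' + 1 + 2 = l' + 3 by ring, pow_add] at h1
      generalize 3 ^ j = x at h1 h2
      generalize 2 ^ l' = y at h1
      omega
    refine ⟨j, hjodd, hj, Or.inl ?_⟩
    rw [hl] at h1
    have h3 : 3 ^ j = 3 ^ 1 := by omega
    have h4 := Nat.pow_right_injective (le_refl 3 |> fun _ => (by norm_num : 2 ≤ 3)) h3
    omega
  · have h1 := hD.card
    have h2 := hD.cardE
    rw [hj] at h1
    rw [← h1] at h2
    generalize (kerFix Ω Y).relIndex (Dab G a b ⊓ genFix U Y) = m at h2 ht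
    have hjodd : Odd j := by
      rw [← Nat.not_even_iff_odd]
      intro he
      have h3 := three_pow_even he
      refine aux4 hn8 ht ?_
      generalize 3 ^ j = x at h2 h3
      omega
    refine ⟨j, hjodd, hj, Or.inl ?_⟩
    by_contra hc
    push Not at hc
    have h3 : 3 ^ (n + 1) ≤ 3 ^ j := Nat.pow_le_pow_right (by norm_num) hc
    have h4 : m ≤ 3 ^ n - 1 := by
      apply Nat.le_of_dvd
      · generalize 3 ^ n = x at hn8
        omega
      · exact ⟨t, ht⟩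
    rw [pow_succ] at h3
    generalize 3 ^ j = x at h2 h3
    generalize 3 ^ n = y at h3 h4 hn8
    omega
  · exfalso
    have h1 := hD.card
    have h2 := hD.cardE
    rw [hj] at h1
    obtain ⟨i', -, hi'⟩ := (Nat.dvd_prime_pow Nat.prime_three).1
      (show q' ∣ 3 ^ j by rw [h1]; exact dvd_pow_self _ (by norm_num))
    have hi0 : i' ≠ 0 := by
      rintro rfl
      rw [pow_zero] at hi'
      have := hD.pow.two_le
      omega
    have h3 : Nat.gcd 3 (q' + 1) = 1 := by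
      rw [hi']
      exact gcd_three hi0
    rw [h3, one_mul] at h2
    rw [h2] at ht
    have h4 : q' ^ 2 % 8 = 1 := by
      rw [hi', ← pow_mul]
      exact three_pow_even (even_two.mul_left _)
    refine aux4 hn8 ht ?_
    generalize q' ^ 2 = x at h4
    omega
  · have h1 := hD.card
    rw [hj, ← pow_mul] at h1
    have h2 : j = n' * 3 := Nat.pow_right_injective (by norm_num : 2 ≤ 3) h1
    rw [hD.cardE] at ht
    have hn0 : n' ≠ 0 := by
      obtain ⟨k, hk⟩ := hD.odd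
      omega
    have h3 : n' ∣ n := by
      have h5 : 3 ^ n' % 8 = 3 := three_pow_odd hD.odd
      refine ReeAux.dvd_of_half (k := (3 ^ n' - 1) / 2) hn0 ?_ ?_
      · generalize 3 ^ n' = x at h5
        omega
      · refine Dvd.dvd.trans ?_ (Dvd.intro _ ht.symm)
        refine ⟨2, ?_⟩
        generalize 3 ^ n' = x at h5
        omega
    obtain ⟨c, hc⟩ := h3
    have hjodd : Odd j := by
      rw [h2]
      exact hD.odd.mul (by decide)
    refine ⟨j, hjodd, hj, ?_⟩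
    have hcodd : Odd c := by
      have := hT.odd
      rw [hc, Nat.odd_mul] at this
      exact this.2
    obtain ⟨l, hl⟩ := hcodd
    rcases Nat.eq_zero_or_pos l with hl0 | hl0
    · right
      rw [h2, hc, hl, hl0]
      ring
    · left
      rw [h2, hc]
      exact Nat.mul_le_mul_left _ (by omega)

theorem num_aux {n j j' i : ℕ} (h : 2 * i + 2 * n = j + j') (hn : 0 < n)
    (hj : j = 0 ∨ Odd j ∧ (j ≤ n ∨ j = 3 * n)) (hj' : j' = 0 ∨ Odd j' ∧ (j' ≤ n ∨ j' = 3 * n)) :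
    j = 3 * n ∨ j' = 3 * n ∨ (i = 0 ∧ j = n ∧ j' = n) := by
  rcases hj with hj | ⟨⟨k, hk⟩, hj | hj⟩ <;> rcases hj' with hj' | ⟨⟨k', hk'⟩, hj' | hj'⟩ <;> omega

/-- **RIG facts, type `DR`** -/
theorem rigR (h : SSplit U) (hab : b ≠ a) (hX : X ≤ Dab G a b) {n : ℕ} {s z : G}
    (hs : RigElt X a b s)
    (hT : DR (U a ⊓ centralizer (X : Set G)) (Dab G a b ⊓ genFix U X) (kerFix Ω X) n)
    (hz : z ∈ Dab G a b ⊓ genFix U X) (hzK : z ∉ kerFix Ω X) (hz2 : z * z ∈ kerFix Ω X)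
    (IH : ∀ Y : Subgroup G, X ≤ Y → Y ≤ Dab G a b → U a ⊓ centralizer (Y : Set G) ≠ ⊥ →
      XType U Y a b) :
    s ∈ kerFix Ω X ∨ s * z ∈ kerFix Ω X ∨
    (Nat.card (U a ⊓ centralizer (X : Set G) ⊓ centralizer ({s} : Set G) : Subgroup G) = 3 ^ n ∧
      Nat.card (U a ⊓ centralizer (X : Set G) ⊓ centralizer ({s * z} : Set G) : Subgroup G) =
        3 ^ n ∧
      ∀ u ∈ U a ⊓ centralizer (X : Set G), s * u = u * s → z * u = u * z → u = 1) := by
  set P : Subgroup G := U a ⊓ centralizer (X : Set G) with hP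
  set E : Subgroup G := Dab G a b ⊓ genFix U X with hE
  have hcardP : Nat.card P = (3 ^ n) ^ 3 := hT.card
  have hn0 : 0 < n := by
    obtain ⟨k, hk⟩ := hT.odd
    omega
  have hn8 : 3 ^ n % 8 = 3 := three_pow_odd hT.odd
  have hfin : Finite P := Nat.finite_of_card_ne_zero (by rw [hcardP]; positivity)
  have hodd : Odd (Nat.card P) := by
    rw [hcardP, ← pow_mul]
    exact Odd.pow (by decide)
  have hEP : ∀ d ∈ E, ∀ u ∈ P, d * u * d⁻¹ ∈ P := fun d hd => h.conj_EP hd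
  have hEN : E ≤ normalizer (P : Set G) := fun d hd => Rig.mem_normalizer_of_finite (hEP d hd)
  have hsN : s ∈ normalizer (P : Set G) :=
    Rig.mem_normalizer_of_finite fun u hu => hs.conj_P h hu
  have hKc : ∀ k ∈ kerFix Ω X, ∀ u ∈ P, k * u = u * k := fun k hk => h.comm_kerFix hab hX hk
  have hKE : ∀ d ∈ E, (∀ u ∈ P, d * u = u * d) ↔ d ∈ kerFix Ω X := fun d hd =>
    ⟨fun h1 => h.mem_kerFix_of_comm hab hX hd.1 h1, fun h1 => hKc d h1⟩
  obtain ⟨e, he, hcyc⟩ := hT.cyc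
  set g : MulAut P := Rig.cj P ⟨e, hEN he⟩ with hg
  have hpow : ∀ d (hd : d ∈ E), Rig.cj P ⟨d, hEN hd⟩ ∈ zpowers g := by
    intro d hd
    obtain ⟨k, hk⟩ := hcyc d hd
    have h1 : Rig.cj P ⟨d, hEN hd⟩ * g ^ k = 1 := by
      rw [hg, ← map_pow, ← map_mul, Rig.cj_eq_one]
      exact hKc _ hk
    rw [mul_eq_one_iff_eq_inv.1 h1]
    exact inv_mem (pow_mem (mem_zpowers g) k)
  have himg : Rig.img P E = zpowers g := by
    apply le_antisymm
    · intro x hx
      obtain ⟨d, hd, hPd, rfl⟩ := Rig.exists_of_img hx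
      exact hpow d hd
    · rw [zpowers_le]
      exact Rig.mem_img he (hEN he)
  obtain ⟨m, hm⟩ : ∃ m, 3 ^ n - 1 = 2 * m := ⟨(3 ^ n - 1) / 2, by
    generalize 3 ^ n = x at hn8
    omega⟩
  have hord : orderOf g = 2 * m := by
    rw [← Nat.card_zpowers, ← himg, Rig.card_img hEN hKE, hT.cardE, hm]
  -- involutions of `E` modulo `K`
  have hinv : ∀ d (hd : d ∈ E), d ∉ kerFix Ω X → d * d ∈ kerFix Ω X →
      Rig.cj P ⟨d, hEN hd⟩ = g ^ m := by
    intro d hd hdK hd2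
    refine (sq_cyclic hord (hpow d hd) ?_).resolve_left ?_
    · rw [← map_mul, Rig.cj_eq_one]
      exact hKc _ hd2
    · intro h1
      exact hdK ((hKE d hd).1 (Rig.cj_eq_one.1 h1))
  have hzN := hEN hz
  have ha := hinv z hz hzK hz2
  obtain ⟨z0, hz0, hz0K, hz02, hz0c⟩ := hT.invol
  have ha0 := hinv z0 hz0 hz0K (by rw [hz02]; exact one_mem _)
  set σ : MulAut P := Rig.cj P ⟨s, hsN⟩ with hσ
  set α : MulAut P := Rig.cj P ⟨z, hzN⟩ with hα
  have hσσ : σ * σ = 1 := by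
    rw [hσ, ← map_mul, Rig.cj_eq_one]
    exact hKc _ hs.sq
  have hαα : α * α = 1 := by
    rw [hα, ← map_mul, Rig.cj_eq_one]
    exact hKc _ hz2
  have hα1 : α ≠ 1 := fun h1 => hzK ((hKE z hz).1 (Rig.cj_eq_one.1 h1))
  have hσα : σ * α = α * σ := by
    have h1 : σ * α * σ⁻¹ = Rig.cj P ⟨s * z * s⁻¹, hEN (hs.conj_E h hz)⟩ := by
      rw [hσ, hα, ← map_inv, ← map_mul, ← map_mul]
      rfl
    have h2 : σ * α * σ⁻¹ = g ^ m := by
      refine (sq_cyclic hord (by rw [h1]; exact hpow _ (hs.conj_E h hz)) ?_).resolve_left ?_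
      · calc σ * α * σ⁻¹ * (σ * α * σ⁻¹) = σ * (α * α) * σ⁻¹ := by group
          _ = 1 := by rw [hαα, mul_one, mul_inv_cancel]
      · intro h3
        apply hα1
        calc α = σ⁻¹ * (σ * α * σ⁻¹) * σ := by group
          _ = 1 := by rw [h3, mul_one, inv_mul_cancel]
    rw [← ha] at h2
    exact mul_inv_eq_iff_eq_mul.1 h2
  have hfα : Nat.card {u : P // α u = u} = 3 ^ n := by
    rw [ha, ← ha0, Rig.card_fix_eq]
    exact hz0c
  have hfσ : Nat.card {u : P // σ u = u} =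
      Nat.card (P ⊓ centralizer ({s} : Set G) : Subgroup G) := Rig.card_fix_eq hsN
  have hszN : s * z ∈ normalizer (P : Set G) := mul_mem hsN hzN
  have hfσα : Nat.card {u : P // (σ * α) u = u} =
      Nat.card (P ⊓ centralizer ({s * z} : Set G) : Subgroup G) := by
    rw [← Rig.card_fix_eq hszN, hσ, hα, ← map_mul]
    rfl
  have hfour := Rig.card_four hodd hσσ hαα hσα
  rw [hcardP, hfα, hfσ, hfσα] at hfour
  -- the types
  have hsz : s * z ∈ Dab G a b := (Dab G a b).mul_mem hs.mem hz.1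
  have hty : ∀ y ∈ Dab G a b, ∃ j, Nat.card (P ⊓ centralizer ({y} : Set G) : Subgroup G) = 3 ^ j ∧
      (j = 0 ∨ Odd j ∧ (j ≤ n ∨ j = 3 * n)) := by
    intro y hy
    have hYD : X ⊔ zpowers y ≤ Dab G a b := sup_le hX (by rw [zpowers_le]; exact hy)
    rw [hP, ← inf_centralizer_sup]
    by_cases hb : U a ⊓ centralizer ((X ⊔ zpowers y : Subgroup G) : Set G) = ⊥
    · exact ⟨0, by rw [hb, card_bot, pow_zero], Or.inl rfl⟩
    · obtain ⟨j, hj1, hj2, hj3⟩ := dr_sub (le_sup_left (a := X)) hT (IH _ le_sup_left hYD hb)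
      exact ⟨j, hj2, Or.inr ⟨hj1, hj3⟩⟩
  have hfull : ∀ y ∈ Dab G a b,
      Nat.card (P ⊓ centralizer ({y} : Set G) : Subgroup G) = 3 ^ (3 * n) → y ∈ kerFix Ω X := by
    intro y hy h1
    have h2 : P ⊓ centralizer ({y} : Set G) = P := by
      apply eq_of_le_of_card_ge inf_le_left
      rw [h1, hcardP, ← pow_mul, mul_comm]
    refine h.mem_kerFix_of_comm hab hX hy fun u hu => ?_
    have h3 : u ∈ P ⊓ centralizer ({y} : Set G) := by rw [h2]; exact hu
    exact (mem_centralizer_singleton_iff.1 h3.2).symm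
  obtain ⟨j, hj1, hj2⟩ := hty s hs.mem
  obtain ⟨j', hj1', hj2'⟩ := hty (s * z) hsz
  rw [hj1, hj1'] at hfour
  set c := Nat.card {x : P // σ x = x ∧ α x = x} with hc
  have hceq : c ^ 2 * 3 ^ (2 * n) = 3 ^ (j + j') := by
    have h3 : 3 ^ n * (c ^ 2 * 3 ^ (2 * n)) = 3 ^ n * 3 ^ (j + j') := by
      calc 3 ^ n * (c ^ 2 * 3 ^ (2 * n)) = (3 ^ n) ^ 3 * c ^ 2 := by
            rw [mul_comm 2 n, pow_mul]; ring
        _ = 3 ^ j * 3 ^ n * 3 ^ j' := hfour
        _ = 3 ^ n * 3 ^ (j + j') := by rw [pow_add]; ring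
    exact Nat.eq_of_mul_eq_mul_left (by positivity) h3
  obtain ⟨i, -, hi⟩ := (Nat.dvd_prime_pow Nat.prime_three).1
    (show c ∣ 3 ^ (j + j') by rw [← hceq, sq, mul_assoc]; exact dvd_mul_right _ _)
  rw [hi, ← pow_mul, ← pow_add] at hceq
  have hnum : i * 2 + 2 * n = j + j' := Nat.pow_right_injective (by norm_num : 2 ≤ 3) hceq
  rcases num_aux (i := i) (by rw [mul_comm 2 i]; exact hnum) hn0 hj2 hj2' with h1 | h1 | ⟨h1, h2, h3⟩
  · left
    exact hfull s hs.mem (by rw [hj1, h1])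
  · right; left
    exact hfull _ hsz (by rw [hj1', h1])
  · right; right
    refine ⟨by rw [hj1, h2], by rw [hj1', h3], ?_⟩
    intro u hu hu1 hu2
    rw [h1, pow_zero, Nat.card_eq_one_iff_unique] at hi
    have h4 := hi.1.elim ⟨1, map_one σ, map_one α⟩ ⟨⟨u, hu⟩, Subtype.ext (by
      change s * u * s⁻¹ = u
      rw [hu1, mul_inv_cancel_right]), Subtype.ext (by
      change z * u * z⁻¹ = u
      rw [hu2, mul_inv_cancel_right])⟩
    exact (congrArg (fun x : {x : P // σ x = x ∧ α x = x} => ((x : P) : G)) h4).symm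

end SSplit

end Cfsg.Agent.HKS
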