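import Mathlib
import Cfsg.Agent.HKS.RigR
import Cfsg.Agent.HKS.RigA
import Cfsg.Agent.HKS.Goals

/-!
# The exponent table for two commuting involutions of `G_ab`

`exp_table` : for commuting involutions `s, t` of `G_ab` with `q = |C_{U a}(⟨s, t⟩)| > 1`,
`|C_{U a}(t)|` is `q`, `q²` (type `DL q²`) or `q³` (type `DU q`, or `DR n` with `q = 3^n`).
`four_formula` : `|U a| q² = |C(s)| |C(t)| |C(s t)|`.
-/

set_option autoImplicit false

namespace Cfsg.Agent.HKS

open Subgroup MulAction PP1 SSplit

universe v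

variable {G Ω : Type v} [Group G] [MulAction G Ω] {U : Ω → Subgroup G} {a b : Ω} {p k : ℕ}

theorem centralizer_zpowers (t : G) :
    centralizer ((zpowers t : Subgroup G) : Set G) = centralizer ({t} : Set G) := by
  have h1 := centralizer_sup (⊥ : Subgroup G) t
  rw [bot_sup_eq] at h1
  rw [h1, inf_eq_right]
  intro g _
  rw [mem_centralizer_iff]
  intro x hx
  rw [mem_bot.1 hx, one_mul, mul_one]

/-- the fixed point formula for two commuting involutions of `G_ab` -/
theorem four_formula (h : SSplit U) [Finite Ω] (hodd : Odd (Nat.card (U a))) {s t : G}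
    (hs : s ∈ Dab G a b) (ht : t ∈ Dab G a b) (hs2 : s * s = 1) (ht2 : t * t = 1)
    (hst : s * t = t * s) :
    Nat.card (U a) *
      Nat.card (U a ⊓ centralizer ({t} : Set G) ⊓ centralizer ({s} : Set G) : Subgroup G) ^ 2 =
    Nat.card (U a ⊓ centralizer ({s} : Set G) : Subgroup G) *
      Nat.card (U a ⊓ centralizer ({t} : Set G) : Subgroup G) *
      Nat.card (U a ⊓ centralizer ({s * t} : Set G) : Subgroup G) := by
  have hfin := h.finite_U a
  have hN : ∀ d ∈ Dab G a b, d ∈ normalizer (U a : Set G) := fun d hd =>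
    Rig.mem_normalizer_of_finite fun u hu => h.conj_of_fix hd.1 hu
  have h1 := Rig.card_four (P := U a) hodd (α := Rig.cj (U a) ⟨s, hN s hs⟩)
    (β := Rig.cj (U a) ⟨t, hN t ht⟩) (by
      rw [← map_mul, Rig.cj_eq_one]
      intro u _
      change s * s * u = u * (s * s)
      rw [hs2, one_mul, mul_one]) (by
      rw [← map_mul, Rig.cj_eq_one]
      intro u _
      change t * t * u = u * (t * t)
      rw [ht2, one_mul, mul_one]) (by
      rw [← map_mul, ← map_mul]
      congr 1
      exact Subtype.ext hst)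
  rw [Rig.card_fix_eq, Rig.card_fix_eq, ← map_mul] at h1
  have h2 : Nat.card {x : U a // (Rig.cj (U a) (⟨s, hN s hs⟩ * ⟨t, hN t ht⟩)) x = x} =
      Nat.card (U a ⊓ centralizer ({s * t} : Set G) : Subgroup G) :=
    Rig.card_fix_eq (P := U a) (s := s * t) (mul_mem (hN s hs) (hN t ht))
  rw [h2] at h1
  rw [← h1]
  congr 2
  apply Nat.card_congr
  exact
    { toFun := fun u => ⟨⟨u, u.2.1.1⟩, Subtype.ext (by
        change s * (u : G) * s⁻¹ = u
        rw [← mem_centralizer_singleton_iff.1 u.2.2, mul_inv_cancel_right]), Subtype.ext (by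
        change t * (u : G) * t⁻¹ = u
        rw [← mem_centralizer_singleton_iff.1 u.2.1.2, mul_inv_cancel_right])⟩
      invFun := fun u => ⟨u.1, ⟨u.1.2, mem_centralizer_singleton_iff.2 (by
        have h3 : t * (u.1 : G) * t⁻¹ = u.1 := congrArg Subtype.val u.2.2
        exact (mul_inv_eq_iff_eq_mul.1 h3).symm)⟩, mem_centralizer_singleton_iff.2 (by
        have h3 : s * (u.1 : G) * s⁻¹ = u.1 := congrArg Subtype.val u.2.1
        exact (mul_inv_eq_iff_eq_mul.1 h3).symm)⟩
      left_inv := fun _ => rfl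
      right_inv := fun _ => rfl }

/-- `C_P(s) = C_P(z)` if `s z` centralises `P` -/
theorem inf_centralizer_eq {P : Subgroup G} {s z : G}
    (h : ∀ u ∈ P, s * z * u = u * (s * z)) :
    P ⊓ centralizer ({s} : Set G) = P ⊓ centralizer ({z} : Set G) := by
  ext u
  constructor
  · rintro ⟨hu, h1⟩
    refine mem_inf.2 ⟨hu, mem_centralizer_singleton_iff.2 ?_⟩
    have h2 := (mem_centralizer_singleton_iff.1 h1)
    have h3 := h u hu
    have h4 : s * (z * u) = s * (u * z) := by
      calc s * (z * u) = s * z * u := by rw [mul_assoc]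
        _ = (u * s) * z := by rw [h3, mul_assoc]
        _ = s * (u * z) := by rw [h2, mul_assoc]
    exact (mul_left_cancel h4).symm
  · rintro ⟨hu, h1⟩
    refine mem_inf.2 ⟨hu, mem_centralizer_singleton_iff.2 ?_⟩
    have h2 := (mem_centralizer_singleton_iff.1 h1)
    have h3 := h u hu
    have h4 : (u * s) * z = (s * u) * z := by
      calc (u * s) * z = s * z * u := by rw [h3, mul_assoc]
        _ = s * (z * u) := by rw [mul_assoc]
        _ = (s * u) * z := by rw [← h2, mul_assoc]
    exact mul_right_cancel h4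

/-- **The exponent table.** -/
theorem exp_table [FaithfulSMul G Ω] [Finite Ω] (C : Ctx U a b) (hp : p.Prime)
    (hcard : Nat.card (U a) = p ^ k) {s t : G} (hs : s ∈ Dab G a b) (ht : t ∈ Dab G a b)
    (hs2 : s * s = 1) (hst : s * t = t * s) (ht1 : t ≠ 1) {q : ℕ}
    (hq : Nat.card (U a ⊓ centralizer ({t} : Set G) ⊓ centralizer ({s} : Set G) : Subgroup G) = q)
    (hq1 : 1 < q) :
    (Nat.card (U a ⊓ centralizer ({t} : Set G) : Subgroup G) = q ∧
      s ∈ kerFix Ω (zpowers t)) ∨
    (Nat.card (U a ⊓ centralizer ({t} : Set G) : Subgroup G) = q ^ 2 ∧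
      DL (genFix U (zpowers t)) (U a ⊓ centralizer ((zpowers t : Subgroup G) : Set G))
        (Dab G a b ⊓ genFix U (zpowers t)) (kerFix Ω (zpowers t))
        (fun w => w ∈ genFix U (zpowers t) ∧ Swaps w a b) (q ^ 2)) ∨
    (Nat.card (U a ⊓ centralizer ({t} : Set G) : Subgroup G) = q ^ 3 ∧
      DU (genFix U (zpowers t)) (U a ⊓ centralizer ((zpowers t : Subgroup G) : Set G))
        (Dab G a b ⊓ genFix U (zpowers t)) (kerFix Ω (zpowers t))
        (fun w => w ∈ genFix U (zpowers t) ∧ Swaps w a b) q) ∨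
    (Nat.card (U a ⊓ centralizer ({t} : Set G) : Subgroup G) = q ^ 3 ∧ ∃ n, q = 3 ^ n ∧
      DR (U a ⊓ centralizer ((zpowers t : Subgroup G) : Set G))
        (Dab G a b ⊓ genFix U (zpowers t)) (kerFix Ω (zpowers t)) n) := by
  have h := C.split
  have hab := C.ne
  have hXD : zpowers t ≤ Dab G a b := by rw [zpowers_le]; exact ht
  have hX1 : zpowers t ≠ ⊥ := by
    intro hb
    exact ht1 (mem_bot.1 (by rw [← hb]; exact mem_zpowers t))
  have hcz := centralizer_zpowers t
  have hrig : RigElt (zpowers t) a b s := RigElt.of_comm hs (by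
    intro x hx
    obtain ⟨i, rfl⟩ := mem_zpowers_iff.1 hx
    exact (Commute.zpow_right (show Commute s t from hst) i).eq) (by rw [hs2]; exact one_mem _)
  have hq' : Nat.card (U a ⊓ centralizer ((zpowers t : Subgroup G) : Set G) ⊓
      centralizer ({s} : Set G) : Subgroup G) = q := by rw [hcz, hq]
  have hne : U a ⊓ centralizer ((zpowers t : Subgroup G) : Set G) ⊓ centralizer ({s} : Set G) ≠
      ⊥ := by
    intro hb
    rw [hb, card_bot] at hq'
    omega
  have hU : U a ⊓ centralizer ((zpowers t : Subgroup G) : Set G) ≠ ⊥ := by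
    intro hb
    apply hne
    rw [hb, bot_inf_eq]
  have hk : s ∈ kerFix Ω (zpowers t) →
      Nat.card (U a ⊓ centralizer ({t} : Set G) : Subgroup G) = q := by
    intro h1
    rw [← hq', ← hcz]
    congr 1
    have h2 : U a ⊓ centralizer ((zpowers t : Subgroup G) : Set G) ⊓ centralizer ({s} : Set G) =
        U a ⊓ centralizer ((zpowers t : Subgroup G) : Set G) := by
      rw [inf_eq_left]
      intro u hu
      exact mem_centralizer_singleton_iff.2 (h.comm_kerFix hab hXD h1 u hu).symm
    rw [h2]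
  have hinv : ¬ ∀ u ∈ U a ⊓ centralizer ((zpowers t : Subgroup G) : Set G),
      s * u * s⁻¹ = u⁻¹ := by
    intro h1
    obtain ⟨u, hu, hu1⟩ := (bot_or_exists_ne_one _).resolve_left hne
    have h2 := h1 u hu.1
    have h3 : s * u * s⁻¹ = u := by
      rw [← mem_centralizer_singleton_iff.1 hu.2, mul_inv_cancel_right]
    have h4 : u * u = 1 := by
      rw [h3] at h2
      nth_rewrite 1 [h2]
      exact inv_mul_cancel u
    have h5 : Odd (Nat.card (U a)) := by
      have h6 := C.even
      rw [h.card a] at h6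
      rcases Nat.even_or_odd (Nat.card (U a)) with h7 | h7
      · exact absurd h6 (Nat.not_even_iff_odd.2 h7.add_one)
      · exact h7
    have h6 : (⟨u, hu.1.1⟩ : U a) ^ 2 = 1 := Subtype.ext (by
      change u ^ 2 = 1
      rw [sq, h4])
    have h7 : orderOf (⟨u, hu.1.1⟩ : U a) ∣ 2 := orderOf_dvd_of_pow_eq_one h6
    have h8 : Odd (orderOf (⟨u, hu.1.1⟩ : U a)) := Odd.of_dvd_nat h5 (orderOf_dvd_natCard _)
    rcases (Nat.dvd_prime Nat.prime_two).1 h7 with h9 | h9
    · exact hu1 (congrArg Subtype.val (orderOf_eq_one_iff.1 h9))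
    · rw [h9] at h8
      exact absurd h8 (by decide)
  have hYD : ∀ Y : Subgroup G, zpowers t ≤ Y → Y ≤ Dab G a b →
      U a ⊓ centralizer (Y : Set G) ≠ ⊥ → XType U Y a b := by
    intro Y hY hYD hYU
    refine C.IH Y hYD ?_ hYU
    intro hb
    rw [hb] at hY
    exact hX1 (le_bot_iff.1 hY)
  rcases C.IH (zpowers t) hXD hX1 hU with hT | ⟨q', hT⟩ | ⟨q', hT⟩ | ⟨n, hT⟩
  · rcases h.rigA C.even hab hXD hrig hT hU hp hcard with h1 | ⟨-, h1⟩
    · exact Or.inl ⟨hk h1, h1⟩
    · exact absurd h1 hinv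
  · rcases h.rigL hab hXD hrig hT with h1 | h1 | h1
    · exact Or.inl ⟨hk h1, h1⟩
    · exact absurd h1 hinv
    · right; left
      rw [hq'] at h1
      rw [h1]
      refine ⟨?_, hT⟩
      rw [← hT.card, hcz]
  · have hfin : q' ^ 3 = Nat.card (U a ⊓ centralizer ({t} : Set G) : Subgroup G) := by
      rw [← hT.card, hcz]
    rcases h.rigU hab hXD hrig hT (hYD _ le_sup_left (sup_le hXD (by
        rw [zpowers_le]; exact hs))) with h1 | h1 | ⟨h1, -, -⟩
    · exact Or.inl ⟨hk h1, h1⟩
    · right; right; left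
      obtain ⟨z, hz, hzK, hz2, hzc⟩ := hT.invol
      have h2 := h1 z hz hzK (by rw [hz2]; exact one_mem _)
      have h3 := inf_centralizer_eq (h.comm_kerFix hab hXD h2)
      have h4 : U a ⊓ centralizer ((zpowers t : Subgroup G) : Set G) ⊓
          centralizer ({z} : Set G) = U a ⊓ centralizer ((zpowers t : Subgroup G) : Set G) ⊓
          centralizer ((U a ⊓ centralizer ((zpowers t : Subgroup G) : Set G) : Subgroup G) :
            Set G) := by
        ext u
        constructor
        · rintro ⟨hu, hu'⟩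
          refine mem_inf.2 ⟨hu, mem_centralizer_iff.2 fun v hv => ?_⟩
          exact ((hzc u hu).1 (mem_centralizer_singleton_iff.1 hu').symm v hv).symm
        · rintro ⟨hu, hu'⟩
          refine mem_inf.2 ⟨hu, mem_centralizer_singleton_iff.2 ?_⟩
          exact ((hzc u hu).2 fun v hv => (mem_centralizer_iff.1 hu' v hv).symm).symm
      rw [h3, h4, hT.cardZ] at hq'
      rw [← hq']
      exact ⟨hfin.symm, hT⟩
    · right; right; left
      rw [hq'] at h1
      rw [h1]
      exact ⟨hfin.symm, hT⟩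
  · have hfin : (3 ^ n) ^ 3 = Nat.card (U a ⊓ centralizer ({t} : Set G) : Subgroup G) := by
      rw [← hT.card, hcz]
    obtain ⟨z, hz, hzK, hz2, hzc⟩ := hT.invol
    rcases h.rigR hab hXD hrig hT hz hzK (by rw [hz2]; exact one_mem _) hYD with
      h1 | h1 | ⟨h1, -, -⟩
    · exact Or.inl ⟨hk h1, h1⟩
    · right; right; right
      have h3 := inf_centralizer_eq (h.comm_kerFix hab hXD h1)
      rw [h3, hzc] at hq'
      rw [← hq']
      exact ⟨hfin.symm, n, rfl, hT⟩
    · right; right; right
      rw [hq'] at h1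
      rw [h1]
      exact ⟨hfin.symm, n, rfl, hT⟩

end Cfsg.Agent.HKS
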