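import Mathlib
import Cfsg.Agent.HKS.Goals
import Cfsg.Agent.Lib.Zsigmondy
import Cfsg.Agent.Lib.FrattiniPGroup

/-!
# (T4): primitive prime divisors and fixed points

`Ppd p m r`: `r` is a primitive prime divisor of `p ^ m - 1`.

Let `|U a| = p ^ k`, `X ≤ D`, `|C_{U a}(X)| = p ^ e` and let `r` be a primitive prime divisor of
`p ^ (2 e) - 1`. Then `k / e` is an odd integer or `r ∣ |D|`. In the latter case an element `g` of
order `r` of `D` acts on `U a`, and `m = 2 e` divides `i - j` whenever `V ≤ U a` is `g`-invariant,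
`|V| = p ^ i` and `|C_V(g)| = p ^ j`; moreover `|U a : Φ(U a)| ≥ p ^ (2 e)`.
-/

set_option autoImplicit false

namespace Cfsg.Agent.HKS.ZsigT4

open Subgroup MulAction

/-- `r` is a primitive prime divisor of `p ^ m - 1`. -/
structure Ppd (p m r : ℕ) : Prop where
  prime : r.Prime
  dvd : ∀ i, r ∣ p ^ i - 1 ↔ m ∣ i

theorem exists_ppd {p m : ℕ} (hp : p.Prime) (hp2 : p ≠ 2) (hm : 2 < m) : ∃ r, Ppd p m r := by
  obtain ⟨r, hr, h1, -, -⟩ := Lib.Zsigmondy.exists_primitive (a := p) (n := m) hp.two_le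
    (by omega) (by omega) (fun h => hp2 h.1)
  exact ⟨r, hr, h1⟩

theorem exists_ppd_two {p : ℕ} (hp : p.Prime) (h : ¬ ∃ s, p + 1 = 2 ^ s) : ∃ r, Ppd p 2 r := by
  obtain ⟨r, hr, h1, -, -⟩ := Lib.Zsigmondy.exists_primitive (a := p) (n := 2) hp.two_le
    le_rfl (fun _ => h) (fun h => absurd h.2 (by norm_num))
  exact ⟨r, hr, h1⟩

namespace Ppd

variable {p m r e k : ℕ}

theorem not_dvd (hr : Ppd p m r) (hp : p.Prime) (hm : 1 ≤ m) : ¬ r ∣ p := by
  intro hc
  have h1 : r ∣ p ^ m - 1 := (hr.dvd m).2 dvd_rfl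
  have h2 : r ∣ p ^ m := dvd_pow hc (by omega)
  have h3 : r ∣ 1 := by
    have h4 := Nat.dvd_sub h2 h1
    rwa [Nat.sub_sub_self (Nat.one_le_pow _ _ hp.pos)] at h4
  exact hr.prime.one_lt.ne' (Nat.dvd_one.1 h3)

theorem not_dvd_pow (hr : Ppd p m r) (hp : p.Prime) (hm : 1 ≤ m) (i : ℕ) : ¬ r ∣ p ^ i :=
  fun h => hr.not_dvd hp hm (hr.prime.dvd_of_dvd_pow h)

theorem ne_two (hr : Ppd p m r) (hp : p.Prime) (hp2 : p ≠ 2) (hm : 2 ≤ m) : r ≠ 2 := by
  rintro rfl
  have h1 : 2 ∣ p ^ 1 - 1 := by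
    rw [pow_one]
    obtain ⟨l, hl⟩ := hp.odd_of_ne_two hp2
    exact ⟨l, by omega⟩
  have h2 := Nat.le_of_dvd one_pos ((hr.dvd 1).1 h1)
  omega

theorem dvd_succ (hr : Ppd p (2 * e) r) (he : 1 ≤ e) : r ∣ p ^ e + 1 := by
  have h1 : r ∣ p ^ (2 * e) - 1 := (hr.dvd _).2 dvd_rfl
  have h2 : p ^ (2 * e) - 1 = (p ^ e + 1) * (p ^ e - 1) := by
    rw [mul_comm 2 e, pow_mul, ← Nat.sq_sub_sq, one_pow]
  rw [h2] at h1
  rcases hr.prime.dvd_mul.1 h1 with h3 | h3
  · exact h3
  · exfalso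
    have h4 := Nat.le_of_dvd he ((hr.dvd e).1 h3)
    omega

theorem odd_quot (hr : Ppd p (2 * e) r) (hp : p.Prime) (hp2 : p ≠ 2) (he : 1 ≤ e)
    (hk : r ∣ p ^ k + 1) : ∃ l, k = e * (2 * l + 1) := by
  have h1 : r ∣ p ^ (2 * k) - 1 := by
    have h2 : p ^ (2 * k) - 1 = (p ^ k + 1) * (p ^ k - 1) := by
      rw [mul_comm 2 k, pow_mul, ← Nat.sq_sub_sq, one_pow]
    rw [h2]
    exact hk.mul_right _
  have h2 : e ∣ k := Nat.dvd_of_mul_dvd_mul_left two_pos ((hr.dvd _).1 h1)
  obtain ⟨j, rfl⟩ := h2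
  rcases Nat.even_or_odd j with ⟨i, hi⟩ | ⟨l, hl⟩
  · exfalso
    have h3 : 2 * e ∣ e * j := ⟨i, by rw [hi]; ring⟩
    have h4 : r ∣ p ^ (e * j) - 1 := (hr.dvd _).2 h3
    have h5 : r ∣ 2 := by
      have h6 := Nat.dvd_sub hk h4
      have h7 : p ^ (e * j) + 1 - (p ^ (e * j) - 1) = 2 := by
        have := Nat.one_le_pow (e * j) p hp.pos
        omega
      rwa [h7] at h6
    exact hr.ne_two hp hp2 (by omega) ((Nat.prime_dvd_prime_iff_eq hr.prime Nat.prime_two).1 h5)
  · exact ⟨l, by rw [hl]⟩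

/-- `p ^ i ≡ p ^ j` modulo `r`, `j ≤ i`, gives `m ∣ i - j`. -/
theorem dvd_sub_of_modEq (hr : Ppd p m r) (hp : p.Prime) (hm : 1 ≤ m) {i j : ℕ} (hij : j ≤ i)
    (h : p ^ i ≡ p ^ j [MOD r]) : m ∣ i - j := by
  rw [← hr.dvd]
  have h1 : r ∣ p ^ i - p ^ j := (Nat.modEq_iff_dvd' (Nat.pow_le_pow_right hp.pos hij)).1 h.symm
  have h2 : p ^ i - p ^ j = p ^ j * (p ^ (i - j) - 1) := by
    rw [Nat.mul_sub, mul_one, ← pow_add, Nat.add_sub_cancel' hij]
  rw [h2] at h1
  exact (hr.prime.dvd_mul.1 h1).resolve_left (hr.not_dvd_pow hp hm j)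

end Ppd

/-! ### Action of an element of order `r` -/

section act

variable {G : Type*} [Group G]

/-- The elements of `V` centralised by `g`. -/
theorem modEq_fix [Finite G] {r : ℕ} (hr : r.Prime) {g : G} (hg : g ^ r = 1) {V : Subgroup G}
    (hV : ∀ v ∈ V, g * v * g⁻¹ ∈ V) :
    Nat.card V ≡ Nat.card (V ⊓ centralizer ({g} : Set G) : Subgroup G) [MOD r] := by
  classical
  have := Fact.mk hr
  have := Fintype.ofFinite V
  let f : Function.End V := fun v => ⟨g * v * g⁻¹, hV v v.2⟩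
  have hfn : ∀ (n : ℕ) (v : V), (((f ^ n : Function.End V) v : V) : G) = g ^ n * v * (g ^ n)⁻¹ := by
    intro n
    induction n with
    | zero =>
      intro v
      rw [pow_zero, pow_zero]
      change (v : G) = 1 * v * 1⁻¹
      group
    | succ n ih =>
      intro v
      have h1 : (f ^ (n + 1) : Function.End V) v = (f ^ n : Function.End V) (f v) := by
        rw [pow_succ]; rfl
      rw [h1, ih]
      change g ^ n * (g * v * g⁻¹) * (g ^ n)⁻¹ = _
      rw [pow_succ]
      group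
  have hf : f ^ r ^ 1 = 1 := by
    funext v
    apply Subtype.ext
    rw [hfn, pow_one, hg]
    change 1 * (v : G) * 1⁻¹ = v
    group
  have h1 := Equiv.Perm.card_fixedPoints_modEq hf
  rw [Nat.card_eq_fintype_card]
  refine h1.trans ?_
  refine congrArg (fun n => n % r) ?_
  rw [← Nat.card_eq_fintype_card]
  refine Nat.card_congr ⟨fun v => ⟨v.1.1, v.1.2, ?_⟩, fun v => ⟨⟨v.1, v.2.1⟩, ?_⟩, fun _ => rfl,
    fun _ => rfl⟩
  · have h2 : g * (v.1 : G) * g⁻¹ = v.1 := congrArg Subtype.val v.2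
    refine mem_centralizer_singleton_iff.2 ?_
    calc (v.1 : G) * g = g * v.1 * g⁻¹ * g := by rw [h2]
      _ = g * v.1 := by group
  · apply Subtype.ext
    have h2 := mem_centralizer_singleton_iff.1 v.2.2
    change g * (v : G) * g⁻¹ = v
    rw [← h2]
    group

theorem card_sup_mul {P : Type*} [Group P] [Finite P] (H K : Subgroup P) [K.Normal] :
    Nat.card (H ⊔ K : Subgroup P) * Nat.card (H ⊓ K : Subgroup P) = Nat.card H * Nat.card K := by
  have h1 : K.relIndex (H ⊔ K) * (H ⊔ K).index = K.index := relIndex_mul_index le_sup_right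
  have h2 : (H ⊓ K).relIndex H * H.index = (H ⊓ K).index := relIndex_mul_index inf_le_left
  rw [relIndex_sup_right] at h1
  rw [inf_relIndex_left] at h2
  have h3 := (H ⊔ K).card_mul_index
  have h4 := K.card_mul_index
  have h5 := H.card_mul_index
  have h6 := (H ⊓ K).card_mul_index
  have h7 : Nat.card (H ⊔ K : Subgroup P) = Nat.card K * K.relIndex H := by
    apply Nat.eq_of_mul_eq_mul_right (Nat.pos_of_ne_zero (H ⊔ K).index_ne_zero_of_finite)
    rw [h3, mul_assoc, h1, h4]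
  have h8 : Nat.card H = Nat.card (H ⊓ K : Subgroup P) * K.relIndex H := by
    apply Nat.eq_of_mul_eq_mul_right (Nat.pos_of_ne_zero H.index_ne_zero_of_finite)
    rw [h5, mul_assoc, h2, h6]
  rw [h7, h8]
  ring

/-- The data of an element of order `r` acting on a `p`-group. -/
structure Acts (P : Subgroup G) (p k m r : ℕ) (g : G) : Prop where
  prime : p.Prime
  pos : 1 ≤ m
  ppd : Ppd p m r
  card : Nat.card P = p ^ k
  order : g ^ r = 1
  norm : ∀ v ∈ P, g * v * g⁻¹ ∈ P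
  move : ∃ v ∈ P, g * v ≠ v * g

namespace Acts

variable [Finite G] {P : Subgroup G} {p k m r : ℕ} {g : G}

omit [Finite G] in
theorem exists_card (h : Acts P p k m r g) {V : Subgroup G} (hV : V ≤ P) :
    ∃ i ≤ k, Nat.card V = p ^ i := by
  have h1 : Nat.card V ∣ p ^ k := by rw [← h.card]; exact card_dvd_of_le hV
  exact (Nat.dvd_prime_pow h.prime).1 h1

/-- `m ∣ i - j` for a `g`-invariant subgroup `V ≤ P`, `|V| = p ^ i`, `|C_V(g)| = p ^ j`. -/
theorem dvd_sub (h : Acts P p k m r g) {V : Subgroup G} (hV : ∀ v ∈ V, g * v * g⁻¹ ∈ V)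
    {i j : ℕ} (hi : Nat.card V = p ^ i)
    (hj : Nat.card (V ⊓ centralizer ({g} : Set G) : Subgroup G) = p ^ j) : j ≤ i ∧ m ∣ i - j := by
  have h1 := modEq_fix h.ppd.prime h.order hV
  have h2 : Nat.card (V ⊓ centralizer ({g} : Set G) : Subgroup G) ≤ Nat.card V :=
    card_le_of_le inf_le_left
  rw [hi, hj] at h1 h2
  have h3 : j ≤ i := (Nat.pow_le_pow_iff_right h.prime.one_lt).1 h2
  exact ⟨h3, h.ppd.dvd_sub_of_modEq h.prime h.pos h3 h1⟩

theorem exists_fix (h : Acts P p k m r g) :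
    ∃ j, j < k ∧ Nat.card (P ⊓ centralizer ({g} : Set G) : Subgroup G) = p ^ j ∧ m ∣ k - j ∧
      j + m ≤ k := by
  obtain ⟨j, hjk, hj⟩ := h.exists_card (V := P ⊓ centralizer ({g} : Set G)) inf_le_left
  obtain ⟨h1, h2⟩ := h.dvd_sub h.norm h.card hj
  have h3 : j ≠ k := by
    rintro rfl
    have h4 : P ⊓ centralizer ({g} : Set G) = P :=
      eq_of_le_of_card_ge inf_le_left (by rw [hj, h.card])
    obtain ⟨v, hv, hne⟩ := h.move
    have h5 : v ∈ P ⊓ centralizer ({g} : Set G) := by rw [h4]; exact hv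
    exact hne (mem_centralizer_singleton_iff.1 h5.2).symm
  have h4 : j < k := lt_of_le_of_ne hjk h3
  have h5 := Nat.le_of_dvd (by omega) h2
  exact ⟨j, h4, hj, h2, by omega⟩

theorem le (h : Acts P p k m r g) : m ≤ k := by
  obtain ⟨j, -, -, -, h1⟩ := h.exists_fix
  omega

/-- A `g`-invariant normal subgroup `V` of `P`, such that `P` is generated by `V` and no proper
subgroup, satisfies `|V| p ^ m ≤ |P|`. -/
theorem mul_le (h : Acts P p k m r g) {V : Subgroup G} (hVP : V ≤ P)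
    (hV : ∀ v ∈ V, g * v * g⁻¹ ∈ V) (hn : ∀ x ∈ P, ∀ v ∈ V, x * v * x⁻¹ ∈ V)
    (hgen : ∀ C : Subgroup G, C ≤ P → P ≤ V ⊔ C → C = P) : Nat.card V * p ^ m ≤ p ^ k := by
  obtain ⟨i, hik, hi⟩ := h.exists_card hVP
  obtain ⟨j, hjk, hj, hmj, -⟩ := h.exists_fix
  obtain ⟨l, hlk, hl⟩ := h.exists_card (V := V ⊓ centralizer ({g} : Set G))
    (inf_le_left.trans hVP)
  obtain ⟨hli, hml⟩ := h.dvd_sub hV hi hl
  set C := P ⊓ centralizer ({g} : Set G) with hC
  -- inside `P`
  have hnV : (V.subgroupOf P).Normal := ⟨fun v hv x => by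
    rw [mem_subgroupOf] at hv ⊢
    exact hn x x.2 v hv⟩
  have h1 := card_sup_mul (C.subgroupOf P) (V.subgroupOf P)
  have h2 : Nat.card (C.subgroupOf P) = p ^ j := by
    rw [← hj]; exact Nat.card_congr (subgroupOfEquivOfLe inf_le_left).toEquiv
  have h3 : Nat.card (V.subgroupOf P) = p ^ i := by
    rw [← hi]; exact Nat.card_congr (subgroupOfEquivOfLe hVP).toEquiv
  have h4 : Nat.card (C.subgroupOf P ⊓ V.subgroupOf P : Subgroup P) = p ^ l := by
    have e : C.subgroupOf P ⊓ V.subgroupOf P = (V ⊓ centralizer ({g} : Set G)).subgroupOf P := by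
      ext x
      simp only [mem_inf, mem_subgroupOf, hC]
      exact ⟨fun hx => ⟨hx.2, hx.1.2⟩, fun hx => ⟨⟨x.2, hx.2⟩, hx.1⟩⟩
    rw [e, ← hl]
    exact Nat.card_congr (subgroupOfEquivOfLe (inf_le_left.trans hVP)).toEquiv
  rw [h2, h3, h4] at h1
  -- the order of the product
  have h5 : Nat.card (C.subgroupOf P ⊔ V.subgroupOf P : Subgroup P) ∣ p ^ k := by
    rw [← h.card]
    exact card_subgroup_dvd_card _
  obtain ⟨n, hnk, hn'⟩ := (Nat.dvd_prime_pow h.prime).1 h5
  have hnk' : n ≠ k := by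
    rintro rfl
    have h6 : C.subgroupOf P ⊔ V.subgroupOf P = ⊤ := by
      apply eq_top_of_card_eq
      rw [hn', h.card]
    have h7 : P ≤ V ⊔ C := by
      intro x hx
      have h8 : (⟨x, hx⟩ : P) ∈ C.subgroupOf P ⊔ V.subgroupOf P := by rw [h6]; exact mem_top _
      obtain ⟨c, hc, v, hv, he⟩ := mem_sup_of_normal_right.1 h8
      have h9 : x = c * v := (congrArg Subtype.val he).symm
      rw [h9]
      exact mul_mem (le_sup_right (a := V) (mem_subgroupOf.1 hc))
        (le_sup_left (b := C) (mem_subgroupOf.1 hv))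
    have h8 := hgen C inf_le_left h7
    rw [h8, h.card] at hj
    exact hjk.ne' (Nat.pow_right_injective h.prime.two_le hj)
  rw [hn', ← pow_add, ← pow_add] at h1
  have h6 : n + l = j + i := Nat.pow_right_injective h.prime.two_le h1
  have h7 : m ∣ k - n := by
    have h8 : k - j = (i - l) + (k - n) := by omega
    rw [h8] at hmj
    exact (Nat.dvd_add_right hml).1 hmj
  have h8 := Nat.le_of_dvd (by omega) h7
  have hlj : l ≤ j := by
    have h9 : Nat.card (V ⊓ centralizer ({g} : Set G) : Subgroup G) ≤ Nat.card C :=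
      card_le_of_le (inf_le_inf_right _ hVP)
    rw [hl, hj] at h9
    exact (Nat.pow_le_pow_iff_right h.prime.one_lt).1 h9
  rw [hi, ← pow_add]
  exact Nat.pow_le_pow_right h.prime.pos (by omega)

theorem frattini_mul_le (h : Acts P p k m r g) :
    Nat.card (frattini P) * p ^ m ≤ p ^ k := by
  have hconj : ∀ (x : G) (hx : ∀ v ∈ P, x * v * x⁻¹ ∈ P) (hx' : ∀ v ∈ P, x⁻¹ * v * x ∈ P),
      ∀ v ∈ (frattini P).map P.subtype, x * v * x⁻¹ ∈ (frattini P).map P.subtype := by
    intro x hx hx'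
    let σ : P ≃* P :=
      { toFun := fun v => ⟨x * v * x⁻¹, hx v v.2⟩
        invFun := fun v => ⟨x⁻¹ * v * x, hx' v v.2⟩
        left_inv := fun v => Subtype.ext (by simp only []; group)
        right_inv := fun v => Subtype.ext (by simp only []; group)
        map_mul' := fun v w => Subtype.ext (by
          change x * ((v : G) * w) * x⁻¹ = x * v * x⁻¹ * (x * w * x⁻¹)
          group) }
    rintro _ ⟨v, hv, rfl⟩
    refine ⟨σ v, ?_, rfl⟩
    have h1 : (frattini P).map σ.toMonoidHom = frattini P :=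
      (characteristic_iff_map_eq.1 frattini_characteristic) σ
    rw [← h1]
    exact ⟨v, hv, rfl⟩
  have hinv : ∀ x : G, x ^ r = 1 → (∀ v ∈ P, x * v * x⁻¹ ∈ P) → ∀ v ∈ P, x⁻¹ * v * x ∈ P := by
    intro x hxr hx v hv
    have h1 : ∀ (n : ℕ), ∀ v ∈ P, x ^ n * v * (x ^ n)⁻¹ ∈ P := by
      intro n
      induction n with
      | zero => intro v hv; simpa using hv
      | succ n ih =>
        intro v hv
        have := ih _ (hx v hv)
        have e : x ^ (n + 1) * v * (x ^ (n + 1))⁻¹ = x ^ n * (x * v * x⁻¹) * (x ^ n)⁻¹ := by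
          rw [pow_succ]; group
        rwa [e]
    have h2 : x⁻¹ = x ^ (r - 1) := by
      rw [inv_eq_iff_mul_eq_one, ← pow_succ', Nat.sub_add_cancel h.ppd.prime.one_lt.le, hxr]
    have h3 := h1 (r - 1) v hv
    rwa [← h2, inv_inv] at h3
  have h1 : Nat.card ((frattini P).map P.subtype) = Nat.card (frattini P) :=
    card_map_of_injective P.subtype_injective
  rw [← h1]
  refine h.mul_le (map_subtype_le _) (hconj g h.norm (hinv g h.order h.norm)) ?_ ?_
  · intro x hx
    exact hconj x (fun v hv => mul_mem (mul_mem hx hv) (inv_mem hx))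
      (fun v hv => mul_mem (mul_mem (inv_mem hx) hv) hx)
  · intro C hCP hPC
    have h2 : C.subgroupOf P ⊔ frattini P = ⊤ := by
      have h3 : ((frattini P).map P.subtype).subgroupOf P = frattini P := by
        rw [subgroupOf, comap_map_eq_self_of_injective P.subtype_injective]
      rw [← h3, sup_comm, ← subgroupOf_sup (map_subtype_le _) hCP, eq_top_iff]
      intro x _
      exact hPC x.2
    have h3 := frattini_nongenerating h2
    exact le_antisymm hCP (subgroupOf_eq_top.1 h3)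

theorem commutator_mul_le (h : Acts P p k m r g) :
    Nat.card (⁅P, P⁆ : Subgroup G) * p ^ m ≤ p ^ k := by
  have := Fact.mk h.prime
  have h1 : (⁅P, P⁆ : Subgroup G) = (commutator P).map P.subtype := by
    rw [commutator_def, map_commutator, ← MonoidHom.range_eq_map, range_subtype]
  have h2 : Nat.card (⁅P, P⁆ : Subgroup G) ≤ Nat.card (frattini P) := by
    rw [h1, card_map_of_injective P.subtype_injective]
    exact card_le_of_le (Lib.FrattiniPGroup.commutator_le_frattini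
      (IsPGroup.of_card (n := k) h.card))
  exact (Nat.mul_le_mul_right _ h2).trans h.frattini_mul_le

/-- If `k < m + 1` then `P` is elementary abelian. -/
theorem elementary (h : Acts P p k m r g) (hkm : k ≤ m) :
    (∀ x ∈ P, ∀ y ∈ P, x * y = y * x) ∧ ∀ x ∈ P, x ^ p = 1 := by
  have := Fact.mk h.prime
  have h1 : Nat.card (frattini P) ≤ 1 := by
    have h2 := h.frattini_mul_le
    have h3 : p ^ k ≤ p ^ m := Nat.pow_le_pow_right h.prime.pos hkm
    have h4 : 0 < p ^ m := pow_pos h.prime.pos m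
    exact Nat.le_of_mul_le_mul_right (by rw [one_mul]; omega) h4
  have h2 : frattini P = ⊥ := eq_bot_of_card_le _ h1
  have hP : IsPGroup p P := IsPGroup.of_card (n := k) h.card
  constructor
  · intro x hx y hy
    have h3 := Lib.FrattiniPGroup.commutator_mem_frattini hP ⟨x, hx⟩ ⟨y, hy⟩
    rw [h2, mem_bot, commutatorElement_eq_one_iff_mul_comm] at h3
    exact congrArg Subtype.val h3
  · intro x hx
    have h3 := Lib.FrattiniPGroup.pow_mem_frattini hP ⟨x, hx⟩
    rw [h2, mem_bot] at h3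
    exact congrArg Subtype.val h3

end Acts

end act

/-! ### (T4) -/

section split

variable {G Ω : Type*} [Group G] [MulAction G Ω] {U : Ω → Subgroup G} {a b : Ω}

/-- **(T4), first part.** -/
theorem odd_or_dvd (h : SSplit U) [Finite G] [Finite Ω] (hab : b ≠ a) {p k : ℕ} (hp : p.Prime)
    (hp2 : p ≠ 2) (hU : Nat.card (U a) = p ^ k) {X : Subgroup G} (hX : X ≤ Dab G a b) {e : ℕ}
    (he : 1 ≤ e) (hn : Nat.card (U a ⊓ centralizer (X : Set G) : Subgroup G) = p ^ e) {r : ℕ}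
    (hr : Ppd p (2 * e) r) : (∃ l, k = e * (2 * l + 1)) ∨ r ∣ Nat.card (Dab G a b) := by
  have ha : ∀ x ∈ X, x • a = a := fun x hx => (hX hx).1
  have hb : ∀ x ∈ X, x • b = b := fun x hx => (hX hx).2
  have h1 := h.card_fixSub hab ha hb
  rw [hn] at h1
  have hp3 : 2 ≤ p ^ e := by
    calc 2 ≤ p := hp.two_le
      _ = p ^ 1 := (pow_one p).symm
      _ ≤ p ^ e := Nat.pow_le_pow_right hp.pos he
  have h2 := h.card_centralizer X hab ha hb (by rw [h1]; omega)
  have h3 : r ∣ Nat.card G := by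
    refine dvd_trans ?_ (card_subgroup_dvd_card (centralizer (X : Set G)))
    rw [h2, h1, mul_assoc]
    exact (hr.dvd_succ he).mul_right _
  rw [h.card_G hab, h.card a, hU, Nat.add_sub_cancel] at h3
  rcases hr.prime.dvd_mul.1 h3 with h4 | h4
  · rcases hr.prime.dvd_mul.1 h4 with h5 | h5
    · exact Or.inl (hr.odd_quot hp hp2 he h5)
    · exact absurd h5 (hr.not_dvd_pow hp (by omega) k)
  · exact Or.inr h4

/-- **(T4), second part.** An element of order `r` of `D` acts on `U a`. -/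
theorem exists_acts (h : SSplit U) [Finite G] [FaithfulSMul G Ω] (hab : b ≠ a) {p k : ℕ}
    (hp : p.Prime) (hU : Nat.card (U a) = p ^ k) {m r : ℕ} (hm : 1 ≤ m) (hr : Ppd p m r)
    (hd : r ∣ Nat.card (Dab G a b)) : ∃ g ∈ Dab G a b, orderOf g = r ∧ Acts (U a) p k m r g := by
  have := Fact.mk hr.prime
  obtain ⟨g, hg⟩ := exists_prime_orderOf_dvd_card' r hd
  have hg' : orderOf (g : G) = r := by rw [Subgroup.orderOf_coe, hg]
  refine ⟨g, g.2, hg', hp, hm, hr, hU, by rw [← hg', pow_orderOf_eq_one],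
    fun v hv => h.conj_of_fix g.2.1 hv, ?_⟩
  by_contra hc
  push Not at hc
  have h1 : (g : G) = 1 := by
    apply FaithfulSMul.eq_of_smul_eq_smul (α := Ω)
    intro c
    rw [one_smul]
    by_cases hca : c = a
    · rw [hca]; exact g.2.1
    · obtain ⟨u, hu, rfl⟩ := h.trans hab hca
      rw [← mul_smul, hc u hu, mul_smul, g.2.2]
  rw [h1, orderOf_one] at hg'
  exact hr.prime.one_lt.ne hg'

theorem le_of_dvd (h : SSplit U) [Finite G] [FaithfulSMul G Ω] (hab : b ≠ a) {p k : ℕ}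
    (hp : p.Prime) (hU : Nat.card (U a) = p ^ k) {m r : ℕ} (hm : 1 ≤ m) (hr : Ppd p m r)
    (hd : r ∣ Nat.card (Dab G a b)) : m ≤ k := by
  obtain ⟨g, -, -, hg⟩ := exists_acts h hab hp hU hm hr hd
  exact hg.le

end split

end Cfsg.Agent.HKS.ZsigT4
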