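import Mathlib
import Cfsg.Agent.HKS.RigTable
import Cfsg.Agent.HKS.ZsigT4

/-!
# GoalFour from the three kills

`goalFour_of` : `GoalFour` follows from the impossibility of the exponents `(2,2,2)`, `(2,3,3)`,
`(3,3,3)`.
-/

set_option autoImplicit false

namespace Cfsg.Agent.HKS

open Subgroup MulAction PP1 SSplit ZsigT4

section

variable {G Ω : Type*} [Group G] [MulAction G Ω]

/-- A pair of commuting involutions of `G_ab` with `|C_{U a}(⟨s, t⟩)| = q = p^e > 1`. -/
structure FourPair (U : Ω → Subgroup G) (a b : Ω) (p e : ℕ) (s t : G) : Prop where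
  sD : s ∈ Dab G a b
  tD : t ∈ Dab G a b
  s2 : s * s = 1
  t2 : t * t = 1
  comm : s * t = t * s
  s1 : s ≠ 1
  t1 : t ≠ 1
  st1 : s * t ≠ 1
  e0 : e ≠ 0
  cardV : Nat.card (U a ⊓ centralizer ({t} : Set G) ⊓ centralizer ({s} : Set G) : Subgroup G) =
    p ^ e

end

/-- the exponents `(i, j, l)` (for `s, t, s t`) do not occur -/
def KillExp.{v} (i j l : ℕ) : Prop := ∀ (G Ω : Type v) [Group G] [Finite G] [MulAction G Ω]
  [FaithfulSMul G Ω] [Finite Ω] (U : Ω → Subgroup G) (a b : Ω) (p k e : ℕ) (s t : G),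
  CtxE U a b p k → FourPair U a b p e s t → k = e * (i + j + l - 2) →
  Nat.card (U a ⊓ centralizer ({s} : Set G) : Subgroup G) = (p ^ e) ^ i →
  Nat.card (U a ⊓ centralizer ({t} : Set G) : Subgroup G) = (p ^ e) ^ j →
  Nat.card (U a ⊓ centralizer ({s * t} : Set G) : Subgroup G) = (p ^ e) ^ l → False

section

universe v

variable {G Ω : Type v} [Group G] [MulAction G Ω] {U : Ω → Subgroup G} {a b : Ω} {p k e : ℕ}
  {s t : G}

namespace FourPair

theorem symm (F : FourPair U a b p e s t) : FourPair U a b p e t s where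
  sD := F.tD
  tD := F.sD
  s2 := F.t2
  t2 := F.s2
  comm := F.comm.symm
  s1 := F.t1
  t1 := F.s1
  st1 := by rw [← F.comm]; exact F.st1
  e0 := F.e0
  cardV := by
    rw [← F.cardV, inf_assoc, inf_assoc, inf_comm (centralizer ({s} : Set G))]

theorem mul_sq (F : FourPair U a b p e s t) : (s * t) * (s * t) = 1 := by
  calc (s * t) * (s * t) = s * (t * s) * t := by simp only [mul_assoc]
    _ = s * (s * t) * t := by rw [F.comm]
    _ = (s * s) * (t * t) := by simp only [mul_assoc]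
    _ = 1 := by rw [F.s2, F.t2, one_mul]

/-- the pair `(s, s t)` -/
theorem rot (F : FourPair U a b p e s t) : FourPair U a b p e s (s * t) where
  sD := F.sD
  tD := (Dab G a b).mul_mem F.sD F.tD
  s2 := F.s2
  t2 := F.mul_sq
  comm := by rw [mul_assoc, F.comm]
  s1 := F.s1
  t1 := F.st1
  st1 := by rw [← mul_assoc, F.s2, one_mul]; exact F.t1
  e0 := F.e0
  cardV := by
    rw [← F.cardV]
    congr 1
    have : (U a ⊓ centralizer ({s * t} : Set G) ⊓ centralizer ({s} : Set G) : Subgroup G) =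
        U a ⊓ centralizer ({t} : Set G) ⊓ centralizer ({s} : Set G) := by
      ext u
      constructor
      · rintro ⟨⟨h1, h2⟩, h3⟩
        have h2' := mem_centralizer_singleton_iff.1 h2
        have h3' := mem_centralizer_singleton_iff.1 h3
        refine mem_inf.2 ⟨mem_inf.2 ⟨h1, mem_centralizer_singleton_iff.2 ?_⟩, h3⟩
        have h4 : s * (u * t) = s * (t * u) := by
          calc s * (u * t) = (u * s) * t := by rw [h3', mul_assoc]
            _ = u * (s * t) := by rw [mul_assoc]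
            _ = s * (t * u) := by rw [h2', mul_assoc]
        exact mul_left_cancel h4
      · rintro ⟨⟨h1, h2⟩, h3⟩
        have h2' := mem_centralizer_singleton_iff.1 h2
        have h3' := mem_centralizer_singleton_iff.1 h3
        refine mem_inf.2 ⟨mem_inf.2 ⟨h1, mem_centralizer_singleton_iff.2 ?_⟩, h3⟩
        rw [← mul_assoc, h3', mul_assoc, h2', mul_assoc]
    rw [this]

end FourPair

theorem CtxE.odd_U [Finite Ω] (C : CtxE U a b p k) : Odd (Nat.card (U a)) := by
  rw [C.cardU]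
  exact (C.prime.odd_of_ne_two C.p_ne_two).pow

theorem DU.ncomm {G : Type*} [Group G] {M P E K : Subgroup G} {Sw : G → Prop} {q : ℕ}
    (h : DU M P E K Sw q) : ∃ u ∈ P, ∃ v ∈ P, u * v ≠ v * u := by
  by_contra hc
  push Not at hc
  have h3 : P ⊓ centralizer (P : Set G) = P := by
    rw [inf_eq_left]
    intro u hu
    rw [mem_centralizer_iff]
    intro v hv
    exact (hc u hu v hv).symm
  have h4 := h.cardZ
  rw [h3, h.card] at h4
  have h5 : q ^ 3 = q * q * q := by ring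
  have h6 := h.pow.two_le
  rw [h5] at h4
  nlinarith

/-- the exponent of `t` -/
theorem FourPair.exp [FaithfulSMul G Ω] [Finite Ω] (C : CtxE U a b p k)
    (F : FourPair U a b p e s t) : ∃ i, 1 ≤ i ∧ i ≤ 3 ∧
      Nat.card (U a ⊓ centralizer ({t} : Set G) : Subgroup G) = (p ^ e) ^ i ∧
      (i = 3 → ∃ x ∈ U a, ∃ y ∈ U a, x * y ≠ y * x) := by
  have hq : 1 < p ^ e := Nat.one_lt_pow F.e0 C.prime.one_lt
  rcases exp_table C.toCtx C.prime C.cardU F.sD F.tD F.s2 F.comm F.t1 F.cardV hq with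
    ⟨h, -⟩ | ⟨h, -⟩ | ⟨h, hT⟩ | ⟨h, n, -, hT⟩
  · exact ⟨1, le_rfl, by norm_num, by rw [h, pow_one], by norm_num⟩
  · exact ⟨2, by norm_num, by norm_num, h, by norm_num⟩
  · refine ⟨3, by norm_num, le_rfl, h, fun _ => ?_⟩
    obtain ⟨u, hu, v, hv, huv⟩ := hT.ncomm
    exact ⟨u, hu.1, v, hv.1, huv⟩
  · refine ⟨3, by norm_num, le_rfl, h, fun _ => ?_⟩
    obtain ⟨u, hu, v, hv, huv⟩ := hT.ncomm
    exact ⟨u, hu.1, v, hv.1, huv⟩

/-- (T4) for `t` -/
theorem FourPair.zsig [FaithfulSMul G Ω] [Finite G] [Finite Ω] (C : CtxE U a b p k)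
    (F : FourPair U a b p e s t) {i : ℕ} (hi : 2 ≤ i)
    (hn : Nat.card (U a ⊓ centralizer ({t} : Set G) : Subgroup G) = (p ^ e) ^ i) :
    (∃ l, k = e * i * (2 * l + 1)) ∨ (2 * (e * i) ≤ k ∧
      (k ≤ 2 * (e * i) → ∀ x ∈ U a, ∀ y ∈ U a, x * y = y * x)) := by
  have he := F.e0
  have h1 : 2 ≤ e * i := by
    calc 2 ≤ i := hi
      _ = 1 * i := (one_mul i).symm
      _ ≤ e * i := Nat.mul_le_mul_right _ (by omega)
  obtain ⟨r, hr⟩ := exists_ppd (m := 2 * (e * i)) C.prime C.p_ne_two (by omega)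
  rcases odd_or_dvd C.split C.ne C.prime C.p_ne_two C.cardU (X := zpowers t)
    (by rw [zpowers_le]; exact F.tD) (e := e * i) (by omega)
    (by rw [centralizer_zpowers, hn, pow_mul]) hr with h2 | h2
  · exact Or.inl h2
  · right
    obtain ⟨g, -, -, hg⟩ := exists_acts C.split C.ne C.prime C.cardU (by omega) hr h2
    exact ⟨hg.le, fun h3 => (hg.elementary h3).1⟩

theorem odd_mul_aux {x y l : ℕ} (h : x = y * (2 * l + 1)) : x = y ∨ 3 * y ≤ x := by
  rcases Nat.eq_zero_or_pos l with hl | hl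
  · left; rw [h, hl]; ring
  · right
    rw [h, mul_comm 3 y]
    exact Nat.mul_le_mul_left _ (by omega)

/-- **The table**: the exponents of `s`, `t`, `s t` are `(2,2,2)` or `(3,3,3)`. -/
theorem FourPair.table [FaithfulSMul G Ω] [Finite G] [Finite Ω] (C : CtxE U a b p k)
    (F : FourPair U a b p e s t) :
    (k = e * 4 ∧ Nat.card (U a ⊓ centralizer ({s} : Set G) : Subgroup G) = (p ^ e) ^ 2 ∧
      Nat.card (U a ⊓ centralizer ({t} : Set G) : Subgroup G) = (p ^ e) ^ 2 ∧
      Nat.card (U a ⊓ centralizer ({s * t} : Set G) : Subgroup G) = (p ^ e) ^ 2) ∨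
    (k = e * 7 ∧ Nat.card (U a ⊓ centralizer ({s} : Set G) : Subgroup G) = (p ^ e) ^ 3 ∧
      Nat.card (U a ⊓ centralizer ({t} : Set G) : Subgroup G) = (p ^ e) ^ 3 ∧
      Nat.card (U a ⊓ centralizer ({s * t} : Set G) : Subgroup G) = (p ^ e) ^ 3) := by
  have hodd := C.odd_U
  have hs := F.sD
  have ht := F.tD
  have he := F.cardV
  have he0 : 0 < e := Nat.pos_of_ne_zero F.e0
  obtain ⟨j, hj1, hj3, hj, hjn⟩ := F.exp C
  obtain ⟨i, hi1, hi3, hi, hin⟩ := F.symm.exp C
  obtain ⟨l, hl1, hl3, hl, hln⟩ := F.rot.exp C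
  -- the formula
  have hform := four_formula C.split hodd hs ht F.s2 F.t2 F.comm
  rw [C.cardU, he, hi, hj, hl, ← pow_mul, ← pow_mul, ← pow_mul, ← pow_mul, ← pow_add, ← pow_add,
    ← pow_add] at hform
  have hk : k + e * 2 = e * i + e * j + e * l := Nat.pow_right_injective C.prime.two_le hform
  -- `s, t, s t` act nontrivially
  have hne : ∀ y ∈ Dab G a b, y ≠ 1 → ∀ m : ℕ,
      Nat.card (U a ⊓ centralizer ({y} : Set G) : Subgroup G) = (p ^ e) ^ m → e * m ≠ k := by
    intro y hy hy1 m hm hmk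
    rw [← pow_mul, hmk] at hm
    have hfin := C.split.finite_U a
    have h1 : U a ⊓ centralizer ({y} : Set G) = U a :=
      eq_of_le_of_card_ge inf_le_left (by rw [hm, C.cardU])
    apply hy1
    apply FaithfulSMul.eq_of_smul_eq_smul (α := Ω)
    intro c
    rw [one_smul]
    by_cases hca : c = a
    · rw [hca]; exact hy.1
    obtain ⟨v, hv, hvb⟩ := C.split.trans C.ne hca
    have h2 : v ∈ U a ⊓ centralizer ({y} : Set G) := by rw [h1]; exact hv
    have h3 := mem_centralizer_singleton_iff.1 h2.2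
    rw [← hvb, ← mul_smul, ← h3, mul_smul]
    congr 1
    exact hy.2
  have hnt := hne t ht F.t1 j hj
  have hns := hne s hs F.s1 i hi
  have hnst := hne (s * t) ((Dab G a b).mul_mem hs ht) F.st1 l hl
  -- (T4)
  have key : ∀ m : ℕ, 1 ≤ m → m ≤ 3 → e * m ≠ k → (m = 3 → ∃ x ∈ U a, ∃ y ∈ U a, x * y ≠ y * x) →
      (2 ≤ m → (∃ l, k = e * m * (2 * l + 1)) ∨ (2 * (e * m) ≤ k ∧
        (k ≤ 2 * (e * m) → ∀ x ∈ U a, ∀ y ∈ U a, x * y = y * x))) →
      m = 1 ∨ (m = 2 ∧ e * 4 ≤ k) ∨ (m = 3 ∧ e * 6 < k) := by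
    intro m hm1 hm3 hmk hn hz
    have hz' : 2 ≤ m → e * m * 3 ≤ k ∨ (2 * (e * m) ≤ k ∧
        (k ≤ 2 * (e * m) → ∀ x ∈ U a, ∀ y ∈ U a, x * y = y * x)) := by
      intro h2
      rcases hz h2 with ⟨l, hl⟩ | h
      · left
        rcases Nat.eq_zero_or_pos l with hl0 | hl0
        · exfalso
          apply hmk
          rw [hl, hl0]
          ring
        · rw [hl]
          exact Nat.mul_le_mul_left _ (by omega)
      · exact Or.inr h
    interval_cases m
    · exact Or.inl rfl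
    · right; left
      refine ⟨rfl, ?_⟩
      rcases hz' le_rfl with h | ⟨h, -⟩ <;> omega
    · right; right
      refine ⟨rfl, ?_⟩
      rcases hz' (by norm_num) with h | ⟨h, h'⟩
      · omega
      · rcases Nat.lt_or_ge (e * 6) k with h1 | h1
        · exact h1
        · exfalso
          obtain ⟨x, hx, y, hy, hxy⟩ := hn rfl
          exact hxy (h' (by omega) x hx y hy)
  have kt := key j hj1 hj3 hnt hjn fun h => F.zsig C h hj
  have ks := key i hi1 hi3 hns hin fun h => F.symm.zsig C h hi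
  have kst := key l hl1 hl3 hnst hln fun h => F.rot.zsig C h hl
  rcases ks with rfl | ⟨rfl, h1⟩ | ⟨rfl, h1⟩ <;> rcases kt with rfl | ⟨rfl, h2⟩ | ⟨rfl, h2⟩ <;>
    rcases kst with rfl | ⟨rfl, h3⟩ | ⟨rfl, h3⟩ <;> omega

/-- exponent one does not occur -/
theorem FourPair.no_one [FaithfulSMul G Ω] [Finite G] [Finite Ω] (C : CtxE U a b p k)
    (F : FourPair U a b p e s t) :
    Nat.card (U a ⊓ centralizer ({t} : Set G) : Subgroup G) ≠ p ^ e := by
  have he0 : 0 < e := Nat.pos_of_ne_zero F.e0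
  intro h
  rcases F.table C with ⟨-, -, h1, -⟩ | ⟨-, -, h1, -⟩ <;>
  · rw [h, ← pow_mul] at h1
    have h2 := Nat.pow_right_injective C.prime.two_le h1
    omega

end

/-- a pair of commuting involutions centralising an element `≠ 1` of `U a` -/
theorem CtxE.fourPair.{v} {G Ω : Type v} [Group G] [MulAction G Ω] {U : Ω → Subgroup G} {a b : Ω}
    {p k : ℕ} (C : CtxE U a b p k) {s t : G} (hs : s ∈ Dab G a b)
    (ht : t ∈ Dab G a b) (hs1 : s ≠ 1) (ht1 : t ≠ 1) (hst : s ≠ t) (hs2 : s * s = 1)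
    (ht2 : t * t = 1) (hc : s * t = t * s) {u : G} (hu : u ∈ U a) (hsu : s * u = u * s)
    (htu : t * u = u * t) (hu1 : u ≠ 1) : ∃ e, FourPair U a b p e s t := by
  have hd : Nat.card (U a ⊓ centralizer ({t} : Set G) ⊓ centralizer ({s} : Set G) :
      Subgroup G) ∣ p ^ k := by
    rw [← C.cardU]
    exact card_dvd_of_le (inf_le_left.trans inf_le_left)
  obtain ⟨e, -, he⟩ := (Nat.dvd_prime_pow C.prime).1 hd
  have hst1 : s * t ≠ 1 := by
    intro h1
    apply hst
    calc s = s * (t * t) := by rw [ht2, mul_one]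
      _ = s * t * t := by rw [mul_assoc]
      _ = t := by rw [h1, one_mul]
  exact ⟨e,
    { sD := hs, tD := ht, s2 := hs2, t2 := ht2, comm := hc, s1 := hs1, t1 := ht1, st1 := hst1
      e0 := by
        rintro rfl
        rw [pow_zero] at he
        have h1 := card_eq_one.1 he
        apply hu1
        have h2 : u ∈ U a ⊓ centralizer ({t} : Set G) ⊓ centralizer ({s} : Set G) :=
          mem_inf.2 ⟨mem_inf.2 ⟨hu, mem_centralizer_singleton_iff.2 htu.symm⟩,
            mem_centralizer_singleton_iff.2 hsu.symm⟩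
        rw [h1] at h2
        exact mem_bot.1 h2
      cardV := he }⟩

/-- **GoalFour from the kills of (2,2,2), (3,3,3).** -/
theorem goalFour_of.{v} (h222 : KillExp.{v} 2 2 2) (h333 : KillExp.{v} 3 3 3) : GoalFour.{v} := by
  intro G Ω _ _ _ _ _ U a b p k C s hs t ht hs1 ht1 hst hs2 ht2 hc u hu hsu htu
  by_contra hu1
  obtain ⟨e, F⟩ := C.fourPair hs ht hs1 ht1 hst hs2 ht2 hc hu hsu htu hu1
  rcases F.table C with ⟨h1, h2, h3, h4⟩ | ⟨h1, h2, h3, h4⟩
  · exact h222 G Ω U a b p k e s t C F h1 h2 h3 h4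
  · exact h333 G Ω U a b p k e s t C F h1 h2 h3 h4

end Cfsg.Agent.HKS
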