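import Mathlib
import Cfsg.Agent.HKS.ModPSplit
import Cfsg.Agent.HKS.PP1

/-!
# Lines and the O'Nan configuration

`SSplit U`, `Z x ≤ U x` a family with `g Z_x g⁻¹ = Z_{g x}`. The line through `x ≠ y` is `{x} ∪ Z_x y`.

* `onan` : if two points of the line through `a, b` determine it, then an element `x c y` (`x, y ∈ Z_a`,
  `1 ≠ c ∈ Z_b`) fixes points of the line through `a, b` only;
* `swaps_invol` : if `genFix U X ⊓ G_ab` has no involutions, then all elements of `genFix U X`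
  interchanging `a` and `b` are involutions without fixed points on `Fix X`.
-/

set_option autoImplicit false

namespace Cfsg.Agent.HKS.ONanLine

open Subgroup MulAction SSplit PP1

variable {G Ω : Type*} [Group G] [MulAction G Ω] {U : Ω → Subgroup G}

/-- the line through `x` and `y` -/
def Ln (Z : Ω → Subgroup G) (x y : Ω) : Set Ω := {c | c = x ∨ ∃ u ∈ Z x, u • y = c}

theorem left_mem (Z : Ω → Subgroup G) (x y : Ω) : x ∈ Ln Z x y := Or.inl rfl

theorem right_mem (Z : Ω → Subgroup G) (x y : Ω) : y ∈ Ln Z x y :=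
  Or.inr ⟨1, one_mem _, one_smul _ _⟩

theorem smul_mem {Z : Ω → Subgroup G} (hZ : ∀ (g : G) (c : Ω), ∀ u ∈ Z c, g * u * g⁻¹ ∈ Z (g • c))
    (g : G) {x y c : Ω} (hc : c ∈ Ln Z x y) : g • c ∈ Ln Z (g • x) (g • y) := by
  rcases hc with rfl | ⟨u, hu, rfl⟩
  · exact left_mem _ _ _
  · refine Or.inr ⟨g * u * g⁻¹, hZ g x u hu, ?_⟩
    rw [mul_smul, mul_smul, inv_smul_smul]

theorem smul_mem_iff {Z : Ω → Subgroup G}
    (hZ : ∀ (g : G) (c : Ω), ∀ u ∈ Z c, g * u * g⁻¹ ∈ Z (g • c)) (g : G) {x y c : Ω} :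
    g • c ∈ Ln Z (g • x) (g • y) ↔ c ∈ Ln Z x y := by
  refine ⟨fun h => ?_, smul_mem hZ g⟩
  have := smul_mem hZ g⁻¹ h
  rwa [inv_smul_smul, inv_smul_smul, inv_smul_smul] at this

/-- Two points determine their line. -/
theorem line_eq (h : SSplit U) {Z : Ω → Subgroup G}
    (hZ : ∀ (g : G) (c : Ω), ∀ u ∈ Z c, g * u * g⁻¹ ∈ Z (g • c)) {a b : Ω} (hab : b ≠ a)
    (hl : ∀ x ∈ Ln Z a b, ∀ y ∈ Ln Z a b, x ≠ y → Ln Z x y = Ln Z a b)
    {c d x y : Ω} (hcd : c ≠ d) (hx : x ∈ Ln Z c d) (hy : y ∈ Ln Z c d) (hxy : x ≠ y) :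
    Ln Z x y = Ln Z c d := by
  obtain ⟨g, hg1, hg2⟩ := h.two hcd hab.symm
  have h1 := smul_mem hZ g hx
  have h2 := smul_mem hZ g hy
  rw [hg1, hg2] at h1 h2
  have h3 := hl _ h1 _ h2 fun e => hxy (MulAction.injective g e)
  ext e
  rw [← smul_mem_iff hZ g, h3, ← hg1, ← hg2, smul_mem_iff hZ g]

/-- **No O'Nan configurations.** -/
theorem onan (h : SSplit U) {Z : Ω → Subgroup G} (hZU : ∀ c, Z c ≤ U c)
    (hZ : ∀ (g : G) (c : Ω), ∀ u ∈ Z c, g * u * g⁻¹ ∈ Z (g • c)) {a b : Ω} (hab : b ≠ a)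
    (hl : ∀ x ∈ Ln Z a b, ∀ y ∈ Ln Z a b, x ≠ y → Ln Z x y = Ln Z a b)
    {x y c : G} (hx : x ∈ Z a) (hy : y ∈ Z a) (hc : c ∈ Z b) (hc1 : c ≠ 1) {α : Ω}
    (hα : (x * c * y) • α = α) : α ∈ Ln Z a b := by
  by_cases hαa : α = a
  · rw [hαa]; exact left_mem _ _ _
  have h1 : y • α ∈ Ln Z a α := Or.inr ⟨y, hy, rfl⟩
  have h2 : c • y • α ∈ Ln Z a α := by
    refine Or.inr ⟨x⁻¹, inv_mem hx, ?_⟩
    rw [inv_smul_eq_iff, ← mul_smul, ← mul_smul]
    exact hα.symm
  by_cases hβ : y • α = b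
  · right
    refine ⟨y⁻¹, inv_mem hy, ?_⟩
    rw [inv_smul_eq_iff, hβ]
  have h3 : y • α ≠ c • y • α := fun e => hc1 (h.free hβ (hZU b hc) e.symm)
  have h4 : Ln Z (y • α) (c • y • α) = Ln Z a α := line_eq h hZ hab hl (Ne.symm hαa) h1 h2 h3
  have h5 : Ln Z (y • α) (c • y • α) = Ln Z b (y • α) :=
    line_eq h hZ hab hl (Ne.symm hβ) (right_mem _ _ _) (Or.inr ⟨c, hc, rfl⟩) h3
  have h6 : b ∈ Ln Z a α := by
    rw [← h4, h5]
    exact left_mem _ _ _
  have h7 : Ln Z a b = Ln Z a α :=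
    line_eq h hZ hab hl (Ne.symm hαa) (left_mem _ _ _) h6 hab.symm
  rw [h7]
  exact right_mem _ _ _

/-! ### The group `genFix U X` on the fixed points of `X` -/

/-- the fixed points of `X` as a `genFix U X`-set -/
def fixM (U : Ω → Subgroup G) (X : Subgroup G) : SubMulAction (genFix U X) Ω where
  carrier := {c | ∀ x ∈ X, x • c = c}
  smul_mem' := by
    rintro ⟨g, hg⟩ c hc x hx
    have h1 := genFix_le_centralizer X hg
    change x • g • c = g • c
    rw [← mul_smul, mem_centralizer_iff.1 h1 x hx, mul_smul, hc x hx]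

variable {X : Subgroup G} {a b : Ω}

theorem mem_fixM {c : Ω} : c ∈ fixM U X ↔ ∀ x ∈ X, x • c = c := Iff.rfl

theorem subM (h : SSplit U) (h3 : ∀ a b : fixM U X, ∃ c : fixM U X, c ≠ a ∧ c ≠ b) :
    SSplit (G := genFix U X) (Ω := fixM U X) (fun c => (U (c : Ω)).subgroupOf (genFix U X)) :=
  h.sub _ _ h3 fun _ hc _ hd hcd _ hu hud =>
    mem_genFix hc hu (h.comm_of_fixSub hc hd hcd hu hud)

theorem gen_fixM (U : Ω → Subgroup G) (X : Subgroup G) :
    (⨆ c : fixM U X, (U (c : Ω)).subgroupOf (genFix U X)) = ⊤ := by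
  apply Subgroup.map_injective (genFix U X).subtype_injective
  rw [Subgroup.map_iSup, ← MonoidHom.range_eq_map, range_subtype]
  apply le_antisymm
  · rw [iSup_le_iff]
    rintro c _ ⟨u, -, rfl⟩
    exact u.2
  · apply genFix_le
    intro c hc u hu hu'
    refine mem_iSup_of_mem (⟨c, hc⟩ : fixM U X) ?_
    exact ⟨⟨u, mem_genFix hc hu hu'⟩, mem_subgroupOf.2 hu, rfl⟩

theorem card_fixM (h : SSplit U) [Finite Ω] (hab : b ≠ a) (ha : ∀ x ∈ X, x • a = a)
    (hb : ∀ x ∈ X, x • b = b) :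
    Nat.card (fixM U X) = Nat.card (U a ⊓ centralizer (X : Set G) : Subgroup G) + 1 := by
  rw [← h.card_fixSub hab ha hb]
  rfl

theorem card_U (U : Ω → Subgroup G) (ha : ∀ x ∈ X, x • a = a) :
    Nat.card ((U a).subgroupOf (genFix U X)) =
      Nat.card (U a ⊓ centralizer (X : Set G) : Subgroup G) := by
  apply Nat.card_congr
  exact
    { toFun := fun u => ⟨u.1.1, mem_subgroupOf.1 u.2, genFix_le_centralizer X u.1.2⟩
      invFun := fun u => ⟨⟨u.1, mem_genFix ha u.2.1 u.2.2⟩, mem_subgroupOf.2 u.2.1⟩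
      left_inv := fun _ => rfl
      right_inv := fun _ => rfl }

theorem swaps_invol (h : SSplit U) [Finite G] [Finite Ω] (hab : b ≠ a)
    (ha : ∀ x ∈ X, x • a = a) (hb : ∀ x ∈ X, x • b = b) {p e : ℕ} (hp : p.Prime) (hp2 : p ≠ 2)
    (he : e ≠ 0) (hN : Nat.card (U a ⊓ centralizer (X : Set G) : Subgroup G) = p ^ e)
    (hno : ∀ y ∈ genFix U X, y ∈ Dab G a b → y * y = 1 → y = 1) :
    ∀ m ∈ genFix U X, Swaps m a b → m * m = 1 ∧ ∀ c : Ω, (∀ x ∈ X, x • c = c) → m • c ≠ c := by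
  classical
  have hcard : Nat.card (fixM U X) = p ^ e + 1 := by rw [card_fixM h hab ha hb, hN]
  have hpe : 2 < p ^ e := by
    have h1 : 2 < p := lt_of_le_of_ne hp.two_le (Ne.symm hp2)
    calc 2 < p := h1
      _ = p ^ 1 := (pow_one p).symm
      _ ≤ p ^ e := Nat.pow_le_pow_right hp.pos (Nat.pos_of_ne_zero he)
  have hfin : Finite (fixM U X) := Subtype.finite
  have hS := subM (U := U) (X := X) h (three_of_card (by rw [hcard]; omega))
  set a' : fixM U X := ⟨a, ha⟩ with ha'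
  set b' : fixM U X := ⟨b, hb⟩ with hb'
  have hab' : b' ≠ a' := fun e => hab (congrArg Subtype.val e)
  have hNM : Nat.card ((U (a' : Ω)).subgroupOf (genFix U X)) = p ^ e := by
    rw [← hN]; exact card_U U ha
  -- `M ⊓ Dab` has no involutions
  have hno' : ∀ y : genFix U X, y ∈ Dab (genFix U X) a' b' → y * y = 1 → y = 1 := by
    intro y hy hy2
    apply Subtype.ext
    exact hno y y.2 ⟨congrArg Subtype.val hy.1, congrArg Subtype.val hy.2⟩
      (congrArg Subtype.val hy2)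
  have hodd : Odd (Nat.card (Dab (genFix U X) a' b')) := by
    rw [← Nat.not_even_iff_odd]
    intro hev
    have := Fact.mk Nat.prime_two
    obtain ⟨y, hy⟩ := exists_prime_orderOf_dvd_card' 2 hev.two_dvd
    have h1 : y * y = 1 := by
      have := pow_orderOf_eq_one y
      rwa [hy, pow_two] at this
    have h2 := hno' y y.2 (congrArg Subtype.val h1)
    have h3 : y = 1 := Subtype.ext h2
    rw [h3, orderOf_one] at hy
    omega
  obtain ⟨w, hw⟩ := hS.exists_swaps hab'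
  -- an involution interchanging `a` and `b`
  obtain ⟨w', hw', hww⟩ : ∃ w' : genFix U X, Swaps w' a' b' ∧ w' * w' = 1 := by
    have h1 : w * w ∈ Dab (genFix U X) a' b' := hw.mul hw
    obtain ⟨j, hj⟩ := hodd
    refine ⟨w * (w * w) ^ j, hw.mul_D (pow_mem h1 j), ?_⟩
    have h2 : (w * w) ^ (Nat.card (Dab (genFix U X) a' b')) = 1 := by
      have := pow_card_eq_one' (x := (⟨w * w, h1⟩ : Dab (genFix U X) a' b'))
      exact congrArg Subtype.val this
    rw [hj] at h2
    have h3 : w * (w * w) ^ j * (w * (w * w) ^ j) = (w * w) ^ (2 * j + 1) := by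
      have h4 : w * (w * w) ^ j = w ^ (2 * j + 1) := by
        rw [← pow_two, ← pow_mul, ← pow_succ']
      rw [h4, ← pow_add, ← pow_two w, ← pow_mul]
      congr 1
      omega
    rw [h3, h2]
  have hfpf : ∀ c : fixM U X, w' • c ≠ c := by
    intro c hc
    -- the number of fixed points is even
    have h2 := Fact.mk Nat.prime_two
    obtain ⟨d, hd, hdc⟩ : ∃ d : fixM U X, w' • d = d ∧ d ≠ c := by
      by_contra hcon
      push Not at hcon
      have hP : IsPGroup 2 (zpowers w') := by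
        refine IsPGroup.of_card (n := 1) ?_
        rw [Nat.card_zpowers, pow_one]
        apply orderOf_eq_prime (by rw [pow_two]; exact hww)
        rintro rfl
        exact hab' (by have := hw'.1; rw [one_smul] at this; exact this.symm)
      have h1 := hP.card_modEq_card_fixedPoints (fixM U X)
      have h3 : Nat.card (fixedPoints (zpowers w') (fixM U X)) = 1 := by
        rw [Nat.card_eq_one_iff_unique]
        have hfix : ∀ x : fixM U X, x ∈ fixedPoints (zpowers w') (fixM U X) ↔ w' • x = x := by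
          intro x
          constructor
          · intro hx
            exact hx ⟨w', mem_zpowers w'⟩
          · rintro hx ⟨y, hy⟩
            have h4 : zpowers w' ≤ stabilizer (genFix U X) x := zpowers_le.2 hx
            exact h4 hy
        refine ⟨⟨fun x y => ?_⟩, ⟨⟨c, (hfix c).2 hc⟩⟩⟩
        have h5 : ∀ x : fixedPoints (zpowers w') (fixM U X), (x : fixM U X) = c := by
          intro x
          by_contra hx
          exact hx (hcon x ((hfix x).1 x.2))
        exact Subtype.ext ((h5 x).trans (h5 y).symm)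
      rw [h3, hcard, Nat.ModEq] at h1
      have h4 : Odd (p ^ e) := (hp.odd_of_ne_two hp2).pow
      obtain ⟨j, hj⟩ := h4
      omega
    obtain ⟨g, hg1, hg2⟩ := hS.two (Ne.symm hdc) hab'.symm
    have h5 : g * w' * g⁻¹ ∈ Dab (genFix U X) a' b' := by
      constructor
      · change (g * w' * g⁻¹) • a' = a'
        rw [← hg1, mul_smul, inv_smul_smul, mul_smul, hc]
      · change (g * w' * g⁻¹) • b' = b'
        rw [← hg2, mul_smul, inv_smul_smul, mul_smul, hd]
    have h6 := hno' _ h5 (by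
      calc g * w' * g⁻¹ * (g * w' * g⁻¹) = g * (w' * w') * g⁻¹ := by group
        _ = 1 := by rw [hww]; group)
    have h7 : w' = 1 := by
      calc w' = g⁻¹ * (g * w' * g⁻¹) * g := by group
        _ = 1 := by rw [h6]; group
    rw [h7] at hw'
    exact hab' (by have := hw'.1; rw [one_smul] at this; exact this.symm)
  obtain ⟨hT1, hT2, -⟩ := hS.fpf (gen_fixM U X) hab' hp hp2 hNM hww hfpf
  intro m hm hsm
  have hsm' : Swaps (⟨m, hm⟩ : genFix U X) a' b' := ⟨Subtype.ext hsm.1, Subtype.ext hsm.2⟩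
  refine ⟨congrArg Subtype.val (hT2 _ hsm'), fun c hc hmc => ?_⟩
  obtain ⟨g, hg⟩ := isConj_iff.1 (hT1 _ hsm')
  apply hfpf (g⁻¹ • ⟨c, hc⟩)
  rw [eq_inv_smul_iff, ← mul_smul, ← mul_smul, hg]
  exact Subtype.ext hmc

end Cfsg.Agent.HKS.ONanLine
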