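import Mathlib
import Cfsg.Agent.HKS.ZsigT4

/-!
# The table of a four-group: numerical part

`n x := |C_{U a}(x)|`. Let `x, y, z` be non-identity elements of `G_ab`, `n x, n y, n z ∈ {q, q², q³}`
and `|U a| q² = n x n y n z`. By (T4) only `(q², q², q²)`, `(q², q³, q³)` (up to order) and
`(q³, q³, q³)` are possible; in the first two cases `U a` is elementary abelian.
-/

set_option autoImplicit false

namespace Cfsg.Agent.HKS.TableNum

open Subgroup MulAction ZsigT4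

variable {G Ω : Type*} [Group G] [MulAction G Ω] {U : Ω → Subgroup G} {a b : Ω}

/-- the number of elements of `U a` commuting with `x` -/
noncomputable abbrev n (U : Ω → Subgroup G) (a : Ω) (x : G) : ℕ :=
  Nat.card (U a ⊓ centralizer ({x} : Set G) : Subgroup G)

theorem centralizer_zpowers (x : G) :
    centralizer ((zpowers x : Subgroup G) : Set G) = centralizer ({x} : Set G) := by
  rw [zpowers_eq_closure, centralizer_closure]

theorem n_lt [Finite G] [FaithfulSMul G Ω] (h : SSplit U) (hab : b ≠ a) {x : G}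
    (hx : x ∈ Dab G a b) (hx1 : x ≠ 1) : n U a x < Nat.card (U a) := by
  refine lt_of_le_of_ne (card_le_of_le inf_le_left) fun hc => hx1 ?_
  have h1 : U a ⊓ centralizer ({x} : Set G) = U a :=
    eq_of_le_of_card_ge inf_le_left hc.ge
  apply FaithfulSMul.eq_of_smul_eq_smul (α := Ω)
  intro c
  rw [one_smul]
  by_cases hca : c = a
  · rw [hca]; exact hx.1
  · obtain ⟨u, hu, rfl⟩ := h.trans hab hca
    have h2 : u ∈ U a ⊓ centralizer ({x} : Set G) := by rw [h1]; exact hu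
    have h3 : u * x = x * u := mem_centralizer_singleton_iff.1 h2.2
    rw [← mul_smul, ← h3, mul_smul, hx.2]

/-- (T4) in the form used here. -/
theorem t4 [Finite G] [Finite Ω] [FaithfulSMul G Ω] (h : SSplit U) (hab : b ≠ a) {p k : ℕ}
    (hp : p.Prime) (hp2 : p ≠ 2) (hU : Nat.card (U a) = p ^ k) {x : G} (hx : x ∈ Dab G a b) {e : ℕ}
    (he : 2 ≤ e) (hn : n U a x = p ^ e) : (∃ l, k = e * (2 * l + 1)) ∨
      ∃ r, ∃ g ∈ Dab G a b, orderOf g = r ∧ Acts (U a) p k (2 * e) r g := by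
  obtain ⟨r, hr⟩ := exists_ppd (m := 2 * e) hp hp2 (by omega)
  have h1 := odd_or_dvd h hab hp hp2 hU (X := zpowers x) (by rwa [zpowers_le]) (e := e) (by omega)
    (by rw [centralizer_zpowers]; exact hn) hr
  rcases h1 with h1 | h1
  · exact Or.inl h1
  · obtain ⟨g, hg, ho, ha⟩ := exists_acts h hab hp hU (by omega) hr h1
    exact Or.inr ⟨r, g, hg, ho, ha⟩

/-- `U a` is elementary abelian. -/
def Elem (U : Ω → Subgroup G) (a : Ω) (p : ℕ) : Prop :=
  (∀ x ∈ U a, ∀ y ∈ U a, x * y = y * x) ∧ ∀ x ∈ U a, x ^ p = 1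

theorem main [Finite G] [Finite Ω] [FaithfulSMul G Ω] (h : SSplit U) (hab : b ≠ a) {p k : ℕ}
    (hp : p.Prime) (hp2 : p ≠ 2) (hU : Nat.card (U a) = p ^ k) {x y z : G} (hx : x ∈ Dab G a b)
    (hy : y ∈ Dab G a b) (hz : z ∈ Dab G a b) (hx1 : x ≠ 1) (hy1 : y ≠ 1) (hz1 : z ≠ 1) {q : ℕ}
    (hq : 1 < q) (ex : n U a x = q ∨ n U a x = q ^ 2 ∨ n U a x = q ^ 3)
    (ey : n U a y = q ∨ n U a y = q ^ 2 ∨ n U a y = q ^ 3)
    (ez : n U a z = q ∨ n U a z = q ^ 2 ∨ n U a z = q ^ 3)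
    (hV : Nat.card (U a) * q ^ 2 = n U a x * n U a y * n U a z) :
    (n U a x = q ^ 2 ∧ n U a y = q ^ 2 ∧ n U a z = q ^ 2 ∧ Nat.card (U a) = q ^ 4 ∧ Elem U a p) ∨
    ((n U a x = q ^ 3 ∨ n U a y = q ^ 3) ∧ (n U a x = q ^ 3 ∨ n U a z = q ^ 3) ∧
      (n U a y = q ^ 3 ∨ n U a z = q ^ 3) ∧ Nat.card (U a) = q ^ 6 ∧ Elem U a p) ∨
    (n U a x = q ^ 3 ∧ n U a y = q ^ 3 ∧ n U a z = q ^ 3 ∧ Nat.card (U a) = q ^ 7 ∧
      ∃ c r, q = p ^ c ∧ k = 7 * c ∧ ∃ g ∈ Dab G a b, orderOf g = r ∧ Acts (U a) p k (6 * c) r g) := by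
  have hex : ∀ w : G, (n U a w = q ∨ n U a w = q ^ 2 ∨ n U a w = q ^ 3) →
      ∃ i, 1 ≤ i ∧ i ≤ 3 ∧ n U a w = q ^ i := by
    rintro w (h1 | h1 | h1)
    · exact ⟨1, le_rfl, by norm_num, by rw [h1, pow_one]⟩
    · exact ⟨2, by norm_num, by norm_num, h1⟩
    · exact ⟨3, by norm_num, le_rfl, h1⟩
  obtain ⟨i, hi1, hi3, hni⟩ := hex x ex
  obtain ⟨j, hj1, hj3, hnj⟩ := hex y ey
  obtain ⟨l, hl1, hl3, hnl⟩ := hex z ez
  obtain ⟨c, -, hc⟩ : ∃ c ≤ k, q = p ^ c := by
    apply (Nat.dvd_prime_pow hp).1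
    refine dvd_trans ?_ (hU ▸ card_dvd_of_le (inf_le_left : U a ⊓ centralizer ({x} : Set G) ≤ U a))
    have : q ∣ q ^ i := dvd_pow_self q (by omega)
    rwa [← hni] at this
  have hc1 : 1 ≤ c := by
    rcases Nat.eq_zero_or_pos c with h0 | h0
    · rw [h0, pow_zero] at hc
      omega
    · exact h0
  have hk : k + 2 * c = c * (i + j + l) := by
    have h1 : p ^ (k + 2 * c) = p ^ (c * (i + j + l)) := by
      rw [pow_add, ← hU, mul_comm 2 c, pow_mul, pow_mul, ← hc, hV, hni, hnj, hnl, pow_add, pow_add]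
    exact Nat.pow_right_injective hp.two_le h1
  have hlt : ∀ w ∈ Dab G a b, w ≠ 1 → ∀ m, n U a w = q ^ m → c * m < k := by
    intro w hw hw1 m hm
    have h1 := n_lt h hab hw hw1
    rw [hm, hU, hc, ← pow_mul] at h1
    exact (Nat.pow_lt_pow_iff_right hp.one_lt).1 h1
  have hix := hlt x hx hx1 i hni
  have hjy := hlt y hy hy1 j hnj
  have hlz := hlt z hz hz1 l hnl
  have ht : ∀ w ∈ Dab G a b, ∀ m, 2 ≤ m → n U a w = q ^ m → (∃ v, k = c * m * (2 * v + 1)) ∨
      ∃ r, ∃ g ∈ Dab G a b, orderOf g = r ∧ Acts (U a) p k (2 * (c * m)) r g := by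
    intro w hw m hm hnw
    refine t4 h hab hp hp2 hU hw (e := c * m) ?_ (by rw [hnw, hc, pow_mul])
    calc 2 ≤ m := hm
      _ = 1 * m := (one_mul m).symm
      _ ≤ c * m := Nat.mul_le_mul_right m hc1
  have hno : ∀ (m v w : ℕ), k = c * m → k = c * w * (2 * v + 1) → m = w * (2 * v + 1) := by
    intro m v w h1 h2
    rw [h1, mul_assoc] at h2
    exact Nat.eq_of_mul_eq_mul_left hc1 h2
  have hkk : ∀ m, m + 2 = i + j + l → k = c * m := by
    intro m hm
    rw [← hm, mul_add] at hk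
    omega
  have hq6 : ∀ m, k = c * m → Nat.card (U a) = q ^ m := by
    intro m hm
    rw [hU, hm, hc, pow_mul]
  have key : ∀ w ∈ Dab G a b, ∀ m, 2 ≤ m → n U a w = q ^ m → ∀ M, k = c * M →
      (∀ v, M ≠ m * (2 * v + 1)) → ∃ r, ∃ g ∈ Dab G a b, orderOf g = r ∧
        Acts (U a) p k (2 * (c * m)) r g := by
    intro w hw m hm hnw M hM hne
    rcases ht w hw m hm hnw with ⟨v, hv⟩ | h1
    · exact absurd (hno M v m hM hv) (hne v)
    · exact h1
  have hle : ∀ {m M r : ℕ} {g : G}, k = c * M → Acts (U a) p k (2 * (c * m)) r g → 2 * m ≤ M := by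
    intro m M r g hM hg
    have h1 := hg.le
    rw [hM, mul_left_comm] at h1
    exact Nat.le_of_mul_le_mul_left h1 hc1
  have hel : ∀ {m M r : ℕ} {g : G}, k = c * M → Acts (U a) p k (2 * (c * m)) r g → M ≤ 2 * m →
      Elem U a p := by
    intro m M r g hM hg hmM
    apply hg.elementary
    rw [hM, mul_left_comm]
    exact Nat.mul_le_mul_left c hmM
  -- the sum of any two exponents is at least three
  have h_lt : ∀ m, k = c * m → i < m ∧ j < m ∧ l < m := by
    intro m hm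
    rw [hm] at hix hjy hlz
    exact ⟨Nat.lt_of_mul_lt_mul_left hix, Nat.lt_of_mul_lt_mul_left hjy,
      Nat.lt_of_mul_lt_mul_left hlz⟩
  obtain ⟨M, hM⟩ : ∃ M, M + 2 = i + j + l := ⟨i + j + l - 2, by omega⟩
  have hkM := hkk M hM
  obtain ⟨hiM, hjM, hlM⟩ := h_lt M hkM
  have kx := fun h2 h3 => key x hx i h2 hni M hkM h3
  have ky := fun h2 h3 => key y hy j h2 hnj M hkM h3
  have kz := fun h2 h3 => key z hz l h2 hnl M hkM h3
  have hUM := hq6 M hkM
  interval_cases i <;> interval_cases j <;> interval_cases l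
  all_goals first
  | (exfalso; omega)
  | (exfalso
     obtain ⟨r, g, hg, ho, ha⟩ := kx (by norm_num) (by intro v; omega)
     have := hle hkM ha
     omega)
  | (exfalso
     obtain ⟨r, g, hg, ho, ha⟩ := ky (by norm_num) (by intro v; omega)
     have := hle hkM ha
     omega)
  | (exfalso
     obtain ⟨r, g, hg, ho, ha⟩ := kz (by norm_num) (by intro v; omega)
     have := hle hkM ha
     omega)
  | (have hM4 : M = 4 := by omega
     obtain ⟨r, g, hg, ho, ha⟩ := kx (by norm_num) (by intro v; omega)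
     exact Or.inl ⟨hni, hnj, hnl, by rw [hUM, hM4], hel hkM ha (by omega)⟩)
  | (have hM6 : M = 6 := by omega
     obtain ⟨r, g, hg, ho, ha⟩ : ∃ r, ∃ g ∈ Dab G a b, orderOf g = r ∧
         Acts (U a) p k (2 * (c * 3)) r g := by
       first
       | exact kx (by norm_num) (by intro v; omega)
       | exact ky (by norm_num) (by intro v; omega)
     refine Or.inr (Or.inl ⟨?_, ?_, ?_, by rw [hUM, hM6], hel hkM ha (by omega)⟩)
     · first | exact Or.inl hni | exact Or.inr hnj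
     · first | exact Or.inl hni | exact Or.inr hnl
     · first | exact Or.inl hnj | exact Or.inr hnl)
  | (have hM7 : M = 7 := by omega
     obtain ⟨r, g, hg, ho, ha⟩ := kx (by norm_num) (by intro v; omega)
     have h6 : 2 * (c * 3) = 6 * c := by ring
     rw [h6] at ha
     exact Or.inr (Or.inr ⟨hni, hnj, hnl, by rw [hUM, hM7], c, r, hc, by rw [hkM, hM7, mul_comm],
       g, hg, ho, ha⟩))

end Cfsg.Agent.HKS.TableNum
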