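import Mathlib
import Cfsg.Agent.HKS.ONanLine
import Cfsg.Agent.HKS.FourAssembly
import Cfsg.Agent.HKS.TableNum

/-!
# The exponents (3,3,3), last part

`Kill333.core` : the pair `s, t` with `|U a| = q⁷`, `|C(s)| = |C(t)| = q³`, `[U a, U a] = C(⟨s, t⟩)`
of order `q`, does not exist.
-/

set_option autoImplicit false

namespace Cfsg.Agent.HKS.Kill333

open Subgroup MulAction SSplit PP1 ONanLine ZsigT4

universe v

variable {G Ω : Type v} [Group G] [MulAction G Ω] {U : Ω → Subgroup G} {a b : Ω}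

/-- the commutator subgroups are permuted -/
theorem conj_commutator (h : SSplit U) (g : G) (c : Ω) :
    ∀ u ∈ (⁅U c, U c⁆ : Subgroup G), g * u * g⁻¹ ∈ (⁅U (g • c), U (g • c)⁆ : Subgroup G) := by
  have h1 : (⁅U c, U c⁆ : Subgroup G) ≤
      (⁅U (g • c), U (g • c)⁆ : Subgroup G).comap (MulAut.conj g).toMonoidHom := by
    rw [commutator_le]
    intro x hx y hy
    change g * (x * y * x⁻¹ * y⁻¹) * g⁻¹ ∈ (⁅U (g • c), U (g • c)⁆ : Subgroup G)
    have e : g * (x * y * x⁻¹ * y⁻¹) * g⁻¹ =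
        (g * x * g⁻¹) * (g * y * g⁻¹) * (g * x * g⁻¹)⁻¹ * (g * y * g⁻¹)⁻¹ := by group
    rw [e]
    exact commutator_mem_commutator (h.conj g hx) (h.conj g hy)
  exact fun u hu => h1 hu

/-- the line through two fixed points of `X` -/
theorem line_fix (h : SSplit U) {Z : Ω → Subgroup G} {X : Subgroup G} {x y : Ω}
    (hx : ∀ k ∈ X, k • x = x) (hy : ∀ k ∈ X, k • y = y) (hxy : y ≠ x)
    (hZ : Z x = U x ⊓ centralizer (X : Set G)) : Ln Z x y = {c | ∀ k ∈ X, k • c = c} := by
  ext c
  constructor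
  · rintro (rfl | ⟨u, hu, rfl⟩)
    · exact hx
    · rw [hZ] at hu
      intro k hk
      rw [← mul_smul, mem_centralizer_iff.1 hu.2 k hk, mul_smul, hy k hk]
  · intro hc
    by_cases hcx : c = x
    · exact Or.inl hcx
    · obtain ⟨u, hu, hub⟩ := h.trans hxy hcx
      refine Or.inr ⟨u, ?_, hub⟩
      rw [hZ]
      exact ⟨hu, h.comm_of_fixSub hx hy hxy hu (by rw [hub]; exact hc)⟩

/-- the parts of the decomposition of an element of `C_{U b}(X)`. -/
theorem mu_parts (h : SSplit U) (hab : b ≠ a) {X : Subgroup G}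
    (hX : X ≤ Dab G a b) {u : G} (hu : u ∈ U b) (hu1 : u ≠ 1)
    (huX : u ∈ centralizer (X : Set G)) : ∃ x ∈ U a ⊓ centralizer (X : Set G),
      ∃ y ∈ U a ⊓ centralizer (X : Set G), Swaps (x * u * y) a b := by
  obtain ⟨hs, x, hx, y, hy, -, -, he⟩ := h.mu_spec hab hu hu1
  have hc : ∀ k ∈ X, k * x = x * k ∧ k * y = y * k := by
    intro k hk
    have hkD := hX hk
    have h0 : k * u = u * k := mem_centralizer_iff.1 huX k hk
    have hm := h.mu_comm hab hu hu1 hkD h0
    have h1 : (k * x * k⁻¹) * mu U a b u * (k * y * k⁻¹) = x * mu U a b u * y := by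
      calc (k * x * k⁻¹) * mu U a b u * (k * y * k⁻¹)
          = k * x * k⁻¹ * (mu U a b u * k) * y * k⁻¹ := by group
        _ = k * x * k⁻¹ * (k * mu U a b u) * y * k⁻¹ := by rw [hm]
        _ = k * (x * mu U a b u * y) * k⁻¹ := by group
        _ = k * u * k⁻¹ := by rw [← he]
        _ = u := by rw [h0]; group
        _ = _ := he
    obtain ⟨h2, -, h3⟩ := h.mid_unique hab hs hs (h.conj_of_fix hkD.1 hx) hx
      (h.conj_of_fix hkD.1 hy) hy h1
    constructor
    · calc k * x = k * x * k⁻¹ * k := by group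
        _ = x * k := by rw [h2]
    · calc k * y = k * y * k⁻¹ * k := by group
        _ = y * k := by rw [h3]
  refine ⟨x⁻¹, inv_mem ⟨hx, mem_centralizer_iff.2 fun k hk => (hc k hk).1⟩, y⁻¹,
    inv_mem ⟨hy, mem_centralizer_iff.2 fun k hk => (hc k hk).2⟩, ?_⟩
  have h4 : mu U a b u = x⁻¹ * u * y⁻¹ := by
    conv_rhs => rw [he]
    group
  rwa [← h4]

/-- (T4): an exponent `c` with `4 e ≤ c ≤ 7 e` -/
theorem no_exp [Finite G] [FaithfulSMul G Ω] [Finite Ω] {p k e : ℕ} (C : CtxE U a b p k)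
    (he : 1 ≤ e) (hk : k = e * 7) {y : G} (hy : y ∈ Dab G a b) (hy1 : y ≠ 1) {c : ℕ}
    (hc1 : 4 * e ≤ c) (hn : Nat.card (U a ⊓ centralizer ({y} : Set G) : Subgroup G) = p ^ c) :
    False := by
  have hlt := TableNum.n_lt C.split C.ne hy hy1
  rw [TableNum.n, hn, C.cardU] at hlt
  have hck : c < k := (Nat.pow_lt_pow_iff_right C.prime.one_lt).1 hlt
  rcases TableNum.t4 C.split C.ne C.prime C.p_ne_two C.cardU hy (e := c) (by omega) hn with
    ⟨l, hl⟩ | ⟨r, g, -, -, hg⟩
  · rcases Nat.eq_zero_or_pos l with hl0 | hl0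
    · rw [hl0] at hl
      omega
    · have h1 : c * 3 ≤ c * (2 * l + 1) := Nat.mul_le_mul_left _ (by omega)
      omega
  · have := hg.le
    omega

/-- **(3,3,3)** -/
theorem core [Finite G] [FaithfulSMul G Ω] [Finite Ω] {p k e r : ℕ} {s t g : G}
    (C : CtxE U a b p k) (F : FourPair U a b p e s t) (hk : k = e * 7)
    (hs : Nat.card (U a ⊓ centralizer ({s} : Set G) : Subgroup G) = (p ^ e) ^ 3)
    (hcomm : (⁅U a, U a⁆ : Subgroup G) =
      U a ⊓ centralizer ({t} : Set G) ⊓ centralizer ({s} : Set G))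
    (hg : g ∈ Dab G a b) (hA : Acts (U a) p k (6 * e) r g)
    (hgz : ∀ z ∈ (⁅U a, U a⁆ : Subgroup G), g * z = z * g)
    (hcg : U a ⊓ centralizer ({g} : Set G) = (⁅U a, U a⁆ : Subgroup G)) : False := by
  have h := C.split
  have hab := C.ne
  have he : 1 ≤ e := Nat.pos_of_ne_zero F.e0
  have hp1 := C.prime.one_lt
  set X : Subgroup G := zpowers t ⊔ zpowers s with hXdef
  have hXD : X ≤ Dab G a b := sup_le (by rw [zpowers_le]; exact F.tD) (by rw [zpowers_le]; exact F.sD)
  have ha : ∀ x ∈ X, x • a = a := fun x hx => (hXD hx).1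
  have hb : ∀ x ∈ X, x • b = b := fun x hx => (hXD hx).2
  have htX : t ∈ X := le_sup_left (a := zpowers t) (mem_zpowers t)
  have hsX : s ∈ X := le_sup_right (a := zpowers t) (mem_zpowers s)
  have hcen : U a ⊓ centralizer (X : Set G) =
      U a ⊓ centralizer ({t} : Set G) ⊓ centralizer ({s} : Set G) := by
    rw [hXdef, SSplit.inf_centralizer_sup, HKS.centralizer_zpowers]
  have hZa : (⁅U a, U a⁆ : Subgroup G) = U a ⊓ centralizer (X : Set G) := by rw [hcomm, hcen]
  have hcardZ : Nat.card (U a ⊓ centralizer (X : Set G) : Subgroup G) = p ^ e := by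
    rw [hcen]; exact F.cardV
  -- `g` fixes the fixed points of `X`
  have hgfix : ∀ c : Ω, (∀ x ∈ X, x • c = c) → g • c = c := by
    intro c hc
    by_cases hca : c = a
    · rw [hca]; exact hg.1
    obtain ⟨u, hu, hub⟩ := h.trans hab hca
    have huX : u ∈ centralizer (X : Set G) :=
      h.comm_of_fixSub ha hb hab hu (by rw [hub]; exact hc)
    have hug : u ∈ (⁅U a, U a⁆ : Subgroup G) := by rw [hZa]; exact ⟨hu, huX⟩
    rw [← hub, ← mul_smul, hgz u hug, mul_smul]
    congr 1
    exact hg.2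
  -- no involutions
  have hno : ∀ y ∈ genFix U X, y ∈ Dab G a b → y * y = 1 → y = 1 := by
    intro y hyM hyD hy2
    by_contra hy1
    have hyX : ∀ x ∈ X, x * y = y * x := fun x hx =>
      mem_centralizer_iff.1 (genFix_le_centralizer X hyM) x hx
    have hyg : g * y = y * g := comm_genFix h hab hXD hgfix hyM
    obtain ⟨c, hck, hc⟩ := hA.exists_card (V := U a ⊓ centralizer ({y} : Set G)) inf_le_left
    have hinv : ∀ v ∈ U a ⊓ centralizer ({y} : Set G),
        g * v * g⁻¹ ∈ U a ⊓ centralizer ({y} : Set G) := by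
      intro v hv
      have hvy := mem_centralizer_singleton_iff.1 (mem_inf.1 hv).2
      refine mem_inf.2 ⟨h.conj_of_fix hg.1 (mem_inf.1 hv).1, ?_⟩
      rw [mem_centralizer_singleton_iff]
      have hyg' : g⁻¹ * y = y * g⁻¹ := by
        calc g⁻¹ * y = g⁻¹ * (y * g) * g⁻¹ := by group
          _ = g⁻¹ * (g * y) * g⁻¹ := by rw [hyg]
          _ = y * g⁻¹ := by group
      calc g * v * g⁻¹ * y = g * v * (g⁻¹ * y) := by group
        _ = g * (v * y) * g⁻¹ := by rw [hyg']; group
        _ = g * y * v * g⁻¹ := by rw [hvy]; group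
        _ = y * (g * v * g⁻¹) := by rw [hyg]; group
    obtain ⟨i, hie, hi⟩ : ∃ i ≤ e, Nat.card (U a ⊓ centralizer ({y} : Set G) ⊓
        centralizer ({g} : Set G) : Subgroup G) = p ^ i := by
      have h1 : U a ⊓ centralizer ({y} : Set G) ⊓ centralizer ({g} : Set G) ≤
          U a ⊓ centralizer (X : Set G) := by
        rw [← hZa, ← hcg]
        exact le_inf (inf_le_left.trans inf_le_left) inf_le_right
      have h2 := card_dvd_of_le h1
      rw [hcardZ] at h2
      exact (Nat.dvd_prime_pow C.prime).1 h2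
    obtain ⟨hic, hdvd⟩ := hA.dvd_sub hinv hc hi
    have hcases : c = i ∨ 4 * e ≤ c := by
      rcases Nat.eq_zero_or_pos (c - i) with h0 | h0
      · left; omega
      · right
        have := Nat.le_of_dvd h0 hdvd
        omega
    rcases hcases with rfl | h4
    swap
    · exact no_exp C he hk hyD hy1 h4 hc
    -- `C(y) ≤ Z_a`
    have hle : U a ⊓ centralizer ({y} : Set G) ≤ U a ⊓ centralizer (X : Set G) := by
      have h1 : U a ⊓ centralizer ({y} : Set G) ⊓ centralizer ({g} : Set G) =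
          U a ⊓ centralizer ({y} : Set G) :=
        eq_of_le_of_card_ge inf_le_left (by rw [hi, hc])
      rw [← h1, ← hZa, ← hcg]
      exact le_inf (inf_le_left.trans inf_le_left) inf_le_right
    have hform := four_formula h C.odd_U hyD F.sD hy2 F.s2 (hyX s hsX).symm
    have h5 : U a ⊓ centralizer ({s} : Set G) ⊓ centralizer ({y} : Set G) =
        U a ⊓ centralizer ({y} : Set G) := by
      apply le_antisymm
      · exact le_inf (inf_le_left.trans inf_le_left) inf_le_right
      · refine le_inf (le_inf inf_le_left ?_) inf_le_right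
        intro v hv
        rw [mem_centralizer_singleton_iff]
        exact (mem_centralizer_iff.1 (hle hv).2 s hsX).symm
    have hys1 : y * s ≠ 1 := by
      intro h1
      have h2 : y = s := by
        calc y = y * (s * s) := by rw [F.s2, mul_one]
          _ = y * s * s := by group
          _ = s := by rw [h1, one_mul]
      rw [h2, hs, ← pow_mul] at hc
      have := Nat.pow_right_injective C.prime.two_le hc
      omega
    have hysD : y * s ∈ Dab G a b := mul_mem hyD F.sD
    obtain ⟨j, hjk, hj⟩ := hA.exists_card (V := U a ⊓ centralizer ({y * s} : Set G)) inf_le_left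
    rw [h5, C.cardU, hc, hs, hj, ← pow_mul, ← pow_mul, ← pow_add, ← pow_add, ← pow_add] at hform
    have h6 := Nat.pow_right_injective C.prime.two_le hform
    exact no_exp C he hk hysD hys1 (c := j) (by omega) hj
  -- all elements interchanging `a` and `b`
  have hsw := swaps_invol h hab ha hb C.prime C.p_ne_two F.e0 hcardZ hno
  -- an element of `Z_b`
  have hZ : ∀ c : Ω, (∀ x ∈ X, x • c = c) →
      (⁅U c, U c⁆ : Subgroup G) = U c ⊓ centralizer (X : Set G) := by
    intro c hc
    -- an element of `C(X)` mapping `a` to `c`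
    obtain ⟨l, hlX, hlc⟩ : ∃ l ∈ centralizer (X : Set G), l • a = c := by
      have hfin : Finite (fixSub Ω X) := Subtype.finite
      have h3 : 2 < Nat.card (fixSub Ω X) := by
        rw [h.card_fixSub hab ha hb, hcardZ]
        have h1 : 2 < p := lt_of_le_of_ne C.prime.two_le (Ne.symm C.p_ne_two)
        have h2 : p ^ 1 ≤ p ^ e := Nat.pow_le_pow_right C.prime.pos he
        rw [pow_one] at h2
        omega
      obtain ⟨l, hl⟩ := (h.fixed X (three_of_card h3)).tr ⟨a, ha⟩ ⟨c, hc⟩
      exact ⟨l, l.2, congrArg Subtype.val hl⟩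
    have hconj : ∀ u : G, u ∈ centralizer (X : Set G) → ∀ m ∈ centralizer (X : Set G),
        m * u * m⁻¹ ∈ centralizer (X : Set G) := fun u hu m hm =>
      mul_mem (mul_mem hm hu) (inv_mem hm)
    apply le_antisymm
    · intro u hu
      have h1 := conj_commutator h l⁻¹ c u hu
      rw [← hlc, inv_smul_smul, hZa] at h1
      have h2 := h.conj l h1.1
      have h3 := hconj _ h1.2 l hlX
      have e : l * (l⁻¹ * u * l⁻¹⁻¹) * l⁻¹ = u := by group
      rw [e] at h2 h3
      rw [hlc] at h2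
      exact ⟨h2, h3⟩
    · rintro u ⟨hu, huX⟩
      have h1 := h.conj l⁻¹ hu
      rw [← hlc, inv_smul_smul] at h1
      have h2 := hconj _ huX l⁻¹ (inv_mem hlX)
      have h3 : l⁻¹ * u * l⁻¹⁻¹ ∈ (⁅U a, U a⁆ : Subgroup G) := by rw [hZa]; exact ⟨h1, h2⟩
      have h4 := conj_commutator h l a _ h3
      have e : l * (l⁻¹ * u * l⁻¹⁻¹) * l⁻¹ = u := by group
      rwa [e, hlc] at h4
  obtain ⟨c, hc, hc1⟩ : ∃ c ∈ U b ⊓ centralizer (X : Set G), c ≠ 1 := by
    rcases bot_or_exists_ne_one (U b ⊓ centralizer (X : Set G)) with hbot | hc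
    · exfalso
      have h1 := h.card_fixSub hab.symm hb ha (X := X)
      have h2 := h.card_fixSub hab ha hb (X := X)
      rw [h1, hbot, card_bot, hcardZ] at h2
      have h3 : 1 < p ^ e := Nat.one_lt_pow F.e0 C.prime.one_lt
      omega
    · exact hc
  obtain ⟨x, hx, y, hy, hsxy⟩ := mu_parts h hab hXD hc.1 hc1 hc.2
  have hmM : x * c * y ∈ genFix U X :=
    mul_mem (mul_mem (mem_genFix ha hx.1 hx.2) (mem_genFix hb hc.1 hc.2)) (mem_genFix ha hy.1 hy.2)
  obtain ⟨hm2, hmf⟩ := hsw _ hmM hsxy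
  -- the lines
  have hZa' := hZ a ha
  have hZb' := hZ b hb
  have hLab : Ln (fun c => (⁅U c, U c⁆ : Subgroup G)) a b = {c | ∀ k ∈ X, k • c = c} :=
    line_fix h ha hb hab hZa'
  have hline : ∀ x ∈ Ln (fun c => (⁅U c, U c⁆ : Subgroup G)) a b,
      ∀ y ∈ Ln (fun c => (⁅U c, U c⁆ : Subgroup G)) a b, x ≠ y →
      Ln (fun c => (⁅U c, U c⁆ : Subgroup G)) x y = Ln (fun c => (⁅U c, U c⁆ : Subgroup G)) a b := by
    intro x hx y hy hxy
    rw [hLab] at hx hy ⊢
    exact line_fix h hx hy (Ne.symm hxy) (hZ x hx)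
  have hZU : ∀ c : Ω, (⁅U c, U c⁆ : Subgroup G) ≤ U c := by
    intro c
    rw [commutator_le]
    exact fun u hu v hv => mul_mem (mul_mem (mul_mem hu hv) (inv_mem hu)) (inv_mem hv)
  have hnofix : ∀ α : Ω, (x * c * y) • α ≠ α := by
    intro α hα
    have h1 := onan h (Z := fun c => (⁅U c, U c⁆ : Subgroup G)) hZU
      (conj_commutator h) hab hline (x := x) (y := y) (c := c) (by rw [hZa']; exact hx)
      (by rw [hZa']; exact hy) (by rw [hZb']; exact hc) hc1 hα
    rw [hLab] at h1
    exact hmf α h1 hα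
  have hne1 : x * c * y ≠ 1 := by
    intro h1
    exact hnofix a (by rw [h1, one_smul])
  have h2 := C.fix _ hne1 hm2
  have h3 : Nat.card (fixedBy Ω (x * c * y)) = 0 := by
    have : IsEmpty (fixedBy Ω (x * c * y)) := ⟨fun α => hnofix α.1 α.2⟩
    exact Nat.card_of_isEmpty
  omega

end Cfsg.Agent.HKS.Kill333
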