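import Cfsg.Agent.HKS.Kill333Z
import Cfsg.Agent.HKS.Kill333Core
import Cfsg.Agent.HKS.FourTwo

/-!
# Goal 4: `C_{U a}(V) = 1` for all four-groups `V` of `G_ab`
-/

set_option autoImplicit false

namespace Cfsg.Agent.HKS

open Subgroup MulAction

/-- **the exponents `(3,3,3)` do not occur** -/
theorem kill333.{v} : KillExp.{v} 3 3 3 := by
  intro G Ω _ _ _ _ _ U a b p k e s t C F hk hs ht _
  have hk' : k = e * 7 := hk
  obtain ⟨r, g, -, hgD, -, hA, hgz, hcg⟩ := Kill333.exists_g C F hk' hs ht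
  exact Kill333.core C F hk' hs (Kill333.comm_eq C F hk' hs ht) hgD hA hgz hcg

/-- exponent one does not occur -/
theorem noOne.{v} {G Ω : Type v} [Group G] [Finite G] [MulAction G Ω] [FaithfulSMul G Ω]
    [Finite Ω] {U : Ω → Subgroup G} {a b : Ω} {p k : ℕ} (C : CtxE U a b p k) :
    FourTwo.NoOne U a b := by
  intro x hx y hy hx1 hy1 hxy hxx hyy hcm h1 h2
  have hne : ∃ u ∈ U a ⊓ centralizer ({x} : Set G) ⊓ centralizer ({y} : Set G), u ≠ 1 := by
    by_contra hc
    push Not at hc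
    have h3 : U a ⊓ centralizer ({x} : Set G) ⊓ centralizer ({y} : Set G) = ⊥ :=
      (eq_bot_iff_forall _).2 hc
    have h4 : FourTwo.c2 U a x y = 1 := by
      change Nat.card (U a ⊓ centralizer ({x} : Set G) ⊓ centralizer ({y} : Set G) :
        Subgroup G) = 1
      rw [h3, card_bot]
    omega
  obtain ⟨u, ⟨⟨hu, hux⟩, huy⟩, hu1⟩ := hne
  obtain ⟨e, F⟩ := C.fourPair hy hx hy1 hx1 (Ne.symm hxy) hyy hxx hcm.symm hu
    (mem_centralizer_singleton_iff.1 huy).symm (mem_centralizer_singleton_iff.1 hux).symm hu1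
  apply F.no_one C
  rw [← F.cardV]
  exact h2

/-- **the exponents `(2,2,2)` do not occur** -/
theorem kill222.{v} : KillExp.{v} 2 2 2 := by
  intro G Ω _ _ _ _ _ U a b p k e s t C F hk hs ht hst
  have hne : s ≠ t := by
    rintro rfl
    exact F.st1 F.s2
  exact FourTwo.kill222 C (noOne C) F.sD F.tD F.s1 F.t1 hne F.s2 F.t2 F.comm
    (Nat.one_lt_pow F.e0 C.prime.one_lt) F.symm.cardV hs ht hst

/-- **Goal 4.** -/
theorem goalFour.{v} : GoalFour.{v} := goalFour_of kill222 kill333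

end Cfsg.Agent.HKS
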