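import Mathlib
import Cfsg.Agent.Characters.Core
import Cfsg.Agent.Characters.Linear
import Cfsg.Agent.Characters.EquivOfChar
import Cfsg.Agent.OddOrderCharacters.NormTwo
import Cfsg.Agent.OddOrderCharacters.IndRes
import Cfsg.Agent.OddOrderCharacters.AbelianTwist
import Cfsg.Agent.OddOrderCharacters.Clifford

/-!
# A character of `W`, `|W : D| = 2`, `|D|` odd, irreducible on `D`, of absolute value one outside `D`

If an involution `t` of `W` centralises a nontrivial element of `D` and `C_D(t)` is solvable, then there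
is a character `α` of `W`, irreducible and nontrivial on `D`, whose values outside `D` are roots of
unity, with value one at the involutions.
-/

set_option autoImplicit false

open Cfsg Representation
open scoped ComplexConjugate

namespace Cfsg.Agent.HKS.Glauberman

open Characters.Core OddOrderCharacters

variable {W : Type*} [Group W]

/-- A representation with irreducible character is irreducible. -/
theorem isIrreducible_of_isIrr [Finite W] {V : Type*} [AddCommGroup V] [Module ℂ V]
    [FiniteDimensional ℂ V] (ρ : Representation ℂ W V) (h : IsIrrCharacter W ρ.character) :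
    ρ.IsIrreducible := by
  obtain ⟨n, σ, hσ, he⟩ := h
  obtain ⟨e⟩ := Characters.EquivOfChar.nonempty_equiv_of_character_eq σ ρ he
  exact isIrreducible_of_equiv e hσ

theorem exists_hom_ne (X : Type*) [Group X] [Finite X] [Nontrivial X] (hX : Group.IsSolvable X) :
    ∃ f : X →* ℂˣ, ∃ x, f x ≠ 1 := by
  classical
  have h1 := Characters.Linear.card_hom_eq_index_commutator X
  have h2 : commutator X < ⊤ := Group.IsSolvable.commutator_lt_top_of_nontrivial X
  have h3 : (commutator X).index ≠ 1 := fun hc => h2.ne (Subgroup.index_eq_one.1 hc)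
  by_contra hcon
  push Not at hcon
  have : Subsingleton (X →* ℂˣ) := ⟨fun a b => MonoidHom.ext fun x => by rw [hcon, hcon]⟩
  apply h3
  rw [← h1]
  exact Nat.card_unique

/-- the sign character -/
noncomputable def sgn (D : Subgroup W) (hD : D.index = 2) : W →* ℂˣ := by
  classical
  exact
  { toFun := fun g => if g ∈ D then 1 else -1
    map_one' := by simp [D.one_mem]
    map_mul' := fun a b => by
      have := Subgroup.mul_mem_iff_of_index_two hD (a := a) (b := b)
      by_cases ha : a ∈ D <;> by_cases hb : b ∈ D <;> simp [this, ha, hb] }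

theorem sgn_mem {D : Subgroup W} (hD : D.index = 2) {g : W} (hg : g ∈ D) :
    sgn D hD g = 1 := by
  simp [sgn, hg]

theorem sgn_not_mem {D : Subgroup W} (hD : D.index = 2) {g : W} (hg : g ∉ D) :
    sgn D hD g = -1 := by
  simp [sgn, hg]

section setup

variable {D : Subgroup W} (hD : D.index = 2) {t : W} (ht : t ∉ D) (ht2 : t * t = 1)

include hD

theorem mul_mem_iff' {a b : W} : a * b ∈ D ↔ (a ∈ D ↔ b ∈ D) :=
  Subgroup.mul_mem_iff_of_index_two hD

theorem normal_D : D.Normal := Subgroup.normal_of_index_eq_two hD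

theorem conj_mem {g d : W} (hd : d ∈ D) : g * d * g⁻¹ ∈ D := (normal_D hD).conj_mem d hd g

theorem conj_mem' {g d : W} (hd : d ∈ D) : g⁻¹ * d * g ∈ D := by
  have := conj_mem hD (g := g⁻¹) hd
  rwa [inv_inv] at this

theorem conj_mem_iff {g d : W} : g⁻¹ * d * g ∈ D ↔ d ∈ D := by
  refine ⟨fun h => ?_, conj_mem' hD⟩
  have := conj_mem hD (g := g) h
  have h1 : g * (g⁻¹ * d * g) * g⁻¹ = d := by group
  rwa [h1] at this

include ht ht2

/-- `C_W(t) → C_D(t)` -/
theorem exists_projX : ∃ π : Subgroup.centralizer {t} →* (D ⊓ Subgroup.centralizer {t} : Subgroup W),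
    (∀ h : Subgroup.centralizer {t}, ∀ hh : (h : W) ∈ D, π h = ⟨h, hh, h.2⟩) ∧
    (∀ x (hx : x ∈ D ⊓ Subgroup.centralizer {t}) (hm : t * x ∈ Subgroup.centralizer {t}),
      π ⟨t * x, hm⟩ = ⟨x, hx⟩) := by
  classical
  have hc : ∀ h : Subgroup.centralizer {t}, t * (h : W) = h * t := fun h =>
    (Subgroup.mem_centralizer_singleton_iff.1 h.2).symm
  have htc : t ∈ Subgroup.centralizer {t} := Subgroup.mem_centralizer_singleton_iff.2 rfl
  let p : Subgroup.centralizer {t} → W := fun h => if (h : W) ∈ D then (h : W) else t * h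
  have hp : ∀ h, p h ∈ D ⊓ Subgroup.centralizer {t} := by
    intro h
    by_cases hh : (h : W) ∈ D
    · simp only [p, if_pos hh]
      exact ⟨hh, h.2⟩
    · simp only [p, if_neg hh]
      exact ⟨(mul_mem_iff' hD).2 (iff_of_false ht hh), Subgroup.mul_mem _ htc h.2⟩
  refine ⟨MonoidHom.mk' (fun h => ⟨p h, hp h⟩) ?_, ?_, ?_⟩
  · intro a b
    apply Subtype.ext
    change p (a * b) = p a * p b
    simp only [p, Subgroup.coe_mul, mul_mem_iff' hD]
    by_cases ha : (a : W) ∈ D <;> by_cases hb : (b : W) ∈ D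
    · simp [ha, hb]
    · simp only [ha, hb, iff_false, not_true_eq_false, if_false, if_true]
      rw [← mul_assoc, hc a, mul_assoc]
    · simp only [ha, hb, iff_true, if_false, if_true]
      rw [mul_assoc]
    · simp only [ha, hb, iff_self, if_true, if_false]
      calc (a : W) * b = (t * t) * (a * b) := by rw [ht2, one_mul]
        _ = t * (t * a) * b := by group
        _ = t * (a * t) * b := by rw [hc a]
        _ = t * a * (t * b) := by group
  · intro h hh
    apply Subtype.ext
    change p h = h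
    simp only [p, if_pos hh]
  · intro x hx hm
    apply Subtype.ext
    change p ⟨t * x, hm⟩ = x
    have h1 : t * x ∉ D := fun h => ht (((mul_mem_iff' hD).1 h).2 hx.1)
    simp only [p, if_neg h1]
    rw [← mul_assoc, ht2, one_mul]

omit hD ht ht2 in
theorem pow_card_mem [Finite W] {d : W} (hd : d ∈ D) : d ^ Nat.card D = 1 := by
  have : (⟨d, hd⟩ : D) ^ Nat.card D = 1 := pow_card_eq_one'
  exact congrArg Subtype.val this

omit hD ht in
theorem t_pow (m : ℕ) (hm : Odd m) : t ^ m = t := by
  obtain ⟨k, rfl⟩ := hm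
  rw [pow_succ, pow_mul, sq, ht2, one_pow, one_mul]

omit hD ht in
theorem mul_pow_card [Finite W] (hodd : Odd (Nat.card D)) {y : W} (hy : y ∈ D)
    (hc : y * t = t * y) : (t * y) ^ Nat.card D = t := by
  have h1 : Commute t y := hc.symm
  rw [h1.mul_pow, pow_card_mem hy, mul_one, t_pow ht2 _ hodd]

theorem exists_conj [Finite W] (hodd : Odd (Nat.card D)) {v : W} (hv : v ∉ D) :
    ∃ g y : W, y ∈ D ⊓ Subgroup.centralizer {t} ∧ g * v * g⁻¹ = t * y := by
  obtain ⟨k, hk⟩ := id hodd
  have hv2 : v * v ∈ D := (mul_mem_iff' hD).2 (iff_of_false hv hv)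
  set s := v ^ Nat.card D with hs
  have hsv : s * v = v * s := by rw [hs, ← pow_succ, ← pow_succ']
  have hsD : s ∉ D := by
    intro hc
    rw [hs, hk, pow_succ, pow_mul, sq] at hc
    exact hv (((mul_mem_iff' hD).1 hc).1 (D.pow_mem hv2 k))
  have hss : s * s = 1 := by
    rw [hs, ← pow_add, ← two_mul, pow_mul, sq, pow_card_mem hv2]
  set c := t * s with hc
  have hcD : c ∈ D := (mul_mem_iff' hD).2 (iff_of_false ht hsD)
  set e := c ^ (k + 1) with he
  have hee : e * e = c := by
    have h1 := pow_card_mem hcD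
    rw [hk] at h1
    rw [he, ← pow_add, show k + 1 + (k + 1) = (2 * k + 1) + 1 by ring, pow_succ, h1, one_mul]
  have htinv : t⁻¹ = t := inv_eq_of_mul_eq_one_right ht2
  have hsinv : s⁻¹ = s := inv_eq_of_mul_eq_one_right hss
  have htc : t * c * t⁻¹ = c⁻¹ := by
    rw [hc, mul_inv_rev, hsinv, htinv, ← mul_assoc, ht2, one_mul]
  have hte : t * e * t⁻¹ = e⁻¹ := by
    rw [he, ← conj_pow, htc, inv_pow]
  have hse : e * s * e⁻¹ = t := by
    have h1 : s = t * c := by rw [hc, ← mul_assoc, ht2, one_mul]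
    have h2 : t * e = e⁻¹ * t := by
      have := congrArg (· * t) hte
      simpa [mul_assoc] using this
    calc e * s * e⁻¹ = e * (t * (e * e)) * e⁻¹ := by rw [hee, ← h1]
      _ = e * (t * e) := by group
      _ = t := by rw [h2, mul_inv_cancel_left]
  have hyD : s * v ∈ D := (mul_mem_iff' hD).2 (iff_of_false hsD hv)
  refine ⟨e, e * (s * v) * e⁻¹, ⟨conj_mem hD hyD, ?_⟩, ?_⟩
  · apply Subgroup.mem_centralizer_singleton_iff.2
    have h1 : s * v * s = s * (s * v) := by rw [mul_assoc, hsv]
    calc e * (s * v) * e⁻¹ * t = e * (s * v) * e⁻¹ * (e * s * e⁻¹) := by rw [hse]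
      _ = e * (s * v * s) * e⁻¹ := by group
      _ = e * (s * (s * v)) * e⁻¹ := by rw [h1]
      _ = e * s * e⁻¹ * (e * (s * v) * e⁻¹) := by group
      _ = t * (e * (s * v) * e⁻¹) := by rw [hse]
  · nth_rewrite 1 [← hse]
    calc e * v * e⁻¹ = e * ((s * s) * v) * e⁻¹ := by rw [hss, one_mul]
      _ = e * s * e⁻¹ * (e * (s * v) * e⁻¹) := by group

omit ht2 in
theorem sum_sgn [Fintype W] : ∑ g : W, (sgn D hD g : ℂ) = 0 := by
  have h1 : ∑ g : W, (sgn D hD g : ℂ) = ∑ g : W, (sgn D hD (t * g) : ℂ) :=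
    (Fintype.sum_equiv (Equiv.mulLeft t) _ _ fun g => rfl).symm
  have h2 : ∀ g ∈ (Finset.univ : Finset W), (sgn D hD (t * g) : ℂ) = -(sgn D hD g : ℂ) := by
    intro g _
    rw [map_mul, sgn_not_mem hD ht]
    simp
  rw [Finset.sum_congr rfl h2, Finset.sum_neg_distrib] at h1
  exact self_eq_neg.1 h1

/-- The character `α`. -/
theorem exists_alpha [Finite W] (hodd : Odd (Nat.card D)) (hsol : Group.IsSolvable D)
    (hne : ∃ x ∈ D, x ≠ 1 ∧ x * t = t * x) :
    ∃ α : W → ℂ, IsIrrCharacter W α ∧ IsIrrCharacter D (fun d : D => α d) ∧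
      (∀ v, v ∉ D → α v ^ Nat.card D = 1) ∧ (∀ v, v ∉ D → v * v = 1 → α v = 1) ∧
      ∃ d ∈ D, α d ≠ α 1 := by
  classical
  have := Fintype.ofFinite W
  set H : Subgroup W := Subgroup.centralizer {t} with hH
  have := Fintype.ofFinite H
  have := Fintype.ofFinite D
  obtain ⟨x₁, hx₁D, hx₁, hx₁t⟩ := hne
  have hnt : Nontrivial (D ⊓ H : Subgroup W) := ⟨⟨⟨x₁, hx₁D,
    Subgroup.mem_centralizer_singleton_iff.2 hx₁t⟩, 1, fun hc => hx₁ (congrArg Subtype.val hc)⟩⟩
  have hXsol : Group.IsSolvable (D ⊓ H : Subgroup W) :=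
    Group.isSolvable_of_isSolvable_injective (f := Subgroup.inclusion (inf_le_left : D ⊓ H ≤ D))
      (Subgroup.inclusion_injective _)
  obtain ⟨f, x₀, hfx₀⟩ := exists_hom_ne (D ⊓ H : Subgroup W) hXsol
  obtain ⟨π, hπ1, hπ2⟩ := exists_projX hD ht ht2
  have htH : t ∈ H := Subgroup.mem_centralizer_singleton_iff.2 rfl
  set F : H →* ℂˣ := f.comp π with hF
  set S : H →* ℂˣ := (sgn D hD).comp H.subtype with hS
  set ν : H → ℂ := (fun h => (F h : ℂ)) - (fun h => ((F * S) h : ℂ)) with hν
  have hνD : ∀ h : H, (h : W) ∈ D → ν h = 0 := by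
    intro h hh
    have h1 : S h = 1 := sgn_mem hD hh
    simp only [hν, Pi.sub_apply, MonoidHom.mul_apply, h1, mul_one, sub_self]
  have hνn : ∀ h : H, (h : W) ∉ D → ν h = 2 * (F h : ℂ) := by
    intro h hh
    have h1 : S h = -1 := sgn_not_mem hD hh
    simp only [hν, Pi.sub_apply, MonoidHom.mul_apply, h1]
    push_cast
    ring
  set θ : W → ℂ := indFun H ν with hθ
  have hgen : IsGeneralizedCharacter W θ := by
    refine ⟨indFun H (fun h => (F h : ℂ)), indFun H (fun h => ((F * S) h : ℂ)),
      IndRes.isCharacter_indFun H (Characters.Linear.isCharacter_hom F),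
      IndRes.isCharacter_indFun H (Characters.Linear.isCharacter_hom (F * S)), ?_⟩
    rw [hθ, hν, IndRes.indFun_sub]
  have hθcl : IsClassFunction W θ := IndRes.isClassFunction_indFun H ν
  have hθD : ∀ d ∈ D, θ d = 0 := by
    intro d hd
    exact IndRes.indFun_eq_zero_of_forall_apply H ν fun x hx => hνD _ (conj_mem' hD hd)
  have hθt : ∀ y (hy : y ∈ D ⊓ H), θ (t * y) = 2 * (f ⟨y, hy⟩ : ℂ) := by
    intro y hy
    have hyt : y * t = t * y := Subgroup.mem_centralizer_singleton_iff.1 hy.2
    have htyH : t * y ∈ H := H.mul_mem htH hy.2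
    have htyD : t * y ∉ D := fun hc => ht (((mul_mem_iff' hD).1 hc).2 hy.1)
    rw [hθ, indFun_apply, Clifford.sum_eq_sum_subgroup H]
    · have h1 : ∀ x ∈ (Finset.univ : Finset H), extendByZero H ν ((x : W)⁻¹ * (t * y) * x) =
          2 * (f ⟨y, hy⟩ : ℂ) := by
        intro x _
        have h2 : (x : W)⁻¹ * (t * y) * x ∈ H := H.mul_mem (H.mul_mem (H.inv_mem x.2) htyH) x.2
        rw [extendByZero_of_mem H ν h2, hνn _ (fun hc => htyD ((conj_mem_iff hD).1 hc))]
        have h3 : (⟨(x : W)⁻¹ * (t * y) * x, h2⟩ : H) = x⁻¹ * ⟨t * y, htyH⟩ * x :=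
          Subtype.ext (by simp)
        have h4 : F (⟨(x : W)⁻¹ * (t * y) * x, h2⟩ : H) = f ⟨y, hy⟩ := by
          rw [h3, map_mul, map_mul, map_inv, inv_mul_cancel_comm]
          simp only [hF, MonoidHom.comp_apply]
          rw [hπ2 y hy htyH]
        rw [h4]
      rw [Finset.sum_congr rfl h1, Finset.sum_const, Finset.card_univ, nsmul_eq_mul,
        ← Nat.card_eq_fintype_card, inv_mul_cancel_left₀ card_ne_zero_complex]
    · intro x hx
      refine extendByZero_of_notMem H ν fun hc => hx ?_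
      have h5 : (x⁻¹ * (t * y) * x) ∉ D := fun hc => htyD ((conj_mem_iff hD).1 hc)
      have h6 : t * (x⁻¹ * (t * y) * x) ∈ D := (mul_mem_iff' hD).2 (iff_of_false ht h5)
      have h7 : t * (x⁻¹ * (t * y) * x) ∈ H := H.mul_mem htH hc
      have h8 := mul_pow_card ht2 hodd h6 (Subgroup.mem_centralizer_singleton_iff.1 h7)
      rw [← mul_assoc, ht2, one_mul] at h8
      have h9 : (x⁻¹ * (t * y) * x) ^ Nat.card D = x⁻¹ * t * x := by
        have := conj_pow (i := Nat.card D) (a := x⁻¹) (b := t * y)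
        rw [inv_inv] at this
        rw [this, mul_pow_card ht2 hodd hy.1 hyt]
      rw [h9] at h8
      apply Subgroup.mem_centralizer_singleton_iff.2
      calc x * t = x * (x⁻¹ * t * x) := by rw [h8]
        _ = t * x := by group
  -- norm
  have hnorm : classInner θ θ = 2 := by
    rw [hθ, IndRes.classInner_indFun_left H ν hθcl, classInner_def]
    have h1 : ∀ h ∈ (Finset.univ : Finset H), ν h * conj (IndRes.res H (indFun H ν) h) =
        2 * (1 - (S h : ℂ)) := by
      intro h _
      by_cases hh : (h : W) ∈ D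
      · have h1 : S h = 1 := sgn_mem hD hh
        rw [hνD h hh, h1, zero_mul, Units.val_one, sub_self, mul_zero]
      · have h1 : S h = -1 := sgn_not_mem hD hh
        have hy : t * (h : W) ∈ D ⊓ H :=
          ⟨(mul_mem_iff' hD).2 (iff_of_false ht hh), H.mul_mem htH h.2⟩
        have h2 : t * (t * (h : W)) = h := by rw [← mul_assoc, ht2, one_mul]
        have h3 := hθt _ hy
        rw [h2] at h3
        have h4 : F h = f ⟨t * h, hy⟩ := by
          have h5 := hπ2 _ hy (by rw [h2]; exact h.2)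
          simp only [h2] at h5
          simp only [hF, MonoidHom.comp_apply]
          rw [← h5]
        rw [IndRes.res_apply, ← hθ, h3, hνn h hh, h1, h4]
        have h5 : (f ⟨t * h, hy⟩ : ℂ) * conj (f ⟨t * h, hy⟩ : ℂ) = 1 := by
          rw [Complex.mul_conj, Complex.normSq_eq_norm_sq, Characters.Linear.norm_hom_apply]
          simp
        rw [map_mul, map_ofNat]
        push_cast
        linear_combination 4 * h5
    have h2 : ∑ h : H, (S h : ℂ) = 0 := by
      have h1 : ∑ g : H, (S g : ℂ) = ∑ g : H, (S (⟨t, htH⟩ * g) : ℂ) :=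
        (Fintype.sum_equiv (Equiv.mulLeft (⟨t, htH⟩ : H)) _ _ fun g => rfl).symm
      have h2 : ∀ g ∈ (Finset.univ : Finset H), (S (⟨t, htH⟩ * g) : ℂ) = -(S g : ℂ) := by
        intro g _
        have h3 : S ⟨t, htH⟩ = -1 := sgn_not_mem hD ht
        rw [map_mul, h3]
        simp
      rw [Finset.sum_congr rfl h2, Finset.sum_neg_distrib] at h1
      exact self_eq_neg.1 h1
    rw [Finset.sum_congr rfl h1, ← Finset.mul_sum, Finset.sum_sub_distrib, h2, sub_zero,
      Finset.sum_const, Finset.card_univ, nsmul_eq_mul, mul_one, ← Nat.card_eq_fintype_card,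
      mul_left_comm, inv_mul_cancel₀ card_ne_zero_complex, mul_one]
  obtain ⟨α, β, hα, hβ, hαβ, hθαβ⟩ := NormTwo.exists_sub_of_norm_two hgen hnorm (hθD 1 D.one_mem)
  -- `sgn · β = α`
  have hβα : (fun g => (sgn D hD g : ℂ) * β g) = α := by
    by_contra hcon
    have hb' := AbelianTwist.isIrr_hom_mul (sgn D hD) hβ
    have ha' := AbelianTwist.isIrr_hom_mul (sgn D hD) hα
    have h1 : (fun g => (sgn D hD g : ℂ) * α g) - (fun g => (sgn D hD g : ℂ) * β g) = β - α := by
      funext g
      simp only [Pi.sub_apply]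
      have h2 : α g - β g = θ g := by rw [hθαβ]; rfl
      by_cases hg : g ∈ D
      · rw [sgn_mem hD hg]
        have h3 := hθD g hg
        rw [← h2] at h3
        push_cast
        linear_combination 2 * h3
      · rw [sgn_not_mem hD hg]
        push_cast
        ring
    have h2 := congrArg (fun F => classInner F α) h1
    simp only [classInner_sub_left, classInner_irr_self hα, classInner_irr_ne hβ hα hαβ.symm,
      classInner_irr_ne hb' hα hcon] at h2
    by_cases h3 : (fun g => (sgn D hD g : ℂ) * α g) = α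
    · rw [h3, classInner_irr_self hα] at h2
      norm_num at h2
    · rw [classInner_irr_ne ha' hα h3] at h2
      norm_num at h2
  have hαθ : ∀ v, v ∉ D → α v = θ v / 2 := by
    intro v hv
    have h1 := congrFun hβα v
    simp only [sgn_not_mem hD hv] at h1
    have h2 : θ v = α v - β v := by rw [hθαβ]; rfl
    rw [h2]
    push_cast at h1
    linear_combination -(1/2) * h1
  have hαcl : IsClassFunction W α := isIrr_isClassFunction hα
  have hαt : ∀ y (hy : y ∈ D ⊓ H), α (t * y) = (f ⟨y, hy⟩ : ℂ) := by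
    intro y hy
    have h1 : t * y ∉ D := fun hc => ht (((mul_mem_iff' hD).1 hc).2 hy.1)
    rw [hαθ _ h1, hθt y hy]
    ring
  have hαv : ∀ v, v ∉ D → ∃ y, ∃ hy : y ∈ D ⊓ H, α v = (f ⟨y, hy⟩ : ℂ) ∧
      ∃ g, g * v * g⁻¹ = t * y := by
    intro v hv
    obtain ⟨g, y, hy, hg⟩ := exists_conj hD ht ht2 hodd hv
    refine ⟨y, hy, ?_, g, hg⟩
    rw [← hαt y hy, ← hg, hαcl]
  have hone : ∀ v, v ∉ D → α v * conj (α v) = 1 := by
    intro v hv
    obtain ⟨y, hy, h1, -⟩ := hαv v hv
    rw [h1, Complex.mul_conj, Complex.normSq_eq_norm_sq, Characters.Linear.norm_hom_apply]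
    simp
  have hsumD : ∑ d : D, α d * conj (α d) = Nat.card D := by
    have h1 := classInner_irr_self hα
    rw [classInner_def, inv_mul_eq_iff_eq_mul₀ card_ne_zero_complex, mul_one] at h1
    have h2 : ∑ g : W, (α g * conj (α g) - (1 - (sgn D hD g : ℂ)) / 2) =
        ∑ d : D, (α d * conj (α d) - (1 - (sgn D hD (d : W) : ℂ)) / 2) :=
      Clifford.sum_eq_sum_subgroup D _ fun g hg => by
        rw [hone g hg, sgn_not_mem hD hg]
        push_cast
        ring
    have h3 : ∀ d ∈ (Finset.univ : Finset D), (α d * conj (α d) -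
        (1 - (sgn D hD (d : W) : ℂ)) / 2) = α d * conj (α d) := by
      intro d _
      rw [sgn_mem hD d.2]
      simp
    rw [Finset.sum_congr rfl h3] at h2
    rw [← h2, Finset.sum_sub_distrib, h1, ← Finset.sum_div, Finset.sum_sub_distrib,
      sum_sgn hD ht, Finset.sum_const, Finset.card_univ, nsmul_eq_mul,
      ← Nat.card_eq_fintype_card, ← D.card_mul_index, hD]
    push_cast
    ring
  have hirrD : IsIrrCharacter D (fun d : D => α d) := by
    apply isIrr_of_classInner_self (isCharacter_comp D.subtype (isIrr_isCharacter hα))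
    rw [classInner_def]
    rw [inv_mul_eq_iff_eq_mul₀ card_ne_zero_complex, mul_one]
    exact hsumD
  refine ⟨α, hα, hirrD, ?_, ?_, ?_⟩
  · intro v hv
    obtain ⟨y, hy, h1, -⟩ := hαv v hv
    have h2 : (⟨y, hy⟩ : (D ⊓ H : Subgroup W)) ^ Nat.card D = 1 :=
      Subtype.ext (pow_card_mem hy.1)
    rw [h1, ← Units.val_pow_eq_pow_val, ← map_pow, h2, map_one, Units.val_one]
  · intro v hv hvv
    obtain ⟨y, hy, h1, g, hg⟩ := hαv v hv
    have hyt : y * t = t * y := Subgroup.mem_centralizer_singleton_iff.1 hy.2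
    have h2 : (t * y) * (t * y) = 1 := by
      rw [← hg]
      calc g * v * g⁻¹ * (g * v * g⁻¹) = g * (v * v) * g⁻¹ := by group
        _ = 1 := by rw [hvv]; group
    have h3 : y * y = 1 := by
      calc y * y = (t * t) * (y * y) := by rw [ht2, one_mul]
        _ = t * (t * y) * y := by group
        _ = t * (y * t) * y := by rw [hyt]
        _ = (t * y) * (t * y) := by group
        _ = 1 := h2
    have h4 : y = 1 := by
      have h5 := t_pow h3 _ hodd
      rw [pow_card_mem hy.1] at h5
      exact h5.symm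
    subst h4
    have h5 : (⟨1, hy⟩ : (D ⊓ H : Subgroup W)) = 1 := rfl
    rw [h1, h5, map_one, Units.val_one]
  · by_contra hcon
    push Not at hcon
    have h1 : α 1 = 1 := by
      have h2 : ∀ d ∈ (Finset.univ : Finset D), α d * conj (α d) = α 1 * conj (α 1) :=
        fun d _ => by rw [hcon d d.2]
      rw [Finset.sum_congr rfl h2, Finset.sum_const, Finset.card_univ, nsmul_eq_mul,
        ← Nat.card_eq_fintype_card] at hsumD
      obtain ⟨n, hn, h3⟩ := isIrr_apply_one hα
      rw [h3, map_natCast] at hsumD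
      have h4 : (n : ℂ) * n = 1 := by
        apply mul_left_cancel₀ (card_ne_zero_complex (G := D))
        rw [hsumD, mul_one]
      have h5 : n * n = 1 := by exact_mod_cast h4
      have h6 : n = 1 := Nat.eq_one_of_mul_eq_one_right h5
      rw [h3, h6, Nat.cast_one]
    obtain ⟨F', hF'⟩ := Characters.Linear.exists_hom_of_isIrrCharacter hα h1
    have h2 : ∀ g, α g = (F' g : ℂ) := fun g => congrFun hF' g
    apply hfx₀
    have h3 : (f x₀ : ℂ) = 1 := by
      rw [← hαt x₀ x₀.2, h2, map_mul, Units.val_mul, ← h2, ← h2, hcon _ x₀.2.1, h1, mul_one]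
      have h4 := hαt 1 (D ⊓ H).one_mem
      rw [mul_one] at h4
      have h5 : (⟨1, (D ⊓ H).one_mem⟩ : (D ⊓ H : Subgroup W)) = 1 := rfl
      rw [h4, h5, map_one, Units.val_one]
    exact Units.ext (h3.trans Units.val_one.symm)

end setup

end Cfsg.Agent.HKS.Glauberman
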