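import Mathlib
import Cfsg.Agent.HKS.RankOneRep
import Cfsg.Agent.Characters.AverageRoots
import Cfsg.Agent.Characters.CentralCharacter
import Cfsg.Agent.Characters.GaloisBasic
import Cfsg.Agent.OddOrderLocal.CNNil

/-!
# Point stabilisers of odd order: the numbers `ξ`, `η`
-/

set_option autoImplicit false

open Cfsg Representation

namespace Cfsg.Agent.HKS

theorem exists_int_of_mul_self {G : Type*} [Group G] {V : Type*} [AddCommGroup V] [Module ℂ V]
    [FiniteDimensional ℂ V] (ρ : Representation ℂ G V) {t : G} (ht : t * t = 1) :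
    ∃ k : ℤ, ρ.character t = k := by
  obtain ⟨s, -, hsum, hs, -⟩ := Characters.AverageRoots.exists_multiset_roots ρ t 2
    (by rw [sq, ht])
  rw [← hsum]
  clear hsum
  induction s using Multiset.induction_on with
  | empty => exact ⟨0, by simp⟩
  | cons a s ih =>
    obtain ⟨k, hk⟩ := ih fun z hz => hs z (Multiset.mem_cons_of_mem hz)
    have h1 := hs a (Multiset.mem_cons_self a s)
    rcases sq_eq_one_iff.1 h1 with h2 | h2
    · exact ⟨1 + k, by rw [Multiset.sum_cons, hk, h2]; push_cast; ring⟩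
    · exact ⟨-1 + k, by rw [Multiset.sum_cons, hk, h2]; push_cast; ring⟩

variable {G : Type*} [Group G] {B Q D W : Subgroup G} {w : G}

theorem not_mem_of_odd [Finite G] (hB : Odd (Nat.card B)) {t : G} (ht : t * t = 1)
    (ht1 : t ≠ 1) : t ∉ B := by
  intro htB
  obtain ⟨k, hk⟩ := hB
  have h1 : (⟨t, htB⟩ : B) ^ Nat.card B = 1 := pow_card_eq_one'
  have h2 : t ^ Nat.card B = 1 := congrArg Subtype.val h1
  rw [hk, pow_succ, pow_mul, sq, ht, one_pow, one_mul] at h2
  exact ht1 h2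

/-- The middle term of an involution is an involution. -/
theorem RankOne.mid_mul_self (h : RankOne B Q D W w) {u₁ u₂ v : G} (hu₁ : u₁ ∈ Q) (hu₂ : u₂ ∈ Q)
    (hv : v ∈ W) (hvD : v ∉ D) (hi : (u₁ * v * u₂) * (u₁ * v * u₂) = 1) : v * v = 1 := by
  have hv' : v⁻¹ ∉ D := fun hc => hvD (by simpa using D.inv_mem hc)
  obtain ⟨d, hd, hvd⟩ := h.Wmul v hv hvD
  obtain ⟨d', hd', hvd'⟩ := h.Wmul v⁻¹ (W.inv_mem hv) hv'
  have h1 : u₁ * v * u₂ = u₂⁻¹ * v⁻¹ * u₁⁻¹ := by
    have := eq_inv_of_mul_eq_one_left hi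
    rw [this]
    group
  have h2 : u₁ * w * (d * u₂) = u₂⁻¹ * w * (d' * u₁⁻¹) := by
    calc u₁ * w * (d * u₂) = u₁ * v * u₂ := by rw [hvd]; group
      _ = u₂⁻¹ * v⁻¹ * u₁⁻¹ := h1
      _ = u₂⁻¹ * w * (d' * u₁⁻¹) := by rw [hvd']; group
  obtain ⟨h3, h4⟩ := h.unique_bruhat hu₁ (Q.inv_mem hu₂) (B.mul_mem (h.DB hd) (h.QB hu₂))
    (B.mul_mem (h.DB hd') (h.QB (Q.inv_mem hu₁))) h2
  rw [h3, inv_inv] at h4
  have h5 : d = d' := mul_right_cancel h4
  have h6 : v = v⁻¹ := by rw [hvd', ← h5, ← hvd]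
  nth_rewrite 1 [h6]
  exact inv_mul_cancel v

namespace FixRep

variable {V Y : Type*} [AddCommGroup V] [Module ℂ V] [AddCommGroup Y] [Module ℂ Y]
variable {h : RankOne B Q D W w} [Fintype Q] {ρ : Representation ℂ G V}
    {σ : Representation ℂ W Y} {φ : Y →ₗ[ℂ] V}
variable [FiniteDimensional ℂ V] [FiniteDimensional ℂ Y]

/-- Value at an involution without fixed points. -/
theorem invol [Finite G] (H : FixRep h ρ σ φ) (hρ : ρ.IsIrreducible) {x : ℂ}
    (hx : ∀ w' (hw' : w' ∈ W), w' ∉ D → ∀ y,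
      avg ρ Q (ρ w' (φ y)) = x • φ (σ ⟨w', hw'⟩ y))
    (hB : Odd (Nat.card B)) {t : G} (ht : t * t = 1) (ht1 : t ≠ 1)
    (hτ : ∀ v : W, (v : G) ∉ D → v * v = 1 → σ.character v = 1) :
    ρ.character t * σ.character 1 = x * ρ.character 1 := by
  classical
  have := Fintype.ofFinite G
  have hirr : IsIrrCharacter G ρ.character := Characters.Core.isIrrCharacter_of_rep ρ hρ
  have hcl : IsClassFunction G ρ.character := Characters.Core.isIrr_isClassFunction hirr
  have h1 := sum_Fq_conj (Q := Q) ρ.character hirr t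
  have h2 : ∀ a ∈ (Finset.univ : Finset G), Fq ρ.character Q (a * t * a⁻¹) = x := by
    intro a _
    have h3 : (a * t * a⁻¹) * (a * t * a⁻¹) = 1 := by
      calc (a * t * a⁻¹) * (a * t * a⁻¹) = a * (t * t) * a⁻¹ := by group
        _ = 1 := by rw [ht]; group
    have h4 : a * t * a⁻¹ ≠ 1 := by
      intro hc
      apply ht1
      have : t = a⁻¹ * (a * t * a⁻¹) * a := by group
      rw [this, hc]
      group
    obtain ⟨u₁, hu₁, v, hv, hvD, u₂, hu₂, he⟩ := h.exists_mid (not_mem_of_odd hB h3 h4)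
    rw [he] at h3 ⊢
    have h5 := h.mid_mul_self hu₁ hu₂ hv hvD h3
    rw [Fq_mul_right _ hu₂, Fq_mul_left h hcl hu₁, H.Fq_W hx v hv hvD,
      hτ ⟨v, hv⟩ hvD (Subtype.ext h5), mul_one]
  rw [Finset.sum_congr rfl h2, Finset.sum_const, Finset.card_univ, nsmul_eq_mul,
    ← Nat.card_eq_fintype_card, H.Fq_one] at h1
  have hn : ρ.character 1 ≠ 0 := Characters.Core.isIrr_apply_one_ne_zero hirr
  have hG : (Nat.card G : ℂ) ≠ 0 := Characters.Core.card_ne_zero_complex
  rw [eq_div_iff hn] at h1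
  apply mul_left_cancel₀ hG
  linear_combination -h1

/-- The numbers `ξ = N x` and `η = 1 / x`. -/
theorem numbers [Finite G] (H : FixRep h ρ σ φ) (hρ : ρ.IsIrreducible) {x : ℂ}
    (hx : ∀ w' (hw' : w' ∈ W), w' ∉ D → ∀ y,
      avg ρ Q (ρ w' (φ y)) = x • φ (σ ⟨w', hw'⟩ y))
    (hB : Odd (Nat.card B)) {t : G} (ht : t * t = 1) (ht1 : t ≠ 1)
    (hτ : ∀ v : W, (v : G) ∉ D → v * v = 1 → σ.character v = 1) (hY : σ.character 1 ≠ 0) :
    ∃ ξ η : ℤ, ξ * η = Nat.card Q ∧ x * η = 1 ∧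
      ρ.character 1 * (ξ + η) = (Nat.card Q + 1) * σ.character 1 * η ∧
      ρ.character t * (ξ + η) = Nat.card Q + 1 := by
  have hn : ρ.character 1 ≠ 0 := Characters.Central.char_one_ne_zero ρ hρ
  have hN : (Nat.card Q : ℂ) ≠ 0 := card_ne
  obtain ⟨hx0, hNx, hxi⟩ := H.integral hx hY
  have h1 := H.invol hρ hx hB ht ht1 hτ
  obtain ⟨k, hk⟩ := exists_int_of_mul_self ρ ht
  have hxq : ∃ q : ℚ, x = q := by
    refine ⟨(k : ℚ) * (Module.finrank ℂ Y : ℚ) / (Module.finrank ℂ V : ℚ), ?_⟩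
    rw [hk, char_one, char_one] at h1
    rw [char_one] at hn
    push_cast
    rw [h1, mul_div_assoc, div_self hn, mul_one]
  obtain ⟨q, hq⟩ := hxq
  obtain ⟨ξ, hξ⟩ := Characters.GaloisBasic.exists_int_of_isIntegral hNx
    ⟨(Nat.card Q : ℚ) * q, by rw [hq]; push_cast; ring⟩
  obtain ⟨η, hη⟩ := Characters.GaloisBasic.exists_int_of_isIntegral hxi
    ⟨q⁻¹, by rw [hq]; push_cast; ring⟩
  have hxη : x * η = 1 := by rw [← hη, mul_inv_cancel₀ hx0]
  have hη0 : (η : ℂ) ≠ 0 := by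
    intro hc
    rw [hc, mul_zero] at hxη
    exact zero_ne_one hxη
  have h2 := H.degree hρ hx hY
  have h3 : ρ.character 1 * (ξ + η) = (Nat.card Q + 1) * σ.character 1 * η := by
    rw [← h2, ← hξ]
    linear_combination -ρ.character 1 * (Nat.card Q : ℂ) * x * hxη
  refine ⟨ξ, η, ?_, hxη, h3, ?_⟩
  · have h4 : (ξ : ℂ) * η = Nat.card Q := by
      rw [← hξ]
      linear_combination (Nat.card Q : ℂ) * hxη
    exact_mod_cast h4
  · apply mul_left_cancel₀ (mul_ne_zero hY hη0)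
    calc σ.character 1 * η * (ρ.character t * (ξ + η))
        = (ρ.character t * σ.character 1) * η * (ξ + η) := by ring
      _ = ρ.character 1 * (ξ + η) * (x * η) := by rw [h1]; ring
      _ = σ.character 1 * η * (Nat.card Q + 1) := by rw [hxη, h3]; ring

/-- The value at a central element `u ≠ 1` of `Q`, where `w u w⁻¹ = u₁ v u₂`. -/
theorem central_value [Finite G] (H : FixRep h ρ σ φ) (hρ : ρ.IsIrreducible) {x : ℂ}
    (hx : ∀ w' (hw' : w' ∈ W), w' ∉ D → ∀ y,
      avg ρ Q (ρ w' (φ y)) = x • φ (σ ⟨w', hw'⟩ y)) (hY : σ.character 1 ≠ 0)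
    {ξ η : ℤ} (h1 : ξ * η = Nat.card Q) (h2 : x * η = 1)
    (h3 : ρ.character 1 * (ξ + η) = (Nat.card Q + 1) * σ.character 1 * η)
    {u u₁ u₂ v : G} (hu : u ∈ Q) (hc : ∀ v ∈ Q, v * u = u * v) (hu₁ : u₁ ∈ Q) (hu₂ : u₂ ∈ Q)
    (hv : v ∈ W) (hvD : v ∉ D) (he : w * u * w⁻¹ = u₁ * v * u₂) :
    ρ.character u * (ξ + η) = η * (σ.character 1 + ξ * σ.character ⟨v, hv⟩) := by
  have hirr : IsIrrCharacter G ρ.character := Characters.Core.isIrrCharacter_of_rep ρ hρ
  have hcl : IsClassFunction G ρ.character := Characters.Core.isIrr_isClassFunction hirr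
  have h4 := trace_formula h hirr hu hc
  rw [he, Fq_mul_right _ hu₂, Fq_mul_left h hcl hu₁, H.Fq_W hx v hv hvD, H.Fq_one] at h4
  have h1' : (ξ : ℂ) * η = Nat.card Q := by exact_mod_cast h1
  have hN1 : (Nat.card Q : ℂ) + 1 ≠ 0 := by
    have : ((Nat.card Q + 1 : ℕ) : ℂ) ≠ 0 := Nat.cast_ne_zero.2 (Nat.succ_ne_zero _)
    push_cast at this
    exact this
  apply mul_left_cancel₀ (mul_ne_zero hN1 hY)
  have h5 : (Nat.card Q : ℂ) * x = ξ := by
    rw [← h1']
    linear_combination (ξ : ℂ) * h2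
  calc ((Nat.card Q : ℂ) + 1) * σ.character 1 * (ρ.character u * (ξ + η))
      = ((Nat.card Q : ℂ) + 1) * ρ.character u * σ.character 1 * (ξ + η) := by ring
    _ = ρ.character 1 * (σ.character 1 + Nat.card Q * (x * σ.character ⟨v, hv⟩)) * (ξ + η) := by
        rw [h4]
    _ = (ρ.character 1 * (ξ + η)) * (σ.character 1 + (Nat.card Q * x) * σ.character ⟨v, hv⟩) := by
        ring
    _ = _ := by rw [h3, h5]; ring

/-- If `V = V^Q`, then `D` acts trivially. -/
theorem trivial_of_degree (H : FixRep h ρ σ φ) (hdeg : ρ.character 1 = σ.character 1)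
    (hgen : ∀ M : Subgroup G, M.Normal → Q ≤ M → M = ⊤) :
    ∀ d (hd : d ∈ D), σ.character ⟨d, h.DW hd⟩ = σ.character 1 := by
  rw [char_one, char_one] at hdeg
  have hfr : Module.finrank ℂ Y = Module.finrank ℂ V := by exact_mod_cast hdeg.symm
  have hsurj : Function.Surjective φ :=
    (LinearMap.injective_iff_surjective_of_finrank_eq_finrank hfr).1 H.inj
  have hker : MonoidHom.ker ρ = ⊤ := by
    refine hgen _ inferInstance fun u hu => ?_
    rw [MonoidHom.mem_ker]
    ext v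
    obtain ⟨y, rfl⟩ := hsurj v
    exact H.fixQ u hu y
  intro d hd
  have h1 : ρ d = 1 := by
    have : d ∈ MonoidHom.ker ρ := by rw [hker]; trivial
    exact MonoidHom.mem_ker.1 this
  have h2 : σ ⟨d, h.DW hd⟩ = 1 := by
    ext y
    apply H.inj
    rw [← H.equiD d hd, h1]
    rfl
  change LinearMap.trace ℂ Y (σ ⟨d, h.DW hd⟩) = LinearMap.trace ℂ Y (σ 1)
  rw [h2, map_one σ]

end FixRep

open scoped ComplexConjugate in
/-- An average argument. -/
theorem eq_one_of_integral {s : ℂ} {n : ℕ} (hn : Odd n) (hs : s ^ n = 1) {M : ℕ} (hM : Even M)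
    (hM2 : 2 < M) (hint : IsIntegral ℤ ((s - conj s) / M)) : s = 1 := by
  have hn0 : n ≠ 0 := by rintro rfl; simp at hn
  have hnorm : ‖s‖ = 1 := Complex.norm_eq_one_of_pow_eq_one hs hn0
  obtain ⟨k, hk⟩ : ∃ k, M = 2 * k + 2 := by
    obtain ⟨j, hj⟩ := hM
    exact ⟨j - 1, by omega⟩
  set S : Multiset ℂ := s ::ₘ (-conj s) ::ₘ (Multiset.replicate k 1 + Multiset.replicate k (-1))
    with hS
  have hcard : S.card = M := by
    simp only [hS, Multiset.card_cons, Multiset.card_add, Multiset.card_replicate]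
    omega
  have hsum : S.sum = s - conj s := by
    simp only [hS, Multiset.sum_cons, Multiset.sum_add, Multiset.sum_replicate, nsmul_eq_mul]
    ring
  have hpow : ∀ z ∈ S, z ^ (2 * n) = 1 := by
    intro z hz
    simp only [hS, Multiset.mem_cons, Multiset.mem_add, Multiset.mem_replicate] at hz
    rcases hz with rfl | rfl | ⟨-, rfl⟩ | ⟨-, rfl⟩
    · rw [mul_comm, pow_mul, hs, one_pow]
    · rw [pow_mul, neg_sq, ← pow_mul, mul_comm, pow_mul, ← map_pow, hs, map_one, one_pow]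
    · exact one_pow _
    · rw [pow_mul, neg_one_sq, one_pow]
  have h1 := Characters.AverageRoots.eq_zero_or_norm_eq_one_of_average S (2 * n)
    (by omega) hpow (by rw [hcard, hsum]; exact hint)
  rw [hcard, hsum] at h1
  have hM0 : (0 : ℝ) < M := by exact_mod_cast (by omega : 0 < M)
  have h2 : s - conj s = 0 := by
    rcases h1 with h1 | h1
    · rcases div_eq_zero_iff.1 h1 with h2 | h2
      · exact h2
      · exfalso
        have : (M : ℂ) ≠ 0 := by exact_mod_cast (by omega : M ≠ 0)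
        exact this h2
    · exfalso
      rw [norm_div, Complex.norm_natCast, div_eq_one_iff_eq hM0.ne'] at h1
      have h3 : ‖s - conj s‖ ≤ 2 := by
        calc ‖s - conj s‖ ≤ ‖s‖ + ‖conj s‖ := norm_sub_le _ _
          _ = 2 := by rw [Complex.norm_conj, hnorm]; norm_num
      rw [h1] at h3
      have h4 : M ≤ 2 := by exact_mod_cast h3
      omega
  have h3 : s * s = 1 := by
    have h4 : s * conj s = 1 := by
      rw [Complex.mul_conj, Complex.normSq_eq_norm_sq, hnorm]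
      simp
    rwa [← sub_eq_zero.1 h2] at h4
  obtain ⟨j, rfl⟩ := hn
  rw [pow_succ, pow_mul, sq, h3, one_pow, one_mul] at hs
  exact hs

namespace RankOne

theorem mem_B_of_commute (h : RankOne B Q D W w) {u g : G} (hu : u ∈ Q) (hu1 : u ≠ 1)
    (hg : g * u = u * g) : g ∈ B := by
  by_contra hgB
  obtain ⟨v, hv, b, hb, rfl⟩ := h.bruhat g hgB
  have h1 : v⁻¹ * u * v ∈ Q := Q.mul_mem (Q.mul_mem (Q.inv_mem hv) hu) hv
  have h2 : w⁻¹ * (v⁻¹ * u * v) * w ∈ B := by
    have h3 : w⁻¹ * (v⁻¹ * u * v) * w = b * u * b⁻¹ := by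
      have h4 : (v * w * b)⁻¹ * u * (v * w * b) = u := by
        rw [mul_assoc, ← hg]
        group
      calc w⁻¹ * (v⁻¹ * u * v) * w = b * ((v * w * b)⁻¹ * u * (v * w * b)) * b⁻¹ := by group
        _ = b * u * b⁻¹ := by rw [h4]
    rw [h3]
    exact B.mul_mem (B.mul_mem hb (h.QB hu)) (B.inv_mem hb)
  apply h.not_mem_of_Q h1 _ h2
  intro hc
  apply hu1
  calc u = v * (v⁻¹ * u * v) * v⁻¹ := by group
    _ = 1 := by rw [hc]; group

theorem index_B (h : RankOne B Q D W w) [Finite G] : B.index = Nat.card Q + 1 := by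
  have h1 := h.card_eq
  have h2 := B.card_mul_index
  have h3 : 0 < Nat.card B := Nat.card_pos
  rw [h1, mul_comm] at h2
  exact Nat.eq_of_mul_eq_mul_right h3 h2

/-- The number of `B`-conjugates of `u`. -/
theorem index_centralizer (h : RankOne B Q D W w) [Finite G] {u : G} (hu : u ∈ Q)
    (hu1 : u ≠ 1) : ∃ k : ℕ, 0 < k ∧
      (Subgroup.centralizer {u}).index = (Nat.card Q + 1) * k ∧
      ∀ A : Subgroup G, u ∈ A → (∀ b ∈ B, ∀ a ∈ A, b * a * b⁻¹ ∈ A) → k < Nat.card A := by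
  classical
  have hle : Subgroup.centralizer {u} ≤ B := fun g hg =>
    h.mem_B_of_commute hu hu1 (Subgroup.mem_centralizer_singleton_iff.1 hg)
  refine ⟨(Subgroup.centralizer {u}).relIndex B, Nat.pos_of_ne_zero ?_, ?_, ?_⟩
  · exact Subgroup.FiniteIndex.index_ne_zero
  · rw [← Subgroup.relIndex_mul_index hle, h.index_B, mul_comm]
  · intro A huA hA
    have := Fintype.ofFinite A
    have hfin : Finite (B ⧸ (Subgroup.centralizer {u}).subgroupOf B) := inferInstance
    have := Fintype.ofFinite (B ⧸ (Subgroup.centralizer {u}).subgroupOf B)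
    have h1 : (Subgroup.centralizer {u}).relIndex B =
        Fintype.card (B ⧸ (Subgroup.centralizer {u}).subgroupOf B) := by
      rw [Subgroup.relIndex, Subgroup.index, Nat.card_eq_fintype_card]
    rw [h1, Nat.card_eq_fintype_card]
    refine Fintype.card_lt_of_injective_of_notMem
      (fun q : B ⧸ (Subgroup.centralizer {u}).subgroupOf B =>
        (⟨(q.out : G) * u * (q.out : G)⁻¹, hA _ q.out.2 _ huA⟩ : A)) ?_ (b := 1) ?_
    · intro q q' he
      have he' : (q.out : G) * u * (q.out : G)⁻¹ = (q'.out : G) * u * (q'.out : G)⁻¹ :=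
        congrArg Subtype.val he
      rw [← q.out_eq', ← q'.out_eq']
      apply QuotientGroup.eq.2
      apply Subgroup.mem_subgroupOf.2
      apply Subgroup.mem_centralizer_singleton_iff.2
      simp only [Subgroup.coe_mul, Subgroup.coe_inv]
      calc (q.out : G)⁻¹ * q'.out * u
          = (q.out : G)⁻¹ * ((q'.out : G) * u * (q'.out : G)⁻¹) * q'.out := by group
        _ = (q.out : G)⁻¹ * ((q.out : G) * u * (q.out : G)⁻¹) * q'.out := by rw [he']
        _ = u * ((q.out : G)⁻¹ * q'.out) := by group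
    · rintro ⟨q, hq⟩
      have hq' : (q.out : G) * u * (q.out : G)⁻¹ = 1 := congrArg Subtype.val hq
      apply hu1
      calc u = (q.out : G)⁻¹ * ((q.out : G) * u * (q.out : G)⁻¹) * q.out := by group
        _ = 1 := by rw [hq']; group

/-- The elements of order dividing `p` of `Z(Q)`. -/
theorem exists_omega (h : RankOne B Q D W w) [Finite G] (hQ : Group.IsNilpotent Q) {p : ℕ}
    (hp : p.Prime) (hdvd : p ∣ Nat.card Q) :
    ∃ (A : Subgroup G) (u : G) (n : ℕ), A ≤ Q ∧ u ∈ A ∧ u ≠ 1 ∧ (∀ v ∈ Q, v * u = u * v) ∧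
      (∀ b ∈ B, ∀ a ∈ A, b * a * b⁻¹ ∈ A) ∧ Nat.card A = p ^ n := by
  obtain ⟨z, hz, hzp⟩ := OddOrderLocal.CNNil.exists_center_orderOf hQ hp hdvd
  let A : Subgroup G :=
    { carrier := {a | a ∈ Q ∧ (∀ v ∈ Q, v * a = a * v) ∧ a ^ p = 1}
      one_mem' := ⟨Q.one_mem, fun v _ => by simp, one_pow p⟩
      mul_mem' := by
        rintro a b ⟨ha, ha', hap⟩ ⟨hb, hb', hbp⟩
        refine ⟨Q.mul_mem ha hb, fun v hv => ?_, ?_⟩
        · rw [← mul_assoc, ha' v hv, mul_assoc, hb' v hv, mul_assoc]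
        · have : Commute a b := (ha' b hb).symm
          rw [this.mul_pow, hap, hbp, one_mul]
      inv_mem' := by
        rintro a ⟨ha, ha', hap⟩
        refine ⟨Q.inv_mem ha, fun v hv => ?_, by rw [inv_pow, hap, inv_one]⟩
        have : Commute a v := (ha' v hv).symm
        exact (this.inv_left).symm }
  have hzA : (z : G) ∈ A := by
    refine ⟨z.2, fun v hv => ?_, ?_⟩
    · exact congrArg Subtype.val (Subgroup.mem_center_iff.1 hz ⟨v, hv⟩)
    · have : z ^ p = 1 := by rw [← hzp]; exact pow_orderOf_eq_one z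
      exact congrArg Subtype.val this
  have hpA : IsPGroup p A := by
    intro a
    exact ⟨1, Subtype.ext (by simpa using a.2.2.2)⟩
  have := Fact.mk hp
  obtain ⟨n, hn⟩ := IsPGroup.iff_card.1 hpA
  refine ⟨A, z, n, fun a ha => ha.1, hzA, ?_, hzA.2.1, ?_, hn⟩
  · intro hc
    have h1 : z = 1 := Subtype.ext hc
    rw [h1, orderOf_one] at hzp
    exact hp.one_lt.ne hzp
  · rintro b hb a ⟨ha, ha', hap⟩
    refine ⟨h.Qn b hb a ha, fun v hv => ?_, ?_⟩
    · have h1 := ha' _ (h.Qn' hb hv)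
      calc v * (b * a * b⁻¹) = b * ((b⁻¹ * v * b) * a) * b⁻¹ := by group
        _ = b * (a * (b⁻¹ * v * b)) * b⁻¹ := by rw [h1]
        _ = b * a * b⁻¹ * v := by group
    · rw [conj_pow, hap]
      group

end RankOne

end Cfsg.Agent.HKS
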