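import Mathlib
import Cfsg.Agent.HKS.OddNum
import Cfsg.Agent.HKS.Pair
import Cfsg.Agent.HKS.Glauberman

/-!
# Point stabilisers of odd order: `C_D(t) = 1`
-/

set_option autoImplicit false

open Cfsg Representation
open scoped ComplexConjugate

namespace Cfsg.Agent.HKS

variable {G : Type*} [Group G] {B Q D W : Subgroup G} {w : G}

theorem dvd_of_central [Finite G] {V : Type*} [AddCommGroup V] [Module ℂ V]
    [FiniteDimensional ℂ V] {ρ : Representation ℂ G V} (hρ : ρ.IsIrreducible) {ξ η : ℤ} {ℓ k N : ℕ}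
    (hℓ : 0 < ℓ) (hη : η ≠ 0) (hs : ξ + η ≠ 0)
    (h3 : ρ.character 1 * (ξ + η) = (N + 1) * ℓ * η) {u : G}
    (hidx : (Subgroup.centralizer {u}).index = (N + 1) * k)
    (hu : ρ.character u * (ξ + η) = η * (ℓ + ξ)) : (ℓ : ℤ) ∣ k * ξ := by
  have := hρ
  have h1 := Characters.CentralCharacter.isIntegral_index_mul_character_div ρ u
  have hn : ρ.character 1 ≠ 0 := Characters.Central.char_one_ne_zero ρ hρ
  rw [show (Module.finrank ℂ V : ℂ) = ρ.character 1 by rw [char_one], hidx] at h1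
  have hℓ' : (ℓ : ℂ) ≠ 0 := by exact_mod_cast hℓ.ne'
  have hη' : (η : ℂ) ≠ 0 := by exact_mod_cast hη
  have hs' : (ξ : ℂ) + η ≠ 0 := by exact_mod_cast hs
  have h2 : (((N + 1) * k : ℕ) : ℂ) * ρ.character u / ρ.character 1 =
      k * (ℓ + ξ) / ℓ := by
    rw [div_eq_div_iff hn hℓ']
    apply mul_right_cancel₀ hs'
    push_cast
    linear_combination ((N : ℂ) + 1) * k * ℓ * hu - (k : ℂ) * (ℓ + ξ) * h3
  rw [h2] at h1
  obtain ⟨c, hc⟩ := Characters.GaloisBasic.exists_int_of_isIntegral h1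
    ⟨(k : ℚ) * (ℓ + ξ) / ℓ, by push_cast; rfl⟩
  rw [div_eq_iff hℓ'] at hc
  have hc' : (k : ℤ) * (ℓ + ξ) = c * ℓ := by exact_mod_cast hc
  exact ⟨c - k, by linear_combination hc'⟩

theorem contra [Finite G] [Fintype Q] (h : RankOne B Q D W w) (hB : Odd (Nat.card B))
    (hQnil : Group.IsNilpotent Q) (hgen : ∀ M : Subgroup G, M.Normal → Q ≤ M → M = ⊤)
    {n n₁ n₂ : ℕ} {σ : Representation ℂ W (Fin n → ℂ)} {ρ₁ : Representation ℂ G (Fin n₁ → ℂ)}
    {ρ₂ : Representation ℂ G (Fin n₂ → ℂ)}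
    {φ₁ : (Fin n → ℂ) →ₗ[ℂ] (Fin n₁ → ℂ)} {φ₂ : (Fin n → ℂ) →ₗ[ℂ] (Fin n₂ → ℂ)}
    (hρ₁ : ρ₁.IsIrreducible) (hρ₂ : ρ₂.IsIrreducible)
    (H₁ : FixRep h ρ₁ σ φ₁) (H₂ : FixRep h ρ₂ σ φ₂) {t : G}
    (hsum1 : ρ₁.character 1 + ρ₂.character 1 = (Nat.card Q + 1) * σ.character 1)
    (hsumt : ρ₁.character t + ρ₂.character t = 0)
    {x₁ x₂ : ℂ}
    (hx₁ : ∀ w' (hw' : w' ∈ W), w' ∉ D → ∀ y,
      avg ρ₁ Q (ρ₁ w' (φ₁ y)) = x₁ • φ₁ (σ ⟨w', hw'⟩ y))
    (hx₂ : ∀ w' (hw' : w' ∈ W), w' ∉ D → ∀ y,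
      avg ρ₂ Q (ρ₂ w' (φ₂ y)) = x₂ • φ₂ (σ ⟨w', hw'⟩ y))
    (hn : 0 < n)
    (hval : ∀ v : W, (v : G) ∉ D → σ.character v ^ Nat.card D = 1)
    (hne : ∃ d, ∃ hd : d ∈ D, σ.character ⟨d, h.DW hd⟩ ≠ σ.character 1)
    {ξ₁ η₁ ξ₂ η₂ : ℤ} (ha₁ : ξ₁ * η₁ = Nat.card Q) (hb₁ : x₁ * η₁ = 1)
    (hc₁ : ρ₁.character 1 * (ξ₁ + η₁) = (Nat.card Q + 1) * σ.character 1 * η₁)
    (hd₁ : ρ₁.character t * (ξ₁ + η₁) = Nat.card Q + 1)
    (ha₂ : ξ₂ * η₂ = Nat.card Q) (hb₂ : x₂ * η₂ = 1)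
    (hc₂ : ρ₂.character 1 * (ξ₂ + η₂) = (Nat.card Q + 1) * σ.character 1 * η₂)
    (hd₂ : ρ₂.character t * (ξ₂ + η₂) = Nat.card Q + 1)
    (ht : t * t = 1) (hpos : 0 < ξ₁ + η₁) : False := by
  classical
  have hN1 : ((Nat.card Q : ℂ) + 1) ≠ 0 := by
    have : ((Nat.card Q + 1 : ℕ) : ℂ) ≠ 0 := Nat.cast_ne_zero.2 (Nat.succ_ne_zero _)
    push_cast at this
    exact this
  have hN0 : 0 < Nat.card Q := Nat.card_pos
  have hσ1 : σ.character 1 = (n : ℂ) := by rw [char_one, Module.finrank_fin_fun]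
  have hnC : (n : ℂ) ≠ 0 := by exact_mod_cast hn.ne'
  have hY : σ.character 1 ≠ 0 := by rw [hσ1]; exact hnC
  -- the relation between the two sets of numbers
  have hs2 : ξ₂ + η₂ = -(ξ₁ + η₁) := by
    have h1 : ((Nat.card Q : ℂ) + 1) * (ξ₂ + η₂) = ((Nat.card Q : ℂ) + 1) * (-(ξ₁ + η₁)) := by
      have h2 : ρ₂.character t = -ρ₁.character t := by linear_combination hsumt
      rw [h2] at hd₂
      linear_combination -((ξ₂ : ℂ) + η₂) * hd₁ - (ξ₁ + η₁) * hd₂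
    have h2 := mul_left_cancel₀ hN1 h1
    exact_mod_cast h2
  have hη2 : η₂ = -ξ₁ := by
    have hs2' : (ξ₂ : ℂ) + η₂ = -(ξ₁ + η₁) := by exact_mod_cast hs2
    rw [hs2'] at hc₂
    have h1 : ((Nat.card Q : ℂ) + 1) * σ.character 1 * η₂ =
        ((Nat.card Q : ℂ) + 1) * σ.character 1 * (-ξ₁) := by
      linear_combination (-(ξ₁ : ℂ) - η₁) * hsum1 + hc₁ - hc₂
    have h2 := mul_left_cancel₀ (mul_ne_zero hN1 hY) h1
    exact_mod_cast h2
  have hξ2 : ξ₂ = -η₁ := by linarith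
  have hNpos : 0 < ξ₁ * η₁ := by rw [ha₁]; exact_mod_cast hN0
  have hξpos : 0 < ξ₁ := by
    rcases (mul_pos_iff.1 hNpos) with h1 | h1
    · exact h1.1
    · linarith [h1.1, h1.2]
  have hηpos : 0 < η₁ := by
    rcases (mul_pos_iff.1 hNpos) with h1 | h1
    · exact h1.2
    · linarith [h1.1, h1.2]
  lift ξ₁ to ℕ using hξpos.le with ξ
  lift η₁ to ℕ using hηpos.le with η
  have hN : ξ * η = Nat.card Q := by exact_mod_cast ha₁
  have hξ0 : 0 < ξ := by exact_mod_cast hξpos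
  have hη0 : 0 < η := by exact_mod_cast hηpos
  -- `ξ + η` divides `N + 1`
  have hdvdN : ξ + η ∣ ξ * η + 1 := by
    obtain ⟨c, hc⟩ := exists_int_of_mul_self ρ₁ ht
    rw [hc] at hd₁
    have h1 : c * ((ξ : ℤ) + η) = Nat.card Q + 1 := by exact_mod_cast hd₁
    have h2 : ((ξ + η : ℕ) : ℤ) ∣ ((ξ * η + 1 : ℕ) : ℤ) :=
      ⟨c, by rw [hN]; push_cast; linear_combination -h1⟩
    exact_mod_cast h2
  have hcop : Nat.Coprime ξ η := by
    apply Nat.Coprime.symm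
    rw [Nat.coprime_iff_gcd_eq_one]
    set g := Nat.gcd η ξ with hg
    have h1 : g ∣ ξ + η := dvd_add (Nat.gcd_dvd_right _ _) (Nat.gcd_dvd_left _ _)
    have h2 : g ∣ ξ * η + 1 := h1.trans hdvdN
    have h3 : g ∣ ξ * η := (Nat.gcd_dvd_right η ξ).trans (dvd_mul_right _ _)
    exact Nat.dvd_one.1 ((Nat.dvd_add_right h3).1 h2)
  have hNodd : Odd (ξ * η) := by
    rw [h.card_B, ← hN] at hB
    exact (Nat.odd_mul.1 hB).1
  have hDodd : Odd (Nat.card D) := by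
    rw [h.card_B] at hB
    exact (Nat.odd_mul.1 hB).2
  -- the case `η = 1`
  by_cases hη1 : η = 1
  · obtain ⟨d, hd, hdne⟩ := hne
    apply hdne
    apply H₁.trivial_of_degree _ hgen d hd
    subst hη1
    apply mul_left_cancel₀ hN1
    rw [mul_one] at hN
    rw [← hN] at hc₁ ⊢
    push_cast at hc₁ ⊢
    linear_combination hc₁
  -- the prime
  obtain ⟨p, hp, hpη⟩ := Nat.exists_prime_and_dvd hη1
  have hpN : p ∣ Nat.card Q := by rw [← hN]; exact hpη.mul_left ξ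
  obtain ⟨A, u, a, hAQ, huA, hu1, hcen, hAB, hAcard⟩ := h.exists_omega hQnil hp hpN
  have huQ := hAQ huA
  have hAη : Nat.card A ≤ η := by
    apply Nat.le_of_dvd hη0
    have h1 : Nat.card A ∣ ξ * η := by rw [hN]; exact Subgroup.card_dvd_of_le hAQ
    have h2 : Nat.Coprime (Nat.card A) ξ := by
      rw [hAcard]
      apply Nat.Coprime.pow_left
      rw [Nat.Prime.coprime_iff_not_dvd hp]
      intro h3
      have h4 := Nat.dvd_gcd h3 hpη
      rw [Nat.coprime_iff_gcd_eq_one.1 hcop] at h4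
      exact hp.one_lt.ne' (Nat.dvd_one.1 h4)
    exact h2.dvd_of_dvd_mul_left h1
  obtain ⟨k, hk0, hidx, hkA⟩ := h.index_centralizer huQ hu1
  have hkη : k < η := lt_of_lt_of_le (hkA A huA hAB) hAη
  -- the middle element
  obtain ⟨u₁, hu₁, v, hv, hvD, u₂, hu₂, he⟩ := h.exists_mid (h.not_mem_of_Q' huQ hu1)
  set s : ℂ := σ.character ⟨v, hv⟩ with hs
  have hsD : s ^ Nat.card D = 1 := hval ⟨v, hv⟩ hvD
  have hv₁ := H₁.central_value hρ₁ hx₁ hY ha₁ hb₁ hc₁ huQ hcen hu₁ hu₂ hv hvD he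
  have hv₂ := H₂.central_value hρ₂ hx₂ hY ha₂ hb₂ hc₂ huQ hcen hu₁ hu₂ hv hvD he
  rw [← hs, hσ1] at hv₁ hv₂
  rw [hσ1] at hc₁ hc₂
  have hM0 : ((ξ : ℂ) + η) ≠ 0 := by exact_mod_cast (by omega : ξ + η ≠ 0)
  -- `s = 1`
  have hs1 : s = 1 := by
    apply eq_one_of_integral hDodd hsD (M := ξ + η)
    · have h1 := Nat.odd_mul.1 hNodd
      exact h1.1.add_odd h1.2
    · have h1 := (Nat.odd_mul.1 hNodd).2
      obtain ⟨j, hj⟩ := h1
      omega
    · have hcop2 : IsCoprime ((ξ * η : ℕ) : ℤ) ((ξ + η : ℕ) : ℤ) := by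
        apply Nat.isCoprime_iff_coprime.2
        rw [Nat.coprime_iff_gcd_eq_one]
        set g := Nat.gcd (ξ * η) (ξ + η) with hg
        have h1 : g ∣ ξ * η + 1 := (Nat.gcd_dvd_right _ _).trans hdvdN
        exact Nat.dvd_one.1 ((Nat.dvd_add_right (Nat.gcd_dvd_left _ _)).1 h1)
      obtain ⟨α, β, hαβ⟩ := hcop2
      have hαβ' : (α : ℂ) * (ξ * η) + β * (ξ + η) = 1 := by exact_mod_cast hαβ
      have hconj := congrArg conj hv₁
      simp only [map_mul, map_add, map_natCast, Int.cast_natCast] at hconj hv₁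
      have h1 : (s - conj s) / ((ξ + η : ℕ) : ℂ) =
          α * (ρ₁.character u - conj (ρ₁.character u)) + β * (s - conj s) := by
        push_cast
        rw [div_eq_iff hM0]
        linear_combination -(s - conj s) * hαβ' - (α : ℂ) * hv₁ + (α : ℂ) * hconj
      rw [h1]
      have h2 : IsIntegral ℤ (ρ₁.character u) :=
        Characters.GaloisBasic.isIntegral_apply (Characters.Core.isCharacter_of_rep ρ₁) u
      have h3 : IsIntegral ℤ (conj (ρ₁.character u)) := by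
        rw [← Characters.Core.isCharacter_apply_inv (Characters.Core.isCharacter_of_rep ρ₁)]
        exact Characters.GaloisBasic.isIntegral_apply (Characters.Core.isCharacter_of_rep ρ₁) u⁻¹
      have h4 : IsIntegral ℤ s := IsIntegral.of_pow hDodd.pos (by rw [hsD]; exact isIntegral_one)
      have h5 : IsIntegral ℤ (conj s) := by
        refine IsIntegral.of_pow hDodd.pos ?_
        rw [← map_pow, hsD, map_one]
        exact isIntegral_one
      have hint : ∀ z : ℤ, IsIntegral ℤ (z : ℂ) := fun z => by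
        simpa using (isIntegral_algebraMap : IsIntegral ℤ (algebraMap ℤ ℂ z))
      exact ((hint α).mul (h2.sub h3)).add ((hint β).mul (h4.sub h5))
  rw [hs1, mul_one] at hv₁ hv₂
  -- `n ∣ k`
  have hd1 : (n : ℤ) ∣ k * (ξ : ℤ) :=
    dvd_of_central hρ₁ hn (by exact_mod_cast hη0.ne') hpos.ne' hc₁ hidx hv₁
  have hd2 : (n : ℤ) ∣ k * ξ₂ := by
    refine dvd_of_central hρ₂ hn ?_ ?_ hc₂ hidx hv₂
    · rw [hη2]
      exact neg_ne_zero.2 (by exact_mod_cast hξ0.ne')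
    · rw [hs2]
      exact neg_ne_zero.2 hpos.ne'
  rw [hξ2, mul_neg, dvd_neg] at hd2
  have hd1' : n ∣ k * ξ := by exact_mod_cast hd1
  have hd2' : n ∣ k * η := by exact_mod_cast hd2
  have hnk : n ∣ k := by
    have h1 := Nat.dvd_gcd hd1' hd2'
    rw [Nat.gcd_mul_left, Nat.coprime_iff_gcd_eq_one.1 hcop, mul_one] at h1
    exact h1
  have hnk' : n ≤ k := Nat.le_of_dvd hk0 hnk
  -- `ξ + η ∣ n + ξ`
  have hlast : ξ + η ∣ n + ξ := by
    obtain ⟨c, hc⟩ := Characters.GaloisBasic.exists_int_of_isIntegral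
      (Characters.GaloisBasic.isIntegral_apply (Characters.Core.isCharacter_of_rep ρ₁) u)
      ⟨(η : ℚ) * (n + ξ) / (ξ + η), by
        push_cast
        rw [eq_div_iff hM0]
        simpa using hv₁⟩
    rw [hc] at hv₁
    have h1 : c * ((ξ : ℤ) + η) = η * (n + ξ) := by exact_mod_cast hv₁
    have h2 : ((ξ + η : ℕ) : ℤ) ∣ ((η * (n + ξ) : ℕ) : ℤ) :=
      ⟨c, by push_cast; linear_combination -h1⟩
    have h3 : ξ + η ∣ η * (n + ξ) := by exact_mod_cast h2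
    have h4 : Nat.Coprime (ξ + η) η := by
      rw [Nat.coprime_add_self_left]
      exact hcop
    exact h4.dvd_of_dvd_mul_left h3
  have := Nat.le_of_dvd (by omega) hlast
  omega

namespace RankOne

theorem mul_mem_D (h : RankOne B Q D W w) {a b : G} (ha : a ∈ W) (haD : a ∉ D) (hb : b ∈ W)
    (hbD : b ∉ D) : a * b ∈ D := by
  have hb' : b⁻¹ ∉ D := fun hc => hbD (by simpa using D.inv_mem hc)
  obtain ⟨d, hd, rfl⟩ := h.Wmul a ha haD
  obtain ⟨d', hd', he⟩ := h.Wmul b⁻¹ (W.inv_mem hb) hb'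
  have h1 : b = d'⁻¹ * w⁻¹ := by rw [← inv_inv b, he, mul_inv_rev]
  rw [h1]
  have h2 := h.w_conj (D.mul_mem hd (D.inv_mem hd'))
  have h3 : w * d * (d'⁻¹ * w⁻¹) = w * (d * d'⁻¹) * w⁻¹ := by group
  rwa [h3]

theorem index_two (h : RankOne B Q D W w) : (D.subgroupOf W).index = 2 := by
  rw [Subgroup.index_eq_two_iff]
  refine ⟨⟨w, h.wW⟩, fun b => ?_⟩
  simp only [Subgroup.mem_subgroupOf, Subgroup.coe_mul]
  by_cases hb : (b : G) ∈ D
  · right
    refine ⟨hb, fun hc => h.wD ?_⟩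
    have := D.mul_mem (D.inv_mem hb) hc
    rwa [inv_mul_cancel_left] at this
  · left
    exact ⟨h.mul_mem_D b.2 hb h.wW h.wD, hb⟩

theorem exists_sigma (h : RankOne B Q D W w) [Finite G] (hodd : Odd (Nat.card D))
    (hsol : Group.IsSolvable D) {t : G} (htW : t ∈ W) (htD : t ∉ D) (ht : t * t = 1)
    (hne : ∃ x ∈ D, x ≠ 1 ∧ x * t = t * x) :
    ∃ (n : ℕ) (σ : Representation ℂ W (Fin n → ℂ)),
      IsIrreducible (σ.comp (Subgroup.inclusion h.DW)) ∧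
      (∀ v : W, (v : G) ∉ D → σ.character v ^ Nat.card D = 1) ∧
      (∀ v : W, (v : G) ∉ D → v * v = 1 → σ.character v = 1) ∧
      ∃ d, ∃ hd : d ∈ D, σ.character ⟨d, h.DW hd⟩ ≠ σ.character 1 := by
  let e := (Subgroup.subgroupOfEquivOfLe h.DW)
  have hcard : Nat.card (D.subgroupOf W) = Nat.card D := Nat.card_congr e.toEquiv
  obtain ⟨x, hxD, hx1, hxt⟩ := hne
  have hsol' : Group.IsSolvable (D.subgroupOf W) :=
    Group.isSolvable_of_isSolvable_injective (f := e.toMonoidHom) e.injective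
  obtain ⟨α, hα, hαD, h1, h2, d, hd, hαd⟩ := Glauberman.exists_alpha h.index_two
    (t := (⟨t, htW⟩ : W)) (fun hc => htD (Subgroup.mem_subgroupOf.1 hc)) (Subtype.ext ht)
    (by rw [hcard]; exact hodd) hsol'
    ⟨⟨x, h.DW hxD⟩, Subgroup.mem_subgroupOf.2 hxD, fun hc => hx1 (congrArg Subtype.val hc),
      Subtype.ext hxt⟩
  rw [hcard] at h1
  obtain ⟨n, σ, -, rfl⟩ := hα
  refine ⟨n, σ, ?_, fun v hv => h1 v (fun hc => hv (Subgroup.mem_subgroupOf.1 hc)),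
    fun v hv => h2 v (fun hc => hv (Subgroup.mem_subgroupOf.1 hc)), d, hd, hαd⟩
  apply Glauberman.isIrreducible_of_isIrr
  exact Characters.Core.isIrr_comp e.symm.toMonoidHom e.symm.surjective hαD

/-- **Point stabilisers of odd order**: `C_D(t) = 1`. -/
theorem centralizer_trivial (h : RankOne B Q D W w) [Finite G] (hB : Odd (Nat.card B))
    (hQnil : Group.IsNilpotent Q) (hsol : Group.IsSolvable D)
    (hgen : ∀ M : Subgroup G, M.Normal → Q ≤ M → M = ⊤) {t : G} (htW : t ∈ W) (htD : t ∉ D)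
    (ht : t * t = 1) : ∀ x ∈ D, x * t = t * x → x = 1 := by
  classical
  have := Fintype.ofFinite G
  have := Fintype.ofFinite Q
  intro x hxD hxt
  by_contra hx1
  have hDodd : Odd (Nat.card D) := by
    rw [h.card_B] at hB
    exact (Nat.odd_mul.1 hB).2
  obtain ⟨n, σ, hσ, hval, hτ, hne⟩ := h.exists_sigma hDodd hsol htW htD ht ⟨x, hxD, hx1, hxt⟩
  obtain ⟨n₁, n₂, ρ₁, ρ₂, φ₁, φ₂, hρ₁, hρ₂, -, H₁, H₂, hsum⟩ := h.exists_pair σ hσ
  obtain ⟨x₁, hx₁⟩ := H₁.exists_scalar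
  obtain ⟨x₂, hx₂⟩ := H₂.exists_scalar
  have hirr : IsIrrCharacter D (fun d => σ.character (Subgroup.inclusion h.DW d)) :=
    ⟨n, σ.comp (Subgroup.inclusion h.DW), hσ, rfl⟩
  have ht1 : t ≠ 1 := fun hc => htD (by rw [hc]; exact D.one_mem)
  have hsum1 : ρ₁.character 1 + ρ₂.character 1 = (Nat.card Q + 1) * σ.character 1 := by
    have := congrFun hsum 1
    rw [h.ind_one hirr] at this
    exact this.symm
  have hsumt : ρ₁.character t + ρ₂.character t = 0 := by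
    have := congrFun hsum t
    rw [OddOrderCharacters.IndRes.indFun_eq_zero_of_forall] at this
    · exact this.symm
    · intro y
      apply not_mem_of_odd hB
      · calc y⁻¹ * t * y * (y⁻¹ * t * y) = y⁻¹ * (t * t) * y := by group
          _ = 1 := by rw [ht]; group
      · intro hc
        apply ht1
        calc t = y * (y⁻¹ * t * y) * y⁻¹ := by group
          _ = 1 := by rw [hc]; group
  have hn : 0 < n := by
    rcases Nat.eq_zero_or_pos n with h0 | h0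
    · exfalso
      have h1 := Characters.Core.isIrr_apply_one_ne_zero hirr
      apply h1
      change σ.character (Subgroup.inclusion h.DW 1) = 0
      rw [map_one, char_one, Module.finrank_fin_fun, h0, Nat.cast_zero]
    · exact h0
  have hY : σ.character 1 ≠ 0 := by
    rw [char_one, Module.finrank_fin_fun]
    exact_mod_cast hn.ne'
  obtain ⟨ξ₁, η₁, ha₁, hb₁, hc₁, hd₁⟩ := H₁.numbers hρ₁ hx₁ hB ht ht1 hτ hY
  obtain ⟨ξ₂, η₂, ha₂, hb₂, hc₂, hd₂⟩ := H₂.numbers hρ₂ hx₂ hB ht ht1 hτ hY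
  have hN1 : ((Nat.card Q : ℂ) + 1) ≠ 0 := by
    have : ((Nat.card Q + 1 : ℕ) : ℂ) ≠ 0 := Nat.cast_ne_zero.2 (Nat.succ_ne_zero _)
    push_cast at this
    exact this
  have hs2 : ξ₂ + η₂ = -(ξ₁ + η₁) := by
    have h1 : ((Nat.card Q : ℂ) + 1) * (ξ₂ + η₂) = ((Nat.card Q : ℂ) + 1) * (-(ξ₁ + η₁)) := by
      have h2 : ρ₂.character t = -ρ₁.character t := by linear_combination hsumt
      rw [h2] at hd₂
      linear_combination -((ξ₂ : ℂ) + η₂) * hd₁ - (ξ₁ + η₁) * hd₂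
    have h2 := mul_left_cancel₀ hN1 h1
    exact_mod_cast h2
  rcases lt_trichotomy 0 (ξ₁ + η₁) with hpos | hzero | hneg
  · exact contra h hB hQnil hgen hρ₁ hρ₂ H₁ H₂ hsum1 hsumt hx₁ hx₂ hn hval hne
      ha₁ hb₁ hc₁ hd₁ ha₂ hb₂ hc₂ hd₂ ht hpos
  · apply hN1
    rw [← hd₁]
    have : ((ξ₁ : ℂ) + η₁) = 0 := by exact_mod_cast hzero.symm
    rw [this, mul_zero]
  · exact contra h hB hQnil hgen hρ₂ hρ₁ H₂ H₁ (by rw [add_comm]; exact hsum1)
      (by rw [add_comm]; exact hsumt) hx₂ hx₁ hn hval hne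
      ha₂ hb₂ hc₂ hd₂ ha₁ hb₁ hc₁ hd₁ ht (by rw [hs2]; linarith)

end RankOne

end Cfsg.Agent.HKS
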