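import Mathlib
import Cfsg.Agent.HKS.OddMain
import Cfsg.Agent.HKS.Frame
import Cfsg.Agent.Lib.ActCount
import Cfsg.Agent.S0885
import Cfsg.Agent.S0731

/-!
# Point stabilisers of odd order: the Zassenhaus end game
-/

set_option autoImplicit false

namespace Cfsg.Agent.HKS

open Subgroup MulAction

section group

variable {G : Type*} [Group G] {B Q D W : Subgroup G} {w : G}

/-- A fixed-point-free involution inverts. -/
theorem conj_eq_inv_of_free [Finite G] {D : Subgroup G} {t : G}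
    (hD : ∀ d ∈ D, t * d * t⁻¹ ∈ D) (ht : t * t = 1) (hfree : ∀ x ∈ D, x * t = t * x → x = 1) :
    ∀ d ∈ D, t * d * t⁻¹ = d⁻¹ := by
  have htinv : t⁻¹ = t := inv_eq_of_mul_eq_one_right ht
  have hinj : Function.Injective (fun x : D => (⟨(x : G)⁻¹ * (t * x * t⁻¹),
      D.mul_mem (D.inv_mem x.2) (hD x x.2)⟩ : D)) := by
    intro x y he
    have he' : (x : G)⁻¹ * (t * x * t⁻¹) = (y : G)⁻¹ * (t * y * t⁻¹) := congrArg Subtype.val he
    have h1 : (y : G) * (x : G)⁻¹ = 1 := by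
      refine hfree _ (D.mul_mem y.2 (D.inv_mem x.2)) ?_
      calc (y : G) * (x : G)⁻¹ * t = y * ((x : G)⁻¹ * (t * x * t⁻¹)) * (t * (x : G)⁻¹) := by group
        _ = y * ((y : G)⁻¹ * (t * y * t⁻¹)) * (t * (x : G)⁻¹) := by rw [he']
        _ = t * (y * (x : G)⁻¹) := by group
    exact Subtype.ext (mul_inv_eq_one.1 h1).symm
  intro d hd
  obtain ⟨x, hx⟩ := (Finite.injective_iff_surjective.1 hinj) ⟨d, hd⟩
  have hx' : (x : G)⁻¹ * (t * x * t⁻¹) = d := congrArg Subtype.val hx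
  rw [← hx', htinv]
  calc t * ((x : G)⁻¹ * (t * x * t)) * t = t * (x : G)⁻¹ * t * x * (t * t) := by group
    _ = t * (x : G)⁻¹ * t * x := by rw [ht, mul_one]
    _ = t⁻¹ * (x : G)⁻¹ * t⁻¹ * x := by rw [htinv]
    _ = ((x : G)⁻¹ * (t * x * t))⁻¹ := by group

theorem comm_of_inverted {D : Subgroup G} {t : G} (hinv : ∀ d ∈ D, t * d * t⁻¹ = d⁻¹) :
    ∀ x ∈ D, ∀ y ∈ D, x * y = y * x := by
  intro x hx y hy
  have h1 : t * (x * y) * t⁻¹ = x⁻¹ * y⁻¹ := by
    calc t * (x * y) * t⁻¹ = (t * x * t⁻¹) * (t * y * t⁻¹) := by group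
      _ = x⁻¹ * y⁻¹ := by rw [hinv x hx, hinv y hy]
  rw [hinv _ (D.mul_mem hx hy)] at h1
  have h2 := congrArg (·⁻¹) h1
  simp only [inv_inv, mul_inv_rev] at h2
  exact h2

/-- Semiregular action by conjugation. -/
theorem card_dvd_of_conj_free [Finite G] (T V : Subgroup G)
    (hTV : ∀ t ∈ T, ∀ v ∈ V, t * v * t⁻¹ ∈ V)
    (hfree : ∀ t ∈ T, t ≠ 1 → ∀ v ∈ V, t * v = v * t → v = 1) : Nat.card T ∣ Nat.card V - 1 := by
  classical
  let act : MulAction T {v : V // v ≠ 1} :=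
    { smul := fun t v => ⟨⟨(t : G) * v.1 * (t : G)⁻¹, hTV t t.2 _ v.1.2⟩, by
        intro h
        apply v.2
        have h1 : (t : G) * v.1 * (t : G)⁻¹ = 1 := congrArg Subtype.val h
        have h2 : (v.1 : G) = 1 := by
          have := congrArg (fun x => (t : G)⁻¹ * x * t) h1
          simpa [mul_assoc] using this
        exact Subtype.ext h2⟩
      one_smul := fun v => by
        apply Subtype.ext; apply Subtype.ext
        change ((1 : T) : G) * v.1 * ((1 : T) : G)⁻¹ = v.1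
        simp
      mul_smul := fun s t v => by
        apply Subtype.ext; apply Subtype.ext
        change ((s * t : T) : G) * v.1 * ((s * t : T) : G)⁻¹ =
          (s : G) * ((t : G) * v.1 * (t : G)⁻¹) * (s : G)⁻¹
        rw [Subgroup.coe_mul]; group }
  obtain ⟨m, hm⟩ := Lib.ActCount.exists_card_mul (H := T) (Y := {v : V // v ≠ 1}) 1 (by
    intro v
    rw [Subgroup.card_eq_one, eq_bot_iff]
    intro t ht
    rw [Subgroup.mem_bot]
    by_contra hne
    apply v.2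
    have h1 : (⟨(t : G) * v.1 * (t : G)⁻¹, hTV t t.2 _ v.1.2⟩ : V) = v.1 :=
      congrArg Subtype.val (mem_stabilizer_iff.mp ht)
    have h2 : (t : G) * v.1 * (t : G)⁻¹ = v.1 := congrArg Subtype.val h1
    rw [mul_inv_eq_iff_eq_mul] at h2
    exact Subtype.ext (hfree t t.2 (fun h => hne (Subtype.ext h)) _ v.1.2 h2))
  have hc : Nat.card {v : V // v ≠ 1} = Nat.card V - 1 := by
    have h1 := Set.ncard_compl ({1} : Set V)
    rw [Set.ncard_singleton] at h1
    rw [← h1]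
    rfl
  rw [← hc]
  exact ⟨m, by rw [← Nat.one_mul (Nat.card _), hm, mul_comm]⟩

namespace RankOne

theorem odd_D (h : RankOne B Q D W w) [Finite G] (hB : Odd (Nat.card B)) :
    Odd (Nat.card D) := by
  rw [h.card_B] at hB
  exact (Nat.odd_mul.1 hB).2

theorem odd_Q (h : RankOne B Q D W w) [Finite G] (hB : Odd (Nat.card B)) :
    Odd (Nat.card Q) := by
  rw [h.card_B] at hB
  exact (Nat.odd_mul.1 hB).1

theorem card_W (h : RankOne B Q D W w) [Finite G] : Nat.card W = Nat.card D * 2 := by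
  rw [← (D.subgroupOf W).card_mul_index, h.index_two,
    Nat.card_congr (Subgroup.subgroupOfEquivOfLe h.DW).toEquiv]

theorem exists_invol (h : RankOne B Q D W w) [Finite G] (hD : Odd (Nat.card D)) :
    ∃ t ∈ W, t ∉ D ∧ t * t = 1 := by
  have h2 : 2 ∣ Nat.card W := by rw [h.card_W]; exact dvd_mul_left _ _
  obtain ⟨t, ht⟩ := exists_prime_orderOf_dvd_card' 2 h2
  have ht2 : t * t = 1 := by
    have := pow_orderOf_eq_one t
    rwa [ht, sq] at this
  refine ⟨t, t.2, fun hc => ?_, congrArg Subtype.val ht2⟩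
  have h3 : orderOf (⟨t, hc⟩ : D) = 2 := by
    rw [← ht, ← Subgroup.orderOf_coe, ← Subgroup.orderOf_coe]
  have h4 := orderOf_dvd_natCard (⟨t, hc⟩ : D)
  rw [h3] at h4
  exact (Nat.not_even_iff_odd.2 hD) (even_iff_two_dvd.2 h4)

/-- `D` is inverted by every involution of `W ∖ D`. -/
theorem odd_inverts (h : RankOne B Q D W w) [Finite G] (hB : Odd (Nat.card B))
    (hQnil : Group.IsNilpotent Q) (hsol : Group.IsSolvable D)
    (hgen : ∀ M : Subgroup G, M.Normal → Q ≤ M → M = ⊤) {t : G}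
    (htW : t ∈ W) (htD : t ∉ D) (ht : t * t = 1) : ∀ d ∈ D, t * d * t⁻¹ = d⁻¹ :=
  conj_eq_inv_of_free (fun d hd => h.Wn t htW d hd) ht
    (h.centralizer_trivial hB hQnil hsol hgen htW htD ht)

theorem odd_comm (h : RankOne B Q D W w) [Finite G] (hB : Odd (Nat.card B))
    (hQnil : Group.IsNilpotent Q) (hsol : Group.IsSolvable D)
    (hgen : ∀ M : Subgroup G, M.Normal → Q ≤ M → M = ⊤) :
    ∀ x ∈ D, ∀ y ∈ D, x * y = y * x := by
  obtain ⟨t, htW, htD, ht⟩ := h.exists_invol (h.odd_D hB)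
  exact comm_of_inverted (h.odd_inverts hB hQnil hsol hgen htW htD ht)

/-- `D` acts semiregularly on `Q`. -/
theorem odd_semireg (h : RankOne B Q D W w) [Finite G] (hB : Odd (Nat.card B))
    (hQnil : Group.IsNilpotent Q) (hsol : Group.IsSolvable D)
    (hgen : ∀ M : Subgroup G, M.Normal → Q ≤ M → M = ⊤) :
    ∀ x ∈ D, x ≠ 1 → ∀ u ∈ Q, x * u = u * x → u = 1 := by
  intro x hx hx1 u hu hxu
  by_contra hu1
  obtain ⟨t, htW, htD, ht⟩ := h.exists_invol (h.odd_D hB)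
  have hinv := h.odd_inverts hB hQnil hsol hgen htW htD ht
  have hcomm := comm_of_inverted hinv
  -- an element of `D` centralising `u` centralises the middle element of `w u w⁻¹`
  obtain ⟨u₁, hu₁, v, hv, hvD, u₂, hu₂, he⟩ := h.exists_mid (h.not_mem_of_Q' hu hu1)
  set y := w * x * w⁻¹ with hy
  have hyD : y ∈ D := h.w_conj hx
  have hyc : y * (w * u * w⁻¹) * y⁻¹ = w * u * w⁻¹ := by
    calc y * (w * u * w⁻¹) * y⁻¹ = w * (x * u) * x⁻¹ * w⁻¹ := by rw [hy]; group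
      _ = w * u * w⁻¹ := by rw [hxu]; group
  obtain ⟨d, hd, hvd⟩ := h.Wmul v hv hvD
  have h1 : (y * u₁ * y⁻¹) * w * ((w⁻¹ * y * w) * d * y⁻¹ * (y * u₂ * y⁻¹)) =
      u₁ * w * (d * u₂) := by
    calc (y * u₁ * y⁻¹) * w * ((w⁻¹ * y * w) * d * y⁻¹ * (y * u₂ * y⁻¹))
        = y * (u₁ * (w * d) * u₂) * y⁻¹ := by group
      _ = w * u * w⁻¹ := by rw [← hvd, ← he, hyc]
      _ = u₁ * w * (d * u₂) := by rw [he, hvd]; group
  have hyB := h.DB hyD
  have hwy := h.winv_conj hyD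
  obtain ⟨h2, h3⟩ := h.unique_bruhat (h.Qn y hyB u₁ hu₁) hu₁
    (B.mul_mem (B.mul_mem (B.mul_mem (h.DB hwy) (h.DB hd)) (B.inv_mem hyB))
      (h.QB (h.Qn y hyB u₂ hu₂))) (B.mul_mem (h.DB hd) (h.QB hu₂)) h1
  -- compare the `D`-components
  have h4 : (w⁻¹ * y * w) * d * y⁻¹ = d := by
    have h5 : d⁻¹ * ((w⁻¹ * y * w) * d * y⁻¹) = u₂ * (y * u₂ * y⁻¹)⁻¹ := by
      have h6 : (w⁻¹ * y * w) * d * y⁻¹ = d * u₂ * (y * u₂ * y⁻¹)⁻¹ := by
        rw [← h3]; group
      rw [h6]; group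
    have h7 : d⁻¹ * ((w⁻¹ * y * w) * d * y⁻¹) = 1 := by
      apply h.QD
      · rw [h5]
        exact Q.mul_mem hu₂ (Q.inv_mem (h.Qn y hyB u₂ hu₂))
      · exact D.mul_mem (D.inv_mem hd) (D.mul_mem (D.mul_mem hwy hd) (D.inv_mem hyD))
    exact (inv_mul_eq_one.1 h7).symm
  -- so `v = w d` commutes with `y`
  have h5 : v * y * v⁻¹ = y := by
    have h6 : (w⁻¹ * y * w) * d = d * y := by
      calc (w⁻¹ * y * w) * d = (w⁻¹ * y * w) * d * y⁻¹ * y := by group
        _ = d * y := by rw [h4]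
    rw [hvd]
    calc w * d * y * (w * d)⁻¹ = w * (d * y) * d⁻¹ * w⁻¹ := by group
      _ = y := by rw [← h6]; group
  -- but `v` inverts `y`
  obtain ⟨d', hd', hvt⟩ : ∃ d' ∈ D, v = t * d' := by
    refine ⟨t⁻¹ * v, ?_, by group⟩
    exact h.mul_mem_D (W.inv_mem htW) (fun hc => htD (by simpa using D.inv_mem hc)) hv hvD
  have h6 : v * y * v⁻¹ = y⁻¹ := by
    rw [hvt]
    calc t * d' * y * (t * d')⁻¹ = t * (d' * y * d'⁻¹) * t⁻¹ := by group
      _ = t * y * t⁻¹ := by rw [hcomm d' hd' y hyD]; group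
      _ = y⁻¹ := hinv y hyD
  rw [h5] at h6
  have h7 : y * y = 1 := by nth_rewrite 1 [h6]; exact inv_mul_cancel y
  have h8 : y = 1 := by
    obtain ⟨k, hk⟩ := h.odd_D hB
    have h9 := Glauberman.pow_card_mem hyD
    rw [hk, pow_succ, pow_mul, sq, h7, one_pow, one_mul] at h9
    exact h9
  apply hx1
  calc x = w⁻¹ * y * w := by rw [hy]; group
    _ = 1 := by rw [h8]; group

end RankOne

end group

end Cfsg.Agent.HKS
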