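import Mathlib
import Cfsg.Agent.HKS.OddEnd

/-!
# Strongly split 2-transitive groups with point stabilisers of odd order

If `G` is generated by the conjugates of `U a`, and `|G_a|` is odd, then `G` is sharply
2-transitive, or `G ≅ PSL₂(K)`.
-/

set_option autoImplicit false

namespace Cfsg.Agent.HKS

open Subgroup MulAction

namespace SSplit

variable {G Ω : Type*} [Group G] [MulAction G Ω] {U : Ω → Subgroup G}

theorem three_fixed [FaithfulSMul G Ω] (h : SSplit U) {a b : Ω} (hab : b ≠ a)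
    (hsr : ∀ x ∈ Dab G a b, x ≠ 1 → ∀ u ∈ U a, x * u = u * x → u = 1) :
    ∀ g : G, ∀ a' b' c' : Ω, a' ≠ b' → b' ≠ c' → a' ≠ c' → g • a' = a' → g • b' = b' →
      g • c' = c' → g = 1 := by
  intro g a' b' c' h1 h2 h3 ha hb hc
  obtain ⟨k, hka, hkb⟩ := h.two (a := a') (b := b') (c := a) (d := b) h1 hab.symm
  have hconj : ∀ x : Ω, g • x = x → (k * g * k⁻¹) • (k • x) = k • x := by
    intro x hx
    rw [mul_smul, mul_smul, inv_smul_smul, hx]
  have hxa := hconj a' ha
  have hxb := hconj b' hb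
  have hxc := hconj c' hc
  rw [hka] at hxa
  rw [hkb] at hxb
  have hxD : k * g * k⁻¹ ∈ Dab G a b := ⟨hxa, hxb⟩
  have hca : k • c' ≠ a := fun hc' => h3 (MulAction.injective k (by
    change k • a' = k • c'; rw [hka, hc']))
  obtain ⟨u, hu, hub⟩ := h.trans (a := a) (b := b) (c := k • c') hab hca
  have hu1 : u ≠ 1 := by
    rintro rfl
    rw [one_smul] at hub
    exact h2 (MulAction.injective k (by change k • b' = k • c'; rw [hkb, hub]))
  by_contra hg
  have hx1 : k * g * k⁻¹ ≠ 1 := by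
    rw [ne_eq, conj_eq_one_iff]
    exact hg
  apply hu1
  refine hsr _ hxD hx1 u hu ?_
  have h4 : (k * g * k⁻¹) * u * (k * g * k⁻¹)⁻¹ ∈ U a := h.conj_of_fix hxa hu
  have h5 : (k * g * k⁻¹) * u * (k * g * k⁻¹)⁻¹ = u := by
    refine h.eq_of_smul_eq hab h4 hu ?_
    have hxb' : (k * g * k⁻¹)⁻¹ • b = b := by rw [inv_smul_eq_iff, hxb]
    rw [mul_smul _ (k * g * k⁻¹)⁻¹ b, hxb', mul_smul, hub, hxc]
  exact mul_inv_eq_iff_eq_mul.1 h5

theorem card_points [Finite G] (h : SSplit U) (a : Ω) : Nat.card Ω = Nat.card (U a) + 1 := by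
  obtain ⟨b, hab, -⟩ := h.three a a
  obtain ⟨w, hw⟩ := h.exists_swaps hab
  have h1 := (h.rankOne hab hw).index_B
  have : IsPretransitive G Ω := ⟨fun x y => h.tr x y⟩
  rw [← h1, MulAction.index_stabilizer_of_transitive]

/-- **Odd point stabilisers**: the Zassenhaus group. -/
theorem odd_zassenhaus [Finite G] [FaithfulSMul G Ω] (h : SSplit U) {a b : Ω} (hab : b ≠ a)
    (hodd : Odd (Nat.card (stabilizer G a))) (hsol : Group.IsSolvable (Dab G a b))
    (hgen : ∀ M : Subgroup G, M.Normal → U a ≤ M → M = ⊤) (hD : Dab G a b ≠ ⊥) :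
    IsZassenhausGroup G Ω := by
  obtain ⟨w, hw⟩ := h.exists_swaps hab
  have hR := h.rankOne hab hw
  have hsr := hR.odd_semireg hodd (h.nil a) hsol hgen
  refine ⟨inferInstance, is_two_pretransitive_iff.2 fun h1 h2 => h.two h1 h2,
    h.three_fixed hab hsr, ?_, ?_⟩
  · obtain ⟨d, hd1⟩ := (Subgroup.ne_bot_iff_exists_ne_one).1 hD
    exact ⟨d, fun hc => hd1 (Subtype.ext hc), a, b, hab.symm, d.2.1, d.2.2⟩
  · intro N hN htr
    by_contra hcon
    push Not at hcon
    have hfree : ∀ n ∈ N, n • a = a → n = 1 := by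
      intro n hn hna
      have h1 : (⟨n, hn⟩ : N) ∈ stabilizer N a := hna
      rw [hcon a] at h1
      exact congrArg Subtype.val (Subgroup.mem_bot.1 h1)
    have hM : (N ⊔ U a).Normal := by
      refine ⟨fun x hx g => ?_⟩
      obtain ⟨n₀, hn₀⟩ := htr.exists_smul_eq a (g • a)
      have hn₀' : (n₀ : G) • a = g • a := hn₀
      have hs : ((n₀ : G)⁻¹ * g) • a = a := by rw [mul_smul, ← hn₀', inv_smul_smul]
      obtain ⟨n, hn, u, hu, rfl⟩ := Subgroup.mem_sup_of_normal_left.1 hx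
      set s := (n₀ : G)⁻¹ * g with hs'
      have h1 : s * (n * u) * s⁻¹ ∈ N ⊔ U a := by
        have h2 : s * (n * u) * s⁻¹ = (s * n * s⁻¹) * (s * u * s⁻¹) := by group
        rw [h2]
        exact Subgroup.mul_mem _ (Subgroup.mem_sup_left (hN.conj_mem n hn s))
          (Subgroup.mem_sup_right (h.conj_of_fix hs hu))
      have h2 : g * (n * u) * g⁻¹ = n₀ * (s * (n * u) * s⁻¹) * (n₀ : G)⁻¹ := by
        rw [hs']; group
      rw [h2]
      have h3 : (n₀ : G) ∈ N ⊔ U a := Subgroup.mem_sup_left n₀.2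
      exact Subgroup.mul_mem _ (Subgroup.mul_mem _ h3 h1) (Subgroup.inv_mem _ h3)
    have htop := hgen _ hM le_sup_right
    apply hD
    rw [eq_bot_iff]
    intro d hd
    have h1 : d ∈ N ⊔ U a := by rw [htop]; trivial
    obtain ⟨n, hn, u, hu, rfl⟩ := Subgroup.mem_sup_of_normal_left.1 h1
    have h2 : n • a = a := by
      have := hd.1
      change (n * u) • a = a at this
      rwa [mul_smul, h.fix hu] at this
    have h3 := hfree n hn h2
    subst h3
    rw [one_mul] at hd ⊢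
    exact Subgroup.mem_bot.2 (h.free hab hu hd.2)

/-- **Odd point stabilisers**: the numbers. -/
theorem odd_card [Finite G] [FaithfulSMul G Ω] (h : SSplit U) {a b : Ω} (hab : b ≠ a)
    (hodd : Odd (Nat.card (stabilizer G a))) (hsol : Group.IsSolvable (Dab G a b))
    (hgen : ∀ M : Subgroup G, M.Normal → U a ≤ M → M = ⊤) (hD : Dab G a b ≠ ⊥) :
    Nat.card (U a) = 2 * Nat.card (Dab G a b) + 1 := by
  classical
  obtain ⟨w, hw⟩ := h.exists_swaps hab
  have hR := h.rankOne hab hw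
  have hZ := h.odd_zassenhaus hab hodd hsol hgen hD
  have : IsPretransitive G Ω := ⟨fun x y => h.tr x y⟩
  have : Finite Ω := Finite.of_surjective (fun g : G => g • a) (fun c => h.tr a c)
  have := Fintype.ofFinite Ω
  have hcard := h.card_points a
  have h1 := S0885.result hZ hab.symm (Nat.card (U a)) (Nat.card (Dab G a b))
    (by rw [← Nat.card_eq_fintype_card]; exact hcard) rfl (hR.odd_D hodd) (U a)
    (fun x hx => h.fix hx) (by rw [← Nat.card_eq_fintype_card]; exact hcard.symm)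
    (fun u hu hu1 c hc => by
      by_contra hca
      exact hu1 (h.free hca hu hc))
  have hQodd : Odd (Nat.card (U a)) := hR.odd_Q hodd
  have hQ2 : 1 < Nat.card (U a) := by
    obtain ⟨c, hca, hcb⟩ := h.three a b
    obtain ⟨u, hu, hub⟩ := h.trans (a := a) (b := b) (c := c) hab hca
    have : Nontrivial (U a) := ⟨⟨⟨u, hu⟩, 1, fun hc => hcb (by
      have h3 : u = 1 := congrArg Subtype.val hc
      rw [← hub, h3, one_smul])⟩⟩
    exact Finite.one_lt_card
  have hle : Nat.card (U a) - 1 ≤ 2 * Nat.card (Dab G a b) := by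
    rcases h1 with h1 | ⟨h1, -, -⟩
    · exact h1
    · exfalso
      obtain ⟨n, hn⟩ := IsPGroup.iff_card.1 h1
      rw [hn] at hQodd hQ2
      rcases Nat.eq_zero_or_pos n with h0 | h0
      · rw [h0] at hQ2; simp at hQ2
      · exact (Nat.not_even_iff_odd.2 hQodd) ((Nat.even_pow.2 ⟨even_two, h0.ne'⟩))
  have hdvd : Nat.card (Dab G a b) ∣ Nat.card (U a) - 1 :=
    card_dvd_of_conj_free _ _ (fun t ht v hv => h.conj_of_fix ht.1 hv)
      (fun t ht ht1 v hv hc => hR.odd_semireg hodd (h.nil a) hsol hgen t ht ht1 v hv hc)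
  have hDodd := hR.odd_D hodd
  have h2 : 2 ∣ Nat.card (U a) - 1 := by
    obtain ⟨k, hk⟩ := hQodd
    exact ⟨k, by omega⟩
  have h3 : 2 * Nat.card (Dab G a b) ∣ Nat.card (U a) - 1 :=
    (Nat.Coprime.mul_dvd_of_dvd_of_dvd (Nat.coprime_two_left.2 hDodd) h2 hdvd)
  have h4 := Nat.le_of_dvd (by omega) h3
  omega

/-- **Odd point stabilisers**: `G_{ab}` is irreducible on `U a`. -/
theorem odd_irred [Finite G] [FaithfulSMul G Ω] (h : SSplit U) {a b : Ω} (hab : b ≠ a)
    (hodd : Odd (Nat.card (stabilizer G a))) (hsol : Group.IsSolvable (Dab G a b))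
    (hgen : ∀ M : Subgroup G, M.Normal → U a ≤ M → M = ⊤) (hD : Dab G a b ≠ ⊥)
    (V : Subgroup G) (hV : V ≤ U a) (hVD : ∀ d ∈ Dab G a b, ∀ v ∈ V, d * v * d⁻¹ ∈ V)
    (hV1 : V ≠ ⊥) : V = U a := by
  obtain ⟨w, hw⟩ := h.exists_swaps hab
  have hR := h.rankOne hab hw
  have hcard := h.odd_card hab hodd hsol hgen hD
  have hdvd : Nat.card (Dab G a b) ∣ Nat.card V - 1 :=
    card_dvd_of_conj_free _ _ hVD
      (fun t ht ht1 v hv hc => hR.odd_semireg hodd (h.nil a) hsol hgen t ht ht1 v (hV hv) hc)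
  have hDodd := hR.odd_D hodd
  have hVodd : Odd (Nat.card V) :=
    Odd.of_dvd_nat (hR.odd_Q hodd) (Subgroup.card_dvd_of_le hV)
  have hV2 : 1 < Nat.card V := by
    rw [Subgroup.one_lt_card_iff_ne_bot]
    exact hV1
  have h2 : 2 ∣ Nat.card V - 1 := by
    obtain ⟨k, hk⟩ := hVodd
    exact ⟨k, by omega⟩
  have h3 : 2 * Nat.card (Dab G a b) ∣ Nat.card V - 1 :=
    (Nat.Coprime.mul_dvd_of_dvd_of_dvd (Nat.coprime_two_left.2 hDodd) h2 hdvd)
  have h4 := Nat.le_of_dvd (by omega) h3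
  exact Subgroup.eq_of_le_of_card_ge hV (by omega)

/-- **Odd point stabilisers**: `U a` is abelian. -/
theorem odd_abelian [Finite G] [FaithfulSMul G Ω] (h : SSplit U) {a b : Ω} (hab : b ≠ a)
    (hodd : Odd (Nat.card (stabilizer G a))) (hsol : Group.IsSolvable (Dab G a b))
    (hgen : ∀ M : Subgroup G, M.Normal → U a ≤ M → M = ⊤) (hD : Dab G a b ≠ ⊥) :
    ∀ x ∈ U a, ∀ y ∈ U a, x * y = y * x := by
  obtain ⟨w, hw⟩ := h.exists_swaps hab
  have hR := h.rankOne hab hw
  have hcard := h.odd_card hab hodd hsol hgen hD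
  have hne : Nat.card (U a) ≠ 1 := by
    have : 0 < Nat.card (Dab G a b) := Nat.card_pos
    omega
  obtain ⟨p, hp, hpU⟩ := Nat.exists_prime_and_dvd hne
  obtain ⟨A, u, n, hAU, huA, hu1, hcen, hAB, -⟩ := hR.exists_omega (h.nil a) hp hpU
  let V : Subgroup G :=
    { carrier := {x | x ∈ U a ∧ ∀ v ∈ U a, v * x = x * v}
      one_mem' := ⟨(U a).one_mem, fun v _ => by simp⟩
      mul_mem' := by
        rintro x y ⟨hx, hx'⟩ ⟨hy, hy'⟩
        refine ⟨(U a).mul_mem hx hy, fun v hv => ?_⟩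
        rw [← mul_assoc, hx' v hv, mul_assoc, hy' v hv, mul_assoc]
      inv_mem' := by
        rintro x ⟨hx, hx'⟩
        refine ⟨(U a).inv_mem hx, fun v hv => ?_⟩
        have : Commute x v := (hx' v hv).symm
        exact (this.inv_left).symm }
  have hV : V = U a := by
    refine h.odd_irred hab hodd hsol hgen hD V (fun x hx => hx.1) ?_ ?_
    · rintro d hd v ⟨hv, hv'⟩
      refine ⟨h.conj_of_fix hd.1 hv, fun x hx => ?_⟩
      have h1 := hv' _ (h.conj_of_fix' hd.1 hx)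
      calc x * (d * v * d⁻¹) = d * ((d⁻¹ * x * d) * v) * d⁻¹ := by group
        _ = d * (v * (d⁻¹ * x * d)) * d⁻¹ := by rw [h1]
        _ = d * v * d⁻¹ * x := by group
    · intro hc
      have h1 : u ∈ V := ⟨hAU huA, hcen⟩
      rw [hc] at h1
      exact hu1 (Subgroup.mem_bot.1 h1)
  intro x hx y hy
  rw [← hV] at hy
  exact hy.2 x hx

/-- **Odd point stabilisers**: sharply 2-transitive or `PSL₂`. -/
theorem odd_main [Finite G] [FaithfulSMul G Ω] (h : SSplit U) {a b : Ω} (hab : b ≠ a)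
    (hodd : Odd (Nat.card (stabilizer G a))) (hsol : Group.IsSolvable (Dab G a b))
    (hgen : ∀ M : Subgroup G, M.Normal → U a ≤ M → M = ⊤) :
    Dab G a b = ⊥ ∨ ∃ (K : Type) (_ : Field K) (_ : Fintype K), ringChar K ≠ 2 ∧
      Nonempty (G ≃* Matrix.ProjectiveSpecialLinearGroup (Fin 2) K) := by
  by_cases hD : Dab G a b = ⊥
  · exact Or.inl hD
  right
  have hZ := h.odd_zassenhaus hab hodd hsol hgen hD
  have : IsPretransitive G Ω := ⟨fun x y => h.tr x y⟩
  have : Finite Ω := Finite.of_surjective (fun g : G => g • a) (fun c => h.tr a c)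
  have hab' := h.odd_abelian hab hodd hsol hgen hD
  have hn : ((U a).subgroupOf (stabilizer G a)).Normal := by
    refine ⟨fun x hx g => ?_⟩
    rw [Subgroup.mem_subgroupOf] at hx ⊢
    exact h.conj_of_fix g.2 hx
  have hcomm : IsMulCommutative (U a) := ⟨⟨fun x y => Subtype.ext (hab' x x.2 y y.2)⟩⟩
  have hreg : ∀ y z : Ω, y ≠ a → z ≠ a → ∃! u : U a, (u : G) • y = z := by
    intro y z hy hz
    obtain ⟨x, hx, hxy⟩ := h.trans (a := a) hy hz
    exact ⟨⟨x, hx⟩, hxy, fun u hu => Subtype.ext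
      (h.eq_of_smul_eq hy u.2 hx (hu.trans hxy.symm))⟩
  rcases S0731.result hZ a (U a) (fun x hx => h.fix hx) hn hcomm hreg with ⟨h3, hst⟩ | h4
  · exfalso
    obtain ⟨c, hca, hcb⟩ := h.three a b
    let f : Fin 3 ↪ Ω := ⟨![a, b, c], by
      intro i j hij
      fin_cases i <;> fin_cases j <;> simp_all [Ne.symm hab, Ne.symm hca, Ne.symm hcb]⟩
    let f' : Fin 3 ↪ Ω := ⟨![a, c, b], by
      intro i j hij
      fin_cases i <;> fin_cases j <;> simp_all [Ne.symm hab, Ne.symm hca, Ne.symm hcb]⟩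
    obtain ⟨g, hg⟩ := h3.exists_smul_eq f f'
    have hg0 : g • a = a := congrArg (fun F : Fin 3 ↪ Ω => F 0) hg
    have hg1 : g • b = c := congrArg (fun F : Fin 3 ↪ Ω => F 1) hg
    have hg2 : g • c = b := congrArg (fun F : Fin 3 ↪ Ω => F 2) hg
    have hgg : g * g = 1 := hZ.2.2.1 (g * g) a b c hab.symm hcb.symm hca.symm
      (by rw [mul_smul, hg0, hg0]) (by rw [mul_smul, hg1, hg2]) (by rw [mul_smul, hg2, hg1])
    have hg1' : g ≠ 1 := by
      rintro rfl
      rw [one_smul] at hg1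
      exact hcb hg1.symm
    exact not_mem_of_odd (B := stabilizer G a) hodd hgg hg1' hg0
  · exact h4

end SSplit

end Cfsg.Agent.HKS
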