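import Mathlib
import Cfsg.Agent.HKS.OddAct
import Cfsg.Agent.S0205

/-!
# Odd point stabilisers, with the odd order theorem
-/

set_option autoImplicit false

namespace Cfsg.Agent.HKS

open Subgroup MulAction

namespace SSplit

variable {G Ω : Type*} [Group G] [MulAction G Ω] {U : Ω → Subgroup G}

theorem solvable_Dab [Finite G] {a b : Ω} (hodd : Odd (Nat.card (stabilizer G a))) :
    Group.IsSolvable (Dab G a b) :=
  S0205.result (Odd.of_dvd_nat hodd (Subgroup.card_dvd_of_le inf_le_left))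

/-- **Strongly split 2-transitive groups with `|G_a|` odd, generated by the `U c`**: sharply
2-transitive, or `PSL₂(K)`; in the second case `G_{ab}` is abelian of order `(|U a| - 1) / 2`,
and `U a` is abelian. -/
theorem odd_final [Finite G] [FaithfulSMul G Ω] (h : SSplit U) {a b : Ω} (hab : b ≠ a)
    (hodd : Odd (Nat.card (stabilizer G a)))
    (hgen : ∀ M : Subgroup G, M.Normal → U a ≤ M → M = ⊤) :
    Dab G a b = ⊥ ∨ ((∃ (K : Type) (_ : Field K) (_ : Fintype K), ringChar K ≠ 2 ∧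
      Nonempty (G ≃* Matrix.ProjectiveSpecialLinearGroup (Fin 2) K)) ∧
      Nat.card (U a) = 2 * Nat.card (Dab G a b) + 1 ∧
      (∀ x ∈ U a, ∀ y ∈ U a, x * y = y * x) ∧
      (∀ x ∈ Dab G a b, ∀ y ∈ Dab G a b, x * y = y * x) ∧
      (∀ x ∈ Dab G a b, x ≠ 1 → ∀ u ∈ U a, x * u = u * x → u = 1) ∧
      (∀ t, Swaps t a b → t * t = 1 → ∀ d ∈ Dab G a b, t * d * t⁻¹ = d⁻¹) ∧
      ∀ V : Subgroup G, V ≤ U a → (∀ d ∈ Dab G a b, ∀ v ∈ V, d * v * d⁻¹ ∈ V) → V ≠ ⊥ →
        V = U a) := by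
  have hsol := solvable_Dab (b := b) hodd
  by_cases hD : Dab G a b = ⊥
  · exact Or.inl hD
  right
  obtain ⟨w, hw⟩ := h.exists_swaps hab
  have hR := h.rankOne hab hw
  refine ⟨(h.odd_main hab hodd hsol hgen).resolve_left hD, h.odd_card hab hodd hsol hgen hD,
    h.odd_abelian hab hodd hsol hgen hD, hR.odd_comm hodd (h.nil a) hsol hgen,
    hR.odd_semireg hodd (h.nil a) hsol hgen, ?_,
    fun V hV hVD hV1 => h.odd_irred hab hodd hsol hgen hD V hV hVD hV1⟩
  intro t ht ht2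
  have h1 := (mem_Wab_not_mem_Dab hab).2 ht
  exact hR.odd_inverts hodd (h.nil a) hsol hgen h1.1 h1.2 ht2

end SSplit

end Cfsg.Agent.HKS
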