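import Mathlib
import Cfsg.Agent.HKS.Goals
import Cfsg.Agent.HKS.OddFinal
import Cfsg.Agent.HKS.EndL
import Cfsg.Agent.ClassicalGeometry.PSL2Basic

/-!
# Goal 1: `|G_ab|` odd
-/

set_option autoImplicit false

namespace Cfsg.Agent.HKS

open Subgroup MulAction

namespace GoalOdd

variable {G Ω : Type*} [Group G] [MulAction G Ω] {U : Ω → Subgroup G} {a b : Ω}

/-- `U a` is an elementary abelian `p`-group. -/
theorem exists_prime [Finite G] (hUab : ∀ x ∈ U a, ∀ y ∈ U a, x * y = y * x) (h1 : U a ≠ ⊥)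
    (hirr : ∀ V : Subgroup G, V ≤ U a → (∀ d ∈ Dab G a b, ∀ v ∈ V, d * v * d⁻¹ ∈ V) → V ≠ ⊥ →
      V = U a) (hconj : ∀ d ∈ Dab G a b, ∀ v ∈ U a, d * v * d⁻¹ ∈ U a) :
    ∃ p k : ℕ, p.Prime ∧ k ≠ 0 ∧ Nat.card (U a) = p ^ k := by
  have hc1 : Nat.card (U a) ≠ 1 := fun hc => h1 (Subgroup.card_eq_one.1 hc)
  obtain ⟨p, hp, hpd⟩ := Nat.exists_prime_and_dvd hc1
  have := Fact.mk hp
  obtain ⟨x, hx⟩ := exists_prime_orderOf_dvd_card' p hpd
  let V : Subgroup G :=
    { carrier := {v | v ∈ U a ∧ v ^ p = 1}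
      mul_mem' := fun {x y} hx hy => ⟨(U a).mul_mem hx.1 hy.1, by
        have : Commute x y := hUab x hx.1 y hy.1
        rw [this.mul_pow, hx.2, hy.2, one_mul]⟩
      one_mem' := ⟨(U a).one_mem, one_pow p⟩
      inv_mem' := fun {x} hx => ⟨(U a).inv_mem hx.1, by rw [inv_pow, hx.2, inv_one]⟩ }
  have hV : V = U a := by
    refine hirr V (fun v hv => hv.1) (fun d hd v hv => ⟨hconj d hd v hv.1, ?_⟩) ?_
    · rw [conj_pow, hv.2, mul_one, mul_inv_cancel]
    · intro hc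
      have h2 : (x : G) ∈ V := ⟨x.2, by
        have := pow_orderOf_eq_one x
        rw [hx] at this
        exact congrArg Subtype.val this⟩
      rw [hc, Subgroup.mem_bot] at h2
      have h3 : x = 1 := Subtype.ext h2
      rw [h3, orderOf_one] at hx
      exact hp.one_lt.ne hx
  have hpg : IsPGroup p (U a) := by
    rintro ⟨u, hu⟩
    rw [← hV] at hu
    exact ⟨1, Subtype.ext (by simpa using hu.2)⟩
  obtain ⟨k, hk⟩ := IsPGroup.iff_card.1 hpg
  refine ⟨p, k, hp, ?_, hk⟩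
  rintro rfl
  exact hc1 (by rw [hk, pow_zero])

end GoalOdd

/-- **Goal 1.** -/
theorem goalOdd.{v} : GoalOdd.{v} := by
  intro G Ω _ _ _ _ _ U a b C hodd
  have h := C.split
  have hcard := h.card a
  have hUodd : Odd (Nat.card (U a)) := by
    rcases Nat.even_or_odd (Nat.card (U a)) with h3 | h3
    · exact absurd C.even (by rw [hcard]; exact Nat.not_even_iff_odd.2 h3.add_one)
    · exact h3
  have hU1 : U a ≠ ⊥ := by
    intro hc
    have h3 := h.two_lt_card a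
    rw [hcard, hc, Subgroup.card_bot] at h3
    omega
  have hB : Odd (Nat.card (stabilizer G a)) := by
    obtain ⟨w, hw⟩ := h.exists_swaps C.ne
    rw [(h.rankOne C.ne hw).card_B]
    exact hUodd.mul hodd
  have hgen : ∀ M : Subgroup G, M.Normal → U a ≤ M → M = ⊤ := by
    intro M hM hUM
    obtain ⟨u, hu, hu1⟩ := (U a).bot_or_exists_ne_one.resolve_left hU1
    have h2 := h.normal_sup C.gen hM ⟨u, hUM hu, b, fun hc => hu1 (h.free C.ne hu hc)⟩ a
    rwa [sup_eq_left.2 hUM] at h2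
  rcases h.odd_final C.ne hB hgen with hD | ⟨⟨K, _, _, hK2, ⟨e⟩⟩, hN, hUab, -, -, -, hirr⟩
  · exact Or.inl hD
  by_cases hD : Dab G a b = ⊥
  · exact Or.inl hD
  right
  left
  have hD1 : 1 < Nat.card (Dab G a b) := (Subgroup.one_lt_card_iff_ne_bot _).2 hD
  obtain ⟨p, k, hp, hk, hU⟩ := GoalOdd.exists_prime hUab hU1 hirr
    (fun d hd v hv => h.conj_of_fix hd.1 hv)
  have hpd : p ∣ Nat.card (U a) := by rw [hU]; exact dvd_pow_self p hk
  have hp2 : p ≠ 2 := by
    rintro rfl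
    exact (Nat.not_even_iff_odd.2 hUodd) (even_iff_two_dvd.2 hpd)
  have hpD : ¬ p ∣ Nat.card (Dab G a b) := by
    intro hc
    rw [hN] at hpd
    have := (Nat.dvd_add_right (hc.mul_left 2)).1 hpd
    exact hp.one_lt.ne' (Nat.dvd_one.1 this)
  have hlt : Nat.card (Dab G a b) < Nat.card (U a) := by omega
  have hKodd : Odd (Fintype.card K) := by
    rw [← Nat.not_even_iff_odd]
    intro hc
    exact hK2 (FiniteField.even_card_iff_char_two.2 (Nat.even_iff.1 hc))
  refine ⟨_, EndL.tl_of_iso h C.ne e hp hp2 hk hU hpD hlt hKodd ?_⟩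
  by_contra hc
  have hK3 : Fintype.card K = 3 := by
    have := Fintype.one_lt_card (α := K)
    obtain ⟨m, hm⟩ := hKodd
    omega
  have h1 := ClassicalGeometry.PSL2Basic.card_PSL2_odd K hKodd
  rw [← Nat.card_congr e.toEquiv, h.card_G C.ne, hcard, hK3, Nat.add_sub_cancel, hN] at h1
  have h2 : Nat.card (Dab G a b) ≥ 2 := hD1
  have h3 : (2 * Nat.card (Dab G a b) + 1 + 1) * (2 * Nat.card (Dab G a b) + 1) *
      Nat.card (Dab G a b) ≥ 6 * 5 * 2 :=
    Nat.mul_le_mul (Nat.mul_le_mul (by omega) (by omega)) h2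
  norm_num at h1
  omega

end Cfsg.Agent.HKS
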