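import Mathlib
import Cfsg.Agent.HKS.SignFix
import Cfsg.Agent.HKS.LinSplit

/-!
# A central involution of `W`

`SSplit U`, `G = ⟨U c⟩`, `|U a| = p ^ k`, `p` odd, `z ∈ D` an involution centralised by `W`,
`q + 1 ≥ 3` its number of fixed points. Then

* `Cen.iso` : a conjugate of `z` fixing two points of `Fix z` is `z`;
* `Cen.fpf` : a conjugate of `z` interchanging `a` and `b` has no fixed point in `Fix z`;
* `Cen.card_J` : there are `(N / q - 1) / (q + 1)` of them;
* `Cen.cube` : `N = q ^ 3` (if `q = 3 mod 4` one needs an element of `D` inverting `C_{U a}(z)`).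

The last statement is the linear character argument, for the sign of the permutation induced on the
fixed points of `z`.
-/

set_option autoImplicit false

namespace Cfsg.Agent.HKS.CentralN

open Subgroup MulAction

variable {G Ω : Type*} [Group G] [MulAction G Ω] {U : Ω → Subgroup G} {a b : Ω} {z : G}

theorem mem_cen {z g : G} : g ∈ centralizer (zpowers z : Set G) ↔ z * g = g * z := by
  constructor
  · intro hg
    exact mem_centralizer_iff.1 hg z (mem_zpowers z)
  · intro hg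
    rw [mem_centralizer_iff]
    rintro x ⟨n, rfl⟩
    exact (Commute.zpow_left (show Commute z g from hg) n).eq

theorem mem_fix {z : G} {c : Ω} : (∀ x ∈ zpowers z, x • c = c) ↔ z • c = c := by
  constructor
  · intro hc
    exact hc z (mem_zpowers z)
  · intro hc x hx
    have h1 : zpowers z ≤ stabilizer G c := by
      rw [zpowers_le]
      exact hc
    exact h1 hx

/-- `z` is an involution of `D` centralised by `W` and having at least three fixed points. -/
structure Cen (U : Ω → Subgroup G) (a b : Ω) (z : G) : Prop where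
  h : SSplit U
  ab : b ≠ a
  zD : z ∈ Dab G a b
  sq : z * z = 1
  cW : ∀ g ∈ Wab G a b, z * g = g * z
  three : ∃ u ∈ U a, u ≠ 1 ∧ z * u = u * z

namespace Cen

theorem X_le (C : Cen U a b z) : zpowers z ≤ Dab G a b := by
  rw [zpowers_le]
  exact C.zD

theorem sq_of (C : Cen U a b z) {m : G} (hm : IsConj z m) : m * m = 1 := by
  obtain ⟨g, rfl⟩ := isConj_iff.1 hm
  calc g * z * g⁻¹ * (g * z * g⁻¹) = g * (z * z) * g⁻¹ := by group
    _ = 1 := by rw [C.sq]; group

variable [Finite Ω]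

theorem finite_U' (C : Cen U a b z) : Finite (U a) := C.h.finite_U a

theorem card_fixSub (C : Cen U a b z) : Nat.card (fixSub Ω (zpowers z)) =
    Nat.card (U a ⊓ centralizer (zpowers z : Set G) : Subgroup G) + 1 :=
  C.h.card_fixSub C.ab (fun _ hx => (C.X_le hx).1) (fun _ hx => (C.X_le hx).2)

theorem card_fixedBy (C : Cen U a b z) : Nat.card (fixedBy Ω z) =
    Nat.card (U a ⊓ centralizer (zpowers z : Set G) : Subgroup G) + 1 := by
  rw [← C.card_fixSub]
  exact Nat.card_congr (Equiv.subtypeEquivRight fun c => mem_fix.symm)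

theorem one_lt (C : Cen U a b z) :
    1 < Nat.card (U a ⊓ centralizer (zpowers z : Set G) : Subgroup G) := by
  have := C.finite_U'
  obtain ⟨u, hu, hu1, huz⟩ := C.three
  have : Finite (U a ⊓ centralizer (zpowers z : Set G) : Subgroup G) :=
    Finite.of_injective (fun x => (⟨x.1, x.2.1⟩ : U a)) fun x y hxy => by
      have h1 := congrArg Subtype.val hxy
      exact Subtype.ext h1
  rw [Finite.one_lt_card_iff_nontrivial]
  exact ⟨⟨⟨u, hu, mem_cen.2 huz⟩, 1, fun hc => hu1 (congrArg Subtype.val hc)⟩⟩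

/-- the centraliser of `z` is 2-transitive on the fixed points of `z`. -/
theorem two (C : Cen U a b z) {c d : Ω} (hcd : d ≠ c) (hc : z • c = c) (hd : z • d = d) :
    ∃ g : G, z * g = g * z ∧ g • c = a ∧ g • d = b := by
  have h1 := C.h.fixed (zpowers z) (SSplit.three_of_card (by
    rw [C.card_fixSub]
    have := C.one_lt
    omega))
  obtain ⟨g, hg1, hg2⟩ := h1.two (a := ⟨c, mem_fix.2 hc⟩) (b := ⟨d, mem_fix.2 hd⟩)
    (c := ⟨a, mem_fix.2 C.zD.1⟩) (d := ⟨b, mem_fix.2 C.zD.2⟩)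
    (fun e => hcd (congrArg Subtype.val e).symm) (fun e => C.ab (congrArg Subtype.val e).symm)
  exact ⟨g, mem_cen.1 g.2, congrArg Subtype.val hg1, congrArg Subtype.val hg2⟩

/-- **`z^G ∩ D = {z}`**. -/
theorem eq_of_mem_D (C : Cen U a b z) {m : G} (hm : IsConj z m) (hmD : m ∈ Dab G a b) :
    m = z := by
  obtain ⟨g, rfl⟩ := isConj_iff.1 hm
  have h1 : ∀ c : Ω, (g * z * g⁻¹) • c = c → z • g⁻¹ • c = g⁻¹ • c := by
    intro c hc
    rwa [eq_inv_smul_iff, ← mul_smul, ← mul_smul]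
  obtain ⟨k, hk, hka, hkb⟩ := C.two (c := g⁻¹ • a) (d := g⁻¹ • b)
    (fun e => C.ab (MulAction.injective g⁻¹ e)) (h1 a hmD.1) (h1 b hmD.2)
  have h2 : k * g⁻¹ ∈ Dab G a b := ⟨by
    change (k * g⁻¹) • a = a
    rw [mul_smul, hka], by
    change (k * g⁻¹) • b = b
    rw [mul_smul, hkb]⟩
  have h3 := C.cW _ (Dab_le_Wab a b h2)
  -- `z k g⁻¹ = k g⁻¹ z`, `z k = k z`
  have h4 : k * (z * g⁻¹) = k * (g⁻¹ * z) := by
    calc k * (z * g⁻¹) = (k * z) * g⁻¹ := by group
      _ = (z * k) * g⁻¹ := by rw [hk]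
      _ = z * (k * g⁻¹) := by group
      _ = k * g⁻¹ * z := h3
      _ = _ := by group
  have h5 := mul_left_cancel h4
  calc g * z * g⁻¹ = g * (z * g⁻¹) := by group
    _ = z := by rw [h5]; group

/-- A conjugate of `z` fixing two fixed points of `z` is `z`. -/
theorem iso (C : Cen U a b z) {m : G} (hm : IsConj z m) {c d : Ω} (hcd : d ≠ c) (hc : z • c = c)
    (hd : z • d = d) (hmc : m • c = c) (hmd : m • d = d) : m = z := by
  obtain ⟨g, hg, hgc, hgd⟩ := C.two hcd hc hd
  have h1 : g * m * g⁻¹ = z := by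
    refine C.eq_of_mem_D (hm.trans (isConj_iff.2 ⟨g, rfl⟩)) ⟨?_, ?_⟩
    · change (g * m * g⁻¹) • a = a
      rw [mul_smul, mul_smul, inv_smul_eq_iff.2 hgc.symm, hmc, hgc]
    · change (g * m * g⁻¹) • b = b
      rw [mul_smul, mul_smul, inv_smul_eq_iff.2 hgd.symm, hmd, hgd]
  have h2 : g * m = g * z := by
    rw [← hg, ← h1]; group
  exact mul_left_cancel h2

/-- **`z' ∈ z^G ∩ Dw` is fixed point free on `Fix z`**. -/
theorem fpf (C : Cen U a b z) (hodd : Odd (Nat.card (U a))) {m : G} (hm : IsConj z m)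
    (hms : Swaps m a b) {c : Ω} (hc : z • c = c) : m • c ≠ c := by
  classical
  intro hmc
  have := Fintype.ofFinite (fixSub Ω (zpowers z))
  have hmz : m ∈ centralizer (zpowers z : Set G) := mem_cen.2 (C.cW m hms.mem_W)
  let f : Function.End (fixSub Ω (zpowers z)) :=
    fun c => (⟨m, hmz⟩ : centralizer (zpowers z : Set G)) • c
  have hf : f ^ 2 ^ 1 = 1 := by
    rw [pow_one, pow_two]
    funext c
    apply Subtype.ext
    change m • m • (c : Ω) = c
    rw [← mul_smul, C.sq_of hm, one_smul]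
  have : Fact (Nat.Prime 2) := ⟨Nat.prime_two⟩
  have h1 := Equiv.Perm.card_fixedPoints_modEq hf
  have h2 : Odd (Nat.card (U a ⊓ centralizer (zpowers z : Set G) : Subgroup G)) :=
    hodd.of_dvd_nat (Subgroup.card_dvd_of_le inf_le_left)
  have h3 : Fintype.card (fixSub Ω (zpowers z)) =
      Nat.card (U a ⊓ centralizer (zpowers z : Set G) : Subgroup G) + 1 := by
    rw [← C.card_fixSub, Nat.card_eq_fintype_card]
  -- the only fixed point would be `c`
  have h4 : ∀ d : fixSub Ω (zpowers z), m • (d : Ω) = d → (d : Ω) = c := by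
    intro d hd
    by_contra hdc
    have h5 := C.iso hm hdc hc (mem_fix.1 d.2) hmc hd
    rw [h5] at hms
    exact C.ab (hms.1.symm.trans C.zD.1)
  have h5 : Fintype.card (Function.fixedPoints f) = 1 := by
    rw [Fintype.card_eq_one_iff]
    refine ⟨⟨⟨c, mem_fix.2 hc⟩, Subtype.ext hmc⟩, ?_⟩
    rintro ⟨d, hd⟩
    exact Subtype.ext (Subtype.ext (h4 d (congrArg Subtype.val hd)))
  rw [h3] at h1
  have h6 := h1.trans (by rw [h5] : _ ≡ 1 [MOD 2])
  obtain ⟨s, hs⟩ := h2
  rw [hs] at h6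
  have := h6
  unfold Nat.ModEq at this
  omega

variable [Finite G]

/-- The number of conjugates of `z` interchanging `a` and `b`. -/
theorem card_J (C : Cen U a b z) :
    Nat.card {m : G // IsConj z m ∧ Swaps m a b} *
      ((Nat.card (U a ⊓ centralizer (zpowers z : Set G) : Subgroup G) + 1) *
        Nat.card (U a ⊓ centralizer (zpowers z : Set G) : Subgroup G)) =
      Nat.card (U a) - Nat.card (U a ⊓ centralizer (zpowers z : Set G) : Subgroup G) := by
  have h1 := C.h.card_fix_pairs C.ab z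
  have h2 := C.h.card_swap_pairs C.ab C.sq
  have h3 : Nat.card {s : G // IsConj z s ∧ s ∈ Dab G a b} = 1 := by
    rw [Nat.card_eq_one_iff_exists]
    exact ⟨⟨z, IsConj.refl z, C.zD⟩, fun y => Subtype.ext (C.eq_of_mem_D y.2.1 y.2.2)⟩
  have := C.finite_U'
  have hpos : 0 < Nat.card (U a) := Nat.card_pos
  rw [h3, C.card_fixedBy, C.h.card a, mul_one, Nat.add_sub_cancel, Nat.add_sub_cancel] at h1
  rw [C.card_fixedBy, C.h.card a, Nat.add_sub_cancel, Nat.add_sub_add_right] at h2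
  set q := Nat.card (U a ⊓ centralizer (zpowers z : Set G) : Subgroup G)
  set N := Nat.card (U a)
  set K := Nat.card {s : G // IsConj z s}
  set J := Nat.card {m : G // IsConj z m ∧ Swaps m a b}
  have hK : 0 < (N + 1) * N := Nat.mul_pos (Nat.succ_pos N) hpos
  apply Nat.eq_of_mul_eq_mul_left hK
  calc (N + 1) * N * (J * ((q + 1) * q)) = ((N + 1) * N * J) * ((q + 1) * q) := by ring
    _ = (K * (N - q)) * ((q + 1) * q) := by rw [h2]
    _ = (K * ((q + 1) * q)) * (N - q) := by ring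
    _ = _ := by rw [h1]

/-- **`k / e` is odd**, and `|z^G ∩ Dw| = (N / q - 1) / (q + 1)`. -/
theorem odd_quot (C : Cen U a b z) {p k : ℕ} (hp : p.Prime) (hN : Nat.card (U a) = p ^ k)
    {c₀ : Ω} (hc₀ : z • c₀ ≠ c₀) :
    ∃ e l : ℕ, 0 < e ∧ 0 < l ∧ k = e * (2 * l + 1) ∧
      Nat.card (U a ⊓ centralizer (zpowers z : Set G) : Subgroup G) = p ^ e ∧
      Nat.card {m : G // IsConj z m ∧ Swaps m a b} * (p ^ e + 1) = p ^ (k - e) - 1 := by
  have hU := C.finite_U'
  obtain ⟨e, hek, he⟩ := (Nat.dvd_prime_pow hp).1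
    (hN ▸ Subgroup.card_dvd_of_le (inf_le_left : (U a ⊓ centralizer (zpowers z : Set G) :
      Subgroup G) ≤ U a))
  have h1 := C.card_J
  have h2 := C.one_lt
  rw [he, hN] at h1
  rw [he] at h2
  have he0 : 0 < e := by
    rcases Nat.eq_zero_or_pos e with h | h
    · rw [h, pow_zero] at h2; omega
    · exact h
  have hlt : e < k := by
    refine lt_of_le_of_ne hek ?_
    rintro rfl
    have h3 : U a ≤ centralizer (zpowers z : Set G) := by
      have h4 : (U a ⊓ centralizer (zpowers z : Set G) : Subgroup G) = U a :=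
        Subgroup.eq_of_le_of_card_ge inf_le_left (by rw [he, hN])
      rw [← h4]
      exact inf_le_right
    -- then `z` fixes all points
    apply hc₀
    by_cases hca : c₀ = a
    · rw [hca]; exact C.zD.1
    · obtain ⟨u, hu, hub⟩ := C.h.trans C.ab hca
      rw [← hub, ← mul_smul, mem_cen.1 (h3 hu), mul_smul, show z • b = b from C.zD.2]
  have hp1 := hp.one_lt
  have hpe : 0 < p ^ e := pow_pos hp.pos e
  have hJ : Nat.card {m : G // IsConj z m ∧ Swaps m a b} * (p ^ e + 1) = p ^ (k - e) - 1 := by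
    apply Nat.eq_of_mul_eq_mul_left hpe
    have h3 : p ^ e * p ^ (k - e) = p ^ k := by rw [← pow_add]; congr 1; omega
    rw [Nat.mul_sub, mul_one, h3, ← h1]
    ring
  have hdvd : p ^ e + 1 ∣ p ^ k + 1 := by
    have h3 : p ^ k + 1 = p ^ e * (p ^ (k - e) - 1) + (p ^ e + 1) := by
      have h4 : p ^ e * p ^ (k - e) = p ^ k := by rw [← pow_add]; congr 1; omega
      have h5 : 0 < p ^ (k - e) := pow_pos hp.pos _
      rw [Nat.mul_sub, mul_one, h4]
      have h6 : p ^ e ≤ p ^ k := Nat.pow_le_pow_right hp.pos hek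
      omega
    rw [h3, ← hJ]
    exact Dvd.dvd.add ⟨p ^ e * Nat.card {m : G // IsConj z m ∧ Swaps m a b}, by ring⟩ dvd_rfl
  obtain ⟨l, hl⟩ := LinNum.odd_of_dvd hp1 he0 hdvd
  refine ⟨e, l, he0, ?_, hl, he, hJ⟩
  rcases Nat.eq_zero_or_pos l with h | h
  · rw [h] at hl; omega
  · exact h

omit [Finite G] in
/-- Sign of a conjugate of `z` interchanging `a` and `b`. -/
theorem sgn_J (C : Cen U a b z) (hodd : Odd (Nat.card (U a))) {m : G} (hm : IsConj z m)
    (hms : Swaps m a b) {r : ℕ}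
    (hr : Nat.card (U a ⊓ centralizer (zpowers z : Set G) : Subgroup G) + 1 = 2 * r) :
    SignFix.sgn (Ω := Ω) (zpowers z) ⟨m, mem_cen.2 (C.cW m hms.mem_W)⟩ = (-1) ^ r := by
  apply SignFix.sgn_sq
  · intro c _
    rw [← mul_smul, C.sq_of hm, one_smul]
  · rw [C.card_fixSub, hr]
    have h1 : Nat.card {c : Ω // (∀ x ∈ zpowers z, x • c = c) ∧ m • c = c} = 0 := by
      rw [Nat.card_eq_zero]
      left
      exact ⟨fun c => C.fpf hodd hm hms (mem_fix.1 c.2.1) c.2.2⟩
    rw [h1, zero_add]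

omit [Finite G] in
/-- Sign of an element of `D` inverting `C_{U a}(z)`. -/
theorem sgn_inv (C : Cen U a b z) (hodd : Odd (Nat.card (U a))) {d : G} (hd : d ∈ Dab G a b)
    (hinv : ∀ u ∈ U a, z * u = u * z → d * u * d⁻¹ = u⁻¹) {r : ℕ}
    (hr : Nat.card (U a ⊓ centralizer (zpowers z : Set G) : Subgroup G) = 2 * r + 1) :
    SignFix.sgn (Ω := Ω) (zpowers z) ⟨d, mem_cen.2 (C.cW d (Dab_le_Wab a b hd))⟩ = (-1) ^ r := by
  have hpt : ∀ c : Ω, z • c = c → c ≠ a → ∃ u ∈ U a, z * u = u * z ∧ u • b = c := by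
    intro c hc hca
    obtain ⟨u, hu, hub⟩ := C.h.trans C.ab hca
    refine ⟨u, hu, ?_, hub⟩
    apply mem_cen.1
    refine C.h.comm_of_fixSub (fun x hx => (C.X_le hx).1) (fun x hx => (C.X_le hx).2) C.ab hu ?_
    rw [hub]
    exact mem_fix.2 hc
  have hact : ∀ u ∈ U a, z * u = u * z → d • u • b = u⁻¹ • b := by
    intro u hu huz
    rw [← hinv u hu huz, mul_smul, mul_smul, inv_smul_eq_iff.2 (show d • b = b from hd.2).symm]
  apply SignFix.sgn_sq
  · intro c hc
    by_cases hca : c = a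
    · rw [hca, show d • a = a from hd.1, show d • a = a from hd.1]
    · obtain ⟨u, hu, huz, rfl⟩ := hpt c (mem_fix.1 hc) hca
      have huz' : z * u⁻¹ = u⁻¹ * z := (Commute.inv_right (show Commute z u from huz)).eq
      rw [hact u hu huz, hact u⁻¹ ((U a).inv_mem hu) huz', inv_inv]
  · rw [C.card_fixSub, hr]
    have h1 : Nat.card {c : Ω // (∀ x ∈ zpowers z, x • c = c) ∧ d • c = c} = 2 := by
      have h2 : {c : Ω | (∀ x ∈ zpowers z, x • c = c) ∧ d • c = c} = {a, b} := by
        ext c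
        simp only [Set.mem_ofPred_eq, Set.mem_insert_iff, Set.mem_singleton_iff]
        constructor
        · rintro ⟨h3, h4⟩
          by_cases hca : c = a
          · exact Or.inl hca
          · right
            obtain ⟨u, hu, huz, rfl⟩ := hpt c (mem_fix.1 h3) hca
            rw [hact u hu huz] at h4
            have h5 := C.h.eq_of_smul_eq C.ab ((U a).inv_mem hu) hu h4
            have h6 : (⟨u, hu⟩ : U a) ^ 2 = 1 := by
              rw [pow_two]
              apply Subtype.ext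
              change u * u = 1
              nth_rewrite 1 [← h5]
              rw [inv_mul_cancel]
            have h7 : (⟨u, hu⟩ : U a) ^ Nat.card (U a) = 1 := pow_card_eq_one'
            have h8 : (⟨u, hu⟩ : U a) = 1 := by
              obtain ⟨s, hs⟩ := hodd
              rwa [hs, pow_succ, pow_mul, h6, one_pow, one_mul] at h7
            have h9 : u = 1 := congrArg Subtype.val h8
            rw [h9, one_smul]
        · rintro (rfl | rfl)
          · exact ⟨fun x hx => (C.X_le hx).1, hd.1⟩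
          · exact ⟨fun x hx => (C.X_le hx).2, hd.2⟩
      have h3 : Nat.card {c : Ω // (∀ x ∈ zpowers z, x • c = c) ∧ d • c = c} =
          Set.ncard ({a, b} : Set Ω) := by
        rw [← h2]; rfl
      rw [h3]
      exact Set.ncard_pair C.ab.symm
    rw [h1]
    ring

omit [Finite G] in
theorem odd_all (C : Cen U a b z) (hodd : Odd (Nat.card (U a))) (c : Ω) :
    Odd (Nat.card (U c)) := by
  have h1 := C.h.card a
  have h2 := C.h.card c
  have h3 : Nat.card (U c) = Nat.card (U a) := by omega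
  rw [h3]
  exact hodd

omit [Finite G] in
/-- `q = 1 mod 4`: some element of `D` has sign `-1`. -/
theorem exists_sgn_of_one_mod (C : Cen U a b z) (hodd : Odd (Nat.card (U a))) {m : G}
    (hm : IsConj z m) (hms : Swaps m a b)
    (hq : Nat.card (U a ⊓ centralizer (zpowers z : Set G) : Subgroup G) % 4 = 1) :
    ∃ d, ∃ hd : d ∈ Dab G a b, SignFix.sgn (Ω := Ω) (zpowers z)
      ⟨d, mem_cen.2 (C.cW d (Dab_le_Wab a b hd))⟩ = -1 := by
  obtain ⟨u, hu, hu1, huz⟩ := C.three
  have hX' : zpowers z ≤ Dab G b a := by rw [Dab_symm]; exact C.X_le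
  have h1 := PP1.mu_mem_genFix C.h C.ab.symm hX' hu hu1 (mem_cen.2 huz)
  have h2 := SignFix.sgn_genFix (C.odd_all hodd) h1
  have h3 : Swaps (SSplit.mu U b a u) a b := (C.h.mu_swaps C.ab.symm hu hu1).symm
  obtain ⟨r, hr⟩ : ∃ r, Nat.card (U a ⊓ centralizer (zpowers z : Set G) : Subgroup G) + 1 =
      2 * (2 * r + 1) :=
    ⟨Nat.card (U a ⊓ centralizer (zpowers z : Set G) : Subgroup G) / 4, by omega⟩
  have h4 := C.sgn_J hodd hm hms hr
  refine ⟨m * (SSplit.mu U b a u)⁻¹, hms.mul h3.inv, ?_⟩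
  have h5 : (⟨m * (SSplit.mu U b a u)⁻¹, mem_cen.2 (C.cW _ (Dab_le_Wab a b (hms.mul h3.inv)))⟩ :
      centralizer (zpowers z : Set G)) =
      ⟨m, mem_cen.2 (C.cW m hms.mem_W)⟩ * ⟨SSplit.mu U b a u, PP1.genFix_le_centralizer _ h1⟩⁻¹ := rfl
  rw [h5, map_mul, map_inv, h2, h4, inv_one, mul_one, pow_succ, pow_mul]
  simp

omit [Finite G] [Finite Ω] in
theorem D_le (C : Cen U a b z) : Dab G a b ≤ centralizer (zpowers z : Set G) :=
  fun d hd => mem_cen.2 (C.cW d (Dab_le_Wab a b hd))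

/-- The sign on the fixed points of `z`, as a linear character of `D`. -/
noncomputable def lam (C : Cen U a b z) : Dab G a b →* ℂˣ :=
  (Units.map (Int.castRingHom ℂ).toMonoidHom).comp
    ((SignFix.sgn (Ω := Ω) (zpowers z)).comp (Subgroup.inclusion C.D_le))

omit [Finite G] in
theorem lam_apply (C : Cen U a b z) (d : Dab G a b) : C.lam d =
    Units.map (Int.castRingHom ℂ).toMonoidHom
      (SignFix.sgn (Ω := Ω) (zpowers z) ⟨d, C.D_le d.2⟩) := rfl

/-- **`N = q ^ 3` if some element of `D` has sign `-1` on the fixed points of `z`.** -/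
theorem cube (C : Cen U a b z) (hgen : (⨆ c, U c) = ⊤) {p k : ℕ} (hp : p.Prime) (hp2 : p ≠ 2)
    (hN : Nat.card (U a) = p ^ k) {c₀ : Ω} (hc₀ : z • c₀ ≠ c₀) {d : G} (hd : d ∈ Dab G a b)
    (hds : SignFix.sgn (Ω := Ω) (zpowers z) ⟨d, C.D_le hd⟩ = -1) :
    ∃ e : ℕ, 0 < e ∧ k = 3 * e ∧
      Nat.card (U a ⊓ centralizer (zpowers z : Set G) : Subgroup G) = p ^ e ∧
      Nat.card (U a) = (p ^ e) ^ 3 ∧
      Nat.card {m : G // IsConj z m ∧ Swaps m a b} = p ^ e - 1 := by
  have hodd : Odd (Nat.card (U a)) := by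
    rw [hN]
    exact (hp.odd_of_ne_two hp2).pow
  obtain ⟨e, l, he0, hl, hk, he, hJ⟩ := C.odd_quot hp hN hc₀
  have hlam : C.lam ≠ 1 := by
    intro hc
    have h1 := DFunLike.congr_fun hc ⟨d, hd⟩
    rw [C.lam_apply, hds] at h1
    have h2 : ((-1 : ℤ) : ℂ) = 1 := by
      have := congrArg Units.val h1
      simpa using this
    norm_num at h2
  have hinv : ∀ (m : G), Swaps m a b → IsConj z m → ∀ d e : Dab G a b, (e : G) = m * d * m⁻¹ →
      C.lam e = C.lam d := by
    intro m hms _ d e hde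
    have hmz : m ∈ centralizer (zpowers z : Set G) := mem_cen.2 (C.cW m hms.mem_W)
    have h1 : (⟨e, C.D_le e.2⟩ : centralizer (zpowers z : Set G)) =
        ⟨m, hmz⟩ * ⟨d, C.D_le d.2⟩ * ⟨m, hmz⟩⁻¹ := Subtype.ext hde
    have h2 : SignFix.sgn (Ω := Ω) (zpowers z) ⟨e, C.D_le e.2⟩ =
        SignFix.sgn (Ω := Ω) (zpowers z) ⟨d, C.D_le d.2⟩ := by
      rw [h1, map_mul, map_mul, map_inv, mul_comm (SignFix.sgn (Ω := Ω) _ ⟨m, hmz⟩),
        mul_inv_cancel_right]
    rw [C.lam_apply, C.lam_apply, h2]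
  have hD : ∀ d : Dab G a b, IsConj z (d : G) → C.lam d = 1 := by
    intro d hd
    have h1 : SignFix.sgn (Ω := Ω) (zpowers z) ⟨d, C.D_le d.2⟩ = 1 := by
      apply SignFix.sgn_triv
      intro c hc
      change (d : G) • c = c
      rw [C.eq_of_mem_D hd d.2]
      exact mem_fix.1 hc
    rw [C.lam_apply, h1, map_one]
  have hW : ∀ (m m' : G), Swaps m a b → Swaps m' a b → IsConj z m → IsConj z m' →
      ∀ d : Dab G a b, (d : G) = m' * m⁻¹ → C.lam d = 1 := by
    intro m m' hms hms' hm hm' d hd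
    obtain ⟨r, hr⟩ : ∃ r, Nat.card (U a ⊓ centralizer (zpowers z : Set G) : Subgroup G) + 1 =
        2 * r := by
      have h5 : Odd (Nat.card (U a ⊓ centralizer (zpowers z : Set G) : Subgroup G)) := by
        have := C.finite_U'
        exact hodd.of_dvd_nat (Subgroup.card_dvd_of_le inf_le_left)
      obtain ⟨s, hs⟩ := h5
      exact ⟨s + 1, by omega⟩
    have hmz : m ∈ centralizer (zpowers z : Set G) := mem_cen.2 (C.cW m hms.mem_W)
    have hmz' : m' ∈ centralizer (zpowers z : Set G) := mem_cen.2 (C.cW m' hms'.mem_W)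
    have h6 : (⟨d, C.D_le d.2⟩ : centralizer (zpowers z : Set G)) = ⟨m', hmz'⟩ * ⟨m, hmz⟩⁻¹ :=
      Subtype.ext hd
    rw [C.lam_apply, h6, map_mul, map_inv, C.sgn_J hodd hm hms hr, C.sgn_J hodd hm' hms' hr,
      mul_inv_cancel, map_one]
  obtain ⟨X, Y, hXY, hX, hY, ψ, hψ, h1, h2⟩ := LinSplit.lin_char' C.h hgen C.ab hp hp2 hN C.lam
    hlam C.sq hc₀ hinv hD hW
  have hF : Nat.card (fixedBy Ω z) = p ^ e + 1 := by rw [C.card_fixedBy, he]
  obtain ⟨hk3, -⟩ := LinSplit.arith_cube C.h hp hN C.sq hF hXY hX hY hψ h1 h2 he0 hk hl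
  refine ⟨e, he0, hk3, he, by rw [hN, hk3, ← pow_mul]; ring_nf, ?_⟩
  have h3 : k - e = e + e := by omega
  rw [h3, pow_add] at hJ
  have hpe : 0 < p ^ e := pow_pos hp.pos e
  have h4 : p ^ e * p ^ e - 1 = (p ^ e - 1) * (p ^ e + 1) := by
    obtain ⟨r, hr⟩ : ∃ r, p ^ e = r + 1 := ⟨p ^ e - 1, by omega⟩
    rw [hr, Nat.add_sub_cancel]
    have : (r + 1) * (r + 1) = r * (r + 1 + 1) + 1 := by ring
    omega
  rw [h4] at hJ
  exact Nat.eq_of_mul_eq_mul_right (by omega) hJ

/-- **`N = q ^ 3`.** If `q = 3 mod 4` we need an element of `D` inverting `C_{U a}(z)`. -/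
theorem cube' (C : Cen U a b z) (hgen : (⨆ c, U c) = ⊤) {p k : ℕ} (hp : p.Prime) (hp2 : p ≠ 2)
    (hN : Nat.card (U a) = p ^ k) {c₀ : Ω} (hc₀ : z • c₀ ≠ c₀) {d : G} (hd : d ∈ Dab G a b)
    (hinv : ∀ u ∈ U a, z * u = u * z → d * u * d⁻¹ = u⁻¹) :
    ∃ e : ℕ, 0 < e ∧ k = 3 * e ∧
      Nat.card (U a ⊓ centralizer (zpowers z : Set G) : Subgroup G) = p ^ e ∧
      Nat.card (U a) = (p ^ e) ^ 3 ∧
      Nat.card {m : G // IsConj z m ∧ Swaps m a b} = p ^ e - 1 := by
  have hodd : Odd (Nat.card (U a)) := by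
    rw [hN]
    exact (hp.odd_of_ne_two hp2).pow
  have h5 : Odd (Nat.card (U a ⊓ centralizer (zpowers z : Set G) : Subgroup G)) := by
    have := C.finite_U'
    exact hodd.of_dvd_nat (Subgroup.card_dvd_of_le inf_le_left)
  have h6 : Nat.card (U a ⊓ centralizer (zpowers z : Set G) : Subgroup G) % 4 = 1 ∨
      Nat.card (U a ⊓ centralizer (zpowers z : Set G) : Subgroup G) % 4 = 3 := by
    obtain ⟨s, hs⟩ := h5
    omega
  rcases h6 with h6 | h6
  · obtain ⟨m, hm, hms⟩ := C.h.exists_conj_swaps C.ab C.sq hc₀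
    obtain ⟨d, hd, hds⟩ := C.exists_sgn_of_one_mod hodd hm hms h6
    exact C.cube hgen hp hp2 hN hc₀ hd hds
  · obtain ⟨r, hr⟩ : ∃ r, Nat.card (U a ⊓ centralizer (zpowers z : Set G) : Subgroup G) =
        2 * (2 * r + 1) + 1 :=
      ⟨Nat.card (U a ⊓ centralizer (zpowers z : Set G) : Subgroup G) / 4, by omega⟩
    have h7 := C.sgn_inv hodd hd hinv hr
    refine C.cube hgen hp hp2 hN hc₀ hd ?_
    rw [h7, pow_succ, pow_mul]
    simp

end Cen

end Cfsg.Agent.HKS.CentralN
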