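import Mathlib

/-!
# A transfer argument for an element `k` of order 4 with `k² = z`

* `transfer_sq`: let `z` be an involution of the finite group `G`, `C = C_G(z)`, `LAM : C → A` a
  homomorphism to a commutative group, trivial on `z^G ∩ C`, `k ∈ C` with `k² = z` such that no
  element of `z^G ∩ C` except `z` commutes with `k`. Then the transfer of `LAM` has value `LAM k` at
  `k`.
-/

set_option autoImplicit false

namespace Cfsg.Agent.HKS.CentralTransfer

open Subgroup MulAction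

variable {G A : Type*} [Group G] [CommGroup A]

theorem orbit_subsingleton_iff {X : Type*} [MulAction G X] (g : G) (x : X) :
    g • x = x → ∀ y : X, y ∈ orbit (zpowers g) x → y = x := by
  intro h y hy
  obtain ⟨⟨n, hn⟩, rfl⟩ := hy
  obtain ⟨i, rfl⟩ := mem_zpowers_iff.1 hn
  change g ^ i • x = x
  exact (mem_stabilizer_iff.1 ((stabilizer G x).zpow_mem (mem_stabilizer_iff.2 h) i))

/-- **The transfer argument.** -/
theorem transfer_sq [Finite G] (z : G) (hz : z * z = 1) (C : Subgroup G)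
    (hmC : ∀ g : G, g ∈ C ↔ g * z = z * g) (LAM : C →* A)
    (k : G) (hk : k ∈ C) (hkz : k * k = z)
    (hcomm : ∀ y : G, IsConj z y → k * y = y * k → y = z)
    (hlam : ∀ y : C, IsConj z (y : G) → LAM y = 1) :
    LAM.transfer k = LAM ⟨k, hk⟩ := by
  classical
  let _ : Fintype (Quotient (orbitRel (zpowers k) (G ⧸ C))) := Fintype.ofFinite _
  rw [MonoidHom.transfer_eq_prod_quotient_orbitRel_zpowers_quot]
  have hk4 : k ^ 4 = 1 := by
    have : k ^ 4 = (k * k) * (k * k) := by simp only [pow_succ, pow_zero, one_mul, mul_assoc]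
    rw [this, hkz, hz]
  -- the class of `C`
  set q0 : Quotient (orbitRel (zpowers k) (G ⧸ C)) := Quotient.mk'' ((1 : G) : G ⧸ C) with hq0
  have hfix1 : k • ((1 : G) : G ⧸ C) = ((1 : G) : G ⧸ C) := by
    change ((k * 1 : G) : G ⧸ C) = _
    rw [QuotientGroup.eq]
    simpa using hk
  have hq0out : q0.out = ((1 : G) : G ⧸ C) := by
    have h1 : (Quotient.mk'' q0.out : Quotient (orbitRel (zpowers k) (G ⧸ C))) =
        Quotient.mk'' ((1 : G) : G ⧸ C) := by
      rw [← hq0]; exact Quotient.out_eq' q0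
    have h2 : q0.out ∈ orbit (zpowers k) ((1 : G) : G ⧸ C) := by
      have := Quotient.exact' h1
      exact this
    exact orbit_subsingleton_iff k _ hfix1 _ h2
  have hval : ∀ q : Quotient (orbitRel (zpowers k) (G ⧸ C)), q ≠ q0 →
      LAM ⟨q.out.out⁻¹ * k ^ Function.minimalPeriod (k • ·) q.out * q.out.out,
            QuotientGroup.out_conj_pow_minimalPeriod_mem C k q.out⟩ = 1 := by
    intro q hq
    set t : G := q.out.out with ht
    have htq : (t : G ⧸ C) = q.out := by rw [ht]; exact QuotientGroup.out_eq' _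
    set m := Function.minimalPeriod (k • ·) q.out with hm
    have hmem : t⁻¹ * k ^ m * t ∈ C := QuotientGroup.out_conj_pow_minimalPeriod_mem C k q.out
    -- `m ∣ 4`
    have hm4 : m ∣ 4 := by
      rw [hm]
      apply Function.IsPeriodicPt.minimalPeriod_dvd
      change (fun x : G ⧸ C => k • x)^[4] q.out = q.out
      rw [smul_iterate]
      simp [hk4]
    have hm' : m = 1 ∨ m = 2 ∨ m = 4 := by
      have h1 : m ≤ 4 := Nat.le_of_dvd (by norm_num) hm4
      have h2 : m ≠ 0 := by rintro h; rw [h] at hm4; simp at hm4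
      interval_cases m
      · exact absurd rfl h2
      · exact Or.inl rfl
      · exact Or.inr (Or.inl rfl)
      · exact absurd hm4 (by decide)
      · exact Or.inr (Or.inr rfl)
    rcases hm' with h | h | h
    · exfalso
      rw [h, pow_one] at hmem
      -- `k` commutes with `t z t⁻¹`
      have h1 : (t⁻¹ * k * t) * z = z * (t⁻¹ * k * t) := (hmC _).1 hmem
      have h2 : k * (t * z * t⁻¹) = (t * z * t⁻¹) * k := by
        have := congrArg (fun x => t * x * t⁻¹) h1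
        simpa [mul_assoc] using this
      have h3 := hcomm (t * z * t⁻¹) (isConj_iff.2 ⟨t, rfl⟩) h2
      have h4 : t ∈ C := by
        rw [hmC]
        calc t * z = (t * z * t⁻¹) * t := by group
          _ = z * t := by rw [h3]
      apply hq
      have h5 : q.out = ((1 : G) : G ⧸ C) := by
        rw [← htq, QuotientGroup.eq]
        simpa using h4
      rw [← Quotient.out_eq' q, h5]
    · have h1 : t⁻¹ * k ^ m * t = t⁻¹ * z * t := by rw [h, pow_two, hkz]
      apply hlam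
      change IsConj z (t⁻¹ * k ^ m * t)
      rw [h1]
      exact isConj_iff.2 ⟨t⁻¹, by group⟩
    · have h1 : t⁻¹ * k ^ m * t = 1 := by rw [h, hk4]; group
      have h2 : (⟨t⁻¹ * k ^ m * t, hmem⟩ : C) = 1 := Subtype.ext h1
      rw [h2, map_one]
  rw [Finset.prod_eq_single q0 (fun q _ hq => hval q hq) (fun h => absurd (Finset.mem_univ _) h)]
  -- the value at `q0`
  set t : G := q0.out.out with ht
  have htC : t ∈ C := by
    have h1 : (t : G ⧸ C) = ((1 : G) : G ⧸ C) := by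
      rw [ht, ← hq0out]; exact QuotientGroup.out_eq' _
    have h2 := QuotientGroup.eq.1 h1.symm
    simpa using h2
  have hm1 : Function.minimalPeriod (k • ·) q0.out = 1 := by
    rw [Function.minimalPeriod_eq_one_iff_isFixedPt, hq0out]
    exact hfix1
  have hmem := QuotientGroup.out_conj_pow_minimalPeriod_mem C k q0.out
  have h1 : (⟨t⁻¹ * k ^ Function.minimalPeriod (k • ·) q0.out * t, hmem⟩ : C) =
      (⟨t, htC⟩ : C)⁻¹ * ⟨k, hk⟩ * ⟨t, htC⟩ := by
    apply Subtype.ext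
    change t⁻¹ * k ^ Function.minimalPeriod (k • ·) q0.out * t = t⁻¹ * k * t
    rw [hm1, pow_one]
  have h2 : LAM ⟨q0.out.out⁻¹ * k ^ Function.minimalPeriod (k • ·) q0.out * q0.out.out, hmem⟩ =
      LAM ((⟨t, htC⟩ : C)⁻¹ * ⟨k, hk⟩ * ⟨t, htC⟩) := congrArg LAM h1
  rw [h2, map_mul, map_mul, map_inv, mul_comm (LAM _)⁻¹, mul_assoc, inv_mul_cancel, mul_one]

/-! ### The contradiction -/

/-- The data of step (3a) of the Hering–Kantor–Seitz theorem, in abstract form: `C = C_G(z)`, `M` the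
group `L_z`, `K` the pointwise stabiliser of the fixed points of `z`, `D` the stabiliser of two of
them, `z'` a conjugate of `z` interchanging them. -/
structure Data (z z' : G) (C M K D : Subgroup G) : Prop where
  zz : z * z = 1
  memC : ∀ g : G, g ∈ C ↔ g * z = z * g
  M_le : M ≤ C
  M_norm : ∀ c ∈ C, ∀ m ∈ M, c * m * c⁻¹ ∈ M
  K_le : K ≤ C
  K_norm : ∀ c ∈ C, ∀ m ∈ K, c * m * c⁻¹ ∈ K
  KM : ∀ x ∈ K, ∀ m ∈ M, x * m = m * x
  D_le : D ≤ C
  MD : ∀ c ∈ C, ∃ m ∈ M, ∃ d ∈ D, c = m * d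
  zK : z ∈ K
  z'C : z' ∈ C
  z'z' : z' * z' = 1
  /-- `[z', K] ≤ ⟨z⟩` -/
  z'K : ∀ x ∈ K, z' * x = x * z' ∨ z' * x = x * z' * z
  /-- `[z', D] ≤ H⟨z⟩` -/
  z'D : ∀ d ∈ D, ∃ m ∈ M, d * z' * d⁻¹ = z' * m ∨ d * z' * d⁻¹ = z' * m * z
  MK : ∀ x ∈ M, x ∈ K → x = 1 ∨ x = z
  z'M : ∀ m ∈ M, z' * m ∉ K

namespace Data

variable {z z' : G} {C M K D : Subgroup G}

theorem z_comm (h : Data z z' C M K D) {c : G} (hc : c ∈ C) : c * z = z * c := (h.memC c).1 hc

/-- the elements of `K` commuting with `z'` -/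
def K0 (z' : G) (K : Subgroup G) : Subgroup G := K ⊓ centralizer ({z'} : Set G)

theorem mem_K0 {x : G} : x ∈ K0 z' K ↔ x ∈ K ∧ x * z' = z' * x := by
  rw [K0, mem_inf, mem_centralizer_singleton_iff]

theorem conj_K0 (h : Data z z' C M K D) {d x : G} (hd : d ∈ D) (hx : x ∈ K) :
    d * x * d⁻¹ ∈ K0 z' K ↔ x ∈ K0 z' K := by
  obtain ⟨m, hm, h1⟩ := h.z'D d⁻¹ (D.inv_mem hd)
  rw [inv_inv] at h1
  have hxm := h.KM x hx m hm
  have hxz := h.z_comm (h.K_le hx)
  -- `x` commutes with `d⁻¹ z' d` iff it commutes with `z'`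
  have key : x * (d⁻¹ * z' * d) = (d⁻¹ * z' * d) * x ↔ x * z' = z' * x := by
    rcases h1 with h1 | h1
    · rw [h1, ← mul_assoc, mul_assoc z' m x, ← hxm, ← mul_assoc z' x m]
      exact mul_left_inj m
    · rw [h1]
      have e1 : x * (z' * m * z) = (x * z') * (m * z) := by group
      have e2 : z' * m * z * x = (z' * x) * (m * z) := by
        calc z' * m * z * x = z' * m * (z * x) := by group
          _ = z' * m * (x * z) := by rw [hxz]
          _ = z' * (m * x) * z := by group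
          _ = z' * (x * m) * z := by rw [hxm]
          _ = _ := by group
      rw [e1, e2]
      exact mul_left_inj (m * z)
  rw [mem_K0, mem_K0]
  constructor
  · rintro ⟨-, h2⟩
    refine ⟨hx, key.1 ?_⟩
    have := congrArg (fun y => d⁻¹ * y * d) h2
    simpa [mul_assoc] using this
  · rintro ⟨-, h2⟩
    refine ⟨h.K_norm d (h.D_le hd) x hx, ?_⟩
    have := congrArg (fun y => d * y * d⁻¹) (key.2 h2)
    simpa [mul_assoc] using this

theorem conj_K0' (h : Data z z' C M K D) {c x : G} (hc : c ∈ C) (hx : x ∈ K) :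
    c * x * c⁻¹ ∈ K0 z' K ↔ x ∈ K0 z' K := by
  obtain ⟨m, hm, d, hd, rfl⟩ := h.MD c hc
  have h1 : m * d * x * (m * d)⁻¹ = d * x * d⁻¹ := by
    have := h.KM _ (h.K_norm d (h.D_le hd) x hx) m hm
    calc m * d * x * (m * d)⁻¹ = (m * (d * x * d⁻¹)) * m⁻¹ := by group
      _ = ((d * x * d⁻¹) * m) * m⁻¹ := by rw [this]
      _ = _ := by group
  rw [h1]
  exact h.conj_K0 hd hx

/-- the index of `K0` in `K` is at most 2 -/
theorem mul_K0 (h : Data z z' C M K D) {x y : G} (hx : x ∈ K) (hy : y ∈ K)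
    (hx0 : x ∉ K0 z' K) (hy0 : y ∉ K0 z' K) : x * y ∈ K0 z' K := by
  have h1 : z' * x = x * z' * z := by
    rcases h.z'K x hx with h1 | h1
    · exact absurd (mem_K0.2 ⟨hx, h1.symm⟩) hx0
    · exact h1
  have h2 : z' * y = y * z' * z := by
    rcases h.z'K y hy with h1 | h1
    · exact absurd (mem_K0.2 ⟨hy, h1.symm⟩) hy0
    · exact h1
  rw [mem_K0]
  refine ⟨K.mul_mem hx hy, ?_⟩
  have hyz := h.z_comm (h.K_le hy)
  calc x * y * z' = x * y * z' * (z * z) := by rw [h.zz, mul_one]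
    _ = x * (y * z' * z) * z := by group
    _ = x * (z' * y) * z := by rw [h2]
    _ = (x * z') * (y * z) := by group
    _ = (x * z') * (z * y) := by rw [hyz]
    _ = (x * z' * z) * y := by group
    _ = (z' * x) * y := by rw [h1]
    _ = _ := by group

theorem comm_K0 (h : Data z z' C M K D) {c x : G} (hc : c ∈ C) (hx : x ∈ K) :
    c * x * c⁻¹ * x⁻¹ ∈ K0 z' K := by
  by_cases hx0 : x ∈ K0 z' K
  · exact mul_mem ((h.conj_K0' hc hx).2 hx0) (inv_mem hx0)
  · exact h.mul_K0 (h.K_norm c hc x hx) (K.inv_mem hx) (fun h1 => hx0 ((h.conj_K0' hc hx).1 h1))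
      (fun h1 => hx0 (by simpa using (K0 z' K).inv_mem h1))

/-- The normal subgroup `M⟨z'⟩K0` of `C`. -/
def N0 (h : Data z z' C M K D) : Subgroup G where
  carrier := {g | ∃ m ∈ M, ∃ x ∈ K0 z' K, g = m * x ∨ g = z' * m * x}
  mul_mem' := by
    rintro _ _ ⟨m, hm, x, hx, hg⟩ ⟨m', hm', x', hx', hg'⟩
    have hxm' : x * m' = m' * x := h.KM x (mem_K0.1 hx).1 m' hm'
    have hxz' : x * z' = z' * x := (mem_K0.1 hx).2
    have hz'm : z' * m * z'⁻¹ ∈ M := h.M_norm z' h.z'C m hm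
    have hz' : z'⁻¹ = z' := inv_eq_of_mul_eq_one_right h.z'z'
    rcases hg with rfl | rfl <;> rcases hg' with rfl | rfl
    · refine ⟨m * m', mul_mem hm hm', x * x', mul_mem hx hx', Or.inl ?_⟩
      calc m * x * (m' * x') = m * (x * m') * x' := by group
        _ = m * (m' * x) * x' := by rw [hxm']
        _ = _ := by group
    · refine ⟨(z' * m * z'⁻¹) * m', mul_mem hz'm hm', x * x', mul_mem hx hx', Or.inr ?_⟩
      calc m * x * (z' * m' * x') = m * (x * z') * m' * x' := by group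
        _ = m * (z' * x) * m' * x' := by rw [hxz']
        _ = m * z' * (x * m') * x' := by group
        _ = m * z' * (m' * x) * x' := by rw [hxm']
        _ = (z' * z') * m * z'⁻¹ * m' * (x * x') := by
          rw [h.z'z', hz']; group
        _ = _ := by group
    · refine ⟨m * m', mul_mem hm hm', x * x', mul_mem hx hx', Or.inr ?_⟩
      calc z' * m * x * (m' * x') = z' * m * (x * m') * x' := by group
        _ = z' * m * (m' * x) * x' := by rw [hxm']
        _ = _ := by group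
    · refine ⟨(z' * m * z'⁻¹) * m', mul_mem hz'm hm', x * x', mul_mem hx hx', Or.inl ?_⟩
      calc z' * m * x * (z' * m' * x') = z' * m * (x * z') * m' * x' := by group
        _ = z' * m * (z' * x) * m' * x' := by rw [hxz']
        _ = z' * m * z' * (x * m') * x' := by group
        _ = z' * m * z' * (m' * x) * x' := by rw [hxm']
        _ = _ := by rw [hz']; group
  one_mem' := ⟨1, M.one_mem, 1, (K0 z' K).one_mem, Or.inl (by group)⟩
  inv_mem' := by
    rintro _ ⟨m, hm, x, hx, hg⟩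
    have hxm : x * m = m * x := h.KM x (mem_K0.1 hx).1 m hm
    have hxz' : x * z' = z' * x := (mem_K0.1 hx).2
    have hz'm : z' * m⁻¹ * z'⁻¹ ∈ M := h.M_norm z' h.z'C _ (M.inv_mem hm)
    have hz' : z'⁻¹ = z' := inv_eq_of_mul_eq_one_right h.z'z'
    rcases hg with rfl | rfl
    · refine ⟨m⁻¹, M.inv_mem hm, x⁻¹, inv_mem hx, Or.inl ?_⟩
      rw [← hxm]; group
    · refine ⟨z' * m⁻¹ * z'⁻¹, hz'm, x⁻¹, inv_mem hx, Or.inr ?_⟩
      have h1 : z' * m * x = x * (z' * m) := by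
        rw [mul_assoc, ← hxm, ← mul_assoc, ← hxz', mul_assoc]
      rw [h1, mul_inv_rev, mul_inv_rev]
      calc m⁻¹ * z'⁻¹ * x⁻¹ = (z' * z') * m⁻¹ * z'⁻¹ * x⁻¹ := by rw [h.z'z', one_mul]
        _ = _ := by group

theorem mem_N0 (h : Data z z' C M K D) {g : G} :
    g ∈ h.N0 ↔ ∃ m ∈ M, ∃ x ∈ K0 z' K, g = m * x ∨ g = z' * m * x := Iff.rfl

theorem M_le_N0 (h : Data z z' C M K D) {m : G} (hm : m ∈ M) : m ∈ h.N0 :=
  ⟨m, hm, 1, (K0 z' K).one_mem, Or.inl (by group)⟩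

theorem K0_le_N0 (h : Data z z' C M K D) {x : G} (hx : x ∈ K0 z' K) : x ∈ h.N0 :=
  ⟨1, M.one_mem, x, hx, Or.inl (by group)⟩

theorem z'_mem_N0 (h : Data z z' C M K D) : z' ∈ h.N0 :=
  ⟨1, M.one_mem, 1, (K0 z' K).one_mem, Or.inr (by group)⟩

theorem z_mem_K0 (h : Data z z' C M K D) : z ∈ K0 z' K :=
  mem_K0.2 ⟨h.zK, (h.z_comm h.z'C).symm⟩

theorem z_mem_N0 (h : Data z z' C M K D) : z ∈ h.N0 := h.K0_le_N0 h.z_mem_K0

theorem conj_z'_mem (h : Data z z' C M K D) {c : G} (hc : c ∈ C) : c * z' * c⁻¹ ∈ h.N0 := by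
  obtain ⟨m, hm, d, hd, rfl⟩ := h.MD c hc
  obtain ⟨n, hn, h1⟩ := h.z'D d hd
  have h2 : d * z' * d⁻¹ ∈ h.N0 := by
    rcases h1 with h1 | h1
    · rw [h1]; exact mul_mem h.z'_mem_N0 (h.M_le_N0 hn)
    · rw [h1]; exact mul_mem (mul_mem h.z'_mem_N0 (h.M_le_N0 hn)) h.z_mem_N0
  have h3 : m * d * z' * (m * d)⁻¹ = m * (d * z' * d⁻¹) * m⁻¹ := by group
  rw [h3]
  exact mul_mem (mul_mem (h.M_le_N0 hm) h2) (inv_mem (h.M_le_N0 hm))

theorem N0_norm (h : Data z z' C M K D) {c g : G} (hc : c ∈ C) (hg : g ∈ h.N0) :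
    c * g * c⁻¹ ∈ h.N0 := by
  obtain ⟨m, hm, x, hx, hg⟩ := hg
  have h1 : c * m * c⁻¹ ∈ h.N0 := h.M_le_N0 (h.M_norm c hc m hm)
  have h2 : c * x * c⁻¹ ∈ h.N0 := h.K0_le_N0 ((h.conj_K0' hc (mem_K0.1 hx).1).2 hx)
  rcases hg with rfl | rfl
  · have h3 : c * (m * x) * c⁻¹ = (c * m * c⁻¹) * (c * x * c⁻¹) := by group
    rw [h3]; exact mul_mem h1 h2
  · have h3 : c * (z' * m * x) * c⁻¹ = (c * z' * c⁻¹) * (c * m * c⁻¹) * (c * x * c⁻¹) := by group
    rw [h3]; exact mul_mem (mul_mem (h.conj_z'_mem hc) h1) h2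

theorem N0_inf_K (h : Data z z' C M K D) {k : G} (hk : k ∈ K) (hN : k ∈ h.N0) : k ∈ K0 z' K := by
  obtain ⟨m, hm, x, hx, rfl | rfl⟩ := hN
  · have h1 : m ∈ K := by
      have := K.mul_mem hk (K.inv_mem (mem_K0.1 hx).1)
      simpa using this
    rcases h.MK m hm h1 with rfl | rfl
    · simpa using hx
    · exact mul_mem h.z_mem_K0 hx
  · exfalso
    apply h.z'M m hm
    have := K.mul_mem hk (K.inv_mem (mem_K0.1 hx).1)
    simpa using this

/-- commutators of elements of `C` lie in `N0`, if the kernel of `σ : D → (cyclic group)` lies in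
`M K ⟨z'⟩` -/
theorem comm_mem_N0 (h : Data z z' C M K D) {A0 : Type*} [Group A0] [IsCyclic A0] (σ : D →* A0)
    (hσ : ∀ d : D, σ d = 1 → ∃ m ∈ M, ∃ x ∈ K, (d : G) = m * x ∨ (d : G) = z' * m * x)
    {c c' : G} (hc : c ∈ C) (hc' : c' ∈ C) : c * c' * c⁻¹ * c'⁻¹ ∈ h.N0 := by
  classical
  -- the quotient
  let N : Subgroup C := h.N0.subgroupOf C
  have hN : N.Normal := ⟨fun n hn g => by
    rw [mem_subgroupOf] at hn ⊢
    exact h.N0_norm g.2 hn⟩
  let π : C →* C ⧸ N := QuotientGroup.mk' N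
  have hπ1 : ∀ c : C, π c = 1 ↔ (c : G) ∈ h.N0 := by
    intro c
    rw [QuotientGroup.mk'_apply, QuotientGroup.eq_one_iff, mem_subgroupOf]
  -- elements of `K` are central
  have hcen : ∀ x : C, (x : G) ∈ K → ∀ y : C, π x * π y = π y * π x := by
    intro x hx y
    have h1 : π (y * x * y⁻¹ * x⁻¹) = 1 := (hπ1 _).2 (h.K0_le_N0 (h.comm_K0 y.2 hx))
    rw [map_mul, map_mul, map_mul, map_inv, map_inv] at h1
    have h2 := congrArg (fun t => t * π x * π y) h1
    simpa [mul_assoc] using h2.symm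
  -- the image of `ker σ` is central
  have hcen2 : ∀ (d : D), σ d = 1 → ∀ y : C, π ⟨d, h.D_le d.2⟩ * π y = π y * π ⟨d, h.D_le d.2⟩ := by
    intro d hd y
    obtain ⟨m, hm, x, hx, h1⟩ := hσ d hd
    have h2 : π ⟨d, h.D_le d.2⟩ = π ⟨x, h.K_le hx⟩ := by
      rcases h1 with h1 | h1
      · have h3 : (⟨d, h.D_le d.2⟩ : C) = ⟨m, h.M_le hm⟩ * ⟨x, h.K_le hx⟩ := Subtype.ext h1
        rw [h3, map_mul, (hπ1 ⟨m, h.M_le hm⟩).2 (h.M_le_N0 hm), one_mul]
      · have h3 : (⟨d, h.D_le d.2⟩ : C) = ⟨z', h.z'C⟩ * ⟨m, h.M_le hm⟩ * ⟨x, h.K_le hx⟩ :=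
          Subtype.ext h1
        rw [h3, map_mul, map_mul, (hπ1 ⟨m, h.M_le hm⟩).2 (h.M_le_N0 hm), mul_one,
          (hπ1 ⟨z', h.z'C⟩).2 h.z'_mem_N0, one_mul]
    rw [h2]
    exact hcen ⟨x, h.K_le hx⟩ hx y
  -- representatives in `D`
  have hrep : ∀ c : C, ∃ d : D, π c = π ⟨d, h.D_le d.2⟩ := by
    intro c
    obtain ⟨m, hm, d, hd, h1⟩ := h.MD c c.2
    refine ⟨⟨d, hd⟩, ?_⟩
    have h3 : c = ⟨m, h.M_le hm⟩ * ⟨d, h.D_le hd⟩ := Subtype.ext h1
    rw [h3, map_mul, (hπ1 ⟨m, h.M_le hm⟩).2 (h.M_le_N0 hm), one_mul]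
  -- a generator of the image of `σ`
  have hcyc : IsCyclic σ.range := inferInstance
  obtain ⟨⟨_, g, rfl⟩, hg⟩ := hcyc.exists_generator
  let γ : C := ⟨g, h.D_le g.2⟩
  have hform : ∀ c : C, ∃ i : ℤ, ∃ e : D, σ e = 1 ∧ π c = π γ ^ i * π ⟨e, h.D_le e.2⟩ := by
    intro c
    obtain ⟨d, hd⟩ := hrep c
    obtain ⟨i, hi⟩ := mem_zpowers_iff.1 (hg ⟨σ d, d, rfl⟩)
    have hi' : σ g ^ i = σ d := congrArg Subtype.val hi
    refine ⟨i, g ^ (-i) * d, ?_, ?_⟩
    · rw [map_mul, map_zpow, ← hi', ← zpow_add, neg_add_cancel, zpow_zero]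
    · rw [hd, ← map_zpow, ← map_mul]
      congr 1
      apply Subtype.ext
      simp [γ]
  have hcomm : ∀ x y : C, π x * π y = π y * π x := by
    intro x y
    obtain ⟨i, e, he, hx⟩ := hform x
    obtain ⟨j, e', he', hy⟩ := hform y
    have hce := hcen2 e he
    have hce' := hcen2 e' he'
    have h1 : Commute (π x) (π y) := by
      rw [hx, hy]
      have a1 : Commute (π ⟨e, h.D_le e.2⟩) (π γ ^ j) := (show Commute _ _ from hce γ).zpow_right j
      have a2 : Commute (π ⟨e, h.D_le e.2⟩) (π ⟨e', h.D_le e'.2⟩) := hce _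
      have a3 : Commute (π γ ^ i) (π ⟨e', h.D_le e'.2⟩) :=
        ((show Commute _ _ from hce' γ).symm).zpow_left i
      have a4 : Commute (π γ ^ i) (π γ ^ j) := (Commute.refl _).zpow_zpow i j
      exact ((a4.mul_right a3).mul_left (a1.mul_right a2))
    exact h1
  have h1 : π (⟨c, hc⟩ * ⟨c', hc'⟩ * ⟨c, hc⟩⁻¹ * ⟨c', hc'⟩⁻¹) = 1 := by
    rw [map_mul, map_mul, map_mul, hcomm ⟨c, hc⟩ ⟨c', hc'⟩, map_inv, map_inv]
    group
  exact (hπ1 _).1 h1

/-- **The contradiction** -/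
theorem false (h : Data z z' C M K D) [Finite G] {A0 : Type*} [Group A0] [IsCyclic A0] (σ : D →* A0)
    (hσ : ∀ d : D, σ d = 1 → ∃ m ∈ M, ∃ x ∈ K, (d : G) = m * x ∨ (d : G) = z' * m * x)
    (hcl : ∀ y : G, IsConj z y → y ∈ C → y = z ∨ ∃ m ∈ M, ∃ c ∈ C, c * y * c⁻¹ = z' * m ∨
      c * y * c⁻¹ = z' * m * z)
    {k : G} (hkK : k ∈ K) (hkz : k * k = z) (hkz' : k * z' ≠ z' * k)
    (hcomm : ∀ y : G, IsConj z y → k * y = y * k → y = z)
    (hgen : ∀ (S : Subgroup G), S.Normal → (∀ x y : G, x * y * x⁻¹ * y⁻¹ ∈ S) → k * k ∈ S → k ∈ S) :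
    False := by
  classical
  let N : Subgroup C := h.N0.subgroupOf C
  have hN : N.Normal := ⟨fun n hn g => by
    rw [mem_subgroupOf] at hn ⊢
    exact h.N0_norm g.2 hn⟩
  have hcommQ : ∀ x y : C ⧸ N, x * y = y * x := by
    intro x y
    obtain ⟨x, rfl⟩ := QuotientGroup.mk'_surjective N x
    obtain ⟨y, rfl⟩ := QuotientGroup.mk'_surjective N y
    have h1 : QuotientGroup.mk' N (x * y * x⁻¹ * y⁻¹) = 1 := by
      rw [QuotientGroup.mk'_apply, QuotientGroup.eq_one_iff, mem_subgroupOf]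
      exact h.comm_mem_N0 σ hσ x.2 y.2
    rw [map_mul, map_mul, map_mul, map_inv, map_inv] at h1
    have h2 := congrArg (fun t => t * QuotientGroup.mk' N y * QuotientGroup.mk' N x) h1
    simpa [mul_assoc] using h2
  let _ : CommGroup (C ⧸ N) := { (inferInstance : Group (C ⧸ N)) with mul_comm := hcommQ }
  let LAM : C →* C ⧸ N := QuotientGroup.mk' N
  have hL1 : ∀ c : C, LAM c = 1 ↔ (c : G) ∈ h.N0 := by
    intro c
    change QuotientGroup.mk' N c = 1 ↔ _
    rw [QuotientGroup.mk'_apply, QuotientGroup.eq_one_iff, mem_subgroupOf]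
  have hkC := h.K_le hkK
  have htr : LAM.transfer k = LAM ⟨k, hkC⟩ := by
    refine transfer_sq z h.zz C h.memC LAM k hkC hkz hcomm ?_
    intro y hy
    rw [hL1]
    rcases hcl y hy y.2 with h1 | ⟨m, hm, c, hc, h1⟩
    · rw [h1]; exact h.z_mem_N0
    · have h2 : c * y * c⁻¹ ∈ h.N0 := by
        rcases h1 with h1 | h1
        · rw [h1]; exact mul_mem h.z'_mem_N0 (h.M_le_N0 hm)
        · rw [h1]; exact mul_mem (mul_mem h.z'_mem_N0 (h.M_le_N0 hm)) h.z_mem_N0
      have h3 := h.N0_norm (C.inv_mem hc) h2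
      have h4 : c⁻¹ * (c * y * c⁻¹) * c⁻¹⁻¹ = (y : G) := by group
      rwa [h4] at h3
  have hkN : k ∉ h.N0 := fun h1 => hkz' (mem_K0.1 (h.N0_inf_K hkK h1)).2
  have h1 : k ∈ (LAM.transfer).ker := by
    apply hgen _ inferInstance
    · intro x y
      rw [MonoidHom.mem_ker, map_mul, map_mul, map_mul, map_inv, map_inv, mul_comm (LAM.transfer x)]
      group
    · rw [MonoidHom.mem_ker, map_mul, htr, ← map_mul, hL1]
      change k * k ∈ h.N0
      rw [hkz]; exact h.z_mem_N0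
  rw [MonoidHom.mem_ker, htr, hL1] at h1
  exact hkN h1

end Data

end Cfsg.Agent.HKS.CentralTransfer
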