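import Mathlib
import Cfsg.Agent.HKS.CentralN
import Cfsg.Agent.HKS.CentralTransfer
import Cfsg.Agent.Lib.PSL2Outer

/-!
# Coordinates on the fixed points of a central involution of `W`, `q = 1 mod 4`

`Coo U a b z T` : the group `C_G(z)` acts on `Fix(z) = {a} ∪ {T s • b}` as a subgroup of `PΓL(2,F)`.
Under this hypothesis we determine the conjugates of `z` interchanging `a` and `b` (`|U a| = q³`,
`q = 1 mod 4`): they act as `s ↦ c / s`, `c` not a square, and over each `c` there are exactly two of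
them, `y` and `y z`.
-/

set_option autoImplicit false

namespace Cfsg.Agent.HKS.CentralZ

open Subgroup MulAction CentralN

section field

variable {F : Type*} [Field F] [Finite F]

theorem isSquare_mul_of_not {x y : F} (hx : ¬ IsSquare x) (hy : ¬ IsSquare y) : IsSquare (x * y) := by
  classical
  have := Fintype.ofFinite F
  have hx0 : x ≠ 0 := by rintro rfl; exact hx (IsSquare.zero)
  have hy0 : y ≠ 0 := by rintro rfl; exact hy (IsSquare.zero)
  by_cases h2 : ringChar F = 2
  · exact absurd (FiniteField.isSquare_of_char_two h2 x) hx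
  · have h1 := (quadraticChar_neg_one_iff_not_isSquare (F := F)).2 hx
    have h3 := (quadraticChar_neg_one_iff_not_isSquare (F := F)).2 hy
    rw [← quadraticChar_one_iff_isSquare (mul_ne_zero hx0 hy0), map_mul, h1, h3]
    norm_num

omit [Finite F] in
theorem not_isSquare_mul {x y : F} (hx : IsSquare x) (hx0 : x ≠ 0) (hy : ¬ IsSquare y) :
    ¬ IsSquare (x * y) := by
  intro h
  apply hy
  have := h.div hx
  rwa [mul_div_cancel_left₀ _ hx0] at this

theorem isSquare_div_of_not {x y : F} (hx : ¬ IsSquare x) (hy : ¬ IsSquare y) : IsSquare (x / y) := by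
  rw [div_eq_mul_inv]
  apply isSquare_mul_of_not hx
  intro h
  exact hy (by simpa using h.inv)

theorem exists_nonsq (h2 : (2 : F) ≠ 0) : ∃ ν : F, ¬ IsSquare ν := by
  have := Fintype.ofFinite F
  exact FiniteField.exists_nonsquare (F := F) (by
    intro h
    apply h2
    have : ((2 : ℕ) : F) = 0 := (ringChar.spec F 2).2 (by rw [h])
    exact_mod_cast this)

theorem card_nonsq_eq (h2 : (2 : F) ≠ 0) :
    Nat.card {c : F // ¬ IsSquare c} = Nat.card {c : F // IsSquare c ∧ c ≠ 0} := by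
  obtain ⟨ν, hν⟩ := exists_nonsq h2
  have hν0 : ν ≠ 0 := by rintro rfl; exact hν (IsSquare.zero)
  exact Nat.card_congr ⟨fun c => ⟨ν * c, isSquare_mul_of_not hν c.2, mul_ne_zero hν0 (by
        intro h; exact c.2 (by rw [h]; exact IsSquare.zero))⟩,
      fun c => ⟨ν⁻¹ * c, by
        rw [mul_comm]
        apply not_isSquare_mul c.2.1 c.2.2
        intro h
        exact hν (by simpa using h.inv)⟩,
      fun c => Subtype.ext (by simp [hν0]), fun c => Subtype.ext (by simp [hν0])⟩

/-- The number of nonsquares. -/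
theorem card_nonsq (h2 : (2 : F) ≠ 0) : 2 * Nat.card {c : F // ¬ IsSquare c} + 1 = Nat.card F := by
  classical
  have e2 : F ≃ {c : F // ¬ IsSquare c} ⊕ ({c : F // IsSquare c ∧ c ≠ 0} ⊕ Unit) :=
    ⟨fun c => if h : IsSquare c then (if h0 : c = 0 then Sum.inr (Sum.inr ()) else
        Sum.inr (Sum.inl ⟨c, h, h0⟩)) else Sum.inl ⟨c, h⟩,
      fun x => match x with
        | Sum.inl c => c
        | Sum.inr (Sum.inl c) => c
        | Sum.inr (Sum.inr _) => 0, by
        intro c
        by_cases h : IsSquare c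
        · by_cases h0 : c = 0
          · simp [h0]
          · simp [h, h0]
        · simp [h], by
        rintro (c | c | c)
        · simp [c.2]
        · simp [c.2.1, c.2.2]
        · simp⟩
  rw [Nat.card_congr e2, Nat.card_sum, Nat.card_sum, ← card_nonsq_eq h2]
  simp
  ring

end field

section general

/-- A permutation of order 4 whose square has no fixed points: the number of points is divisible
by 4. -/
theorem four_dvd {X : Type*} [Finite X] (f : Equiv.Perm X) (h4 : f ^ 4 = 1)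
    (h2 : ∀ x, f (f x) ≠ x) : 4 ∣ Nat.card X := by
  classical
  have := Fintype.ofFinite X
  rcases isEmpty_or_nonempty X with h | ⟨⟨x0⟩⟩
  · rw [Nat.card_eq_zero.2 (Or.inl h)]; exact dvd_zero _
  have hord : orderOf f = 2 ^ (1 + 1) := by
    refine orderOf_eq_prime_pow ?_ h4
    intro h
    apply h2 x0
    have := Equiv.congr_fun h x0
    simpa [pow_succ] using this
  have hcard : Nat.card (zpowers f) = 4 := by rw [Nat.card_zpowers, hord]; norm_num
  rw [← hcard, Nat.card_eq_fintype_card, Nat.card_eq_fintype_card,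
    MulAction.card_eq_sum_card_group_div_card_stabilizer (zpowers f) X]
  apply Finset.dvd_sum
  intro ω _
  have h1 : Fintype.card (stabilizer (zpowers f) ω.out) = 1 := by
    rw [Fintype.card_eq_one_iff]
    refine ⟨1, fun g => ?_⟩
    obtain ⟨⟨g, hg⟩, hgs⟩ := g
    apply Subtype.ext
    apply Subtype.ext
    change g = 1
    have hgs' : g (ω.out) = ω.out := hgs
    obtain ⟨n, hn, rfl⟩ : ∃ n < 4, f ^ n = g := by
      obtain ⟨n, hn⟩ := (mem_powers_iff_mem_zpowers.2 hg)
      refine ⟨n % 4, Nat.mod_lt _ (by norm_num), ?_⟩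
      have h5 : f ^ n = g := hn
      rw [← h5]
      conv_rhs => rw [← Nat.div_add_mod n 4, pow_add, pow_mul, h4, one_pow, one_mul]
    have h5 := h2 ω.out
    interval_cases n
    · exact pow_zero _
    · exfalso
      rw [pow_one] at hgs'
      apply h5
      rw [hgs', hgs']
    · exfalso
      apply h5
      simpa [pow_succ] using hgs'
    · exfalso
      have h6 : (f ^ 3) ((f ^ 3) ω.out) = ω.out := by rw [hgs', hgs']
      rw [← Equiv.Perm.mul_apply, ← pow_add] at h6
      have h7 : f ^ (3 + 3) = f ^ 2 := by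
        have : f ^ (3 + 3) = f ^ 4 * f ^ 2 := by rw [← pow_add]
        rw [this, h4, one_mul]
      rw [h7] at h6
      apply h5
      simpa [pow_succ] using h6
  rw [h1, Nat.div_one]

end general

/-! ### Coordinates -/

variable {G Ω : Type*} [Group G] [MulAction G Ω] {U : Ω → Subgroup G} {a b : Ω} {z : G}
  {F : Type*} [Field F]

/-- `g` acts as `s ↦ c * s`. -/
def Lin (T : F → G) (b : Ω) (c : F) (g : G) : Prop := ∀ s, g • T s • b = T (c * s) • b

/-- `g` acts as `s ↦ c / s`. -/
def Inv (T : F → G) (b : Ω) (c : F) (g : G) : Prop := ∀ s, s ≠ 0 → g • T s • b = T (c * s⁻¹) • b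

/-- Coordinates on the fixed points of `z`: the group `C_G(z)` acts as a subgroup of `PΓL(2,F)`, the
group `genFix U ⟨z⟩` as `PSL(2,F)`. -/
structure Coo (U : Ω → Subgroup G) (a b : Ω) (z : G) (T : F → G) : Prop where
  T_mem : ∀ s, T s ∈ U a
  T_comm : ∀ s, z * T s = T s * z
  T_surj : ∀ u ∈ U a, z * u = u * z → ∃ s, T s = u
  T_inj : Function.Injective T
  T_add : ∀ s t, T (s + t) = T s * T t
  diag : ∀ d ∈ Dab G a b, ∃ (c : F) (σ : F ≃+* F), c ≠ 0 ∧ ∀ s, d • T s • b = T (c * σ s) • b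
  anti : ∀ w : G, Swaps w a b → ∃ (c : F) (σ : F ≃+* F), c ≠ 0 ∧
    ∀ s, s ≠ 0 → w • T s • b = T (c * σ s⁻¹) • b
  tor : ∀ h ∈ Dab G a b ⊓ genFix U (zpowers z), ∃ r, r ≠ 0 ∧ Lin T b (r * r) h
  tor' : ∀ r, r ≠ 0 → ∃ h ∈ Dab G a b ⊓ genFix U (zpowers z), Lin T b (r * r) h
  weyl : ∃ w ∈ genFix U (zpowers z), Swaps w a b ∧ ∃ r, r ≠ 0 ∧ Inv T b (-(r * r)) w

namespace Coo

variable {T : F → G}

theorem T_zero (X : Coo U a b z T) : T 0 = 1 := by
  have h := X.T_add 0 0
  rw [add_zero] at h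
  exact mul_eq_left.mp h.symm

theorem T_neg (X : Coo U a b z T) (s : F) : T (-s) = (T s)⁻¹ := by
  apply eq_inv_of_mul_eq_one_left
  rw [← X.T_add, neg_add_cancel, X.T_zero]

/-- the points -/
theorem pt_inj (C : Cen U a b z) (X : Coo U a b z T) {s t : F} (h : T s • b = T t • b) : s = t :=
  X.T_inj (C.h.eq_of_smul_eq C.ab (X.T_mem s) (X.T_mem t) h)

theorem fix_pt (C : Cen U a b z) (X : Coo U a b z T) (s : F) : z • T s • b = T s • b := by
  rw [← mul_smul, X.T_comm, mul_smul, show z • b = b from C.zD.2]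

theorem pt_ne (C : Cen U a b z) (X : Coo U a b z T) (s : F) : T s • b ≠ a :=
  C.h.smul_ne_center C.ab (X.T_mem s)

theorem exists_pt (C : Cen U a b z) (X : Coo U a b z T) {c : Ω} (hc : z • c = c) (hca : c ≠ a) :
    ∃ s, T s • b = c := by
  obtain ⟨u, hu, hub⟩ := C.h.trans C.ab hca
  have h1 : z * u = u * z := by
    apply mem_cen.1
    refine C.h.comm_of_fixSub (fun x hx => (C.X_le hx).1) (fun x hx => (C.X_le hx).2) C.ab hu ?_
    rw [hub]
    exact mem_fix.2 hc
  obtain ⟨s, rfl⟩ := X.T_surj u hu h1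
  exact ⟨s, hub⟩

theorem pt_zero (X : Coo U a b z T) : T 0 • b = b := by rw [X.T_zero, one_smul]

/-- `K` -/
theorem mem_K (C : Cen U a b z) (X : Coo U a b z T) {g : G} (hg : g • a = a)
    (h : ∀ s, g • T s • b = T s • b) : g ∈ kerFix Ω (zpowers z) := by
  rw [mem_kerFix]
  intro c hc
  by_cases hca : c = a
  · rw [hca, hg]
  · obtain ⟨s, rfl⟩ := X.exists_pt C (mem_fix.1 hc) hca
    exact h s

theorem K_act (C : Cen U a b z) (X : Coo U a b z T) {g : G} (hg : g ∈ kerFix Ω (zpowers z)) (s : F) :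
    g • T s • b = T s • b := by
  rw [mem_kerFix] at hg
  exact hg _ (mem_fix.2 (X.fix_pt C s))

theorem lin_of_K (C : Cen U a b z) (X : Coo U a b z T) {g : G}
    (hg : g ∈ kerFix Ω (zpowers z)) : Lin T b 1 g := by
  intro s
  rw [X.K_act C hg, one_mul]

theorem mem_K_of_lin (C : Cen U a b z) (X : Coo U a b z T) {g : G} (hg : g • a = a)
    (h : Lin T b 1 g) : g ∈ kerFix Ω (zpowers z) :=
  X.mem_K C hg fun s => by rw [h s, one_mul]

theorem lin_mul {T : F → G} {b : Ω} {c c' : F} {g g' : G} (h : Lin T b c g) (h' : Lin T b c' g') :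
    Lin T b (c * c') (g * g') := by
  intro s
  rw [mul_smul, h', h, mul_assoc]

theorem lin_inv {T : F → G} {b : Ω} {c : F} {g : G} (hc : c ≠ 0) (h : Lin T b c g) :
    Lin T b c⁻¹ g⁻¹ := by
  intro s
  rw [inv_smul_eq_iff, h, ← mul_assoc, mul_inv_cancel₀ hc, one_mul]

theorem inv_mul (X : Coo U a b z T) {c c' : F} {g g' : G} (hc' : c' ≠ 0)
    (hg : Swaps g a b) (hg' : Swaps g' a b) (h : Inv T b c g) (h' : Inv T b c' g') :
    Lin T b (c * c'⁻¹) (g * g') := by
  intro s
  by_cases hs : s = 0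
  · rw [hs, mul_zero, X.pt_zero, mul_smul, hg'.2, hg.1]
  · rw [mul_smul, h' s hs, h _ (mul_ne_zero hc' (inv_ne_zero hs))]
    congr 2
    rw [mul_inv, inv_inv, mul_assoc]

theorem lin_mul_inv {T : F → G} {b : Ω} {c c' : F} {g g' : G} (h : Lin T b c g)
    (h' : Inv T b c' g') : Inv T b (c * c') (g * g') := by
  intro s hs
  rw [mul_smul, h' s hs, h, mul_assoc]

theorem inv_mul_lin {T : F → G} {b : Ω} {c c' : F} {g g' : G} (hc' : c' ≠ 0) (h : Inv T b c g)
    (h' : Lin T b c' g') : Inv T b (c * c'⁻¹) (g * g') := by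
  intro s hs
  rw [mul_smul, h' s, h _ (mul_ne_zero hc' hs)]
  congr 2
  rw [mul_inv, mul_assoc]

/-- conjugation of `s ↦ c/s` by `s ↦ r s` -/
theorem inv_conj {T : F → G} {b : Ω} {c r : F} {g y : G} (hr : r ≠ 0) (h : Lin T b r g)
    (h' : Inv T b c y) : Inv T b (r * r * c) (g * y * g⁻¹) := by
  have h1 := inv_mul_lin (inv_ne_zero hr) (lin_mul_inv h h') (lin_inv hr h)
  rw [inv_inv] at h1
  have : r * r * c = r * c * r := by ring
  rw [this]
  exact h1

theorem inv_unique (C : Cen U a b z) (X : Coo U a b z T) {c c' : F} {g : G} (h : Inv T b c g)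
    (h' : Inv T b c' g) : c = c' := by
  have h1 := h 1 one_ne_zero
  rw [h' 1 one_ne_zero, inv_one, mul_one, mul_one] at h1
  exact (X.pt_inj C h1).symm

theorem lin_unique (C : Cen U a b z) (X : Coo U a b z T) {c c' : F} {g : G} (h : Lin T b c g)
    (h' : Lin T b c' g) : c = c' := by
  have h1 := h 1
  rw [h' 1, mul_one, mul_one] at h1
  exact (X.pt_inj C h1).symm

/-- an involution interchanging `a` and `b`, without fixed points on `Fix z`. -/
theorem inv_of_fpf [Finite F] (h2 : (2 : F) ≠ 0) (C : Cen U a b z) (X : Coo U a b z T) {y : G}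
    (hy : Swaps y a b) (hyy : y * y = 1) (hfpf : ∀ c : Ω, z • c = c → y • c ≠ c) :
    ∃ c : F, ¬ IsSquare c ∧ Inv T b c y := by
  obtain ⟨c, σ, hc, hσ⟩ := X.anti y hy
  -- `y² = 1`
  have h1 : ∀ s, s ≠ 0 → c * (σ c)⁻¹ * σ (σ s) = s := by
    intro s hs
    have h3 : y • y • T s • b = T s • b := by rw [← mul_smul, hyy, one_smul]
    have hne : c * σ s⁻¹ ≠ 0 := by
      apply mul_ne_zero hc
      rw [map_ne_zero_iff _ σ.injective]
      exact inv_ne_zero hs
    rw [hσ s hs, hσ _ hne] at h3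
    have h4 := X.pt_inj C h3
    simp only [mul_inv, map_mul, map_inv₀, inv_inv] at h4
    rw [mul_assoc]
    exact h4
  have hcc : σ c = c := by
    have h3 := h1 1 one_ne_zero
    rw [map_one, map_one, mul_one] at h3
    have hσc : σ c ≠ 0 := by rw [map_ne_zero_iff _ σ.injective]; exact hc
    rw [mul_inv_eq_one₀ hσc] at h3
    exact h3.symm
  have hσσ : ∀ s, σ (σ s) = s := by
    intro s
    by_cases hs : s = 0
    · rw [hs, map_zero, map_zero]
    · have h3 := h1 s hs
      rw [hcc, mul_inv_cancel₀ hc, one_mul] at h3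
      exact h3
  -- `σ = 1`
  have hid : ∀ s, σ s = s := by
    by_contra hne
    push Not at hne
    obtain ⟨x, hx⟩ := hne
    obtain ⟨l, hl⟩ := Lib.PSL2Outer.exists_norm h2 σ hσσ (δ := x - σ x)
      (sub_ne_zero.2 (Ne.symm hx)) (by rw [map_sub, hσσ]; ring) hcc
    have hl0 : l ≠ 0 := by
      rintro rfl
      rw [zero_mul] at hl
      exact hc hl.symm
    apply hfpf _ (X.fix_pt C l)
    rw [hσ l hl0, ← hl, map_inv₀]
    congr 2
    have : σ l ≠ 0 := by rw [map_ne_zero_iff _ σ.injective]; exact hl0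
    field_simp
  refine ⟨c, ?_, fun s hs => by rw [hσ s hs, hid]⟩
  rintro ⟨x, hx⟩
  have hx0 : x ≠ 0 := by
    rintro rfl
    rw [zero_mul] at hx
    exact hc hx
  apply hfpf _ (X.fix_pt C x)
  rw [hσ x hx0, hid, hx]
  congr 2
  field_simp

end Coo

end Cfsg.Agent.HKS.CentralZ
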