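import Mathlib
import Cfsg.Agent.HKS.CentralZCoo

/-!
# The conjugates of `z` interchanging `a` and `b`

`|F| = q = 1 mod 4`, `|z^G ∩ Dw| = q - 1`, `z` the only involution of `kerFix Ω ⟨z⟩`. Then over each
nonsquare `c` there are exactly two conjugates `y`, `y z` of `z` acting as `s ↦ c / s`.
-/

set_option autoImplicit false

namespace Cfsg.Agent.HKS.CentralZ

open Subgroup MulAction CentralN

variable {G Ω : Type*} [Group G] [MulAction G Ω] {U : Ω → Subgroup G} {a b : Ω} {z : G}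
  {F : Type*} [Field F] {T : F → G}

/-- The hypotheses. -/
structure Fib (U : Ω → Subgroup G) (a b : Ω) (z : G) (T : F → G) : Prop where
  C : Cen U a b z
  X : Coo U a b z T
  odd : Odd (Nat.card (U a))
  four : Nat.card F % 4 = 1
  cardJ : Nat.card {m : G // IsConj z m ∧ Swaps m a b} = Nat.card F - 1
  kinv : ∀ x ∈ kerFix Ω (zpowers z), x * x = 1 → x = 1 ∨ x = z

namespace Fib

theorem two_ne [Finite F] (H : Fib U a b z T) : (2 : F) ≠ 0 := by
  intro h
  have := Fintype.ofFinite F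
  have hch : CharP F 2 := CharTwo.of_one_ne_zero_of_two_eq_zero one_ne_zero h
  have h3 := FiniteField.even_card_of_char_two (F := F) (ringChar.eq F 2 ▸ rfl : ringChar F = 2)
  have h4 := H.four
  rw [Nat.card_eq_fintype_card] at h4
  omega

theorem neg_one_sq [Finite F] (H : Fib U a b z T) : IsSquare (-1 : F) := by
  have := Fintype.ofFinite F
  rw [FiniteField.isSquare_neg_one_iff]
  have h4 := H.four
  rw [Nat.card_eq_fintype_card] at h4
  omega

theorem exists_inv [Finite F] [Finite Ω] (H : Fib U a b z T) {y : G} (hy : IsConj z y)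
    (hs : Swaps y a b) : ∃ c : F, ¬ IsSquare c ∧ Inv T b c y :=
  H.X.inv_of_fpf H.two_ne H.C hs (H.C.sq_of hy) fun _ hc => H.C.fpf H.odd hy hs hc

theorem mem_C (H : Fib U a b z T) {g : G} (hg : g ∈ Wab G a b) : g * z = z * g :=
  (H.C.cW g hg).symm

theorem mem_cenW (H : Fib U a b z T) {g : G} (hg : g ∈ Wab G a b) :
    g ∈ centralizer (zpowers z : Set G) := mem_cen.2 (H.C.cW g hg)

/-- conjugation of `genFix` by elements of `C_G(z)` -/
theorem conj_M (H : Fib U a b z T) {g m : G} (hg : g ∈ centralizer (zpowers z : Set G))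
    (hm : m ∈ genFix U (zpowers z)) : g * m * g⁻¹ ∈ genFix U (zpowers z) := by
  apply PP1.conj_genFix H.C.h _ hm
  intro x hx
  have h1 : x * g = g * x := mem_centralizer_iff.1 hg x hx
  have h2 : g⁻¹ * x * g = x := by
    rw [mul_assoc, h1]; group
  rwa [h2]

theorem conj_M' (H : Fib U a b z T) {g m : G} (hg : g ∈ centralizer (zpowers z : Set G))
    (hm : m ∈ genFix U (zpowers z)) : g⁻¹ * m * g ∈ genFix U (zpowers z) := by
  have := H.conj_M ((centralizer (zpowers z : Set G)).inv_mem hg) hm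
  rwa [inv_inv] at this

/-- For every `r ≠ 0` there is an element of `D` acting as `s ↦ r s` and conjugating `z'` into
`z' M`. -/
theorem exists_lin [Finite F] (H : Fib U a b z T) {z' : G} (hs : Swaps z' a b)
    {ν : F} (hν : ¬ IsSquare ν) (hinv : Inv T b ν z') {r : F} (hr : r ≠ 0) :
    ∃ g ∈ Dab G a b, Lin T b r g ∧ ∃ m ∈ genFix U (zpowers z), g * z' * g⁻¹ = z' * m := by
  have hν0 : ν ≠ 0 := by rintro rfl; exact hν (IsSquare.zero)
  have hz'C := H.mem_cenW hs.mem_W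
  have hMC : genFix U (zpowers z) ≤ centralizer (zpowers z : Set G) := PP1.genFix_le_centralizer _
  -- elements of `M`
  have hM : ∀ g ∈ genFix U (zpowers z), ∃ m ∈ genFix U (zpowers z), g * z' * g⁻¹ = z' * m := by
    intro g hg
    refine ⟨z'⁻¹ * g * z' * g⁻¹, mul_mem (H.conj_M' hz'C hg) (inv_mem hg), by group⟩
  have hmul : ∀ g g' : G, g ∈ centralizer (zpowers z : Set G) →
      (∃ m ∈ genFix U (zpowers z), g * z' * g⁻¹ = z' * m) →
      (∃ m ∈ genFix U (zpowers z), g' * z' * g'⁻¹ = z' * m) →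
      ∃ m ∈ genFix U (zpowers z), (g * g') * z' * (g * g')⁻¹ = z' * m := by
    rintro g g' hg ⟨m, hm, h1⟩ ⟨m', hm', h2⟩
    refine ⟨m * (g * m' * g⁻¹), mul_mem hm (H.conj_M hg hm'), ?_⟩
    calc g * g' * z' * (g * g')⁻¹ = g * (g' * z' * g'⁻¹) * g⁻¹ := by group
      _ = (g * z' * g⁻¹) * (g * m' * g⁻¹) := by rw [h2]; group
      _ = _ := by rw [h1]; group
  by_cases hrs : IsSquare r
  · obtain ⟨t, ht⟩ := hrs
    have ht0 : t ≠ 0 := by rintro rfl; rw [zero_mul] at ht; exact hr ht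
    obtain ⟨h, hh, hl⟩ := H.X.tor' t ht0
    exact ⟨h, hh.1, by rw [ht]; exact hl, hM h hh.2⟩
  · obtain ⟨w, hw, hws, r0, hr0, hwi⟩ := H.X.weyl
    -- `r = t² ν / (-r0²)`
    have hsq : IsSquare (r * (ν * (-(r0 * r0))⁻¹)⁻¹) := by
      have e : r * (ν * (-(r0 * r0))⁻¹)⁻¹ = (r / ν) * ((-1) * (r0 * r0)) := by
        field_simp
      rw [e]
      refine (isSquare_div_of_not hrs hν).mul (H.neg_one_sq.mul ⟨r0, rfl⟩)
    obtain ⟨t, ht⟩ := hsq
    have hne : ν * (-(r0 * r0))⁻¹ ≠ 0 :=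
      mul_ne_zero hν0 (inv_ne_zero (neg_ne_zero.2 (mul_ne_zero hr0 hr0)))
    have ht0 : t ≠ 0 := by
      rintro rfl
      rw [zero_mul] at ht
      exact (mul_ne_zero hr (inv_ne_zero hne)) ht
    obtain ⟨h, hh, hl⟩ := H.X.tor' t ht0
    have h1 := H.X.inv_mul (neg_ne_zero.2 (mul_ne_zero hr0 hr0)) hs hws hinv hwi
    have h2 := Coo.lin_mul hl h1
    have h3 : z' * w ∈ Dab G a b := hs.mul hws
    refine ⟨h * (z' * w), mul_mem hh.1 h3, ?_, ?_⟩
    · rw [← ht, mul_assoc, inv_mul_cancel₀ hne, mul_one] at h2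
      exact h2
    · apply hmul h (z' * w) (hMC hh.2) (hM h hh.2)
      apply hmul z' w hz'C _ (hM w hw)
      exact ⟨1, one_mem _, by group⟩

variable [Finite F] [Finite Ω] [Finite G]

theorem fib_card (H : Fib U a b z T) {z' : G} (hs : Swaps z' a b)
    {ν : F} (hν : ¬ IsSquare ν) (hinv : Inv T b ν z') :
    Nat.card {y : G // (IsConj z y ∧ Swaps y a b) ∧ Inv T b ν y} = 2 := by
  classical
  have := Fintype.ofFinite F
  have hν0 : ν ≠ 0 := by rintro rfl; exact hν (IsSquare.zero)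
  -- the map to the nonsquares
  choose f hf hf' using fun y : {y : G // IsConj z y ∧ Swaps y a b} => H.exists_inv y.2.1 y.2.2
  let φ : {y : G // IsConj z y ∧ Swaps y a b} → {c : F // ¬ IsSquare c} := fun y => ⟨f y, hf y⟩
  have hfib : ∀ c : {c : F // ¬ IsSquare c}, Nat.card {y // φ y = c} =
      Nat.card {y : G // (IsConj z y ∧ Swaps y a b) ∧ Inv T b ν y} := by
    intro c
    have hc0 : (c : F) ≠ 0 := by intro h; exact c.2 (by rw [h]; exact IsSquare.zero)
    -- `c = r² ν`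
    obtain ⟨r, hr⟩ := isSquare_div_of_not c.2 hν
    have hr0 : r ≠ 0 := by
      rintro rfl
      rw [zero_mul] at hr
      exact (div_ne_zero hc0 hν0) hr
    have hrc : r * r * ν = c := by rw [← hr, div_mul_cancel₀ _ hν0]
    obtain ⟨g, hg, hl, -⟩ := H.exists_lin hs hν hinv hr0
    have hsw : ∀ y : G, Swaps y a b → Swaps (g * y * g⁻¹) a b := by
      intro y hy
      have := hy.conj g
      rwa [show g • a = a from hg.1, show g • b = b from hg.2] at this
    have hg' : g⁻¹ ∈ Dab G a b := inv_mem hg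
    have hsw' : ∀ y : G, Swaps y a b → Swaps (g⁻¹ * y * g) a b := by
      intro y hy
      have := hy.conj g⁻¹
      rwa [show g⁻¹ • a = a from hg'.1, show g⁻¹ • b = b from hg'.2, inv_inv] at this
    refine Nat.card_congr ⟨fun y => ⟨g⁻¹ * y.1.1 * g, ?_⟩, fun y => ⟨⟨g * y.1 * g⁻¹, ?_⟩, ?_⟩, ?_, ?_⟩
    · refine ⟨⟨y.1.2.1.trans (isConj_iff.2 ⟨g⁻¹, by group⟩), hsw' _ y.1.2.2⟩, ?_⟩
      have h1 : Inv T b c y.1.1 := by
        have h2 := hf' y.1
        have h3 : f y.1 = c := congrArg Subtype.val y.2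
        rwa [h3] at h2
      have h2 := Coo.inv_conj (inv_ne_zero hr0) (Coo.lin_inv hr0 hl) h1
      rw [inv_inv] at h2
      have h3 : r⁻¹ * r⁻¹ * (c : F) = ν := by rw [← hrc]; field_simp
      rwa [h3] at h2
    · exact ⟨y.2.1.1.trans (isConj_iff.2 ⟨g, rfl⟩), hsw _ y.2.1.2⟩
    · apply Subtype.ext
      have h2 := Coo.inv_conj hr0 hl y.2.2
      rw [hrc] at h2
      exact H.X.inv_unique H.C (hf' _) h2
    · intro y
      apply Subtype.ext
      apply Subtype.ext
      change g * (g⁻¹ * y.1.1 * g) * g⁻¹ = y.1.1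
      group
    · intro y
      apply Subtype.ext
      change g⁻¹ * (g * y.1 * g⁻¹) * g = y.1
      group
  have h1 : Nat.card {m : G // IsConj z m ∧ Swaps m a b} =
      Nat.card {c : F // ¬ IsSquare c} *
        Nat.card {y : G // (IsConj z y ∧ Swaps y a b) ∧ Inv T b ν y} := by
    rw [← Nat.card_congr (Equiv.sigmaFiberEquiv φ), Nat.card_sigma]
    rw [Finset.sum_congr rfl (fun c _ => hfib c), Finset.sum_const, Finset.card_univ, smul_eq_mul,
      ← Nat.card_eq_fintype_card]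
  have h2 := card_nonsq H.two_ne
  rw [H.cardJ] at h1
  have h3 : 0 < Nat.card {c : F // ¬ IsSquare c} := by
    have : Nonempty {c : F // ¬ IsSquare c} := ⟨⟨ν, hν⟩⟩
    exact Nat.card_pos
  have h4 : Nat.card {c : F // ¬ IsSquare c} * Nat.card {y : G // (IsConj z y ∧ Swaps y a b) ∧
      Inv T b ν y} = Nat.card {c : F // ¬ IsSquare c} * 2 := by omega
  exact Nat.eq_of_mul_eq_mul_left h3 h4

omit [Finite F] [Finite Ω] [Finite G] in
theorem K_le_D (H : Fib U a b z T) {x : G} (hx : x ∈ kerFix Ω (zpowers z)) : x ∈ Dab G a b := by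
  rw [mem_kerFix] at hx
  exact ⟨hx a (mem_fix.2 H.C.zD.1), hx b (mem_fix.2 H.C.zD.2)⟩

/-- **Over each nonsquare there are exactly two conjugates of `z`.** -/
theorem fib (H : Fib U a b z T) {y : G} (hy : IsConj z y) (hs : Swaps y a b) :
    (IsConj z (y * z)) ∧ ∀ x ∈ kerFix Ω (zpowers z), IsConj z (y * x) → x = 1 ∨ x = z := by
  classical
  obtain ⟨ν, hν, hinv⟩ := H.exists_inv hy hs
  have hν0 : ν ≠ 0 := by rintro rfl; exact hν (IsSquare.zero)
  have hcard := H.fib_card hs hν hinv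
  have hyy := H.C.sq_of hy
  obtain ⟨⟨y2, ⟨hy2, hs2⟩, hinv2⟩, hne, huniq⟩ :=
    (Nat.card_eq_two_iff' (⟨y, ⟨hy, hs⟩, hinv⟩ :
      {y : G // (IsConj z y ∧ Swaps y a b) ∧ Inv T b ν y})).1 hcard
  have hall : ∀ y' : G, IsConj z y' → Swaps y' a b → Inv T b ν y' → y' = y ∨ y' = y2 := by
    intro y' h1 h2 h3
    by_cases h4 : y' = y
    · exact Or.inl h4
    · right
      have := huniq ⟨y', ⟨h1, h2⟩, h3⟩ (fun h => h4 (congrArg Subtype.val h))
      exact congrArg Subtype.val this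
  have hne' : y2 ≠ y := fun h => hne (Subtype.ext h)
  -- `κ = y y2`
  have hκK : y * y2 ∈ kerFix Ω (zpowers z) := by
    apply H.X.mem_K_of_lin H.C
    · rw [mul_smul, hs2.1, hs.2]
    · have := H.X.inv_mul hν0 hs hs2 hinv hinv2
      rwa [mul_inv_cancel₀ hν0] at this
  set κ := y * y2 with hκ
  have hy2κ : y2 = y * κ := by rw [hκ, ← mul_assoc, hyy, one_mul]
  have hκD := H.K_le_D hκK
  have hy22 := H.C.sq_of hy2
  have hyinv : y⁻¹ = y := inv_eq_of_mul_eq_one_right hyy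
  have h1 : κ * y * κ = y := by
    have h2 : y * (κ * y * κ) = 1 := by
      calc y * (κ * y * κ) = (y * κ) * (y * κ) := by group
        _ = 1 := by rw [← hy2κ, hy22]
    calc κ * y * κ = y⁻¹ * (y * (κ * y * κ)) := by group
      _ = y := by rw [h2, mul_one, hyinv]
  have h2 : κ⁻¹ * y * κ = y * (κ * κ) := by
    calc κ⁻¹ * y * κ = κ⁻¹ * (κ * y * κ) * κ := by rw [h1]
      _ = _ := by group
  have h3 : y * (κ * κ) = y ∨ y * (κ * κ) = y2 := by
    apply hall
    · rw [← h2]; exact hy.trans (isConj_iff.2 ⟨κ⁻¹, by group⟩)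
    · exact hs.mul_D (mul_mem hκD hκD)
    · have h4 := Coo.inv_mul_lin (T := T) (b := b) one_ne_zero hinv
        (H.X.lin_of_K H.C (mul_mem hκK hκK))
      rwa [inv_one, mul_one] at h4
  have hκ1 : κ ≠ 1 := by
    intro h
    apply hne'
    rw [hy2κ, h, mul_one]
  have hκz : κ = z := by
    have h4 : κ * κ = 1 := by
      rcases h3 with h3 | h3
      · exact mul_eq_left.mp h3
      · rw [hy2κ] at h3
        have := mul_left_cancel h3
        exact absurd (mul_eq_left.mp this) hκ1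
    rcases H.kinv κ hκK h4 with h5 | h5
    · exact absurd h5 hκ1
    · exact h5
  rw [hκz] at hy2κ
  refine ⟨by rw [← hy2κ]; exact hy2, ?_⟩
  intro x hx hyx
  have h4 : y * x = y ∨ y * x = y2 := by
    apply hall _ hyx (hs.mul_D (H.K_le_D hx))
    have h5 := Coo.inv_mul_lin (T := T) (b := b) one_ne_zero hinv (H.X.lin_of_K H.C hx)
    rwa [inv_one, mul_one] at h5
  rcases h4 with h4 | h4
  · exact Or.inl (mul_eq_left.mp h4)
  · rw [hy2κ] at h4
    exact Or.inr (mul_left_cancel h4)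

/-- `[y, K] ≤ ⟨z⟩` -/
theorem comm_K (H : Fib U a b z T) {y : G} (hy : IsConj z y) (hs : Swaps y a b) {x : G}
    (hx : x ∈ kerFix Ω (zpowers z)) : y * x = x * y ∨ y * x = x * y * z := by
  have hxD := H.K_le_D hx
  have hyC := H.mem_cenW hs.mem_W
  have hyinv : y⁻¹ = y := inv_eq_of_mul_eq_one_right (H.C.sq_of hy)
  -- `y⁻¹ x⁻¹ y x ∈ K`
  have h1 : y⁻¹ * x * y ∈ kerFix Ω (zpowers z) := by
    rw [mem_kerFix]
    intro c hc
    have h2 : ∀ x ∈ zpowers z, x • y • c = y • c := by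
      intro x hx
      rw [← mul_smul, mem_centralizer_iff.1 hyC x hx, mul_smul, hc x hx]
    rw [mul_smul, mul_smul, inv_smul_eq_iff]
    exact mem_kerFix.1 hx _ h2
  have h2 : (y⁻¹ * x * y)⁻¹ * x ∈ kerFix Ω (zpowers z) := mul_mem (inv_mem h1) hx
  have h3 : y * ((y⁻¹ * x * y)⁻¹ * x) = x⁻¹ * y * x := by
    calc y * ((y⁻¹ * x * y)⁻¹ * x) = y * y⁻¹ * x⁻¹ * y * x := by group
      _ = _ := by group
  have h4 : IsConj z (y * ((y⁻¹ * x * y)⁻¹ * x)) := by
    rw [h3]; exact hy.trans (isConj_iff.2 ⟨x⁻¹, by group⟩)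
  rcases (H.fib hy hs).2 _ h2 h4 with h5 | h5
  · left
    rw [h5, mul_one] at h3
    calc y * x = x * (x⁻¹ * y * x) := by group
      _ = x * y := by rw [← h3]
  · right
    rw [h5] at h3
    calc y * x = x * (x⁻¹ * y * x) := by group
      _ = x * y * z := by rw [← h3]; group

/-- Two conjugates of `z` interchanging `a` and `b`: `y ∈ z' M ∪ z' M z`. -/
theorem mem_coset (H : Fib U a b z T) {z' y : G} (hz' : IsConj z z') (hs' : Swaps z' a b)
    (hy : IsConj z y) (hs : Swaps y a b) :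
    ∃ m ∈ genFix U (zpowers z), y = z' * m ∨ y = z' * m * z := by
  obtain ⟨ν, hν, hinv⟩ := H.exists_inv hz' hs'
  obtain ⟨c, hc, hinvc⟩ := H.exists_inv hy hs
  have hν0 : ν ≠ 0 := by rintro rfl; exact hν (IsSquare.zero)
  have hc0 : c ≠ 0 := by rintro rfl; exact hc (IsSquare.zero)
  obtain ⟨r, hr⟩ := isSquare_div_of_not hc hν
  have hr0 : r ≠ 0 := by
    rintro rfl
    rw [zero_mul] at hr
    exact (div_ne_zero hc0 hν0) hr
  obtain ⟨g, hg, hl, m, hm, hgm⟩ := H.exists_lin hs' hν hinv hr0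
  have h1 := Coo.inv_conj hr0 hl hinv
  rw [← hr, div_mul_cancel₀ _ hν0] at h1
  set y' := g * z' * g⁻¹ with hy'
  have hy'c : IsConj z y' := hz'.trans (isConj_iff.2 ⟨g, rfl⟩)
  have hy's : Swaps y' a b := by
    have := hs'.conj g
    rwa [show g • a = a from hg.1, show g • b = b from hg.2] at this
  have hy'y' := H.C.sq_of hy'c
  have h2 : y' * y ∈ kerFix Ω (zpowers z) := by
    apply H.X.mem_K_of_lin H.C
    · rw [mul_smul, hs.1, hy's.2]
    · have := H.X.inv_mul hc0 hy's hs h1 hinvc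
      rwa [mul_inv_cancel₀ hc0] at this
  have h3 : y = y' * (y' * y) := by rw [← mul_assoc, hy'y', one_mul]
  have h4 : IsConj z (y' * (y' * y)) := by rw [← h3]; exact hy
  refine ⟨m, hm, ?_⟩
  rcases (H.fib hy'c hy's).2 _ h2 h4 with h5 | h5
  · left
    rw [h3, h5, mul_one, hgm]
  · right
    rw [h3, h5, hgm]

end Fib

end Cfsg.Agent.HKS.CentralZ
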