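import Mathlib
import Cfsg.Agent.HKS.CentralZFib
import Cfsg.Agent.HKS.Transfer

/-!
# Case `q = 1 mod 4`, `z` central in `W`: the contradiction from an element `k` with `k² = z`
-/

set_option autoImplicit false

namespace Cfsg.Agent.HKS.CentralZ

open Subgroup MulAction CentralN

theorem isCyclic_ringAut (F : Type*) [Field F] [Finite F] : IsCyclic (F ≃+* F) := by
  obtain ⟨p, hp⟩ := CharP.exists F
  have hpp : Fact p.Prime := ⟨CharP.char_is_prime F p⟩
  let _ : Algebra (ZMod p) F := ZMod.algebra F p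
  let φ : (F ≃ₐ[ZMod p] F) →* (F ≃+* F) :=
    { toFun := fun σ => σ.toRingEquiv
      map_one' := rfl
      map_mul' := fun _ _ => rfl }
  have hφ : Function.Surjective φ := by
    intro σ
    refine ⟨AlgEquiv.ofRingEquiv (f := σ) ?_, ?_⟩
    · intro x
      have : (σ : F →+* F).comp (algebraMap (ZMod p) F) = algebraMap (ZMod p) F :=
        Subsingleton.elim _ _
      exact RingHom.congr_fun this x
    · ext x
      rfl
  exact isCyclic_of_surjective φ hφ

section

variable {G Ω : Type*} [Group G] [MulAction G Ω] {U : Ω → Subgroup G} {a b : Ω} {z : G}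

/-- `genFix U ⟨z⟩` is 2-transitive on the fixed points of `z`. -/
theorem two_M [Finite Ω] (C : Cen U a b z) {c d : Ω} (hcd : d ≠ c) (hc : z • c = c)
    (hd : z • d = d) : ∃ g ∈ genFix U (zpowers z), g • a = c ∧ g • b = d := by
  have h1 := (C.h.fixed (zpowers z) (SSplit.three_of_card (by
    rw [C.card_fixSub]
    have := C.one_lt
    omega))).gen
  obtain ⟨g, hg1, hg2⟩ := h1.two (a := ⟨a, mem_fix.2 C.zD.1⟩) (b := ⟨b, mem_fix.2 C.zD.2⟩)
    (c := ⟨c, mem_fix.2 hc⟩) (d := ⟨d, mem_fix.2 hd⟩)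
    (fun e => C.ab (congrArg Subtype.val e).symm) (fun e => hcd (congrArg Subtype.val e).symm)
  refine ⟨embFix U (zpowers z) g, ?_, congrArg Subtype.val hg1, congrArg Subtype.val hg2⟩
  rw [← map_iSup_famFix]
  exact ⟨(g : centralizer (zpowers z : Set G)), g.2, rfl⟩

/-- In a group generated by groups of order `n` odd: a normal subgroup with commutative quotient
containing `k²` contains `k`. -/
theorem odd_gen [Finite Ω] (h : SSplit U) (hgen : (⨆ c, U c) = ⊤) (hodd : Odd (Nat.card (U a)))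
    (S : Subgroup G) (hS : S.Normal) (hcomm : ∀ x y : G, x * y * x⁻¹ * y⁻¹ ∈ S) {k : G}
    (hk : k * k ∈ S) : k ∈ S := by
  set n := Nat.card (U a) with hn
  have hcard : ∀ c, Nat.card (U c) = n := by
    intro c
    have h1 := h.card a
    have h2 := h.card c
    omega
  let π : G →* G ⧸ S := QuotientGroup.mk' S
  have hπ : ∀ g : G, π g = 1 ↔ g ∈ S := by
    intro g
    rw [QuotientGroup.mk'_apply, QuotientGroup.eq_one_iff]
  have hc : ∀ x y : G, Commute (π x) (π y) := by
    intro x y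
    have h1 : π (x * y * x⁻¹ * y⁻¹) = 1 := (hπ _).2 (hcomm x y)
    rw [map_mul, map_mul, map_mul, map_inv, map_inv] at h1
    have h2 := congrArg (fun t => t * π y * π x) h1
    change π x * π y = π y * π x
    simpa [mul_assoc] using h2
  let A : Subgroup G :=
    { carrier := {g | π g ^ n = 1}
      mul_mem' := by
        intro x y hx hy
        change π (x * y) ^ n = 1
        rw [map_mul, (hc x y).mul_pow, show π x ^ n = 1 from hx, show π y ^ n = 1 from hy, mul_one]
      one_mem' := by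
        change π 1 ^ n = 1
        rw [map_one, one_pow]
      inv_mem' := by
        intro x hx
        change π x⁻¹ ^ n = 1
        rw [map_inv, inv_pow, show π x ^ n = 1 from hx, inv_one] }
  have hA : (⨆ c, U c) ≤ A := by
    rw [iSup_le_iff]
    intro c x hx
    change π x ^ n = 1
    have h1 : (⟨x, hx⟩ : U c) ^ Nat.card (U c) = 1 := pow_card_eq_one'
    rw [hcard c] at h1
    have h2 : x ^ n = 1 := congrArg Subtype.val h1
    rw [← map_pow, h2, map_one]
  rw [hgen] at hA
  have h1 : π k ^ n = 1 := hA (mem_top k)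
  obtain ⟨s, hs⟩ := hodd
  have h2 : π k ^ 2 = 1 := by
    rw [pow_two, ← map_mul]
    exact (hπ _).2 hk
  rw [hs, pow_succ, pow_mul, h2, one_pow, one_mul] at h1
  exact (hπ _).1 h1

end

variable {G Ω : Type*} [Group G] [MulAction G Ω] {U : Ω → Subgroup G} {a b : Ω} {z : G}
  {F : Type*} [Field F] {T : F → G}

namespace Fib

variable [Finite Ω]

theorem exists_conj_swap (H : Fib U a b z T) {y : G} (hy : IsConj z y) (hyz : y * z = z * y)
    (hne : y ≠ z) : ∃ g ∈ centralizer (zpowers z : Set G), Swaps (g * y * g⁻¹) a b := by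
  have hyy := H.C.sq_of hy
  obtain ⟨c, hc, hcy⟩ : ∃ c, z • c = c ∧ y • c ≠ c := by
    by_contra hcon
    push Not at hcon
    apply hne
    exact H.C.eq_of_mem_D hy ⟨hcon a H.C.zD.1, hcon b H.C.zD.2⟩
  have hzy : z • y • c = y • c := by rw [← mul_smul, ← hyz, mul_smul, hc]
  obtain ⟨g, hg, hga, hgb⟩ := H.C.two hcy hc hzy
  refine ⟨g, mem_cen.2 hg, ?_, ?_⟩
  · rw [mul_smul, mul_smul, inv_smul_eq_iff.2 hga.symm, hgb]
  · rw [mul_smul, mul_smul, inv_smul_eq_iff.2 hgb.symm, ← mul_smul y y, hyy, one_smul, hga]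

/-- a conjugate `y ≠ z` of `z` commuting with `z` has no fixed point on `Fix z`. -/
theorem fpf' (H : Fib U a b z T) {y : G} (hy : IsConj z y) (hyz : y * z = z * y)
    (hne : y ≠ z) {c : Ω} (hc : z • c = c) : y • c ≠ c := by
  intro hyc
  obtain ⟨g, hg, hs⟩ := H.exists_conj_swap hy hyz hne
  have h1 : z • g • c = g • c := by rw [← mul_smul, mem_cen.1 hg, mul_smul, hc]
  apply H.C.fpf H.odd (hy.trans (isConj_iff.2 ⟨g, rfl⟩)) hs h1
  rw [mul_smul, mul_smul, inv_smul_smul, hyc]

theorem card_fix (H : Fib U a b z T) : Nat.card (fixedBy Ω z) = Nat.card F + 1 := by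
  rw [H.C.card_fixedBy]
  congr 1
  refine (Nat.card_congr (Equiv.ofBijective (fun s : F =>
    (⟨T s, H.X.T_mem s, mem_cen.2 (H.X.T_comm s)⟩ :
      (U a ⊓ centralizer (zpowers z : Set G) : Subgroup G))) ⟨?_, ?_⟩)).symm
  · intro s t hst
    exact H.X.T_inj (congrArg Subtype.val hst)
  · rintro ⟨u, hu, huz⟩
    obtain ⟨s, rfl⟩ := H.X.T_surj u hu (mem_cen.1 huz)
    exact ⟨s, rfl⟩

/-- **No conjugate `≠ z` of `z` commutes with `k`, if `k² = z`.** -/
theorem comm_k (H : Fib U a b z T) {k : G} (hk : k * k = z) {y : G} (hy : IsConj z y)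
    (hky : k * y = y * k) : y = z := by
  classical
  by_contra hne
  have hyz : y * z = z * y := by
    rw [← hk]
    calc y * (k * k) = (y * k) * k := by group
      _ = (k * y) * k := by rw [hky]
      _ = k * (y * k) := by group
      _ = k * (k * y) := by rw [hky]
      _ = _ := by group
  have hfix : ∀ c : Ω, y • c = c → y • k • c = k • c := by
    intro c hc
    rw [← mul_smul, ← hky, mul_smul, hc]
  have hk4 : (k * k) * (k * k) = 1 := by rw [hk, H.C.sq]
  -- the permutation of the fixed points of `y`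
  let f : Equiv.Perm (fixedBy Ω y) :=
    { toFun := fun c => ⟨k • c.1, hfix c.1 c.2⟩
      invFun := fun c => ⟨(k * k * k) • c.1, by
        rw [mem_fixedBy, mul_smul, mul_smul]
        exact hfix _ (hfix _ (hfix _ c.2))⟩
      left_inv := by
        intro c
        apply Subtype.ext
        change (k * k * k) • k • c.1 = c.1
        rw [← mul_smul, mul_assoc (k * k) k k, hk4, one_smul]
      right_inv := by
        intro c
        apply Subtype.ext
        change k • (k * k * k) • c.1 = c.1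
        rw [← mul_smul, ← mul_assoc, ← mul_assoc, mul_assoc (k * k) k k, hk4, one_smul] }
  have hf : ∀ c : fixedBy Ω y, ((f c : fixedBy Ω y) : Ω) = k • (c : Ω) := fun _ => rfl
  have h1 : 4 ∣ Nat.card (fixedBy Ω y) := by
    apply four_dvd f
    · ext c
      rw [pow_succ, pow_succ, pow_succ, pow_one]
      change k • k • k • k • (c : Ω) = c
      rw [← mul_smul, ← mul_smul, ← mul_smul, mul_assoc (k * k) k k, hk4, one_smul]
    · intro c hc
      have h2 : (k * k) • (c : Ω) = c := by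
        rw [mul_smul]
        exact congrArg Subtype.val hc
      rw [hk] at h2
      exact H.fpf' hy hyz hne h2 c.2
  rw [← SSplit.card_fixedBy_isConj hy, H.card_fix] at h1
  have := H.four
  omega

/-- `z' M ∩ K = ∅` -/
theorem not_mem_K [Finite F] (H : Fib U a b z T) {z' : G} (hz' : IsConj z z') (hs : Swaps z' a b)
    {m : G} (hm : m ∈ genFix U (zpowers z)) : z' * m ∉ kerFix Ω (zpowers z) := by
  intro hK
  obtain ⟨ν, hν, hinv⟩ := H.exists_inv hz' hs
  obtain ⟨w, hw, hws, r0, hr0, hwi⟩ := H.X.weyl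
  have hD := H.K_le_D hK
  have hms : Swaps m a b := by
    have h1 : m = z'⁻¹ * (z' * m) := by group
    rw [h1]
    exact hs.inv.mul_D hD
  obtain ⟨t, ht, hl⟩ := H.X.tor (m * w⁻¹) ⟨hms.mul hws.inv, (genFix U (zpowers z)).mul_mem hm
    ((genFix U (zpowers z)).inv_mem hw)⟩
  have h1 := Coo.lin_mul_inv hl hwi
  rw [inv_mul_cancel_right] at h1
  have hne : t * t * -(r0 * r0) ≠ 0 :=
    mul_ne_zero (mul_ne_zero ht ht) (neg_ne_zero.2 (mul_ne_zero hr0 hr0))
  have h2 := H.X.inv_mul hne hs hms hinv h1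
  have h3 := H.X.lin_unique H.C h2 (H.X.lin_of_K H.C hK)
  have h4 : ν = t * t * -(r0 * r0) := by
    have := (mul_inv_eq_one₀ hne).1 h3
    exact this
  apply hν
  rw [h4]
  have h5 : t * t * -(r0 * r0) = (-1) * ((t * r0) * (t * r0)) := by ring
  rw [h5]
  exact H.neg_one_sq.mul ⟨_, rfl⟩

variable [Finite F] [Finite G]

/-- **The data** -/
theorem data (H : Fib U a b z T)
    (hMK : ∀ x ∈ genFix U (zpowers z), x ∈ kerFix Ω (zpowers z) → x = 1 ∨ x = z)
    {z' : G} (hz' : IsConj z z') (hs : Swaps z' a b) :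
    CentralTransfer.Data z z' (centralizer (zpowers z : Set G)) (genFix U (zpowers z))
      (kerFix Ω (zpowers z)) (Dab G a b) where
  zz := H.C.sq
  memC := fun g => ⟨fun hg => (mem_cen.1 hg).symm, fun hg => mem_cen.2 hg.symm⟩
  M_le := PP1.genFix_le_centralizer _
  M_norm := fun c hc m hm => H.conj_M hc hm
  K_le := fun x hx => H.mem_cenW (Dab_le_Wab a b (H.K_le_D hx))
  K_norm := by
    intro c hc x hx
    rw [mem_kerFix]
    intro d hd
    rw [mul_smul, mul_smul, smul_eq_iff_eq_inv_smul]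
    refine mem_kerFix.1 hx _ ?_
    intro y hy
    have h1 : c⁻¹ ∈ centralizer (zpowers z : Set G) := inv_mem hc
    rw [← mul_smul, mem_centralizer_iff.1 h1 y hy, mul_smul, hd y hy]
  KM := fun x hx m hm => PP1.comm_genFix H.C.h H.C.ab H.C.X_le (mem_kerFix.1 hx) hm
  D_le := H.C.D_le
  MD := by
    intro c hc
    have hc' := mem_cen.1 hc
    have h1 : ∀ d : Ω, z • d = d → z • c • d = c • d := by
      intro d hd
      rw [← mul_smul, hc', mul_smul, hd]
    obtain ⟨g, hg, hga, hgb⟩ := two_M H.C (c := c • a) (d := c • b)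
      (fun e => H.C.ab (MulAction.injective c e)) (h1 a H.C.zD.1) (h1 b H.C.zD.2)
    refine ⟨g, hg, g⁻¹ * c, ⟨?_, ?_⟩, by group⟩
    · change (g⁻¹ * c) • a = a
      rw [mul_smul, inv_smul_eq_iff, hga]
    · change (g⁻¹ * c) • b = b
      rw [mul_smul, inv_smul_eq_iff, hgb]
  zK := by
    rw [mem_kerFix]
    intro c hc
    exact mem_fix.1 hc
  z'C := H.mem_cenW hs.mem_W
  z'z' := H.C.sq_of hz'
  z'K := fun x hx => H.comm_K hz' hs hx
  z'D := by
    intro d hd
    have h1 : Swaps (d * z' * d⁻¹) a b := by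
      have := hs.conj d
      rwa [show d • a = a from hd.1, show d • b = b from hd.2] at this
    obtain ⟨m, hm, h2⟩ := H.mem_coset hz' hs (hz'.trans (isConj_iff.2 ⟨d, rfl⟩)) h1
    exact ⟨m, hm, h2⟩
  MK := hMK
  z'M := fun m hm => H.not_mem_K hz' hs hm

omit [Finite Ω] [Finite F] [Finite G] in
theorem exists_sigma (H : Fib U a b z T) : ∃ σ : Dab G a b →* (F ≃+* F),
    ∀ d : Dab G a b, ∃ c : F, c ≠ 0 ∧ ∀ s, (d : G) • T s • b = T (c * σ d s) • b := by
  classical
  choose c f hc hf using fun d : Dab G a b => H.X.diag d d.2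
  have huniq : ∀ (c c' : F) (σ σ' : F ≃+* F), c ≠ 0 → c' ≠ 0 → (∀ s, T (c * σ s) • b =
      T (c' * σ' s) • b) → σ = σ' := by
    intro c c' σ σ' hc hc' h
    have h1 : ∀ s, c * σ s = c' * σ' s := fun s => H.X.pt_inj H.C (h s)
    have h2 : c = c' := by
      have := h1 1
      rwa [map_one, map_one, mul_one, mul_one] at this
    ext s
    have := h1 s
    rw [h2] at this
    exact mul_left_cancel₀ hc' this
  refine ⟨MonoidHom.mk' f ?_, fun d => ⟨c d, hc d, hf d⟩⟩
  intro d d'
  apply huniq (c (d * d')) (c d * f d (c d')) (f (d * d')) (f d * f d') (hc _)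
    (mul_ne_zero (hc d) (by rw [map_ne_zero_iff _ (f d).injective]; exact hc d'))
  intro s
  rw [← hf (d * d') s]
  change ((d : G) * d') • T s • b = _
  rw [mul_smul, hf d' s, hf d]
  congr 2
  rw [map_mul, mul_assoc]
  rfl

/-- **The contradiction from an element `k` with `k² = z`.** -/
theorem false_of_k (H : Fib U a b z T) (hgen : (⨆ c, U c) = ⊤)
    (hMK : ∀ x ∈ genFix U (zpowers z), x ∈ kerFix Ω (zpowers z) → x = 1 ∨ x = z)
    {z' : G} (hz' : IsConj z z') (hs : Swaps z' a b)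
    {k : G} (hkK : k ∈ kerFix Ω (zpowers z)) (hk : k * k = z) : False := by
  have := isCyclic_ringAut F
  obtain ⟨σ, hσ⟩ := H.exists_sigma
  have D := H.data hMK hz' hs
  obtain ⟨ν, hν, hinv⟩ := H.exists_inv hz' hs
  have hν0 : ν ≠ 0 := by rintro rfl; exact hν (IsSquare.zero)
  obtain ⟨w, hw, hws, r0, hr0, hwi⟩ := H.X.weyl
  refine D.false σ ?_ ?_ hkK hk ?_ ?_ ?_
  · intro d hd
    obtain ⟨c, hc, hcs⟩ := hσ d
    rw [hd] at hcs
    have hl : Lin T b c (d : G) := fun s => hcs s
    by_cases hsq : IsSquare c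
    · obtain ⟨t, ht⟩ := hsq
      have ht0 : t ≠ 0 := by rintro rfl; rw [zero_mul] at ht; exact hc ht
      obtain ⟨h, hh, hlh⟩ := H.X.tor' t ht0
      refine ⟨h, hh.2, h⁻¹ * d, ?_, Or.inl (by group)⟩
      apply H.X.mem_K_of_lin H.C
      · rw [mul_smul, show (d : G) • a = a from d.2.1, inv_smul_eq_iff]
        exact hh.1.1.symm
      · have := Coo.lin_mul (Coo.lin_inv (mul_ne_zero ht0 ht0) hlh) hl
        rwa [← ht, inv_mul_cancel₀ hc] at this
    · -- `c = ν (-r0²)⁻¹ t²`
      have hsq' : IsSquare (c * (ν * (-(r0 * r0))⁻¹)⁻¹) := by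
        have e : c * (ν * (-(r0 * r0))⁻¹)⁻¹ = (c / ν) * ((-1) * (r0 * r0)) := by
          field_simp
        rw [e]
        refine (isSquare_div_of_not hsq hν).mul (H.neg_one_sq.mul ⟨r0, rfl⟩)
      obtain ⟨t, ht⟩ := hsq'
      have hne : ν * (-(r0 * r0))⁻¹ ≠ 0 :=
        mul_ne_zero hν0 (inv_ne_zero (neg_ne_zero.2 (mul_ne_zero hr0 hr0)))
      have ht0 : t ≠ 0 := by
        rintro rfl
        rw [zero_mul] at ht
        exact (mul_ne_zero hc (inv_ne_zero hne)) ht
      obtain ⟨h, hh, hlh⟩ := H.X.tor' t ht0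
      have h1 := H.X.inv_mul (neg_ne_zero.2 (mul_ne_zero hr0 hr0)) hs hws hinv hwi
      have h2 := Coo.lin_mul h1 hlh
      have h3 : ν * (-(r0 * r0))⁻¹ * (t * t) = c := by
        rw [← ht, mul_comm, mul_assoc, inv_mul_cancel₀ hne, mul_one]
      rw [h3] at h2
      refine ⟨w * h, mul_mem hw hh.2, (z' * w * h)⁻¹ * d, ?_, Or.inr (by group)⟩
      apply H.X.mem_K_of_lin H.C
      · rw [mul_smul, show (d : G) • a = a from d.2.1, inv_smul_eq_iff]
        exact (mul_mem (hs.mul hws) hh.1).1.symm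
      · have := Coo.lin_mul (Coo.lin_inv hc h2) hl
        rwa [inv_mul_cancel₀ hc] at this
  · intro y hy hyC
    by_cases hne : y = z
    · exact Or.inl hne
    · right
      obtain ⟨g, hg, hgs⟩ := H.exists_conj_swap hy (mem_cen.1 hyC).symm hne
      obtain ⟨m, hm, h2⟩ := H.mem_coset hz' hs (hy.trans (isConj_iff.2 ⟨g, rfl⟩)) hgs
      exact ⟨m, hm, g, hg, h2⟩
  · intro hcomm
    have h1 := H.comm_k hk hz' hcomm
    rw [h1] at hs
    exact H.C.ab (hs.1.symm.trans H.C.zD.1)
  · intro y hy hky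
    exact H.comm_k hk hy hky
  · intro S hS hcomm hkS
    exact odd_gen H.C.h hgen H.odd S hS hcomm hkS

end Fib

end Cfsg.Agent.HKS.CentralZ
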