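import Mathlib
import Cfsg.Agent.HKS.CentralZData

/-!
# Case `q = 1 mod 4`, `z` central in `W`: existence of `k` with `k² = z`
-/

set_option autoImplicit false

namespace Cfsg.Agent.HKS.CentralZ

open Subgroup MulAction CentralN

variable {G Ω : Type*} [Group G] [MulAction G Ω] {U : Ω → Subgroup G} {a b : Ω} {z : G}
  {F : Type*} [Field F] {T : F → G}

/-- an involution commuting with `z`, with a fixed point on `Fix z`, has two of them. -/
theorem exists_second [Finite Ω] (C : Cen U a b z) (hodd : Odd (Nat.card (U a))) {y : G}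
    (hyz : y * z = z * y) (hyy : y * y = 1) {c : Ω} (hc : z • c = c) (hyc : y • c = c) :
    ∃ d, d ≠ c ∧ z • d = d ∧ y • d = d := by
  classical
  by_contra hcon
  push Not at hcon
  have := Fintype.ofFinite (fixSub Ω (zpowers z))
  have hmz : y ∈ centralizer (zpowers z : Set G) := mem_cen.2 hyz.symm
  let f : Function.End (fixSub Ω (zpowers z)) :=
    fun c => (⟨y, hmz⟩ : centralizer (zpowers z : Set G)) • c
  have hf : f ^ 2 ^ 1 = 1 := by
    rw [pow_one, pow_two]
    funext c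
    apply Subtype.ext
    change y • y • (c : Ω) = c
    rw [← mul_smul, hyy, one_smul]
  have : Fact (Nat.Prime 2) := ⟨Nat.prime_two⟩
  have h1 := Equiv.Perm.card_fixedPoints_modEq hf
  have h2 : Odd (Nat.card (U a ⊓ centralizer (zpowers z : Set G) : Subgroup G)) := by
    have := C.finite_U'
    exact hodd.of_dvd_nat (Subgroup.card_dvd_of_le inf_le_left)
  have h3 : Fintype.card (fixSub Ω (zpowers z)) =
      Nat.card (U a ⊓ centralizer (zpowers z : Set G) : Subgroup G) + 1 := by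
    rw [← C.card_fixSub, Nat.card_eq_fintype_card]
  have h4 : ∀ d : fixSub Ω (zpowers z), y • (d : Ω) = d → (d : Ω) = c := by
    intro d hd
    by_contra hdc
    exact hcon d hdc (mem_fix.1 d.2) hd
  have h5 : Fintype.card (Function.fixedPoints f) = 1 := by
    rw [Fintype.card_eq_one_iff]
    refine ⟨⟨⟨c, mem_fix.2 hc⟩, Subtype.ext hyc⟩, ?_⟩
    rintro ⟨d, hd⟩
    exact Subtype.ext (Subtype.ext (h4 d (congrArg Subtype.val hd)))
  rw [h3] at h1
  have h6 := h1.trans (by rw [h5] : _ ≡ 1 [MOD 2])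
  obtain ⟨s, hs⟩ := h2
  rw [hs] at h6
  have := h6
  unfold Nat.ModEq at this
  omega

namespace Fib

variable [Finite Ω] [Finite F]

omit [Finite Ω] in
theorem exists_sqrt (H : Fib U a b z T) : ∃ r : F, r ≠ 0 ∧ r * r = -1 := by
  obtain ⟨r, hr⟩ := H.neg_one_sq
  refine ⟨r, ?_, hr.symm⟩
  rintro rfl
  rw [zero_mul] at hr
  exact (neg_ne_zero.2 one_ne_zero) hr

omit [Finite Ω] in
/-- `j ∈ H` acting as `-1`. -/
theorem exists_j (H : Fib U a b z T) : ∃ j ∈ Dab G a b ⊓ genFix U (zpowers z),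
    Lin T b (-1 : F) j := by
  obtain ⟨r, hr, hrr⟩ := H.exists_sqrt
  obtain ⟨j, hj, hl⟩ := H.X.tor' r hr
  rw [hrr] at hl
  exact ⟨j, hj, hl⟩

omit [Finite Ω] in
theorem not_lin_K (H : Fib U a b z T) {j : G} (hj : Lin T b (-1 : F) j) :
    j ∉ kerFix Ω (zpowers z) := by
  intro hK
  have h1 := H.X.lin_unique H.C hj (H.X.lin_of_K H.C hK)
  apply H.two_ne
  linear_combination (-1 : F) * h1

/-- **`k`, if `z ∈ genFix U ⟨z⟩`.** -/
theorem exists_k_of_mem (H : Fib U a b z T)
    (hMK : ∀ x ∈ genFix U (zpowers z), x ∈ kerFix Ω (zpowers z) → x = 1 ∨ x = z)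
    (hM : ∀ x ∈ genFix U (zpowers z), x * x = 1 → x = 1 ∨ x = z)
    {e : G} (he : e ∈ Dab G a b) (hee : e * e = 1)
    (hinv : ∀ u ∈ U a, z * u = u * z → e * u * e⁻¹ = u⁻¹) :
    ∃ k ∈ kerFix Ω (zpowers z), k * k = z := by
  obtain ⟨j, hj, hl⟩ := H.exists_j
  have hle : Lin T b (-1 : F) e := by
    intro s
    have h1 := hinv (T s) (H.X.T_mem s) (H.X.T_comm s)
    rw [← H.X.T_neg] at h1
    have h2 : e * T s = T (-s) * e := by rw [← h1]; group
    rw [← mul_smul, h2, mul_smul, show e • b = b from he.2]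
    congr 2
    ring
  have hk : j⁻¹ * e ∈ kerFix Ω (zpowers z) := by
    apply H.X.mem_K_of_lin H.C
    · rw [mul_smul, show e • a = a from he.1, inv_smul_eq_iff]
      exact hj.1.1.symm
    · have := Coo.lin_mul (Coo.lin_inv (neg_ne_zero.2 one_ne_zero) hl) hle
      rwa [inv_mul_cancel₀ (neg_ne_zero.2 one_ne_zero)] at this
  refine ⟨j⁻¹ * e, hk, ?_⟩
  have hjj : j * j = 1 ∨ j * j = z := by
    apply hMK _ (mul_mem hj.2 hj.2)
    apply H.X.mem_K_of_lin H.C
    · rw [mul_smul, show j • a = a from hj.1.1, show j • a = a from hj.1.1]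
    · have := Coo.lin_mul hl hl
      rwa [neg_mul_neg, one_mul] at this
  have hjK := H.not_lin_K hl
  have hzK : z ∈ kerFix Ω (zpowers z) := by
    rw [mem_kerFix]
    intro c hc
    exact mem_fix.1 hc
  have hjz : j * j = z := by
    rcases hjj with h1 | h1
    · exfalso
      rcases hM j hj.2 h1 with h2 | h2
      · exact hjK (by rw [h2]; exact one_mem _)
      · exact hjK (by rw [h2]; exact hzK)
    · exact h1
  have hcomm : (j⁻¹ * e) * j = j * (j⁻¹ * e) :=
    PP1.comm_genFix H.C.h H.C.ab H.C.X_le (mem_kerFix.1 hk) hj.2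
  have h1 : (j⁻¹ * e) * (j⁻¹ * e) * (j * j) = 1 := by
    calc (j⁻¹ * e) * (j⁻¹ * e) * (j * j) = (j⁻¹ * e) * ((j⁻¹ * e) * j) * j := by group
      _ = (j⁻¹ * e) * (j * (j⁻¹ * e)) * j := by rw [hcomm]
      _ = ((j⁻¹ * e) * j) * ((j⁻¹ * e) * j) := by group
      _ = (j * (j⁻¹ * e)) * (j * (j⁻¹ * e)) := by rw [hcomm]
      _ = e * e := by group
      _ = 1 := hee
  have hzinv : z⁻¹ = z := inv_eq_of_mul_eq_one_right H.C.sq
  rw [hjz] at h1
  rw [eq_inv_of_mul_eq_one_left h1, hzinv]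

variable [Finite G]

/-- An involution interchanging `a` and `b`, f.p.f. on `Fix z` and not conjugate to `z` gives `k`. -/
theorem exists_k_of_fpf (H : Fib U a b z T) {z' : G} (hz' : IsConj z z') (hs : Swaps z' a b)
    {y : G} (hys : Swaps y a b) (hyy : y * y = 1) (hfpf : ∀ c : Ω, z • c = c → y • c ≠ c)
    (hyz : ¬ IsConj z y) : ∃ k ∈ kerFix Ω (zpowers z), k * k = z := by
  obtain ⟨ν, hν, hinv⟩ := H.exists_inv hz' hs
  obtain ⟨c, hc, hinvc⟩ := H.X.inv_of_fpf H.two_ne H.C hys hyy hfpf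
  have hν0 : ν ≠ 0 := by rintro rfl; exact hν (IsSquare.zero)
  have hc0 : c ≠ 0 := by rintro rfl; exact hc (IsSquare.zero)
  obtain ⟨r, hr⟩ := isSquare_div_of_not hc hν
  have hr0 : r ≠ 0 := by
    rintro rfl
    rw [zero_mul] at hr
    exact (div_ne_zero hc0 hν0) hr
  obtain ⟨g, hg, hl, -⟩ := H.exists_lin hs hν hinv hr0
  have h1 := Coo.inv_conj hr0 hl hinv
  rw [← hr, div_mul_cancel₀ _ hν0] at h1
  set y' := g * z' * g⁻¹ with hy'
  have hy'c : IsConj z y' := hz'.trans (isConj_iff.2 ⟨g, rfl⟩)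
  have hy's : Swaps y' a b := by
    have := hs.conj g
    rwa [show g • a = a from hg.1, show g • b = b from hg.2] at this
  have hy'y' := H.C.sq_of hy'c
  have hκ : y' * y ∈ kerFix Ω (zpowers z) := by
    apply H.X.mem_K_of_lin H.C
    · rw [mul_smul, hys.1, hy's.2]
    · have := H.X.inv_mul hc0 hy's hys h1 hinvc
      rwa [mul_inv_cancel₀ hc0] at this
  set κ := y' * y with hκd
  have hyκ : y = y' * κ := by rw [hκd, ← mul_assoc, hy'y', one_mul]
  have hκz : κ * z = z * κ := H.mem_C (Dab_le_Wab a b (H.K_le_D hκ))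
  have hyz' : y' * z = z * y' := H.mem_C hy's.mem_W
  rcases H.comm_K hy'c hy's hκ with h2 | h2
  · exfalso
    have h3 : κ * κ = 1 := by
      calc κ * κ = (y' * y') * κ * κ := by rw [hy'y', one_mul]
        _ = y' * (y' * κ) * κ := by group
        _ = y' * (κ * y') * κ := by rw [h2]
        _ = (y' * κ) * (y' * κ) := by group
        _ = 1 := by rw [← hyκ, hyy]
    apply hyz
    rcases H.kinv κ hκ h3 with h4 | h4
    · rw [hyκ, h4, mul_one]; exact hy'c
    · rw [hyκ, h4]; exact (H.fib hy'c hy's).1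
  · refine ⟨κ, hκ, ?_⟩
    have h3 : κ * κ * z = 1 := by
      calc κ * κ * z = κ * (κ * z) := by group
        _ = κ * (z * κ) := by rw [hκz]
        _ = κ * (y' * y') * z * κ := by rw [hy'y']; group
        _ = (κ * y') * (y' * z) * κ := by group
        _ = (κ * y') * (z * y') * κ := by rw [hyz']
        _ = (κ * y' * z) * (y' * κ) := by group
        _ = (y' * κ) * (y' * κ) := by rw [h2]
        _ = 1 := by rw [← hyκ, hyy]
    have hzinv : z⁻¹ = z := inv_eq_of_mul_eq_one_right H.C.sq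
    rw [eq_inv_of_mul_eq_one_left h3, hzinv]

/-- If `t ∈ {j, j z}` is central in `W`, `n_t ≤ q`, there is a conjugate of `t` interchanging `a` and
`b` without fixed points on `Fix z`. -/
theorem exists_fpf (H : Fib U a b z T) (hN : Nat.card (U a) = Nat.card F ^ 3)
    (hMK : ∀ x ∈ genFix U (zpowers z), x ∈ kerFix Ω (zpowers z) → x = 1 ∨ x = z)
    (hzM : z ∉ genFix U (zpowers z)) {t : G} (Ct : Cen U a b t)
    (ht : t ∈ genFix U (zpowers z) ∨ t * z ∈ genFix U (zpowers z))
    (hn : Nat.card (U a ⊓ centralizer (zpowers t : Set G) : Subgroup G) ≤ Nat.card F) :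
    ∃ y, IsConj t y ∧ Swaps y a b ∧ ∀ c : Ω, z • c = c → y • c ≠ c := by
  classical
  by_contra hcon
  push Not at hcon
  have hMK' : ∀ x ∈ genFix U (zpowers z), x ∈ kerFix Ω (zpowers z) → x = 1 := by
    intro x hx hxK
    rcases hMK x hx hxK with h1 | h1
    · exact h1
    · exact absurd (h1 ▸ hx) hzM
  have hMC : genFix U (zpowers z) ≤ centralizer (zpowers z : Set G) := PP1.genFix_le_centralizer _
  obtain ⟨w, hw, hws, r0, hr0, hwi⟩ := H.X.weyl
  -- all conjugates lie in `M` (in `M z`)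
  have h1 : ∀ y, IsConj t y → Swaps y a b → ∃ g ∈ genFix U (zpowers z), y = g * t * g⁻¹ := by
    intro y hy hs
    obtain ⟨c, hc, hyc⟩ := hcon y hy hs
    have hyz : y * z = z * y := H.mem_C hs.mem_W
    obtain ⟨d, hdc, hd, hyd⟩ := exists_second H.C H.odd hyz (Ct.sq_of hy) hc hyc
    obtain ⟨g, hg, hga, hgb⟩ := two_M H.C hdc hc hd
    refine ⟨g, hg, ?_⟩
    have h2 : g⁻¹ * y * g = t := by
      apply Ct.eq_of_mem_D (hy.trans (isConj_iff.2 ⟨g⁻¹, by group⟩))
      constructor
      · change (g⁻¹ * y * g) • a = a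
        rw [mul_smul, mul_smul, hga, hyc, inv_smul_eq_iff, hga]
      · change (g⁻¹ * y * g) • b = b
        rw [mul_smul, mul_smul, hgb, hyd, inv_smul_eq_iff, hgb]
    rw [← h2]; group
  have hzM' : ∀ g ∈ genFix U (zpowers z), g * z = z * g := fun g hg =>
    (mem_cen.1 (hMC hg)).symm
  have hz2 := H.C.sq
  -- `y` or `y z` in `M`
  have h2 : (∀ y, IsConj t y → Swaps y a b → y ∈ genFix U (zpowers z)) ∨
      (∀ y, IsConj t y → Swaps y a b → y * z ∈ genFix U (zpowers z)) := by
    rcases ht with ht | ht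
    · left
      intro y hy hs
      obtain ⟨g, hg, rfl⟩ := h1 y hy hs
      exact mul_mem (mul_mem hg ht) (inv_mem hg)
    · right
      intro y hy hs
      obtain ⟨g, hg, rfl⟩ := h1 y hy hs
      have h3 : g * t * g⁻¹ * z = g * (t * z) * g⁻¹ := by
        have h4 := hzM' g⁻¹ (inv_mem hg)
        rw [mul_assoc, h4]; group
      rw [h3]
      exact mul_mem (mul_mem hg ht) (inv_mem hg)
  -- the value
  have h3 : ∀ y, IsConj t y → Swaps y a b → ∃ c : F, (IsSquare c ∧ c ≠ 0) ∧ Inv T b c y := by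
    intro y hy hs
    have hval : ∀ x ∈ genFix U (zpowers z), Swaps x a b → ∃ c : F, (IsSquare c ∧ c ≠ 0) ∧
        Inv T b c x := by
      intro x hx hxs
      obtain ⟨r, hr, hl⟩ := H.X.tor (x * w⁻¹) ⟨hxs.mul hws.inv, mul_mem hx
        ((genFix U (zpowers z)).inv_mem hw)⟩
      have h4 := Coo.lin_mul_inv hl hwi
      rw [inv_mul_cancel_right] at h4
      refine ⟨_, ⟨?_, mul_ne_zero (mul_ne_zero hr hr) (neg_ne_zero.2 (mul_ne_zero hr0 hr0))⟩, h4⟩
      have h5 : r * r * -(r0 * r0) = (-1) * ((r * r0) * (r * r0)) := by ring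
      rw [h5]
      exact H.neg_one_sq.mul ⟨_, rfl⟩
    rcases h2 with h2 | h2
    · exact hval y (h2 y hy hs) hs
    · obtain ⟨c, hc, hi⟩ := hval (y * z) (h2 y hy hs) (hs.mul_D H.C.zD)
      refine ⟨c, hc, fun s hs0 => ?_⟩
      rw [← hi s hs0, mul_smul, H.X.fix_pt H.C]
  choose f hf hf' using fun y : {y : G // IsConj t y ∧ Swaps y a b} => h3 y y.2.1 y.2.2
  have hinj : Function.Injective (fun y : {y : G // IsConj t y ∧ Swaps y a b} =>
      (⟨f y, hf y⟩ : {c : F // IsSquare c ∧ c ≠ 0})) := by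
    rintro ⟨y1, hy1, hs1⟩ ⟨y2, hy2, hs2⟩ heq
    have heq' : f ⟨y1, hy1, hs1⟩ = f ⟨y2, hy2, hs2⟩ := congrArg Subtype.val heq
    have hi1 := hf' ⟨y1, hy1, hs1⟩
    have hi2 := hf' ⟨y2, hy2, hs2⟩
    rw [heq'] at hi1
    have hc0 := (hf ⟨y2, hy2, hs2⟩).2
    have h4 : y1 * y2 ∈ kerFix Ω (zpowers z) := by
      apply H.X.mem_K_of_lin H.C
      · rw [mul_smul, hs2.1, hs1.2]
      · have := H.X.inv_mul hc0 hs1 hs2 hi1 hi2
        rwa [mul_inv_cancel₀ hc0] at this
    have h5 : y1 * y2 ∈ genFix U (zpowers z) := by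
      rcases h2 with h2 | h2
      · exact mul_mem (h2 y1 hy1 hs1) (h2 y2 hy2 hs2)
      · have h6 := mul_mem (h2 y1 hy1 hs1) (h2 y2 hy2 hs2)
        have h7 : y1 * z * (y2 * z) = y1 * y2 := by
          have h8 : y2 * z = z * y2 := H.mem_C hs2.mem_W
          rw [h8]
          calc y1 * z * (z * y2) = y1 * (z * z) * y2 := by group
            _ = y1 * y2 := by rw [hz2, mul_one]
        rwa [h7] at h6
    have h6 := hMK' _ h5 h4
    apply Subtype.ext
    change y1 = y2
    rw [eq_inv_of_mul_eq_one_left h6]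
    exact inv_eq_of_mul_eq_one_right (Ct.sq_of hy2)
  have hJ := Nat.card_le_card_of_injective _ hinj
  have hcard := card_nonsq (F := F) H.two_ne
  rw [card_nonsq_eq (F := F) H.two_ne] at hcard
  have hJt := Ct.card_J
  rw [hN] at hJt
  set n := Nat.card (U a ⊓ centralizer (zpowers t : Set G) : Subgroup G)
  set J := Nat.card {y : G // IsConj t y ∧ Swaps y a b}
  set S := Nat.card {c : F // IsSquare c ∧ c ≠ 0}
  set q := Nat.card F
  have hq : q = 2 * S + 1 := hcard.symm
  have hS : 0 < S := by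
    have : Nonempty {c : F // IsSquare c ∧ c ≠ 0} := ⟨⟨1, ⟨1, by ring⟩, one_ne_zero⟩⟩
    exact Nat.card_pos
  have h4 : J * ((n + 1) * n) ≤ S * ((q + 1) * q) :=
    Nat.mul_le_mul hJ (Nat.mul_le_mul (by omega) hn)
  have h5 : q ^ 3 - n ≤ S * ((q + 1) * q) := by rw [← hJt]; exact h4
  have h6 : q ^ 3 ≤ S * ((q + 1) * q) + q := by omega
  have h7 : q ^ 3 = 2 * (S * ((q + 1) * q)) + q := by
    rw [hq]; ring
  have h8 : 0 < S * ((q + 1) * q) := Nat.mul_pos hS (Nat.mul_pos (by omega) (by omega))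
  omega

/-- **`k`, if `z ∉ genFix U ⟨z⟩`.** -/
theorem exists_k_of_not_mem (H : Fib U a b z T) (hN : Nat.card (U a) = Nat.card F ^ 3)
    (hMK : ∀ x ∈ genFix U (zpowers z), x ∈ kerFix Ω (zpowers z) → x = 1 ∨ x = z)
    (hzM : z ∉ genFix U (zpowers z)) {z' : G} (hz' : IsConj z z') (hs : Swaps z' a b)
    (hz1 : z ≠ 1)
    (hfix : ∀ t : G, t ≠ 1 → t * t = 1 → 2 < Nat.card (fixedBy Ω t))
    (hform : ∀ j ∈ Dab G a b, j ≠ 1 → j ≠ z → j * j = 1 → Nat.card (U a) =
      Nat.card (U a ⊓ centralizer (zpowers z : Set G) : Subgroup G) *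
      Nat.card (U a ⊓ centralizer (zpowers j : Set G) : Subgroup G) *
      Nat.card (U a ⊓ centralizer (zpowers (j * z) : Set G) : Subgroup G)) :
    ∃ k ∈ kerFix Ω (zpowers z), k * k = z := by
  have hMK' : ∀ x ∈ genFix U (zpowers z), x ∈ kerFix Ω (zpowers z) → x = 1 := by
    intro x hx hxK
    rcases hMK x hx hxK with h1 | h1
    · exact h1
    · exact absurd (h1 ▸ hx) hzM
  have hMC : genFix U (zpowers z) ≤ centralizer (zpowers z : Set G) := PP1.genFix_le_centralizer _
  obtain ⟨j, hj, hl⟩ := H.exists_j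
  have hjK := H.not_lin_K hl
  have hj1 : j ≠ 1 := by rintro rfl; exact hjK (one_mem _)
  have hjz : j ≠ z := by rintro rfl; exact hzM hj.2
  have hjj : j * j = 1 := by
    apply hMK' _ (mul_mem hj.2 hj.2)
    apply H.X.mem_K_of_lin H.C
    · rw [mul_smul, show j • a = a from hj.1.1, show j • a = a from hj.1.1]
    · have := Coo.lin_mul hl hl
      rwa [neg_mul_neg, one_mul] at this
  have hjzc : j * z = z * j := H.mem_C (Dab_le_Wab a b hj.1)
  -- uniqueness of `j`
  have hjuniq : ∀ x ∈ Dab G a b ⊓ genFix U (zpowers z), x * x = 1 → x ≠ 1 → x = j := by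
    intro x hx hxx hx1
    obtain ⟨r, hr, hlx⟩ := H.X.tor x hx
    have h1 := Coo.lin_mul hlx hlx
    rw [hxx] at h1
    have h2 : r * r * (r * r) = 1 := H.X.lin_unique H.C h1 (H.X.lin_of_K H.C (one_mem _))
    have h3 : (r * r - 1) * (r * r + 1) = 0 := by linear_combination h2
    rcases mul_eq_zero.1 h3 with h4 | h4
    · exfalso
      apply hx1
      apply hMK' x hx.2
      apply H.X.mem_K_of_lin H.C hx.1.1
      rwa [sub_eq_zero.1 h4] at hlx
    · have h5 : r * r = -1 := eq_neg_of_add_eq_zero_left h4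
      rw [h5] at hlx
      have h6 : x * j = 1 := by
        apply hMK' _ (mul_mem hx.2 hj.2)
        apply H.X.mem_K_of_lin H.C
        · rw [mul_smul, show j • a = a from hj.1.1, show x • a = a from hx.1.1]
        · have := Coo.lin_mul hlx hl
          rwa [neg_mul_neg, one_mul] at this
      rw [eq_inv_of_mul_eq_one_left h6]
      exact inv_eq_of_mul_eq_one_right hjj
  have hcW : ∀ g ∈ Wab G a b, j * g = g * j := by
    intro g hg
    have h1 : g * j * g⁻¹ = j := by
      apply hjuniq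
      · refine ⟨?_, H.conj_M (H.mem_cenW hg) hj.2⟩
        rcases hg with hg | hg
        · exact (Dab G a b).mul_mem ((Dab G a b).mul_mem hg hj.1) ((Dab G a b).inv_mem hg)
        · constructor
          · change (g * j * g⁻¹) • a = a
            rw [mul_smul, mul_smul, inv_smul_eq_iff.2 hg.2.symm, show j • b = b from hj.1.2]
            exact hg.2
          · change (g * j * g⁻¹) • b = b
            rw [mul_smul, mul_smul, inv_smul_eq_iff.2 hg.1.symm, show j • a = a from hj.1.1]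
            exact hg.1
      · calc g * j * g⁻¹ * (g * j * g⁻¹) = g * (j * j) * g⁻¹ := by group
          _ = 1 := by rw [hjj]; group
      · intro h
        apply hj1
        have : j = g⁻¹ * (g * j * g⁻¹) * g := by group
        rw [this, h]; group
    calc j * g = (g * j * g⁻¹) * g := by rw [h1]
      _ = g * j := by group
  have hthree : ∀ t ∈ Dab G a b, t ≠ 1 → t * t = 1 → ∃ u ∈ U a, u ≠ 1 ∧ t * u = u * t := by
    intro t ht ht1 htt
    have h1 := hfix t ht1 htt
    have h2 : Nat.card (fixedBy Ω t) =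
        Nat.card (U a ⊓ centralizer (zpowers t : Set G) : Subgroup G) + 1 := by
      rw [← H.C.h.card_fixSub H.C.ab (X := zpowers t) (fun x hx => by
          have h3 : zpowers t ≤ Dab G a b := by rw [zpowers_le]; exact ht
          exact (h3 hx).1) (fun x hx => by
          have h3 : zpowers t ≤ Dab G a b := by rw [zpowers_le]; exact ht
          exact (h3 hx).2)]
      exact Nat.card_congr (Equiv.subtypeEquivRight fun c => mem_fix.symm)
    rw [h2] at h1
    have h3 : 1 < Nat.card (U a ⊓ centralizer (zpowers t : Set G) : Subgroup G) := by omega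
    have h4 : (U a ⊓ centralizer (zpowers t : Set G) : Subgroup G) ≠ ⊥ := by
      intro h
      rw [h, card_bot] at h3
      omega
    obtain ⟨u, hu1⟩ := Subgroup.ne_bot_iff_exists_ne_one.1 h4
    exact ⟨u, u.2.1, fun h => hu1 (Subtype.ext h), mem_cen.1 u.2.2⟩
  have Cj : Cen U a b j := ⟨H.C.h, H.C.ab, hj.1, hjj, hcW, hthree j hj.1 hj1 hjj⟩
  have hjzD : j * z ∈ Dab G a b := mul_mem hj.1 H.C.zD
  have hjz1 : j * z ≠ 1 := by
    intro h
    apply hjz
    rw [eq_inv_of_mul_eq_one_left h]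
    exact inv_eq_of_mul_eq_one_right H.C.sq
  have hjzz : (j * z) * (j * z) = 1 := by
    calc (j * z) * (j * z) = j * (z * j) * z := by group
      _ = j * (j * z) * z := by rw [hjzc]
      _ = (j * j) * (z * z) := by group
      _ = 1 := by rw [hjj, H.C.sq, one_mul]
  have Cjz : Cen U a b (j * z) := ⟨H.C.h, H.C.ab, hjzD, hjzz, fun g hg => by
    calc j * z * g = j * (z * g) := by group
      _ = j * (g * z) := by rw [H.C.cW g hg]
      _ = (j * g) * z := by group
      _ = (g * j) * z := by rw [hcW g hg]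
      _ = _ := by group, hthree _ hjzD hjz1 hjzz⟩
  -- the formula
  have hq : Nat.card (U a ⊓ centralizer (zpowers z : Set G) : Subgroup G) = Nat.card F := by
    have h1 := H.card_fix
    rw [H.C.card_fixedBy] at h1
    omega
  have h1 := hform j hj.1 hj1 hjz hjj
  rw [hN, hq] at h1
  have hq0 : 0 < Nat.card F := Nat.card_pos
  have h2 : Nat.card F * Nat.card F =
      Nat.card (U a ⊓ centralizer (zpowers j : Set G) : Subgroup G) *
      Nat.card (U a ⊓ centralizer (zpowers (j * z) : Set G) : Subgroup G) := by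
    apply Nat.eq_of_mul_eq_mul_left hq0
    rw [← mul_assoc, ← mul_assoc, ← h1]
    ring
  have hzconj : ∀ t, t ∈ Dab G a b → t ≠ z → ∀ y, IsConj t y → ¬ IsConj z y := by
    intro t ht htz y hy hzy
    apply htz
    exact H.C.eq_of_mem_D (hzy.trans hy.symm) ht
  rcases le_or_gt (Nat.card (U a ⊓ centralizer (zpowers j : Set G) : Subgroup G)) (Nat.card F)
    with h3 | h3
  · obtain ⟨y, hy, hys, hfpf⟩ := H.exists_fpf hN hMK hzM Cj (Or.inl hj.2) h3
    exact H.exists_k_of_fpf hz' hs hys (Cj.sq_of hy) hfpf (hzconj j hj.1 hjz y hy)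
  · have h4 : Nat.card (U a ⊓ centralizer (zpowers (j * z) : Set G) : Subgroup G) ≤ Nat.card F := by
      by_contra hcon
      push Not at hcon
      have := Nat.mul_lt_mul_of_lt_of_lt h3 hcon
      rw [← h2] at this
      exact lt_irrefl _ this
    have hjz' : j * z ≠ z := by
      intro h
      exact hj1 (mul_eq_right.mp h)
    obtain ⟨y, hy, hys, hfpf⟩ := H.exists_fpf hN hMK hzM Cjz (Or.inr (by
      rw [mul_assoc, H.C.sq, mul_one]; exact hj.2)) h4
    exact H.exists_k_of_fpf hz' hs hys (Cjz.sq_of hy) hfpf (hzconj _ hjzD hjz' y hy)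

/-- **Case `q = 1 mod 4`, `z` central in `W`, is impossible.** -/
theorem false (H : Fib U a b z T) (hgen : (⨆ c, U c) = ⊤) (hz1 : z ≠ 1)
    (hN : Nat.card (U a) = Nat.card F ^ 3)
    (hMK : ∀ x ∈ genFix U (zpowers z), x ∈ kerFix Ω (zpowers z) → x = 1 ∨ x = z)
    (hM : z ∈ genFix U (zpowers z) → ∀ x ∈ genFix U (zpowers z), x * x = 1 → x = 1 ∨ x = z)
    (hfix : ∀ t : G, t ≠ 1 → t * t = 1 → 2 < Nat.card (fixedBy Ω t))
    (hform : ∀ j ∈ Dab G a b, j ≠ 1 → j ≠ z → j * j = 1 → Nat.card (U a) =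
      Nat.card (U a ⊓ centralizer (zpowers z : Set G) : Subgroup G) *
      Nat.card (U a ⊓ centralizer (zpowers j : Set G) : Subgroup G) *
      Nat.card (U a ⊓ centralizer (zpowers (j * z) : Set G) : Subgroup G))
    {e : G} (he : e ∈ Dab G a b) (hee : e * e = 1)
    (hinv : ∀ u ∈ U a, z * u = u * z → e * u * e⁻¹ = u⁻¹) : False := by
  -- `z'`
  have hq1 : 1 < Nat.card F := Finite.one_lt_card
  have hq4 := H.four
  have hJ : 0 < Nat.card {m : G // IsConj z m ∧ Swaps m a b} := by rw [H.cardJ]; omega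
  obtain ⟨⟨z', hz', hs⟩⟩ := (Nat.card_pos_iff.1 hJ).1
  obtain ⟨k, hkK, hk⟩ : ∃ k ∈ kerFix Ω (zpowers z), k * k = z := by
    by_cases hzM : z ∈ genFix U (zpowers z)
    · exact H.exists_k_of_mem hMK (hM hzM) he hee hinv
    · exact H.exists_k_of_not_mem hN hMK hzM hz' hs hz1 hfix hform
  exact H.false_of_k hgen hMK hz' hs hkK hk

end Fib

end Cfsg.Agent.HKS.CentralZ
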