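import Mathlib
import Cfsg.Agent.HKS.FourZero

/-!
# `GoalRank` from the three cases

`goalRank_of` : `GoalRank` from the cases `U a` abelian; `U a` not abelian, `|U a| ≡ 1 (mod 4)`;
`U a` not abelian, `|U a| ≡ 3 (mod 4)`.
-/

set_option autoImplicit false

namespace Cfsg.Agent.HKS

open Subgroup MulAction

/-- four-groups in `G_ab`, `U a` abelian -/
def RankAbelian.{v} : Prop := ∀ (G Ω : Type v) [Group G] [Finite G] [MulAction G Ω]
  [FaithfulSMul G Ω] [Finite Ω] (U : Ω → Subgroup G) (a b : Ω) (p k : ℕ), CtxE U a b p k →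
  NoFourFix U a b → ∀ s ∈ Dab G a b, ∀ t ∈ Dab G a b, s ≠ 1 → t ≠ 1 → s ≠ t → s * s = 1 →
  t * t = 1 → s * t = t * s → (∀ x ∈ U a, ∀ y ∈ U a, x * y = y * x) → False

/-- four-groups in `G_ab`, `U a` not abelian, `|U a| ≡ m (mod 4)` -/
def RankCentral.{v} (m : ℕ) : Prop := ∀ (G Ω : Type v) [Group G] [Finite G] [MulAction G Ω]
  [FaithfulSMul G Ω] [Finite Ω] (U : Ω → Subgroup G) (a b : Ω) (p k : ℕ), CtxE U a b p k →
  NoFourFix U a b → ∀ z e : G, FourZero.Cen U a b z → e ∈ Dab G a b → e ≠ 1 → e ≠ z →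
  e * e = 1 → z * e = e * z → Nat.card (U a) % 4 = m → False

theorem goalRank_of.{v} (h0 : RankAbelian.{v}) (h1 : RankCentral.{v} 1)
    (h3 : RankCentral.{v} 3) : GoalRank.{v} := by
  intro G Ω _ _ _ _ _ U a b p k C hV s hs t ht hs1 ht1 hss htt hc
  by_contra hst
  rcases FourZero.exists_central C hV hs ht hs1 ht1 hst hss htt hc with
    hQ | ⟨z, e, Z, he, he1, hez, hee, hze⟩
  · exact h0 G Ω U a b p k C hV s hs t ht hs1 ht1 hst hss htt hc hQ
  · have hodd := FourZero.odd_U C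
    obtain ⟨j, hj⟩ := hodd
    rcases Nat.even_or_odd j with ⟨i, hi⟩ | ⟨i, hi⟩
    · exact h1 G Ω U a b p k C hV z e Z he he1 hez hee hze (by omega)
    · exact h3 G Ω U a b p k C hV z e Z he he1 hez hee hze (by omega)

end Cfsg.Agent.HKS
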