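import Mathlib
import Cfsg.Agent.HKS.CentralZK
import Cfsg.Agent.HKS.SLXFacts
import Cfsg.Agent.HKS.SLNorm
import Cfsg.Agent.HKS.RankOf
import Cfsg.Agent.HKS.RigFour

/-!
# `U a` not abelian, `|U a| = 1 mod 4`, four-groups in `G_ab`

`coo_of_slx` : the coordinates `Coo` from `SLX`; `rankCentral_one : RankCentral 1`.
-/

set_option autoImplicit false

namespace Cfsg.Agent.HKS.CentralZ

open Subgroup MulAction CentralN SLCoord Cfsg.Agent.ONan.SL2Hom Cfsg.Agent.HKS.SLRel

section field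

variable {F : Type*} [Field F]

/-- An additive map which is multiplicative for a square and an arbitrary element is
multiplicative. -/
theorem mul_of_sq (h2 : (2 : F) ≠ 0) (σ : F → F) (hadd : ∀ x y, σ (x + y) = σ x + σ y)
    (hsq : ∀ u c, σ (u * u * c) = σ (u * u) * σ c) (x c : F) : σ (x * c) = σ x * σ c := by
  have h0 : σ 0 = 0 := by
    have := hadd 0 0
    rw [add_zero] at this
    exact (left_eq_add.mp this)
  have hneg : ∀ y, σ (-y) = - σ y := by
    intro y
    have := hadd y (-y)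
    rw [add_neg_cancel, h0] at this
    exact (neg_eq_of_add_eq_zero_right this.symm).symm
  have hsub : ∀ y w, σ (y - w) = σ y - σ w := by
    intro y w
    rw [sub_eq_add_neg, hadd, hneg, ← sub_eq_add_neg]
  have hx : x = ((x + 1) / 2) * ((x + 1) / 2) - ((x - 1) / 2) * ((x - 1) / 2) := by
    field_simp
    ring
  have hxc : x * c = ((x + 1) / 2) * ((x + 1) / 2) * c - ((x - 1) / 2) * ((x - 1) / 2) * c := by
    conv_lhs => rw [hx]
    ring
  rw [hxc, hsub, hsq, hsq, ← sub_mul, ← hsub, ← hx]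

end field

variable {G Ω : Type*} [Group G] [MulAction G Ω] {U : Ω → Subgroup G} {a b : Ω} {z : G}
  {F : Type*} [Field F] {φ : Matrix.SpecialLinearGroup (Fin 2) F →* G}

theorem conj_M0 (h : SSplit U) {g m : G} (hg : g ∈ centralizer (zpowers z : Set G))
    (hm : m ∈ genFix U (zpowers z)) : g * m * g⁻¹ ∈ genFix U (zpowers z) := by
  apply PP1.conj_genFix h _ hm
  intro x hx
  have h1 : x * g = g * x := mem_centralizer_iff.1 hg x hx
  have h2 : g⁻¹ * x * g = x := by
    rw [mul_assoc, h1]; group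
  rwa [h2]

theorem nM_conj (r : F) (hr : r ≠ 0) (s : F) :
    nM r hr * tM s * (nM r hr)⁻¹ = tM (r ^ 2 * s) := by
  rw [nM_tM, mul_inv_cancel_right]

theorem exists_diag [Finite F] (h2 : (2 : F) ≠ 0) (C : Cen U a b z)
    (S : SLX U (zpowers z) a b φ) {d : G} (hd : d ∈ Dab G a b) :
    ∃ (c : F) (σ : F ≃+* F), c ≠ 0 ∧ ∀ s, d • φ (tM s) • b = φ (tM (c * σ s)) • b := by
  classical
  have hdC : d ∈ centralizer (zpowers z : Set G) := mem_cen.2 (C.cW d (Dab_le_Wab a b hd))
  have h1 : ∀ s, ∃ s', φ (tM s') = d * φ (tM s) * d⁻¹ := fun s =>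
    S.up_surj _ (conj_mem C.h hd.1 hdC (S.up s))
  choose α hα using h1
  have hadd : ∀ s t, α (s + t) = α s + α t := by
    intro s t
    apply S.tM_inj
    rw [hα, tM_add, tM_add, map_mul, map_mul, hα, hα]
    group
  have hinj : Function.Injective α := by
    intro s t hst
    apply S.tM_inj
    have h3 : φ (tM (α s)) = φ (tM (α t)) := by rw [hst]
    rw [hα, hα] at h3
    exact mul_left_cancel (mul_right_cancel h3)
  have h0 : α 0 = 0 := by
    have := hadd 0 0
    rw [add_zero] at this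
    exact (left_eq_add.mp this)
  have htor : ∀ r, r ≠ 0 → ∃ r', ∀ s, α (r * r * s) = r' * α s := by
    intro r hr
    have h3 : d * φ (nM r hr) * d⁻¹ ∈ genFix U (zpowers z) := conj_M0 C.h hdC (S.nM_gen r hr)
    have h4 : d * φ (nM r hr) * d⁻¹ ∈ Dab G a b :=
      (Dab G a b).mul_mem ((Dab G a b).mul_mem hd (S.nM_mem C.h r hr)) ((Dab G a b).inv_mem hd)
    rw [← S.range_eq C.h] at h3
    obtain ⟨A, hA⟩ := h3
    obtain ⟨r', hr', rfl⟩ := S.eq_nM C.h (A := A) (by rw [hA]; exact h4.1) (by rw [hA]; exact h4.2)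
    refine ⟨r' ^ 2, fun s => ?_⟩
    apply S.tM_inj
    have e1 : r * r * s = r ^ 2 * s := by ring
    rw [hα, e1, ← nM_conj r hr s, ← nM_conj r' hr' (α s), map_mul, map_mul, map_inv, map_mul,
      map_mul, map_inv, hα, hA]
    group
  have hc : α 1 ≠ 0 := by
    intro h
    exact one_ne_zero (hinj (h.trans h0.symm))
  have hsq : ∀ u c : F, α (u * u * c) / α 1 = α (u * u) / α 1 * (α c / α 1) := by
    intro u c
    by_cases hu : u = 0
    · rw [hu, zero_mul, zero_mul, h0, zero_div, zero_mul]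
    · obtain ⟨r', hr'⟩ := htor u hu
      have h3 := hr' 1
      rw [mul_one] at h3
      rw [hr', h3]
      field_simp
  have hadd' : ∀ x y, α (x + y) / α 1 = α x / α 1 + α y / α 1 := by
    intro x y
    rw [hadd, add_div]
  let σ₀ : F →+* F :=
    { toFun := fun s => α s / α 1
      map_one' := div_self hc
      map_mul' := mul_of_sq h2 (fun s => α s / α 1) hadd' hsq
      map_zero' := by rw [h0, zero_div]
      map_add' := hadd' }
  have hbij : Function.Bijective σ₀ := Finite.injective_iff_bijective.1 σ₀.injective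
  refine ⟨α 1, RingEquiv.ofBijective σ₀ hbij, hc, fun s => ?_⟩
  have h3 : α 1 * RingEquiv.ofBijective σ₀ hbij s = α s := by
    change α 1 * (α s / α 1) = α s
    field_simp
  rw [h3, hα, mul_smul, mul_smul, inv_smul_eq_iff.2 (show b = d • b from hd.2.symm)]

/-- `φ (mM c)` acts as `s ↦ - c² / s`. -/
theorem mM_act (h : SSplit U) (S : SLX U (zpowers z) a b φ) {c : F} (hc : c ≠ 0) {s : F}
    (hs : s ≠ 0) : φ (mM c hc) • φ (tM s) • b = φ (tM (-(c * c) * s⁻¹)) • b := by
  have h1 : ((tM (-(c * c) * s⁻¹))⁻¹ * (mM c hc * tM s)).1 0 1 = 0 := by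
    rw [tM_inv]
    simp only [mul_apply', tM_00, tM_01, tM_11, mM_00, mM_01, mM_10, mM_11]
    field_simp
    ring
  have h2 := (S.fix_b_iff h _).2 h1
  rw [map_mul, map_inv, map_mul, mul_smul, inv_smul_eq_iff, mul_smul] at h2
  exact h2

theorem coo_of_slx [Finite F] (h2 : (2 : F) ≠ 0) (C : Cen U a b z)
    (S : SLX U (zpowers z) a b φ) : Coo U a b z (fun s => φ (tM s)) where
  T_mem := fun s => (S.up s).1
  T_comm := fun s => mem_cen.1 (S.up s).2
  T_surj := fun u hu huz => S.up_surj u ⟨hu, mem_cen.2 huz⟩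
  T_inj := fun _ _ hst => S.tM_inj hst
  T_add := fun s t => by
    rw [tM_add, map_mul]
  diag := fun d hd => exists_diag h2 C S hd
  anti := by
    intro w hw
    have hm := S.mM_swaps C.h 1 one_ne_zero
    obtain ⟨c, σ, hc, hσ⟩ := exists_diag h2 C S (hw.mul hm.inv)
    refine ⟨-c, σ, neg_ne_zero.2 hc, fun s hs => ?_⟩
    have h1 : w • φ (tM s) • b = (w * (φ (mM 1 one_ne_zero))⁻¹) • φ (mM 1 one_ne_zero) •
        φ (tM s) • b := by
      rw [mul_smul, inv_smul_smul]
    rw [h1, mM_act C.h S one_ne_zero hs, hσ]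
    congr 3
    rw [mul_one, neg_mul, one_mul, map_neg]
    ring
  tor := by
    intro h hh
    have h3 := hh.2
    rw [← S.range_eq C.h] at h3
    obtain ⟨A, rfl⟩ := h3
    obtain ⟨r, hr, rfl⟩ := S.eq_nM C.h (A := A) hh.1.1 hh.1.2
    refine ⟨r, hr, fun s => ?_⟩
    rw [← mul_smul, ← map_mul, nM_tM, map_mul, mul_smul,
      show φ (nM r hr) • b = b from (S.nM_mem C.h r hr).2, pow_two]
  tor' := by
    intro r hr
    refine ⟨φ (nM r hr), ⟨S.nM_mem C.h r hr, S.nM_gen r hr⟩, fun s => ?_⟩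
    rw [← mul_smul, ← map_mul, nM_tM, map_mul, mul_smul,
      show φ (nM r hr) • b = b from (S.nM_mem C.h r hr).2, pow_two]
  weyl := by
    refine ⟨φ (mM 1 one_ne_zero), S.mM_gen 1 one_ne_zero, S.mM_swaps C.h 1 one_ne_zero, 1,
      one_ne_zero, fun s hs => ?_⟩
    rw [mM_act C.h S one_ne_zero hs]

/-- an element of order two of `SL₂` is `-1`. -/
theorem sq_eq_one (h2 : (2 : F) ≠ 0) {A : Matrix.SpecialLinearGroup (Fin 2) F} (hA : A * A = 1) :
    A = 1 ∨ A = -1 := by
  have hd := det_eq A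
  have h00 : A.1 0 0 * A.1 0 0 + A.1 0 1 * A.1 1 0 = 1 := by
    have := mul_apply' A A 0 0
    rw [hA] at this
    simpa using this.symm
  have h01 : A.1 0 0 * A.1 0 1 + A.1 0 1 * A.1 1 1 = 0 := by
    have := mul_apply' A A 0 1
    rw [hA] at this
    simpa using this.symm
  have h10 : A.1 1 0 * A.1 0 0 + A.1 1 1 * A.1 1 0 = 0 := by
    have := mul_apply' A A 1 0
    rw [hA] at this
    simpa using this.symm
  have h11 : A.1 1 0 * A.1 0 1 + A.1 1 1 * A.1 1 1 = 1 := by
    have := mul_apply' A A 1 1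
    rw [hA] at this
    simpa using this.symm
  -- trace `t`: `t A₀₁ = t A₁₀ = 0`, `t A₀₀ = 2`
  have ht : (A.1 0 0 + A.1 1 1) * A.1 0 0 = 2 := by linear_combination h00 + hd
  have ht0 : A.1 0 0 + A.1 1 1 ≠ 0 := by
    intro h
    rw [h, zero_mul] at ht
    exact h2 ht.symm
  have e01 : A.1 0 1 = 0 := by
    have : (A.1 0 0 + A.1 1 1) * A.1 0 1 = 0 := by linear_combination h01
    exact (mul_eq_zero.1 this).resolve_left ht0
  have e10 : A.1 1 0 = 0 := by
    have : (A.1 0 0 + A.1 1 1) * A.1 1 0 = 0 := by linear_combination h10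
    exact (mul_eq_zero.1 this).resolve_left ht0
  rw [e01, zero_mul, add_zero] at h00
  rw [e01, mul_zero, zero_add] at h11
  have ht' : (A.1 0 0 + A.1 1 1) * A.1 1 1 = 2 := by
    rw [e01, zero_mul, sub_zero] at hd
    linear_combination h11 + hd
  have he : A.1 0 0 = A.1 1 1 := mul_left_cancel₀ ht0 (ht.trans ht'.symm)
  rcases mul_self_eq_one_iff.1 h00 with h3 | h3
  · left
    apply ext'
    · rw [h3]; simp
    · rw [e01]; simp
    · rw [e10]; simp
    · rw [← he, h3]; simp
  · right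
    apply ext'
    · rw [h3]; simp
    · rw [e01]; simp
    · rw [e10]; simp
    · rw [← he, h3]; simp

/-- the number of elements of `U a` commuting with `s`. -/
theorem card_conj {P : Subgroup G} (α : MulAut P) {s : G} (hα : ∀ x : P, ((α x : P) : G) = s * x * s⁻¹) :
    Nat.card {x : P // α x = x} = Nat.card (P ⊓ centralizer (zpowers s : Set G) : Subgroup G) := by
  refine Nat.card_congr ⟨fun x => ⟨x.1.1, x.1.2, mem_cen.2 ?_⟩, fun x => ⟨⟨x.1, x.2.1⟩, ?_⟩,
    fun _ => rfl, fun _ => rfl⟩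
  · have h1 := congrArg Subtype.val x.2
    rw [hα] at h1
    calc s * (x.1 : G) = s * x.1 * s⁻¹ * s := by group
      _ = x.1 * s := by rw [h1]
  · apply Subtype.ext
    rw [hα]
    have h1 := mem_cen.1 x.2.2
    change s * x.1 * s⁻¹ = x.1
    rw [h1]; group

/-- **The product formula.** -/
theorem card_prod (h : SSplit U) (hodd : Odd (Nat.card (U a))) {s t : G}
    (hs : s ∈ Dab G a b) (ht : t ∈ Dab G a b) (hss : s * s = 1) (htt : t * t = 1)
    (hst : s * t = t * s) (hV : ∀ u ∈ U a, s * u = u * s → t * u = u * t → u = 1) :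
    Nat.card (U a) = Nat.card (U a ⊓ centralizer (zpowers s : Set G) : Subgroup G) *
      Nat.card (U a ⊓ centralizer (zpowers t : Set G) : Subgroup G) *
      Nat.card (U a ⊓ centralizer (zpowers (s * t) : Set G) : Subgroup G) := by
  classical
  -- conjugation
  have hcj : ∀ g : G, g ∈ Dab G a b → ∃ α : MulAut (U a), ∀ x : U a, ((α x : U a) : G) =
      g * x * g⁻¹ := by
    intro g hg
    refine ⟨{ toFun := fun x => ⟨g * x * g⁻¹, h.conj_of_fix hg.1 x.2⟩
              invFun := fun x => ⟨g⁻¹ * x * g, h.conj_of_fix' hg.1 x.2⟩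
              left_inv := fun x => Subtype.ext (by
                change g⁻¹ * (g * x * g⁻¹) * g = x
                group)
              right_inv := fun x => Subtype.ext (by
                change g * (g⁻¹ * x * g) * g⁻¹ = x
                group)
              map_mul' := fun x y => Subtype.ext (by
                change g * (x * y) * g⁻¹ = (g * x * g⁻¹) * (g * y * g⁻¹)
                group) }, fun _ => rfl⟩
  obtain ⟨α, hα⟩ := hcj s hs
  obtain ⟨β, hβ⟩ := hcj t ht
  have hαβ : ∀ x : U a, (((α * β) x : U a) : G) = (s * t) * x * (s * t)⁻¹ := by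
    intro x
    rw [MulAut.mul_apply, hα, hβ]
    group
  have hsi : s⁻¹ = s := inv_eq_of_mul_eq_one_right hss
  have hti : t⁻¹ = t := inv_eq_of_mul_eq_one_right htt
  have hαα : α * α = 1 := by
    ext x
    rw [MulAut.mul_apply, hα, hα]
    change s * (s * x * s⁻¹) * s⁻¹ = x
    calc s * (s * x * s⁻¹) * s⁻¹ = (s * s) * x * (s * s)⁻¹ := by group
      _ = x := by rw [hss]; group
  have hββ : β * β = 1 := by
    ext x
    rw [MulAut.mul_apply, hβ, hβ]
    change t * (t * x * t⁻¹) * t⁻¹ = x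
    calc t * (t * x * t⁻¹) * t⁻¹ = (t * t) * x * (t * t)⁻¹ := by group
      _ = x := by rw [htt]; group
  have hcomm : α * β = β * α := by
    ext x
    rw [hαβ, MulAut.mul_apply, hβ, hα]
    calc s * t * x * (s * t)⁻¹ = (t * s) * x * (t * s)⁻¹ := by rw [hst]
      _ = _ := by group
  have h1 := Rig.card_four hodd hαα hββ hcomm
  rw [card_conj α hα, card_conj β hβ, card_conj (α * β) hαβ] at h1
  have h2 : Nat.card {x : U a // α x = x ∧ β x = x} = 1 := by
    rw [Nat.card_eq_one_iff_exists]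
    refine ⟨⟨1, map_one _, map_one _⟩, ?_⟩
    rintro ⟨x, hx1, hx2⟩
    apply Subtype.ext
    apply Subtype.ext
    change (x : G) = 1
    apply hV x x.2
    · have h3 := congrArg Subtype.val hx1
      rw [hα] at h3
      calc s * (x : G) = s * x * s⁻¹ * s := by group
        _ = x * s := by rw [h3]
    · have h3 := congrArg Subtype.val hx2
      rw [hβ] at h3
      calc t * (x : G) = t * x * t⁻¹ * t := by group
        _ = x * t := by rw [h3]
  rw [h2, one_pow, mul_one] at h1
  exact h1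

/-- the type at `⟨z⟩` is `DL`. -/
theorem exists_slx [Finite Ω] {p k : ℕ} (C : CtxE U a b p k) (Z : FourZero.Cen U a b z)
    (hC : Cen U a b z)
    (hq : Nat.card (U a ⊓ centralizer (zpowers z : Set G) : Subgroup G) % 4 = 1) :
    ∃ (F : Type) (_ : Field F) (_ : Fintype F), Fintype.card F =
        Nat.card (U a ⊓ centralizer (zpowers z : Set G) : Subgroup G) ∧
      ∃ φ : Matrix.SpecialLinearGroup (Fin 2) F →* G, SLX U (zpowers z) a b φ := by
  have hX1 : zpowers z ≠ ⊥ := by
    rw [Ne, zpowers_eq_bot]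
    exact Z.ne_one
  have hone := hC.one_lt
  have hP1 : U a ⊓ centralizer (zpowers z : Set G) ≠ ⊥ := by
    intro h
    rw [h, card_bot] at hone
    omega
  have hcomm : ∀ u ∈ U a ⊓ centralizer (zpowers z : Set G), ∀ v ∈ U a, u * v = v * u := by
    intro u hu v hv
    exact (Z.cU u hu.1).1 (mem_cen.1 hu.2) v hv
  have hfa : ∀ x ∈ zpowers z, x • a = a := fun x hx => (hC.X_le hx).1
  have hfb : ∀ x ∈ zpowers z, x • b = b := fun x hx => (hC.X_le hx).2
  rcases C.IH (zpowers z) hC.X_le hX1 hP1 with hT | ⟨q, hT⟩ | ⟨q, hT⟩ | ⟨n, hT⟩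
  · exfalso
    obtain ⟨s, hs, h1⟩ := hT.card
    have h4 : 4 ∣ 2 ^ s := by
      have : (4 : ℕ) = 2 ^ 2 := by norm_num
      rw [this]
      exact pow_dvd_pow 2 hs
    rw [← h1] at h4
    omega
  · obtain ⟨F, i1, i2, hF, φ, S⟩ := exists_slx_of_DL hC.h hC.ab hfa hfb hT
    exact ⟨F, i1, i2, by rw [hF, hT.card], φ, S⟩
  · exfalso
    have h1 : (U a ⊓ centralizer (zpowers z : Set G)) ⊓
        centralizer ((U a ⊓ centralizer (zpowers z : Set G) : Subgroup G) : Set G) =
        U a ⊓ centralizer (zpowers z : Set G) := by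
      apply inf_eq_left.2
      intro u hu
      rw [mem_centralizer_iff]
      intro v hv
      exact (hcomm u hu v hv.1).symm
    have h2 := hT.cardZ
    rw [h1, hT.card] at h2
    have h3 := hT.pow.one_lt
    have h4 : q < q ^ 3 := by
      calc q = q ^ 1 := (pow_one q).symm
        _ < q ^ 3 := Nat.pow_lt_pow_right h3 (by norm_num)
    omega
  · exfalso
    obtain ⟨u, hu, v, hv, h1⟩ := hT.ncomm
    exact h1 (hcomm u hu v hv.1)

end Cfsg.Agent.HKS.CentralZ

namespace Cfsg.Agent.HKS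

open Subgroup MulAction CentralN CentralZ SLCoord Cfsg.Agent.ONan.SL2Hom

/-- **`U a` not abelian, `|U a| = 1 mod 4`, four-groups in `G_ab`: impossible.** -/
theorem rankCentral_one.{v} : RankCentral.{v} 1 := by
  intro G Ω _ _ _ _ _ U a b p k C hV z e Z he he1 hez hee hze hmod
  have hodd := FourZero.odd_U C
  have hC : CentralN.Cen U a b z :=
    ⟨C.split, C.ne, Z.zD, Z.sq, Z.cW, FourZero.P_ne_bot' C Z.zD Z.ne_one Z.sq⟩
  have hinv : ∀ u ∈ U a, z * u = u * z → e * u * e⁻¹ = u⁻¹ := fun u hu hzu =>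
    FourZero.inverts C hV Z.zD he Z.ne_one he1 (Ne.symm hez) Z.sq hee hze hu hzu
  -- a point moved by `z`
  obtain ⟨c₀, hc₀⟩ : ∃ c₀ : Ω, z • c₀ ≠ c₀ := by
    by_contra hcon
    push Not at hcon
    apply Z.ne_one
    exact eq_of_smul_eq_smul (α := Ω) fun c => by rw [hcon c, one_smul]
  obtain ⟨e0, he0, hk, hq, hN, hJ⟩ := hC.cube' C.gen C.prime C.p_ne_two C.cardU hc₀ he hinv
  have hq4 : p ^ e0 % 4 = 1 := by
    have h1 : (p ^ e0) ^ 3 % 4 = 1 := by rw [← hN]; exact hmod
    have h2 : p ^ e0 % 4 = 0 ∨ p ^ e0 % 4 = 1 ∨ p ^ e0 % 4 = 2 ∨ p ^ e0 % 4 = 3 := by omega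
    rcases h2 with h2 | h2 | h2 | h2
    · rw [Nat.pow_mod, h2] at h1; norm_num at h1
    · exact h2
    · rw [Nat.pow_mod, h2] at h1; norm_num at h1
    · rw [Nat.pow_mod, h2] at h1; norm_num at h1
  obtain ⟨F, i1, i2, hF, φ, S⟩ := exists_slx C Z hC (by rw [hq]; exact hq4)
  rw [hq] at hF
  have hF' : Nat.card F = p ^ e0 := by rw [Nat.card_eq_fintype_card, hF]
  have h2 : (2 : F) ≠ 0 := by
    intro h
    have hch : CharP F 2 := CharTwo.of_one_ne_zero_of_two_eq_zero one_ne_zero h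
    have h3 := FiniteField.even_card_of_char_two (F := F) (ringChar.eq F 2 ▸ rfl : ringChar F = 2)
    omega
  have X := coo_of_slx h2 hC S
  have hkinv : ∀ x ∈ kerFix Ω (zpowers z), x * x = 1 → x = 1 ∨ x = z := by
    intro x hx hxx
    by_cases hx1 : x = 1
    · exact Or.inl hx1
    · exact Or.inr (Z.ker_invol C hV hx hxx hx1)
  have H : Fib U a b z (fun s => φ (tM s)) :=
    { C := hC
      X := X
      odd := hodd
      four := by rw [hF']; exact hq4
      cardJ := by rw [hF']; exact hJ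
      kinv := hkinv }
  have hMK : ∀ x ∈ genFix U (zpowers z), x ∈ kerFix Ω (zpowers z) → x = 1 ∨ x = z := by
    intro x hx hxK
    apply hkinv x hxK
    rcases S.eq_neg C.split hx hxK with h | h
    · rw [h, one_mul]
    · rw [h, ← map_mul, neg_mul_neg, one_mul, map_one]
  refine H.false C.gen Z.ne_one (by rw [hF']; exact hN) hMK ?_ C.fix ?_ he hee hinv
  · intro hzM x hx hxx
    obtain ⟨hneg, hinj⟩ := S.neg_eq C.split Z.ne_one hzM
    rw [← S.range_eq C.split] at hx
    obtain ⟨A, rfl⟩ := hx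
    rw [← map_mul] at hxx
    have h1 : A * A = 1 := hinj (by rw [hxx, map_one])
    rcases sq_eq_one h2 h1 with h | h
    · left; rw [h, map_one]
    · right; rw [h, hneg]
  · intro j hj hj1 hjz hjj
    have hjc : z * j = j * z := Z.cW j (Dab_le_Wab a b hj)
    have h1 := card_prod C.split hodd Z.zD hj Z.sq hjj hjc
      (hV z Z.zD j hj Z.ne_one hj1 (Ne.symm hjz) Z.sq hjj hjc)
    rw [← hjc]
    exact h1

end Cfsg.Agent.HKS
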