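import Mathlib
import Cfsg.Agent.HKS.FrameCount
import Cfsg.Agent.HKS.Types
import Cfsg.Agent.HKS.CaseThreeAux

/-!
# Central involution, `q = 3 mod 4`, `N = q^3` (#6838 (3b))

`CaseThree.Cfg U a b z M` : the situation; `M` is the group generated by the `C_{U c}(z)`,
`K = kerFix Ω (zpowers z)`. `CaseThree.Cfg.false` : there is no involution `e ≠ z` in `Dab`.
-/

set_option autoImplicit false

namespace Cfsg.Agent.HKS.CaseThree

open Subgroup MulAction

variable {G Ω : Type*} [Group G] [MulAction G Ω]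

theorem mem_K {z k : G} : k ∈ kerFix Ω (zpowers z) ↔ ∀ c : Ω, z • c = c → k • c = c := by
  rw [mem_kerFix]
  constructor
  · intro h c hc
    refine h c fun x hx => ?_
    obtain ⟨n, rfl⟩ := mem_zpowers_iff.1 hx
    exact (zpow_mem (K := stabilizer G c) hc n : z ^ n ∈ stabilizer G c)
  · intro h c hc
    exact h c (hc z (mem_zpowers z))

/-- The situation of (3b). -/
structure Cfg (U : Ω → Subgroup G) (a b : Ω) (z : G) (M : Subgroup G) (q : ℕ) : Prop where
  h : SSplit U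
  gen : (⨆ c, U c) = ⊤
  odd : ∀ c, Odd (Nat.card (U c))
  ab : b ≠ a
  zD : z ∈ Dab G a b
  z1 : z ≠ 1
  zz : z * z = 1
  /-- `z` is central in `Wab` -/
  zW : ∀ w ∈ Wab G a b, w * z = z * w
  /-- `z` is the only conjugate of `z` in `Dab` -/
  uz : ∀ g : G, g * z * g⁻¹ ∈ Dab G a b → g * z * g⁻¹ = z
  /-- no further involution fixes all points of `Fix z` -/
  Kz : ∀ k ∈ kerFix Ω (zpowers z), k * k = 1 → k = 1 ∨ k = z
  MC : ∀ m ∈ M, m * z = z * m
  Mn : ∀ g : G, g * z = z * g → ∀ m ∈ M, g * m * g⁻¹ ∈ M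
  MKc : ∀ m ∈ M, ∀ k ∈ kerFix Ω (zpowers z), m * k = k * m
  Mtr : ∀ c d : Ω, c ≠ d → z • c = c → z • d = d → ∃ m ∈ M, m • c = a ∧ m • d = b
  MK : ∀ m ∈ M, m ∈ kerFix Ω (zpowers z) → m = 1 ∨ m = z
  Mz : z ∈ M → ∀ m ∈ M, m * m = 1 → m = 1 ∨ m = z
  Msw : ∀ m ∈ M, Swaps m a b → m * m ∈ kerFix Ω (zpowers z)
  Mcj : ∀ l ∈ M, ∀ m ∈ M, Swaps l a b → Swaps m a b →
    ∃ x ∈ M, x ∈ Dab G a b ∧ x * l * x⁻¹ * m⁻¹ ∈ kerFix Ω (zpowers z)
  cardE : 2 * (kerFix Ω (zpowers z)).relIndex (Dab G a b ⊓ M) = q - 1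
  inner : ∀ y : G, y * z = z * y → y * y = 1 → (∀ c : Ω, z • c = c → y • c ≠ c) →
    ∃ l ∈ M, y * l⁻¹ ∈ kerFix Ω (zpowers z)
  cardZ : Nat.card (U a ⊓ centralizer (zpowers z : Set G) : Subgroup G) = q
  cardU : Nat.card (U a) = q ^ 3
  q4 : q % 4 = 3
  /-- four-groups of `Dab` have only two fixed points -/
  four : ∀ t ∈ Dab G a b, t * t = 1 → t ≠ 1 → t ≠ z → ∀ u ∈ U a, u * t = t * u → u * z = z * u → u = 1

namespace Cfg

variable {U : Ω → Subgroup G} {a b : Ω} {z : G} {M : Subgroup G} {q : ℕ}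

theorem z_inv (C : Cfg U a b z M q) : z⁻¹ = z := inv_eq_of_mul_eq_one_left C.zz

/-- uniqueness of the conjugate of `z` fixing two points -/
theorem unique (C : Cfg U a b z M q) {c d : Ω} (hcd : c ≠ d) (hc : z • c = c) (hd : z • d = d)
    {g : G} (h1 : (g * z * g⁻¹) • c = c) (h2 : (g * z * g⁻¹) • d = d) : g * z * g⁻¹ = z := by
  obtain ⟨x, hx1, hx2⟩ := C.h.two (a := c) (b := d) (c := a) (d := b) hcd C.ab.symm
  have h3 : x * z * x⁻¹ = z := by
    refine C.uz x (mem_Dab.2 ⟨?_, ?_⟩)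
    · rw [mul_smul, mul_smul, inv_smul_eq_iff.2 hx1.symm, hc, hx1]
    · rw [mul_smul, mul_smul, inv_smul_eq_iff.2 hx2.symm, hd, hx2]
  have h4 : (x * g) * z * (x * g)⁻¹ = z := by
    refine C.uz (x * g) ?_
    have e : (x * g) * z * (x * g)⁻¹ = x * (g * z * g⁻¹) * x⁻¹ := by group
    rw [e]
    refine mem_Dab.2 ⟨?_, ?_⟩
    · rw [mul_smul, mul_smul, inv_smul_eq_iff.2 hx1.symm, h1, hx1]
    · rw [mul_smul, mul_smul, inv_smul_eq_iff.2 hx2.symm, h2, hx2]
  have h5 : x⁻¹ * (x * z * x⁻¹) * x = x⁻¹ * ((x * g) * z * (x * g)⁻¹) * x := by rw [h3, h4]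
  have h6 : x⁻¹ * (x * z * x⁻¹) * x = z := by group
  have h7 : x⁻¹ * ((x * g) * z * (x * g)⁻¹) * x = g * z * g⁻¹ := by group
  rw [← h7, ← h5, h6]

variable [Finite Ω]

theorem card_fix (C : Cfg U a b z M q) : Nat.card {c : Ω // z • c = c} = q + 1 := by
  have h1 := C.h.card_fixSub (X := zpowers z) C.ab (fun x hx => by
    obtain ⟨n, rfl⟩ := mem_zpowers_iff.1 hx
    exact (zpow_mem (K := stabilizer G a) C.zD.1 n : z ^ n ∈ stabilizer G a)) (fun x hx => by
    obtain ⟨n, rfl⟩ := mem_zpowers_iff.1 hx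
    exact (zpow_mem (K := stabilizer G b) C.zD.2 n : z ^ n ∈ stabilizer G b))
  rw [C.cardZ] at h1
  rw [← h1]
  refine Nat.card_congr (Equiv.subtypeEquivRight fun c => ?_)
  constructor
  · intro hc x hx
    obtain ⟨n, rfl⟩ := mem_zpowers_iff.1 hx
    exact (zpow_mem (K := stabilizer G c) hc n : z ^ n ∈ stabilizer G c)
  · intro hc
    exact hc z (mem_zpowers z)

theorem even_fix (C : Cfg U a b z M q) : Even (Nat.card {c : Ω // z • c = c}) := by
  rw [C.card_fix]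
  have := C.q4
  exact Nat.even_iff.2 (by omega)

/-- an involution commuting with `z` with a fixed point in `Fix z` has two. -/
theorem exists_two (C : Cfg U a b z M q) {y : G} (hy : y * z = z * y) (hy2 : y * y = 1) {c : Ω}
    (hc : z • c = c) (hyc : y • c = c) : ∃ d, d ≠ c ∧ z • d = d ∧ y • d = d := by
  let f : {c : Ω // z • c = c} → {c : Ω // z • c = c} := fun x => ⟨y • x.1, by
    rw [← mul_smul, ← hy, mul_smul, x.2]⟩
  have hf : ∀ x, f (f x) = x := fun x => Subtype.ext (by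
    change y • y • x.1 = x.1
    rw [← mul_smul, hy2, one_smul])
  obtain ⟨d, hd1, hd2⟩ := exists_fixed_ne C.even_fix f hf (x := ⟨c, hc⟩) (Subtype.ext hyc)
  exact ⟨d.1, fun e => hd1 (Subtype.ext e), d.2, congrArg Subtype.val hd2⟩

/-- another conjugate of `z` commuting with `z` has no fixed point in `Fix z`. -/
theorem fpf (C : Cfg U a b z M q) {g : G} (hne : g * z * g⁻¹ ≠ z)
    (hc : (g * z * g⁻¹) * z = z * (g * z * g⁻¹)) {c : Ω} (hzc : z • c = c) :
    (g * z * g⁻¹) • c ≠ c := by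
  intro h1
  have h2 : (g * z * g⁻¹) * (g * z * g⁻¹) = 1 := by
    calc (g * z * g⁻¹) * (g * z * g⁻¹) = g * (z * z) * g⁻¹ := by group
      _ = 1 := by rw [C.zz]; group
  obtain ⟨d, hd1, hd2, hd3⟩ := C.exists_two hc h2 hzc h1
  exact hne (C.unique hd1.symm hzc hd2 h1 hd3)

omit [Finite Ω] in
theorem K_le_D (C : Cfg U a b z M q) {k : G} (hk : k ∈ kerFix Ω (zpowers z)) :
    k ∈ Dab G a b := ⟨mem_K.1 hk a C.zD.1, mem_K.1 hk b C.zD.2⟩

omit [Finite Ω] in
theorem K_comm (C : Cfg U a b z M q) {k : G} (hk : k ∈ kerFix Ω (zpowers z)) :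
    k * z = z * k := C.zW k (Dab_le_Wab a b (C.K_le_D hk))

omit [Finite Ω] in
theorem zK (_C : Cfg U a b z M q) : z ∈ kerFix Ω (zpowers z) := mem_K.2 fun _ h => h

omit [Finite Ω] in
theorem K_conj (_C : Cfg U a b z M q) {g k : G} (hg : g * z = z * g)
    (hk : k ∈ kerFix Ω (zpowers z)) : g * k * g⁻¹ ∈ kerFix Ω (zpowers z) := by
  rw [mem_K]
  intro c hc
  have h1 : z • g⁻¹ • c = g⁻¹ • c := by
    have e : z * g⁻¹ = g⁻¹ * z := by
      calc z * g⁻¹ = g⁻¹ * (g * z) * g⁻¹ := by group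
        _ = g⁻¹ * z := by rw [hg]; group
    rw [← mul_smul, e, mul_smul, hc]
  rw [mul_smul, mul_smul, mem_K.1 hk _ h1, smul_inv_smul]

omit [Finite Ω] in
/-- `C_G(z) = M D` -/
theorem exists_mul (C : Cfg U a b z M q) {g : G} (hg : g * z = z * g) :
    ∃ m ∈ M, m * g ∈ Dab G a b := by
  have h1 : ∀ c : Ω, z • c = c → z • g • c = g • c := fun c hc => by
    rw [← mul_smul, ← hg, mul_smul, hc]
  obtain ⟨m, hm, hm1, hm2⟩ := C.Mtr (g • a) (g • b)
    (fun e => C.ab (MulAction.injective g e).symm) (h1 a C.zD.1) (h1 b C.zD.2)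
  exact ⟨m, hm, by rw [mem_Dab, mul_smul, mul_smul]; exact ⟨hm1, hm2⟩⟩

variable [Finite G]

/-- the number of conjugates of `z` -/
theorem card_class (C : Cfg U a b z M q) :
    Nat.card {s : G // IsConj z s} = q ^ 2 * (q ^ 2 - q + 1) := by
  have h1 := C.h.card_fix_pairs C.ab z
  have h2 : Nat.card {s : G // IsConj z s ∧ s ∈ Dab G a b} = 1 := by
    rw [Nat.card_eq_one_iff_unique]
    refine ⟨⟨fun x y => ?_⟩, ⟨⟨z, IsConj.refl z, C.zD⟩⟩⟩
    have h3 : ∀ x : {s : G // IsConj z s ∧ s ∈ Dab G a b}, x.1 = z := by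
      rintro ⟨x, hx1, hx2⟩
      obtain ⟨g, rfl⟩ := isConj_iff.1 hx1
      exact C.uz g hx2
    exact Subtype.ext ((h3 x).trans (h3 y).symm)
  have h3 : Nat.card (fixedBy Ω z) = q + 1 := C.card_fix
  have h4 : Nat.card Ω = q ^ 3 + 1 := by rw [C.h.card a, C.cardU]
  rw [h2, h3, h4, mul_one, Nat.add_sub_cancel, Nat.add_sub_cancel] at h1
  have h5 : (q ^ 3 + 1) * q ^ 3 = (q ^ 2 * (q ^ 2 - q + 1)) * ((q + 1) * q) := by
    have hq := C.q4
    obtain ⟨r, rfl⟩ : ∃ r, q = r + 1 := ⟨q - 1, by omega⟩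
    have e : (r + 1) ^ 2 - (r + 1) + 1 = r ^ 2 + r + 1 := by
      have : (r + 1) ^ 2 = r ^ 2 + r + (r + 1) := by ring
      omega
    rw [e]
    ring
  rw [h5] at h1
  have h6 : 0 < (q + 1) * q := by
    have := C.q4
    have hq : 0 < q := by omega
    positivity
  exact Nat.eq_of_mul_eq_mul_right h6 h1

theorem odd_class (C : Cfg U a b z M q) : Odd (Nat.card {s : G // IsConj z s}) := by
  rw [C.card_class]
  have hq : Odd q := Nat.odd_iff.2 (by have := C.q4; omega)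
  have h1 : Even (q ^ 2 - q) := by
    rw [Nat.even_sub (Nat.le_self_pow two_ne_zero q)]
    constructor
    · intro h
      exact absurd hq.pow (Nat.not_odd_iff_even.2 h)
    · intro h
      exact absurd hq (Nat.not_odd_iff_even.2 h)
  exact hq.pow.mul h1.add_one

/-- the conjugates of `z` interchanging `a` and `b` -/
theorem card_J (C : Cfg U a b z M q) :
    Nat.card {s : G // IsConj z s ∧ Swaps s a b} = q - 1 := by
  have h1 := C.h.card_swap_pairs C.ab C.zz
  have h3 : Nat.card (fixedBy Ω z) = q + 1 := C.card_fix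
  have h4 : Nat.card Ω = q ^ 3 + 1 := by rw [C.h.card a, C.cardU]
  rw [C.card_class, h3, h4, Nat.add_sub_cancel] at h1
  have hq := C.q4
  obtain ⟨r, rfl⟩ : ∃ r, q = r + 1 := ⟨q - 1, by omega⟩
  have e : (r + 1) ^ 2 - (r + 1) + 1 = r ^ 2 + r + 1 := by
    have : (r + 1) ^ 2 = r ^ 2 + r + (r + 1) := by ring
    omega
  have e' : (r + 1) ^ 3 + 1 - (r + 1 + 1) = (r + 1) * (r * (r + 2)) := by
    have : (r + 1) ^ 3 + 1 = (r + 1) * (r * (r + 2)) + (r + 1 + 1) := by ring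
    omega
  rw [e, e'] at h1
  have h5 : (r + 1) ^ 2 * (r ^ 2 + r + 1) * ((r + 1) * (r * (r + 2))) =
      (((r + 1) ^ 3 + 1) * (r + 1) ^ 3) * r := by ring
  rw [h5] at h1
  have h6 : 0 < ((r + 1) ^ 3 + 1) * (r + 1) ^ 3 := by positivity
  rw [Nat.add_sub_cancel]
  exact (Nat.eq_of_mul_eq_mul_left h6 h1).symm

/-! ### Inner elements -/

omit [Finite G] [Finite Ω] in
theorem exists_inner (C : Cfg U a b z M q) {y : G} (hy : y * z = z * y) (hy2 : y * y = 1)
    (hf : ∀ c : Ω, z • c = c → y • c ≠ c) :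
    ∃ l ∈ M, ∃ k ∈ kerFix Ω (zpowers z), y = l * k := by
  obtain ⟨l, hl, hk⟩ := C.inner y hy hy2 hf
  refine ⟨l, hl, _, hk, ?_⟩
  rw [C.MKc l hl _ hk]
  group

omit [Finite G] [Finite Ω] in
theorem sq_of_isConj (C : Cfg U a b z M q) {s : G} (hs : IsConj z s) : s * s = 1 := by
  obtain ⟨g, rfl⟩ := isConj_iff.1 hs
  calc g * z * g⁻¹ * (g * z * g⁻¹) = g * (z * z) * g⁻¹ := by group
    _ = 1 := by rw [C.zz]; group

omit [Finite G] [Finite Ω] in
theorem swaps_mul_K (C : Cfg U a b z M q) {l k : G} (hk : k ∈ kerFix Ω (zpowers z)) :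
    Swaps (l * k) a b ↔ Swaps l a b := by
  have hka := (C.K_le_D hk).1
  have hkb := (C.K_le_D hk).2
  have h1 : k • a = a := hka
  have h2 : k • b = b := hkb
  rw [Swaps, Swaps, mul_smul, mul_smul, h1, h2]

omit [Finite G] in
theorem J_inner (C : Cfg U a b z M q) {s : G} (hs : IsConj z s) (hsw : Swaps s a b) :
    ∃ l ∈ M, Swaps l a b ∧ ∃ k ∈ kerFix Ω (zpowers z), s = l * k := by
  obtain ⟨g, hg⟩ := isConj_iff.1 hs
  have hne : g * z * g⁻¹ ≠ z := by
    rw [hg]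
    rintro rfl
    have h1 : s • a = a := C.zD.1
    exact C.ab (hsw.1.symm.trans h1)
  have hc : s * z = z * s := C.zW s hsw.mem_W
  obtain ⟨l, hl, k, hk, he⟩ := C.exists_inner hc (C.sq_of_isConj hs) (by
    intro c hzc
    rw [← hg]
    exact C.fpf hne (by rw [hg]; exact hc) hzc)
  exact ⟨l, hl, (C.swaps_mul_K hk).1 (by rw [← he]; exact hsw), k, hk, he⟩

omit [Finite G] [Finite Ω] in
theorem exists_l (C : Cfg U a b z M q) : ∃ l ∈ M, Swaps l a b := by
  obtain ⟨m, hm, h1, h2⟩ := C.Mtr b a C.ab C.zD.2 C.zD.1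
  exact ⟨m, hm, h2, h1⟩

omit [Finite G] [Finite Ω] in
theorem card_S (C : Cfg U a b z M q) :
    Nat.card {l : G // l ∈ M ∧ Swaps l a b} = Nat.card (Dab G a b ⊓ M : Subgroup G) := by
  obtain ⟨m, hm, hs⟩ := C.exists_l
  refine Nat.card_congr ⟨fun l => ⟨m⁻¹ * l, hs.inv.mul l.2.2, M.mul_mem (M.inv_mem hm) l.2.1⟩,
    fun d => ⟨m * d, M.mul_mem hm d.2.2, hs.mul_D d.2.1⟩, ?_, ?_⟩
  · intro l; apply Subtype.ext; simp
  · intro d; apply Subtype.ext; simp

theorem card_two {α : Type*} {P : α → Prop} {c d : α} (hcd : c ≠ d)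
    (h : ∀ x, P x ↔ x = c ∨ x = d) : Nat.card {x // P x} = 2 := by
  have h1 : Nat.card {x // P x} = Nat.card ({c, d} : Set α) :=
    Nat.card_congr (Equiv.subtypeEquivRight fun x => by rw [h x]; rfl)
  rw [h1, Nat.card_coe_set_eq, Set.ncard_pair hcd]

omit [Finite G] [Finite Ω] in
/-- the common fixed points of `z` and an involution of `Dab` -/
theorem fix_two (C : Cfg U a b z M q) {t : G} (ht : t ∈ Dab G a b) (ht2 : t * t = 1) (ht1 : t ≠ 1)
    (htz : t ≠ z) (c : Ω) : (t • c = c ∧ z • c = c) ↔ c = a ∨ c = b := by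
  constructor
  · rintro ⟨h1, h2⟩
    by_cases hca : c = a
    · exact Or.inl hca
    right
    obtain ⟨u, hu, huc⟩ := C.h.trans C.ab hca
    have key : ∀ x : G, x • a = a → x • b = b → x • c = c → u * x = x * u := by
      intro x hxa hxb hxc
      have h3 : x * u * x⁻¹ = u := C.h.eq_of_smul_eq C.ab (C.h.conj_of_fix hxa hu) hu (by
        rw [mul_smul, mul_smul, inv_smul_eq_iff.2 hxb.symm, huc, hxc])
      calc u * x = x * u * x⁻¹ * x := by rw [h3]
        _ = x * u := by group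
    have h4 := C.four t ht ht2 ht1 htz u hu (key t ht.1 ht.2 h1) (key z C.zD.1 C.zD.2 h2)
    rw [← huc, h4, one_smul]
  · rintro (rfl | rfl)
    · exact ⟨ht.1, C.zD.1⟩
    · exact ⟨ht.2, C.zD.2⟩

/-! ### The case `z ∉ M` -/

omit [Finite G] [Finite Ω] in
theorem p_MK (C : Cfg U a b z M q) (hz : z ∉ M) {m : G} (hm : m ∈ M)
    (hm' : m ∈ kerFix Ω (zpowers z)) : m = 1 := by
  rcases C.MK m hm hm' with h1 | h1
  · exact h1
  · exact absurd (h1 ▸ hm) hz

omit [Finite G] [Finite Ω] in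
theorem p_sq (C : Cfg U a b z M q) (hz : z ∉ M) {l : G} (hl : l ∈ M) (hs : Swaps l a b) :
    l * l = 1 := C.p_MK hz (mul_mem hl hl) (C.Msw l hl hs)

omit [Finite Ω] [Finite G] in
theorem p_card (C : Cfg U a b z M q) (hz : z ∉ M) :
    2 * Nat.card {l : G // l ∈ M ∧ Swaps l a b} = q - 1 := by
  rw [C.card_S, ← C.cardE]
  congr 1
  have h1 : kerFix Ω (zpowers z) ⊓ (Dab G a b ⊓ M) = ⊥ := by
    rw [eq_bot_iff]
    intro x hx
    exact mem_bot.2 (C.p_MK hz hx.2.2 hx.1)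
  rw [← inf_relIndex_right, h1, relIndex_bot_left]

omit [Finite G] [Finite Ω] in
/-- commuting elements of `M` and `K` whose product is an involution -/
theorem p_k (C : Cfg U a b z M q) (hz : z ∉ M) {l k : G} (hl : l ∈ M)
    (hk : k ∈ kerFix Ω (zpowers z)) (h : (l * k) * (l * k) = 1) : l * l = 1 ∧ (k = 1 ∨ k = z) := by
  have h1 : (l * k) * (l * k) = (l * l) * (k * k) := by
    calc (l * k) * (l * k) = l * (k * l) * k := by group
      _ = l * (l * k) * k := by rw [C.MKc l hl k hk]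
      _ = _ := by group
  rw [h1] at h
  have h2 : l * l = (k * k)⁻¹ := eq_inv_of_mul_eq_one_left h
  have h3 : l * l = 1 := C.p_MK hz (mul_mem hl hl) (by rw [h2]; exact inv_mem (mul_mem hk hk))
  refine ⟨h3, C.Kz k hk ?_⟩
  rw [h3, one_mul] at h
  exact h

/-- every element `l ∈ M` interchanging `a` and `b`, and `l z`, is conjugate to `z` -/
theorem p_conj (C : Cfg U a b z M q) (hz : z ∉ M) {l : G} (hl : l ∈ M) (hs : Swaps l a b) :
    IsConj z l ∧ IsConj z (l * z) := by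
  classical
  let Ψ : {l : G // l ∈ M ∧ Swaps l a b} × Bool → G := fun p => p.1.1 * (if p.2 then z else 1)
  have h1 : {s : G | IsConj z s ∧ Swaps s a b} ⊆ Set.range Ψ := by
    rintro s ⟨hs1, hs2⟩
    obtain ⟨l, hl, hls, k, hk, rfl⟩ := C.J_inner hs1 hs2
    rcases (C.p_k hz hl hk (C.sq_of_isConj hs1)).2 with rfl | rfl
    · exact ⟨(⟨l, hl, hls⟩, false), rfl⟩
    · exact ⟨(⟨l, hl, hls⟩, true), rfl⟩
  have h2 : (Set.range Ψ).ncard ≤ {s : G | IsConj z s ∧ Swaps s a b}.ncard := by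
    have h3 : {s : G | IsConj z s ∧ Swaps s a b}.ncard = q - 1 := by
      rw [← C.card_J, ← Nat.card_coe_set_eq]
      rfl
    rw [h3, ← C.p_card hz, ← Nat.card_coe_set_eq]
    refine (Nat.card_le_card_of_surjective _ Set.rangeFactorization_surjective).trans ?_
    rw [Nat.card_prod, Nat.card_eq_fintype_card (α := Bool), Fintype.card_bool, mul_comm]
  have h4 := Set.eq_of_subset_of_ncard_le h1 h2 (Set.toFinite _)
  have h5 : l ∈ Set.range Ψ := ⟨(⟨l, hl, hs⟩, false), mul_one l⟩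
  have h6 : l * z ∈ Set.range Ψ := ⟨(⟨l, hl, hs⟩, true), rfl⟩
  rw [← h4] at h5 h6
  exact ⟨h5.1, h6.1⟩

/-- an involution commuting with `z`, not conjugate to `z`, has exactly two fixed points on
`Fix z`. -/
theorem p_two (C : Cfg U a b z M q) (hz : z ∉ M) {y : G} (hy : y * z = z * y) (hy2 : y * y = 1)
    (hy1 : y ≠ 1) (hn : ¬ IsConj z y) :
    ∃ c d : Ω, c ≠ d ∧ ∀ x, (y • x = x ∧ z • x = x) ↔ x = c ∨ x = d := by
  by_cases hf : ∀ c : Ω, z • c = c → y • c ≠ c
  · exfalso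
    obtain ⟨l, hl, k, hk, rfl⟩ := C.exists_inner hy hy2 hf
    obtain ⟨h1, h2⟩ := C.p_k hz hl hk hy2
    have h3 : z • l • a = l • a := by
      rw [← mul_smul, ← C.MC l hl, mul_smul, show z • a = a from C.zD.1]
    have h4 : l • a ≠ a := by
      intro h5
      refine hf a C.zD.1 ?_
      rw [mul_smul, show k • a = a from mem_K.1 hk a C.zD.1, h5]
    obtain ⟨m, hm, hm1, hm2⟩ := C.Mtr a (l • a) h4.symm C.zD.1 h3
    have h5 : Swaps (m * l * m⁻¹) a b := by
      constructor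
      · rw [mul_smul, mul_smul, inv_smul_eq_iff.2 hm1.symm, hm2]
      · rw [mul_smul, mul_smul, inv_smul_eq_iff.2 hm2.symm, ← mul_smul l l, h1, one_smul, hm1]
    obtain ⟨h6, h7⟩ := C.p_conj hz (mul_mem (mul_mem hm hl) (inv_mem hm)) h5
    rcases h2 with rfl | rfl
    · apply hn
      rw [mul_one]
      exact h6.trans (isConj_iff.2 ⟨m⁻¹, by group⟩)
    · apply hn
      refine h7.trans (isConj_iff.2 ⟨m⁻¹, ?_⟩)
      have h8 : m⁻¹ * k * m = k := by
        rw [mul_assoc, ← C.MC m hm]; group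
      calc m⁻¹ * (m * l * m⁻¹ * k) * m⁻¹⁻¹ = l * (m⁻¹ * k * m) := by group
        _ = l * k := by rw [h8]
  · push Not at hf
    obtain ⟨c, hc, hyc⟩ := hf
    obtain ⟨d, hd, hzd, hyd⟩ := C.exists_two hy hy2 hc hyc
    obtain ⟨m, hm, hm1, hm2⟩ := C.Mtr c d hd.symm hc hzd
    refine ⟨c, d, hd.symm, fun x => ?_⟩
    have hD : m * y * m⁻¹ ∈ Dab G a b := mem_Dab.2 ⟨by
      rw [mul_smul, mul_smul, inv_smul_eq_iff.2 hm1.symm, hyc, hm1], by
      rw [mul_smul, mul_smul, inv_smul_eq_iff.2 hm2.symm, hyd, hm2]⟩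
    have hmz : m * z * m⁻¹ = z := by rw [C.MC m hm]; group
    have h1 := C.fix_two hD (by
      calc m * y * m⁻¹ * (m * y * m⁻¹) = m * (y * y) * m⁻¹ := by group
        _ = 1 := by rw [hy2]; group) (fun e => hy1 (by
      calc y = m⁻¹ * (m * y * m⁻¹) * m := by group
        _ = 1 := by rw [e]; group)) (fun e => hn (isConj_iff.2 ⟨m⁻¹, by
      rw [← e]; group⟩)) (m • x)
    have h2 : (m * y * m⁻¹) • m • x = m • x ↔ y • x = x := by
      rw [mul_smul, inv_smul_smul, mul_smul]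
      exact ⟨fun e => MulAction.injective m e, fun e => by rw [e]⟩
    have h3 : z • m • x = m • x ↔ z • x = x := by
      rw [← mul_smul, ← C.MC m hm, mul_smul]
      exact ⟨fun e => MulAction.injective m e, fun e => by rw [e]⟩
    rw [h2, h3] at h1
    rw [h1, ← hm1, ← hm2]
    exact ⟨fun e => e.imp (fun e => MulAction.injective m e) (fun e => MulAction.injective m e),
      fun e => e.imp (fun e => by rw [e]) (fun e => by rw [e])⟩

/-- the same for a conjugate `s` of `z` -/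
theorem p_two' (C : Cfg U a b z M q) (hz : z ∉ M) {s : G} (hs : IsConj z s) {y : G}
    (hy : y * s = s * y) (hy2 : y * y = 1) (hy1 : y ≠ 1) (hn : ¬ IsConj z y) :
    Nat.card {c : {c : Ω // y • c = c} // s • (c : Ω) = c} = 2 := by
  obtain ⟨g, rfl⟩ := isConj_iff.1 hs
  obtain ⟨c, d, hcd, h⟩ := C.p_two hz (y := g⁻¹ * y * g) (by
    calc g⁻¹ * y * g * z = g⁻¹ * (y * (g * z * g⁻¹)) * g := by group
      _ = g⁻¹ * ((g * z * g⁻¹) * y) * g := by rw [hy]
      _ = z * (g⁻¹ * y * g) := by group) (by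
    calc g⁻¹ * y * g * (g⁻¹ * y * g) = g⁻¹ * (y * y) * g := by group
      _ = 1 := by rw [hy2]; group) (fun e => hy1 (by
    calc y = g * (g⁻¹ * y * g) * g⁻¹ := by group
      _ = 1 := by rw [e]; group)) (fun e => hn (e.trans (isConj_iff.2 ⟨g, by group⟩)))
  have h1 : ∀ x : Ω, (y • x = x ∧ (g * z * g⁻¹) • x = x) ↔ x = g • c ∨ x = g • d := by
    intro x
    have h2 := h (g⁻¹ • x)
    have h3 : (g⁻¹ * y * g) • g⁻¹ • x = g⁻¹ • x ↔ y • x = x := by
      rw [mul_smul, smul_inv_smul, mul_smul]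
      exact ⟨fun e => MulAction.injective g⁻¹ e, fun e => by rw [e]⟩
    have h4 : z • g⁻¹ • x = g⁻¹ • x ↔ (g * z * g⁻¹) • x = x := by
      rw [mul_smul, mul_smul]
      exact ⟨fun e => by rw [e, smul_inv_smul], fun e => by
        conv_rhs => rw [← e]
        rw [inv_smul_smul]⟩
    rw [h3, h4] at h2
    rw [h2, inv_smul_eq_iff, inv_smul_eq_iff]
  have e1 : {c : {c : Ω // y • c = c} // (g * z * g⁻¹) • (c : Ω) = c} ≃
      {x : Ω // y • x = x ∧ (g * z * g⁻¹) • x = x} :=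
    ⟨fun x => ⟨x.1.1, x.1.2, x.2⟩, fun x => ⟨⟨x.1, x.2.1⟩, x.2.2⟩, fun _ => rfl, fun _ => rfl⟩
  rw [Nat.card_congr e1]
  exact card_two (fun e => hcd (MulAction.injective g e)) h1

omit [Finite G] [Finite Ω] in
theorem not_conj (C : Cfg U a b z M q) {e : G} (he : e ∈ Dab G a b) (hez : e ≠ z) :
    ¬ IsConj z e := by
  intro h
  obtain ⟨g, rfl⟩ := isConj_iff.1 h
  exact hez (C.uz g he)

omit [Finite G] in
/-- the number of fixed points of an involution is divisible by four -/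
theorem four_dvd_fix (C : Cfg U a b z M q) {t : G} (ht2 : t * t = 1) :
    4 ∣ Nat.card {c : Ω // t • c = c} := by
  have h1 := C.h.four_dvd C.gen C.odd ht2
  have h4 : Nat.card Ω = q ^ 3 + 1 := by rw [C.h.card a, C.cardU]
  have h2 : 4 ∣ Nat.card Ω := by
    rw [h4]
    have hq := C.q4
    have : (q ^ 3 + 1) % 4 = 0 := by
      rw [Nat.add_mod, Nat.pow_mod, hq]
    exact Nat.dvd_of_mod_eq_zero this
  have h3 : Nat.card (fixedBy Ω t) = Nat.card {c : Ω // t • c = c} := rfl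
  rw [h3] at h1
  have h5 : Nat.card {c : Ω // t • c = c} ≤ Nat.card Ω :=
    Nat.card_le_card_of_injective _ Subtype.val_injective
  exact (Nat.dvd_sub_iff_right h5 h2).1 h1

theorem false_p (C : Cfg U a b z M q) (hz : z ∉ M) {e : G} (he : e ∈ Dab G a b)
    (he2 : e * e = 1) (he1 : e ≠ 1) (hez : e ≠ z) : False := by
  have hn := C.not_conj he hez
  have hec : e * z = z * e := C.zW e (Dab_le_Wab a b he)
  have hei : e⁻¹ = e := inv_eq_of_mul_eq_one_left he2
  have hodd : Odd (Nat.card {l : G // l ∈ M ∧ Swaps l a b}) := by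
    have h1 := C.p_card hz
    have h2 := C.q4
    exact Nat.odd_iff.2 (by omega)
  let f : {l : G // l ∈ M ∧ Swaps l a b} → {l : G // l ∈ M ∧ Swaps l a b} := fun l =>
    ⟨e * l.1 * e⁻¹, C.Mn e hec l.1 l.2.1, by
      have h1 := l.2.2.conj e
      rwa [show e • a = a from he.1, show e • b = b from he.2] at h1⟩
  obtain ⟨⟨l, hl, hls⟩, hle⟩ := exists_fixed_of_odd hodd f (fun x => Subtype.ext (by
    change e * (e * x.1 * e⁻¹) * e⁻¹ = x.1
    calc e * (e * x.1 * e⁻¹) * e⁻¹ = (e * e) * x.1 * (e * e)⁻¹ := by group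
      _ = x.1 := by rw [he2]; group))
  have hle' : e * l * e⁻¹ = l := congrArg Subtype.val hle
  have hel : e * l = l * e := by
    calc e * l = e * l * e⁻¹ * e := by group
      _ = l * e := by rw [hle']
  obtain ⟨hc1, hc2⟩ := C.p_conj hz hl hls
  have hlz := C.MC l hl
  let F : {c : Ω // e • c = c} → {c : Ω // e • c = c} := fun x => ⟨z • x.1, by
    rw [← mul_smul, hec, mul_smul, x.2]⟩
  let H : {c : Ω // e • c = c} → {c : Ω // e • c = c} := fun x => ⟨l • x.1, by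
    rw [← mul_smul, hel, mul_smul, x.2]⟩
  have h1 := four_group_count F H (fun x => Subtype.ext (by
    change z • z • x.1 = x.1
    rw [← mul_smul, C.zz, one_smul])) (fun x => Subtype.ext (by
    change l • l • x.1 = x.1
    rw [← mul_smul, C.p_sq hz hl hls, one_smul])) (fun x => Subtype.ext (by
    change z • l • x.1 = l • z • x.1
    rw [← mul_smul, ← mul_smul, hlz])) (by
    rw [← C.p_two' hz (IsConj.refl z) hec he2 he1 hn]
    exact Nat.card_congr (Equiv.subtypeEquivRight fun x => Subtype.ext_iff)) (by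
    rw [← C.p_two' hz hc1 hel he2 he1 hn]
    exact Nat.card_congr (Equiv.subtypeEquivRight fun x => Subtype.ext_iff)) (by
    rw [← C.p_two' hz hc2 (by
      calc e * (l * z) = (e * l) * z := by group
        _ = l * (e * z) := by rw [hel]; group
        _ = (l * z) * e := by rw [hec]; group) he2 he1 hn]
    refine Nat.card_congr (Equiv.subtypeEquivRight fun x => ?_)
    rw [Subtype.ext_iff]
    change z • l • x.1 = x.1 ↔ (l * z) • x.1 = x.1
    rw [hlz, mul_smul])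
  have h2 := C.four_dvd_fix he2
  omega

/-! ### The case `z ∈ M` -/

omit [Finite G] [Finite Ω] in
theorem s_sq (C : Cfg U a b z M q) (hz : z ∈ M) {l : G} (hl : l ∈ M) (hs : Swaps l a b) :
    l * l = z := by
  rcases C.MK (l * l) (mul_mem hl hl) (C.Msw l hl hs) with h1 | h1
  · exfalso
    have h2 : l • a = a := by
      rcases C.Mz hz l hl h1 with rfl | rfl
      · exact one_smul _ a
      · exact C.zD.1
    exact C.ab (hs.1.symm.trans h2)
  · exact h1

omit [Finite G] [Finite Ω] in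
theorem s_card (C : Cfg U a b z M q) (hz : z ∈ M) :
    Nat.card {l : G // l ∈ M ∧ Swaps l a b} = q - 1 := by
  rw [C.card_S, ← C.cardE]
  have h1 : Nat.card (kerFix Ω (zpowers z) ⊓ (Dab G a b ⊓ M) : Subgroup G) = 2 := by
    refine card_two (c := (1 : G)) (d := z) C.z1.symm fun x => ?_
    constructor
    · rintro ⟨hx1, hx2⟩
      exact C.MK x hx2.2 hx1
    · rintro (rfl | rfl)
      · exact one_mem _
      · exact ⟨C.zK, C.zD, hz⟩
  have h2 := relIndex_mul_relIndex ⊥ (kerFix Ω (zpowers z) ⊓ (Dab G a b ⊓ M))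
    (Dab G a b ⊓ M) bot_le inf_le_right
  rw [relIndex_bot_left, relIndex_bot_left, h1, inf_relIndex_right] at h2
  exact h2.symm

omit [Finite G] [Finite Ω] in
/-- `K`-parts of the conjugates of `z`: transport from `l` to `l'` -/
theorem s_transport (C : Cfg U a b z M q) {l l' : G} (hl : l ∈ M)
    (hs : Swaps l a b) (hl' : l' ∈ M) (hs' : Swaps l' a b) :
    ∃ ζ : G, (ζ = 1 ∨ ζ = z) ∧ ∀ k ∈ kerFix Ω (zpowers z), (IsConj z (l * k) ↔ IsConj z (l' * (ζ * k))) := by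
  obtain ⟨x, hx, hxD, hxK⟩ := C.Mcj l hl l' hl' hs hs'
  have h1 : x * l * x⁻¹ * l'⁻¹ ∈ M :=
    mul_mem (mul_mem (mul_mem hx hl) (inv_mem hx)) (inv_mem hl')
  refine ⟨x * l * x⁻¹ * l'⁻¹, C.MK _ h1 hxK, fun k hk => ?_⟩
  have h2 : l' * (x * l * x⁻¹ * l'⁻¹ * k) = x * (l * k) * x⁻¹ := by
    calc l' * (x * l * x⁻¹ * l'⁻¹ * k) = (l' * (x * l * x⁻¹ * l'⁻¹)) * k := by group
      _ = ((x * l * x⁻¹ * l'⁻¹) * l') * k := by rw [C.MKc l' hl' _ hxK]
      _ = x * l * (x⁻¹ * k) := by group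
      _ = x * l * (k * x⁻¹) := by rw [C.MKc _ (inv_mem hx) k hk]
      _ = x * (l * k) * x⁻¹ := by group
  rw [h2]
  exact ⟨fun h => h.trans (isConj_iff.2 ⟨x, rfl⟩), fun h => h.trans (isConj_iff.2 ⟨x⁻¹, by group⟩)⟩

theorem s_kappa_card (C : Cfg U a b z M q) (hz : z ∈ M) {l₀ : G} (hl₀ : l₀ ∈ M)
    (hs₀ : Swaps l₀ a b) :
    Nat.card {k : G // k ∈ kerFix Ω (zpowers z) ∧ IsConj z (l₀ * k)} = 2 := by
  classical
  let T := {p : G × G // (p.1 ∈ M ∧ Swaps p.1 a b) ∧ p.2 ∈ kerFix Ω (zpowers z) ∧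
    IsConj z (p.1 * p.2)}
  have e1 : T ≃ Σ l : {l : G // l ∈ M ∧ Swaps l a b},
      {k : G // k ∈ kerFix Ω (zpowers z) ∧ IsConj z (l.1 * k)} :=
    ⟨fun p => ⟨⟨p.1.1, p.2.1⟩, p.1.2, p.2.2⟩, fun x => ⟨(x.1.1, x.2.1), x.1.2, x.2.2⟩,
      fun _ => rfl, fun _ => rfl⟩
  have e2 : T ≃ Σ s : {s : G // IsConj z s ∧ Swaps s a b},
      {p : G × G // (p.1 ∈ M ∧ Swaps p.1 a b) ∧ p.2 ∈ kerFix Ω (zpowers z) ∧ p.1 * p.2 = s.1} :=
    ⟨fun p => ⟨⟨p.1.1 * p.1.2, p.2.2.2, (C.swaps_mul_K p.2.2.1).2 p.2.1.2⟩, p.1, p.2.1, p.2.2.1,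
      rfl⟩, fun x => ⟨x.2.1, x.2.2.1, x.2.2.2.1, by rw [x.2.2.2.2]; exact x.1.2.1⟩,
      fun _ => rfl, by
      rintro ⟨⟨s, hs⟩, ⟨p, hp1, hp2, hp3⟩⟩
      dsimp only at hp3
      subst hp3
      rfl⟩
  have : Fintype {l : G // l ∈ M ∧ Swaps l a b} := Fintype.ofFinite _
  have : Fintype {s : G // IsConj z s ∧ Swaps s a b} := Fintype.ofFinite _
  have h1 : Nat.card T = (q - 1) * Nat.card {k : G // k ∈ kerFix Ω (zpowers z) ∧
      IsConj z (l₀ * k)} := by
    rw [Nat.card_congr e1, Nat.card_sigma]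
    have h2 : ∀ l ∈ (Finset.univ : Finset {l : G // l ∈ M ∧ Swaps l a b}),
        Nat.card {k : G // k ∈ kerFix Ω (zpowers z) ∧ IsConj z (l.1 * k)} =
          Nat.card {k : G // k ∈ kerFix Ω (zpowers z) ∧ IsConj z (l₀ * k)} := by
      rintro ⟨l, hl, hs⟩ -
      obtain ⟨ζ, hζ, h3⟩ := C.s_transport hl hs hl₀ hs₀
      have hζK : ζ ∈ kerFix Ω (zpowers z) := by
        rcases hζ with rfl | rfl
        · exact one_mem _
        · exact C.zK
      refine Nat.card_congr ⟨fun k => ⟨ζ * k, mul_mem hζK k.2.1, (h3 k k.2.1).1 k.2.2⟩,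
        fun k => ⟨ζ⁻¹ * k, mul_mem (inv_mem hζK) k.2.1,
          (h3 _ (mul_mem (inv_mem hζK) k.2.1)).2 (by
            rw [mul_inv_cancel_left]; exact k.2.2)⟩, ?_, ?_⟩
      · intro k; apply Subtype.ext; simp
      · intro k; apply Subtype.ext; simp
    rw [Finset.sum_congr rfl h2, Finset.sum_const, Finset.card_univ, smul_eq_mul,
      ← Nat.card_eq_fintype_card, C.s_card hz]
  have h2 : Nat.card T = (q - 1) * 2 := by
    rw [Nat.card_congr e2, Nat.card_sigma]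
    have h2 : ∀ s ∈ (Finset.univ : Finset {s : G // IsConj z s ∧ Swaps s a b}),
        Nat.card {p : G × G // (p.1 ∈ M ∧ Swaps p.1 a b) ∧ p.2 ∈ kerFix Ω (zpowers z) ∧
          p.1 * p.2 = s.1} = 2 := by
      rintro ⟨s, hs1, hs2⟩ -
      obtain ⟨l, hl, hls, k, hk, he⟩ := C.J_inner hs1 hs2
      refine card_two (c := (l, k)) (d := (l * z, z * k)) (fun e => C.z1 ?_) ?_
      · have := congrArg Prod.fst e
        exact left_eq_mul.1 this
      · rintro ⟨l', k'⟩
        constructor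
        · rintro ⟨⟨h3, h4⟩, h5, h6⟩
          dsimp only at h3 h4 h5 h6
          have h7 : l⁻¹ * l' = k * k'⁻¹ := by
            rw [he] at h6
            calc l⁻¹ * l' = l⁻¹ * (l' * k') * k'⁻¹ := by group
              _ = k * k'⁻¹ := by rw [h6]; group
          have h8 : k * k'⁻¹ ∈ kerFix Ω (zpowers z) := mul_mem hk (inv_mem h5)
          rcases C.MK (l⁻¹ * l') (mul_mem (inv_mem hl) h3) (by rw [h7]; exact h8) with h9 | h9
          · left
            rw [inv_mul_eq_one.1 h9]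
            rw [h9] at h7
            rw [eq_comm, mul_inv_eq_one] at h7
            rw [h7]
          · right
            have h10 : l' = l * z := by rw [← h9]; group
            have h11 : k' = z * k := by
              rw [h9] at h7
              have h12 : z * k' = k := by rw [h7]; group
              rw [← h12, ← mul_assoc, C.zz, one_mul]
            rw [h10, h11]
        · rintro (h3 | h3)
          · obtain ⟨rfl, rfl⟩ := Prod.mk.inj h3
            exact ⟨⟨hl, hls⟩, hk, he.symm⟩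
          · obtain ⟨rfl, rfl⟩ := Prod.mk.inj h3
            refine ⟨⟨mul_mem hl hz, (C.swaps_mul_K C.zK).2 hls⟩, mul_mem C.zK hk, ?_⟩
            dsimp only
            rw [he, mul_assoc, ← mul_assoc z z k, C.zz, one_mul]
    rw [Finset.sum_congr rfl h2, Finset.sum_const, Finset.card_univ, smul_eq_mul,
      ← Nat.card_eq_fintype_card, C.card_J]
  rw [h1] at h2
  have hq := C.q4
  exact Nat.eq_of_mul_eq_mul_left (by omega) h2

/-- the elements `k` of `K` with `l k` conjugate to `z`. -/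
theorem s_exists (C : Cfg U a b z M q) (hz : z ∈ M) :
    ∃ k₀ ∈ kerFix Ω (zpowers z), k₀ * k₀ = z ∧ ∀ l ∈ M, Swaps l a b →
      ∀ k ∈ kerFix Ω (zpowers z), (IsConj z (l * k) ↔ k = k₀ ∨ k = k₀⁻¹) := by
  obtain ⟨l₀, hl₀, hs₀⟩ := C.exists_l
  have hc := C.s_kappa_card hz hl₀ hs₀
  have hsq := C.s_sq hz hl₀ hs₀
  have hk2 : ∀ k ∈ kerFix Ω (zpowers z), IsConj z (l₀ * k) → k * k = z := by
    intro k hk hk'
    have h1 := C.sq_of_isConj hk'
    have h2 : (l₀ * k) * (l₀ * k) = (l₀ * l₀) * (k * k) := by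
      calc (l₀ * k) * (l₀ * k) = l₀ * (k * l₀) * k := by group
        _ = l₀ * (l₀ * k) * k := by rw [C.MKc l₀ hl₀ k hk]
        _ = _ := by group
    rw [h2, hsq] at h1
    rw [eq_comm, ← C.z_inv]
    exact (eq_inv_of_mul_eq_one_right h1).symm
  obtain ⟨⟨k₁, hk₁, hk₁'⟩, ⟨k₂, hk₂, hk₂'⟩, hne, huniv⟩ := Nat.card_eq_two_iff.1 hc
  have hne' : k₁ ≠ k₂ := fun e => hne (Subtype.ext e)
  have hall : ∀ k ∈ kerFix Ω (zpowers z), IsConj z (l₀ * k) → k = k₁ ∨ k = k₂ := by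
    intro k hk hk'
    have h1 : (⟨k, hk, hk'⟩ : {k : G // k ∈ kerFix Ω (zpowers z) ∧ IsConj z (l₀ * k)}) ∈
        (Set.univ : Set _) := Set.mem_univ _
    rw [← huniv] at h1
    rcases h1 with h1 | h1
    · exact Or.inl (congrArg Subtype.val h1)
    · exact Or.inr (congrArg Subtype.val h1)
  have hcomm : k₂ * k₁ * k₂⁻¹ = k₁ := by
    have h1 : l₀ * (k₂ * k₁ * k₂⁻¹) = (l₀ * k₂) * (l₀ * k₁) * (l₀ * k₂)⁻¹ := by
      have h2 := C.MKc l₀ hl₀ k₂ hk₂
      have h3 := C.MKc l₀ hl₀ k₁ hk₁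
      calc l₀ * (k₂ * k₁ * k₂⁻¹) = (l₀ * k₂) * k₁ * k₂⁻¹ := by group
        _ = (k₂ * l₀) * k₁ * k₂⁻¹ := by rw [h2]
        _ = (k₂ * l₀) * (l₀ * k₁) * l₀⁻¹ * k₂⁻¹ := by rw [h3]; group
        _ = (l₀ * k₂) * (l₀ * k₁) * (k₂ * l₀)⁻¹ := by rw [h2]; group
        _ = _ := by rw [h2]
    have h2 := hall (k₂ * k₁ * k₂⁻¹) (mul_mem (mul_mem hk₂ hk₁) (inv_mem hk₂)) (by
      rw [h1]
      exact hk₁'.trans (isConj_iff.2 ⟨_, rfl⟩))
    rcases h2 with h2 | h2
    · exact h2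
    · exfalso
      apply hne'
      calc k₁ = k₂⁻¹ * (k₂ * k₁ * k₂⁻¹) * k₂ := by group
        _ = k₂ := by rw [h2]; group
  have hcomm' : k₂ * k₁ = k₁ * k₂ := by
    calc k₂ * k₁ = k₂ * k₁ * k₂⁻¹ * k₂ := by group
      _ = k₁ * k₂ := by rw [hcomm]
  have h11 := hk2 k₁ hk₁ hk₁'
  have h22 := hk2 k₂ hk₂ hk₂'
  have hinv : k₁⁻¹ = z * k₁ := by
    rw [inv_eq_iff_mul_eq_one, ← mul_assoc]
    calc k₁ * z * k₁ = z * (k₁ * k₁) := by rw [C.K_comm hk₁]; group
      _ = 1 := by rw [h11, C.zz]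
  have h12 : k₂ = k₁⁻¹ := by
    have h3 : (k₁ * k₂) * (k₁ * k₂) = 1 := by
      calc (k₁ * k₂) * (k₁ * k₂) = k₁ * (k₂ * k₁) * k₂ := by group
        _ = (k₁ * k₁) * (k₂ * k₂) := by rw [hcomm']; group
        _ = 1 := by rw [h11, h22, C.zz]
    rcases C.Kz (k₁ * k₂) (mul_mem hk₁ hk₂) h3 with h4 | h4
    · exact (inv_eq_of_mul_eq_one_right h4).symm
    · exfalso
      apply hne'
      have h5 : k₂ = k₁⁻¹ * z := by rw [← h4]; group
      rw [h5, hinv, mul_assoc, C.K_comm hk₁, ← mul_assoc, C.zz, one_mul]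
  refine ⟨k₁, hk₁, h11, fun l hl hs k hk => ?_⟩
  have h0 : ∀ k ∈ kerFix Ω (zpowers z), (IsConj z (l₀ * k) ↔ k = k₁ ∨ k = k₁⁻¹) := by
    intro k hk
    constructor
    · intro h
      rw [← h12]
      exact hall k hk h
    · rintro (rfl | h)
      · exact hk₁'
      · rw [h, ← h12]; exact hk₂'
  obtain ⟨ζ, hζ, h3⟩ := C.s_transport hl hs hl₀ hs₀
  rw [h3 k hk]
  rcases hζ with rfl | rfl
  · rw [one_mul, h0 k hk]
  · rw [h0 _ (mul_mem C.zK hk)]
    have h4 : ∀ x y : G, ζ * x = y ↔ x = ζ * y := by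
      intro x y
      constructor
      · rintro rfl
        rw [← mul_assoc, C.zz, one_mul]
      · rintro rfl
        rw [← mul_assoc, C.zz, one_mul]
    rw [h4, h4, ← hinv]
    have h5 : ζ * k₁⁻¹ = k₁ := by rw [hinv, ← mul_assoc, C.zz, one_mul]
    rw [h5, or_comm]

theorem false_s (C : Cfg U a b z M q) (hz : z ∈ M) {e : G} (he : e ∈ Dab G a b)
    (he2 : e * e = 1) (he1 : e ≠ 1) (hez : e ≠ z) : False := by
  obtain ⟨k₀, hk₀, hk₀2, hκ⟩ := C.s_exists hz
  obtain ⟨l₀, hl₀, hs₀⟩ := C.exists_l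
  have hn := C.not_conj he hez
  have hk0ne : k₀ ≠ k₀⁻¹ := by
    intro h
    apply C.z1
    rw [← hk₀2]
    nth_rewrite 2 [h]
    group
  have hinv : k₀⁻¹ = z * k₀ := by
    rw [inv_eq_iff_mul_eq_one, ← mul_assoc]
    calc k₀ * z * k₀ = z * (k₀ * k₀) := by rw [C.K_comm hk₀]; group
      _ = 1 := by rw [hk₀2, C.zz]
  -- `C(z)` normalises `{k₀, k₀⁻¹}`
  have hnorm : ∀ g : G, g * z = z * g → g * k₀ * g⁻¹ = k₀ ∨ g * k₀ * g⁻¹ = k₀⁻¹ := by
    intro g hg
    obtain ⟨m, hm, hmD⟩ := C.exists_mul hg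
    have hDz : (m * g) * z = z * (m * g) := C.zW _ (Dab_le_Wab a b hmD)
    have h1 : (m * g) * k₀ * (m * g)⁻¹ = k₀ ∨ (m * g) * k₀ * (m * g)⁻¹ = k₀⁻¹ := by
      have h2 : Swaps ((m * g) * l₀ * (m * g)⁻¹) a b := by
        have h3 := hs₀.conj (m * g)
        rwa [show (m * g) • a = a from hmD.1, show (m * g) • b = b from hmD.2] at h3
      refine (hκ _ (C.Mn _ hDz l₀ hl₀) h2 _ (C.K_conj hDz hk₀)).1 ?_
      have h4 : IsConj z (l₀ * k₀) := (hκ l₀ hl₀ hs₀ k₀ hk₀).2 (Or.inl rfl)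
      exact h4.trans (isConj_iff.2 ⟨m * g, by group⟩)
    have h5 : g * k₀ * g⁻¹ = (m * g) * k₀ * (m * g)⁻¹ := by
      have h6 := C.MKc m hm _ (C.K_conj hg hk₀)
      calc g * k₀ * g⁻¹ = (g * k₀ * g⁻¹) * m * m⁻¹ := by group
        _ = m * (g * k₀ * g⁻¹) * m⁻¹ := by rw [h6]
        _ = _ := by group
    rw [h5]
    exact h1
  -- an element of order 4 of `K` with square `z` outside `⟨k₀⟩` does not commute with `k₀`
  have hk' : ∀ k ∈ kerFix Ω (zpowers z), k * k = z → k * k₀ = k₀ * k → k = k₀ ∨ k = k₀⁻¹ := by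
    intro k hk hk2 hc
    have h1 : (k * k₀) * (k * k₀) = 1 := by
      calc (k * k₀) * (k * k₀) = k * (k₀ * k) * k₀ := by group
        _ = (k * k) * (k₀ * k₀) := by rw [← hc]; group
        _ = 1 := by rw [hk2, hk₀2, C.zz]
    rcases C.Kz _ (mul_mem hk hk₀) h1 with h2 | h2
    · right
      exact eq_inv_of_mul_eq_one_left h2
    · left
      have h3 : k = z * k₀⁻¹ := by rw [← h2]; group
      rw [h3, hinv, ← mul_assoc, C.zz, one_mul]
  -- involutions of `D` do not commute with `k₀`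
  have ht : ∀ t ∈ Dab G a b, t * t = 1 → t ≠ 1 → t ≠ z → t * k₀ ≠ k₀ * t := by
    intro t htD ht2 ht1 htz hc
    have h1 := C.four_dvd_fix ht2
    -- `⟨k₀⟩` acts on the fixed points of `t` other than `a, b`
    let X : SubMulAction (zpowers k₀) Ω :=
      { carrier := {c | t • c = c ∧ c ≠ a ∧ c ≠ b}
        smul_mem' := by
          rintro ⟨x, hx⟩ c ⟨h2, h3, h4⟩
          obtain ⟨n, rfl⟩ := mem_zpowers_iff.1 hx
          have h5 : t * k₀ ^ n = k₀ ^ n * t := (Commute.zpow_right (show Commute t k₀ from hc) n)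
          have h6 : k₀ ^ n ∈ Dab G a b := zpow_mem (C.K_le_D hk₀) n
          have h7 : (k₀ ^ n) • a = a := h6.1
          have h8 : (k₀ ^ n) • b = b := h6.2
          change t • (k₀ ^ n) • c = (k₀ ^ n) • c ∧ (k₀ ^ n) • c ≠ a ∧ (k₀ ^ n) • c ≠ b
          refine ⟨by rw [← mul_smul, h5, mul_smul, h2], fun e => h3 ?_, fun e => h4 ?_⟩
          · exact MulAction.injective (k₀ ^ n) (by change (k₀ ^ n) • c = (k₀ ^ n) • a; rw [e, h7])
          · exact MulAction.injective (k₀ ^ n) (by change (k₀ ^ n) • c = (k₀ ^ n) • b; rw [e, h8]) }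
    have hX : Nat.card X + 2 = Nat.card {c : Ω // t • c = c} := by
      have h2 : ({a, b} : Set Ω) ⊆ {c : Ω | t • c = c} := by
        rintro c (rfl | rfl)
        · exact htD.1
        · exact htD.2
      have h3 := Set.ncard_sdiff_add_ncard_of_subset h2 (Set.toFinite _)
      rw [Set.ncard_pair C.ab.symm] at h3
      have h4 : Nat.card {c : Ω // t • c = c} = {c : Ω | t • c = c}.ncard :=
        Nat.card_coe_set_eq _
      rw [h4, ← h3, ← Nat.card_coe_set_eq]
      congr 1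
      refine Nat.card_congr ⟨fun x => ⟨x.1, x.2.1, fun h => ?_⟩, fun x => ⟨x.1, x.2.1, fun h =>
        x.2.2 (Or.inl h), fun h => x.2.2 (Or.inr h)⟩, fun _ => rfl, fun _ => rfl⟩
      rcases h with h | h
      · exact x.2.2.1 h
      · exact x.2.2.2 h
    have h2 : Nat.card (zpowers k₀) ∣ Nat.card X := by
      refine card_dvd_of_free ?_
      rintro ⟨g, hg⟩ ⟨c, hc1, hc2, hc3⟩ hgc
      have hgc' : g • c = c := congrArg Subtype.val hgc
      have hzc : z • c ≠ c := fun h => by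
        rcases (C.fix_two htD ht2 ht1 htz c).1 ⟨hc1, h⟩ with h | h
        · exact hc2 h
        · exact hc3 h
      apply Subtype.ext
      change g = 1
      obtain ⟨n, rfl⟩ := mem_zpowers_iff.1 hg
      rcases Int.even_or_odd' n with ⟨m, hm | hm⟩
      · have h5 : k₀ ^ n = z ^ m := by
          rw [hm, zpow_mul, zpow_two, hk₀2]
        rw [h5] at hgc' ⊢
        rcases Int.even_or_odd' m with ⟨j, hj | hj⟩
        · rw [hj, zpow_mul, zpow_two, C.zz, one_zpow]
        · exfalso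
          rw [hj, zpow_add, zpow_mul, zpow_two, C.zz, one_zpow, one_mul, zpow_one] at hgc'
          exact hzc hgc'
      · exfalso
        have h5 : k₀ ^ n * k₀ ^ n = z := by
          rw [← (Commute.refl k₀).mul_zpow, hk₀2, hm, zpow_add, zpow_mul, zpow_two, C.zz,
            one_zpow, one_mul, zpow_one]
        apply hzc
        rw [← h5, mul_smul, hgc', hgc']
    have h3 : Nat.card (zpowers k₀) = 4 := by
      rw [Nat.card_zpowers]
      have := orderOf_eq_prime_pow (x := k₀) (p := 2) (n := 1) (by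
        rw [pow_one, sq, hk₀2]; exact C.z1) (by
        change k₀ ^ 4 = 1
        calc k₀ ^ 4 = (k₀ * k₀) * (k₀ * k₀) := by simp only [pow_succ, pow_zero, one_mul, mul_assoc]
          _ = 1 := by rw [hk₀2, C.zz])
      exact this
    rw [h3] at h2
    omega
  -- no conjugate of `e` commutes with `k₀`
  have hfree : ∀ g : G, (g * e * g⁻¹) * k₀ ≠ k₀ * (g * e * g⁻¹) := by
    intro g hc
    set y := g * e * g⁻¹ with hy
    have hy2 : y * y = 1 := by
      rw [hy]
      calc g * e * g⁻¹ * (g * e * g⁻¹) = g * (e * e) * g⁻¹ := by group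
        _ = 1 := by rw [he2]; group
    have hyn : ¬ IsConj z y := fun h => hn (h.trans (isConj_iff.2 ⟨g⁻¹, by rw [hy]; group⟩))
    have hy1 : y ≠ 1 := fun h => he1 (by
      calc e = g⁻¹ * y * g := by rw [hy]; group
        _ = 1 := by rw [h]; group)
    have hyz : y * z = z * y := by
      rw [← hk₀2]
      calc y * (k₀ * k₀) = (y * k₀) * k₀ := by group
        _ = (k₀ * y) * k₀ := by rw [hc]
        _ = k₀ * (y * k₀) := by group
        _ = k₀ * (k₀ * y) := by rw [hc]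
        _ = (k₀ * k₀) * y := by group
    by_cases hf : ∀ c : Ω, z • c = c → y • c ≠ c
    · obtain ⟨l, hl, k, hk, hlk⟩ := C.exists_inner hyz hy2 hf
      have h1 : (l * l) * (k * k) = 1 := by
        rw [← hy2, hlk]
        calc (l * l) * (k * k) = l * (l * k) * k := by group
          _ = l * (k * l) * k := by rw [C.MKc l hl k hk]
          _ = _ := by group
      have h2 : l * l = (k * k)⁻¹ := eq_inv_of_mul_eq_one_left h1
      have hka : k • a = a := mem_K.1 hk a C.zD.1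
      have hla : l • a ≠ a := by
        intro h
        refine hf a C.zD.1 ?_
        rw [hlk, mul_smul, hka, h]
      have h3 : l * l = z := by
        rcases C.MK (l * l) (mul_mem hl hl) (by rw [h2]; exact inv_mem (mul_mem hk hk)) with h | h
        · exfalso
          apply hla
          rcases C.Mz hz l hl h with h | h
          · rw [h, one_smul]
          · rw [h]; exact C.zD.1
        · exact h
      have h4 : k * k = z := by
        rw [h3] at h1
        rw [eq_comm, ← C.z_inv]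
        exact (eq_inv_of_mul_eq_one_right h1).symm
      have h5 : k * k₀ = k₀ * k := by
        have h6 : l * (k * k₀) = l * (k₀ * k) := by
          calc l * (k * k₀) = (l * k) * k₀ := by group
            _ = k₀ * (l * k) := by rw [← hlk, hc]
            _ = (k₀ * l) * k := by group
            _ = (l * k₀) * k := by rw [C.MKc l hl k₀ hk₀]
            _ = _ := by group
        exact mul_left_cancel h6
      have hzla : z • l • a = l • a := by
        rw [← mul_smul, ← C.MC l hl, mul_smul, show z • a = a from C.zD.1]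
      obtain ⟨m, hm, hm1, hm2⟩ := C.Mtr a (l • a) hla.symm C.zD.1 hzla
      have h6 : Swaps (m * l * m⁻¹) a b := by
        constructor
        · rw [mul_smul, mul_smul, inv_smul_eq_iff.2 hm1.symm, hm2]
        · rw [mul_smul, mul_smul, inv_smul_eq_iff.2 hm2.symm, ← mul_smul l l, h3,
            show z • a = a from C.zD.1, hm1]
      have h7 := (hκ _ (mul_mem (mul_mem hm hl) (inv_mem hm)) h6 k hk).2 (hk' k hk h4 h5)
      apply hyn
      refine h7.trans (isConj_iff.2 ⟨m⁻¹, ?_⟩)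
      rw [hlk]
      calc m⁻¹ * (m * l * m⁻¹ * k) * m⁻¹⁻¹ = l * (m⁻¹ * k) * m := by group
        _ = l * (k * m⁻¹) * m := by rw [C.MKc _ (inv_mem hm) k hk]
        _ = l * k := by group
    · push Not at hf
      obtain ⟨c, hzc, hyc⟩ := hf
      obtain ⟨d, hd, hzd, hyd⟩ := C.exists_two hyz hy2 hzc hyc
      obtain ⟨m, hm, hm1, hm2⟩ := C.Mtr c d hd.symm hzc hzd
      refine ht (m * y * m⁻¹) (mem_Dab.2 ⟨?_, ?_⟩) ?_ ?_ ?_ ?_
      · rw [mul_smul, mul_smul, inv_smul_eq_iff.2 hm1.symm, hyc, hm1]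
      · rw [mul_smul, mul_smul, inv_smul_eq_iff.2 hm2.symm, hyd, hm2]
      · calc m * y * m⁻¹ * (m * y * m⁻¹) = m * (y * y) * m⁻¹ := by group
          _ = 1 := by rw [hy2]; group
      · intro h
        apply hy1
        calc y = m⁻¹ * (m * y * m⁻¹) * m := by group
          _ = 1 := by rw [h]; group
      · intro h
        apply hyn
        exact isConj_iff.2 ⟨m⁻¹, by rw [← h]; group⟩
      · have h1 := C.MKc m hm k₀ hk₀
        have h2 := C.MKc _ (inv_mem hm) k₀ hk₀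
        calc m * y * m⁻¹ * k₀ = m * y * (m⁻¹ * k₀) := by group
          _ = m * (y * k₀) * m⁻¹ := by rw [h2]; group
          _ = (m * k₀) * y * m⁻¹ := by rw [hc]; group
          _ = k₀ * (m * y * m⁻¹) := by rw [h1]; group
  -- `e` inverts `k₀`
  have hek : e * k₀ * e⁻¹ = k₀⁻¹ := by
    rcases hnorm e (C.zW e (Dab_le_Wab a b he)) with h | h
    · exfalso
      refine ht e he he2 he1 hez ?_
      calc e * k₀ = e * k₀ * e⁻¹ * e := by group
        _ = k₀ * e := by rw [h]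
    · exact h
  -- the class of `k₀`
  letI act : MulAction G {x : G // IsConj k₀ x} :=
    { smul := fun g x => ⟨g * x.1 * g⁻¹, x.2.trans (isConj_iff.2 ⟨g, rfl⟩)⟩
      one_smul := fun x => Subtype.ext (by change 1 * x.1 * 1⁻¹ = x.1; group)
      mul_smul := fun g h x => Subtype.ext (by
        change (g * h) * x.1 * (g * h)⁻¹ = g * (h * x.1 * h⁻¹) * g⁻¹; group) }
  have h1 := four_dvd_of_action (β := {x : G // IsConj k₀ x}) (C.h.hom_units C.gen C.odd) he2
  have h2 : Nat.card {x : {x : G // IsConj k₀ x} // e • x = x} = 0 := by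
    have : IsEmpty {x : {x : G // IsConj k₀ x} // e • x = x} := by
      refine ⟨fun x => ?_⟩
      obtain ⟨⟨x, hx⟩, hex⟩ := x
      obtain ⟨g, rfl⟩ := isConj_iff.1 hx
      have h3 : e * (g * k₀ * g⁻¹) * e⁻¹ = g * k₀ * g⁻¹ := congrArg Subtype.val hex
      refine hfree g⁻¹ ?_
      calc g⁻¹ * e * g⁻¹⁻¹ * k₀ = g⁻¹ * (e * (g * k₀ * g⁻¹) * e⁻¹) * e * g := by group
        _ = g⁻¹ * (g * k₀ * g⁻¹) * e * g := by rw [h3]
        _ = k₀ * (g⁻¹ * e * g⁻¹⁻¹) := by group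
    exact Nat.card_of_isEmpty
  have h3 : Nat.card {x : G // IsConj k₀ x} = 2 * Nat.card {s : G // IsConj z s} := by
    have e2 : {x : G // IsConj k₀ x} ≃ Σ s : {s : G // IsConj z s},
        {x : G // IsConj k₀ x ∧ x * x = s.1} :=
      ⟨fun x => ⟨⟨x.1 * x.1, by
        obtain ⟨g, hg⟩ := isConj_iff.1 x.2
        refine isConj_iff.2 ⟨g, ?_⟩
        rw [← hg, ← hk₀2]; group⟩, x.1, x.2, rfl⟩, fun y => ⟨y.2.1, y.2.2.1⟩, fun _ => rfl, by
        rintro ⟨⟨s, hs⟩, ⟨x, hx1, hx2⟩⟩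
        dsimp only at hx2
        subst hx2
        rfl⟩
    have : Fintype {s : G // IsConj z s} := Fintype.ofFinite _
    rw [Nat.card_congr e2, Nat.card_sigma]
    have h4 : ∀ s ∈ (Finset.univ : Finset {s : G // IsConj z s}),
        Nat.card {x : G // IsConj k₀ x ∧ x * x = s.1} = 2 := by
      rintro ⟨s, hs⟩ -
      obtain ⟨g, rfl⟩ := isConj_iff.1 hs
      change Nat.card {x : G // IsConj k₀ x ∧ x * x = g * z * g⁻¹} = 2
      refine card_two (c := g * k₀ * g⁻¹) (d := g * k₀⁻¹ * g⁻¹) (fun h => hk0ne ?_) ?_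
      · calc k₀ = g⁻¹ * (g * k₀ * g⁻¹) * g := by group
          _ = k₀⁻¹ := by rw [h]; group
      · intro x
        constructor
        · rintro ⟨hx1, hx2⟩
          obtain ⟨f, rfl⟩ := isConj_iff.1 hx1
          have h5 : (g⁻¹ * f) * z = z * (g⁻¹ * f) := by
            have h6 : f * z * f⁻¹ = g * z * g⁻¹ := by
              rw [← hx2, ← hk₀2]; group
            calc (g⁻¹ * f) * z = g⁻¹ * (f * z * f⁻¹) * f := by group
              _ = z * (g⁻¹ * f) := by rw [h6]; group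
          have h7 : f * k₀ * f⁻¹ = g * ((g⁻¹ * f) * k₀ * (g⁻¹ * f)⁻¹) * g⁻¹ := by group
          rcases hnorm _ h5 with h6 | h6
          · left
            rw [h7, h6]
          · right
            rw [h7, h6]
        · rintro (rfl | rfl)
          · exact ⟨isConj_iff.2 ⟨g, rfl⟩, by rw [← hk₀2]; group⟩
          · refine ⟨isConj_iff.2 ⟨g * e, by rw [← hek]; group⟩, ?_⟩
            have h5 : k₀⁻¹ * k₀⁻¹ = z := by
              calc k₀⁻¹ * k₀⁻¹ = (k₀ * k₀)⁻¹ := by group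
                _ = z := by rw [hk₀2, C.z_inv]
            calc g * k₀⁻¹ * g⁻¹ * (g * k₀⁻¹ * g⁻¹) = g * (k₀⁻¹ * k₀⁻¹) * g⁻¹ := by group
              _ = g * z * g⁻¹ := by rw [h5]
    rw [Finset.sum_congr rfl h4, Finset.sum_const, Finset.card_univ, smul_eq_mul,
      ← Nat.card_eq_fintype_card, mul_comm]
  rw [h2, h3] at h1
  have h4 := C.odd_class
  obtain ⟨j, hj⟩ := h4
  omega

/-- **(3b)** : `z` is the only involution of `Dab`. -/
theorem false (C : Cfg U a b z M q) {e : G} (he : e ∈ Dab G a b)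
    (he2 : e * e = 1) (he1 : e ≠ 1) (hez : e ≠ z) : False := by
  by_cases hz : z ∈ M
  · exact C.false_s hz he he2 he1 hez
  · exact C.false_p hz he he2 he1 hez

end Cfg

end Cfsg.Agent.HKS.CaseThree
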