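import Mathlib
import Cfsg.Agent.HKS.CaseThree
import Cfsg.Agent.HKS.CentralN
import Cfsg.Agent.HKS.Goals
import Cfsg.Agent.HKS.PP1
import Cfsg.Agent.Lib.SL2Mat

/-!
# Central involution, `q = 3 mod 4`, `N = q^3` (#6838 (3b)): the data

`CaseThree.T3` : the data of type `PSL(2,q)` (also `q = 3`) on the fixed points of `z`.
`CaseThree.Sit` : the situation of (3b) in terms of `T3`; `Sit.toCfg` gives `CaseThree.Cfg`.
-/

set_option autoImplicit false

namespace Cfsg.Agent.HKS.CaseThree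

open Subgroup MulAction CentralN

variable {G Ω : Type*} [Group G] [MulAction G Ω] {U : Ω → Subgroup G} {a b : Ω} {z : G} {q : ℕ}

/-- The data of type `PSL(2,q)` (also `q = 3`) at `z`. -/
structure T3 (U : Ω → Subgroup G) (a b : Ω) (z : G) (q : ℕ) : Prop where
  card : Nat.card (U a ⊓ centralizer (zpowers z : Set G) : Subgroup G) = q
  comm : ∀ u ∈ U a ⊓ centralizer (zpowers z : Set G), ∀ v ∈ U a ⊓ centralizer (zpowers z : Set G),
    u * v = v * u
  cardE : 2 * (kerFix Ω (zpowers z)).relIndex (Dab G a b ⊓ genFix U (zpowers z)) = q - 1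
  free : ∀ d ∈ Dab G a b ⊓ genFix U (zpowers z), ∀ u ∈ U a ⊓ centralizer (zpowers z : Set G),
    d * u = u * d → d ∈ kerFix Ω (zpowers z) ∨ u = 1
  inv : ∀ w, w ∈ genFix U (zpowers z) ∧ Swaps w a b → ∀ d ∈ Dab G a b ⊓ genFix U (zpowers z),
    w * d * w⁻¹ * d ∈ kerFix Ω (zpowers z)

theorem T3.of_DL (h : DL (genFix U (zpowers z)) (U a ⊓ centralizer (zpowers z : Set G))
    (Dab G a b ⊓ genFix U (zpowers z)) (kerFix Ω (zpowers z))
    (fun w => w ∈ genFix U (zpowers z) ∧ Swaps w a b) q) : T3 U a b z q where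
  card := h.card
  comm := h.comm
  cardE := h.cardE
  free := h.free
  inv := h.inv

theorem T3.of_DA (hS : SSplit U) (hab : b ≠ a) (hzD : z ∈ Dab G a b)
    (h : DA (U a ⊓ centralizer (zpowers z : Set G))
    (Dab G a b ⊓ genFix U (zpowers z)) (kerFix Ω (zpowers z))
    (fun w => w ∈ genFix U (zpowers z) ∧ Swaps w a b))
    (h3 : Nat.card (U a ⊓ centralizer (zpowers z : Set G) : Subgroup G) = 3) : T3 U a b z 3 where
  card := h3
  comm := by
    intro u hu v hv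
    obtain ⟨g, hg⟩ := h.cyc.exists_generator
    obtain ⟨i, hi⟩ := hg ⟨u, hu⟩
    obtain ⟨j, hj⟩ := hg ⟨v, hv⟩
    have h1 : (⟨u, hu⟩ : (U a ⊓ centralizer (zpowers z : Set G) : Subgroup G)) * ⟨v, hv⟩ =
        ⟨v, hv⟩ * ⟨u, hu⟩ := by
      rw [← hi, ← hj]
      exact ((Commute.refl g).zpow_zpow i j).eq
    exact congrArg Subtype.val h1
  cardE := by
    rw [relIndex_eq_one.2 h.triv]
  free := fun d hd _ _ _ => Or.inl (h.triv hd)
  inv := by
    intro w hw d hd
    have h1 := h.triv hd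
    have h2 : d * w = w * d := PP1.comm_genFix hS hab (by rw [zpowers_le]; exact hzD) h1 hw.1
    have h3 : w * d * w⁻¹ = d := by rw [← h2, mul_inv_cancel_right]
    rw [h3]
    exact mul_mem h1 h1

/-- The situation of (3b). -/
structure Sit (U : Ω → Subgroup G) (a b : Ω) (z : G) (q : ℕ) : Prop where
  C : Cen U a b z
  gen : (⨆ c, U c) = ⊤
  odd : Odd (Nat.card (U a))
  T : T3 U a b z q
  q4 : q % 4 = 3

namespace Sit

theorem X_le (S : Sit U a b z q) : zpowers z ≤ Dab G a b := S.C.X_le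

theorem K_comm (S : Sit U a b z q) {k m : G} (hk : k ∈ kerFix Ω (zpowers z))
    (hm : m ∈ genFix U (zpowers z)) : k * m = m * k :=
  PP1.comm_genFix S.C.h S.C.ab S.X_le hk hm

theorem P_le (S : Sit U a b z q) {u : G} (hu : u ∈ U a ⊓ centralizer (zpowers z : Set G)) :
    u ∈ genFix U (zpowers z) :=
  PP1.mem_genFix (mem_fix.2 S.C.zD.1) hu.1 hu.2

theorem K_P (S : Sit U a b z q) {k u : G} (hk : k ∈ kerFix Ω (zpowers z))
    (hu : u ∈ U a ⊓ centralizer (zpowers z : Set G)) : k * u = u * k := S.K_comm hk (S.P_le hu)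

theorem M_C (_S : Sit U a b z q) {m : G} (hm : m ∈ genFix U (zpowers z)) : z * m = m * z :=
  mem_cen.1 (PP1.genFix_le_centralizer _ hm)

theorem M_conj (S : Sit U a b z q) {g m : G} (hg : z * g = g * z)
    (hm : m ∈ genFix U (zpowers z)) : g * m * g⁻¹ ∈ genFix U (zpowers z) := by
  refine PP1.conj_genFix S.C.h ?_ hm
  intro x hx
  have h1 : x * g = g * x := mem_centralizer_iff.1 (mem_cen.2 hg) x hx
  rw [mul_assoc, h1, inv_mul_cancel_left]
  exact hx

theorem D_C (S : Sit U a b z q) {d : G} (hd : d ∈ Dab G a b) : z * d = d * z :=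
  S.C.cW d (Dab_le_Wab a b hd)

theorem K_D (S : Sit U a b z q) {k : G} (hk : k ∈ kerFix Ω (zpowers z)) : k ∈ Dab G a b :=
  ⟨mem_K.1 hk a S.C.zD.1, mem_K.1 hk b S.C.zD.2⟩

theorem P_conj (S : Sit U a b z q) {d u : G} (hd : d ∈ Dab G a b)
    (hu : u ∈ U a ⊓ centralizer (zpowers z : Set G)) :
    d * u * d⁻¹ ∈ U a ⊓ centralizer (zpowers z : Set G) := by
  have h1 := mem_cen.2 (S.D_C hd)
  exact ⟨S.C.h.conj_of_fix hd.1 hu.1, (centralizer (zpowers z : Set G)).mul_mem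
    ((centralizer (zpowers z : Set G)).mul_mem h1 hu.2)
    ((centralizer (zpowers z : Set G)).inv_mem h1)⟩

theorem P_odd [Finite Ω] (S : Sit U a b z q) {u : G} (hu : u ∈ U a) (h2 : u * u = 1) : u = 1 := by
  have h6 : (⟨u, hu⟩ : U a) ^ 2 = 1 := by
    rw [pow_two]
    exact Subtype.ext h2
  have h7 : (⟨u, hu⟩ : U a) ^ Nat.card (U a) = 1 := pow_card_eq_one'
  have h8 : (⟨u, hu⟩ : U a) = 1 := by
    obtain ⟨s, hs⟩ := S.odd
    rwa [hs, pow_succ, pow_mul, h6, one_pow, one_mul] at h7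
  exact congrArg Subtype.val h8

theorem relIndex_odd (S : Sit U a b z q) :
    Odd ((kerFix Ω (zpowers z)).relIndex (Dab G a b ⊓ genFix U (zpowers z))) := by
  have h1 := S.T.cardE
  have h2 := S.q4
  rw [Nat.odd_iff]
  omega

/-- elements of `E = D ∩ M` with square in `K` are in `K`. -/
theorem E_sq (S : Sit U a b z q) {d : G} (hd : d ∈ Dab G a b ⊓ genFix U (zpowers z))
    (h2 : d * d ∈ kerFix Ω (zpowers z)) : d ∈ kerFix Ω (zpowers z) := by
  have hn : ((kerFix Ω (zpowers z)).subgroupOf (Dab G a b ⊓ genFix U (zpowers z))).Normal := by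
    constructor
    rintro ⟨n, hn⟩ hnK ⟨g, hg⟩
    rw [mem_subgroupOf] at hnK ⊢
    change g * n * g⁻¹ ∈ _
    change n ∈ kerFix Ω (zpowers z) at hnK
    have h1 := S.K_comm hnK hg.2
    rw [← h1, mul_inv_cancel_right]
    exact hnK
  have h3 := pow_index_mem ((kerFix Ω (zpowers z)).subgroupOf
    (Dab G a b ⊓ genFix U (zpowers z))) ⟨d, hd⟩
  rw [mem_subgroupOf] at h3
  change d ^ _ ∈ kerFix Ω (zpowers z) at h3
  obtain ⟨r, hr⟩ := S.relIndex_odd
  change Subgroup.index _ = _ at hr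
  rw [hr, pow_succ, pow_mul, pow_two] at h3
  exact (mul_mem_cancel_left (pow_mem h2 r)).1 h3

/-- no element of `E` inverts an element of `P#`. -/
theorem E_inv [Finite Ω] (S : Sit U a b z q) {d u : G}
    (hd : d ∈ Dab G a b ⊓ genFix U (zpowers z))
    (hu : u ∈ U a ⊓ centralizer (zpowers z : Set G)) (h : d * u * d⁻¹ = u⁻¹) : u = 1 := by
  have h1 : d * u = u⁻¹ * d := by rw [← h]; group
  have h2 : d * d * u = u * (d * d) := by
    have h3 : d * u⁻¹ = u * d := by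
      have h4 : (d * u * d⁻¹)⁻¹ = u := by rw [h, inv_inv]
      calc d * u⁻¹ = (d * u * d⁻¹)⁻¹ * d := by group
        _ = u * d := by rw [h4]
    calc d * d * u = d * (d * u) := by group
      _ = d * u⁻¹ * d := by rw [h1]; group
      _ = u * (d * d) := by rw [h3]; group
  rcases S.T.free (d * d) (mul_mem hd hd) u hu h2 with h3 | h3
  · have h4 := S.E_sq hd h3
    have h5 := S.K_P h4 hu
    apply S.P_odd hu.1
    have h6 : u = u⁻¹ := by
      rw [← h, h5, mul_inv_cancel_right]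
    nth_rewrite 1 [h6]
    rw [inv_mul_cancel]
  · exact h3

/-- the two orbits of `E` on `P#`. -/
theorem exists_conj [Finite Ω] [Finite G] (S : Sit U a b z q) {u v : G}
    (hu : u ∈ U a ⊓ centralizer (zpowers z : Set G)) (hu1 : u ≠ 1)
    (hv : v ∈ U a ⊓ centralizer (zpowers z : Set G)) (hv1 : v ≠ 1) :
    ∃ h ∈ Dab G a b ⊓ genFix U (zpowers z), h * u * h⁻¹ = v ∨ h * u⁻¹ * h⁻¹ = v := by
  classical
  set E := Dab G a b ⊓ genFix U (zpowers z) with hE
  set P := U a ⊓ centralizer (zpowers z : Set G) with hP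
  set KE := (kerFix Ω (zpowers z)).subgroupOf E with hKE
  let pw : Bool → G := fun ε => if ε then u else u⁻¹
  have hpw : ∀ ε, pw ε ∈ P := by
    intro ε
    cases ε
    · exact inv_mem hu
    · exact hu
  have hpw1 : ∀ ε, pw ε ≠ 1 := by
    intro ε
    cases ε
    · exact inv_ne_one.2 hu1
    · exact hu1
  have hPE : ∀ (h : E) {x : G}, x ∈ P → (h : G) * x * (h : G)⁻¹ ∈ P := fun h x hx =>
    S.P_conj h.2.1 hx
  let f : (E ⧸ KE) × Bool → {x : P // x ≠ 1} := fun c =>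
    ⟨⟨((c.1.out : E) : G) * pw c.2 * ((c.1.out : E) : G)⁻¹, hPE _ (hpw _)⟩, fun hc => hpw1 c.2 (by
      have h1 : ((c.1.out : E) : G) * pw c.2 * ((c.1.out : E) : G)⁻¹ = 1 := congrArg Subtype.val hc
      exact conj_eq_one_iff.1 h1)⟩
  have hinj : Function.Injective f := by
    rintro ⟨c, ε⟩ ⟨c', ε'⟩ hcc
    have h1 : ((c.out : E) : G) * pw ε * ((c.out : E) : G)⁻¹ =
        ((c'.out : E) : G) * pw ε' * ((c'.out : E) : G)⁻¹ :=
      congrArg Subtype.val (congrArg Subtype.val hcc)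
    have h2 : ((c'.out⁻¹ * c.out : E) : G) * pw ε * ((c'.out⁻¹ * c.out : E) : G)⁻¹ = pw ε' := by
      push_cast
      calc (((c'.out : E) : G)⁻¹ * ((c.out : E) : G)) * pw ε *
            (((c'.out : E) : G)⁻¹ * ((c.out : E) : G))⁻¹
          = ((c'.out : E) : G)⁻¹ * (((c.out : E) : G) * pw ε * ((c.out : E) : G)⁻¹) *
            ((c'.out : E) : G) := by group
        _ = pw ε' := by rw [h1]; group
    by_cases hε : ε = ε'
    · subst hε
      have h3 : ((c'.out⁻¹ * c.out : E) : G) * pw ε = pw ε * ((c'.out⁻¹ * c.out : E) : G) := by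
        nth_rewrite 2 [← h2]
        group
      rcases S.T.free _ (c'.out⁻¹ * c.out : E).2 _ (hpw ε) h3 with h4 | h4
      · have h5 : (c'.out⁻¹ * c.out : E) ∈ KE := h4
        have h6 : (QuotientGroup.mk c'.out : E ⧸ KE) = QuotientGroup.mk c.out :=
          QuotientGroup.eq.2 h5
        rw [QuotientGroup.out_eq', QuotientGroup.out_eq'] at h6
        rw [h6]
      · exact absurd h4 (hpw1 ε)
    · exfalso
      have h3 : pw ε' = (pw ε)⁻¹ := by
        cases ε <;> cases ε' <;> simp [pw] at hε ⊢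
      rw [h3] at h2
      exact hpw1 ε (S.E_inv (c'.out⁻¹ * c.out : E).2 (hpw ε) h2)
  have hcard : Nat.card ((E ⧸ KE) × Bool) = Nat.card {x : P // x ≠ 1} := by
    have h1 : Nat.card {x : P // x ≠ 1} + 1 = Nat.card P := by
      have := Fintype.ofFinite P
      rw [Nat.card_eq_fintype_card, Nat.card_eq_fintype_card, Fintype.card_subtype_compl]
      have h2 : Fintype.card {x : P // x = 1} = 1 := Fintype.card_subtype_eq 1
      rw [h2]
      have : 0 < Fintype.card P := Fintype.card_pos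
      omega
    have h2 : Nat.card (E ⧸ KE) = (kerFix Ω (zpowers z)).relIndex E := rfl
    have h3 := S.T.cardE
    have h4 := S.T.card
    have h5 := S.q4
    rw [Nat.card_prod, h2, Nat.card_eq_fintype_card (α := Bool), Fintype.card_bool]
    rw [← hE] at h3
    rw [← hP] at h4
    omega
  have hbij : Function.Bijective f := (Nat.bijective_iff_injective_and_card _).2 ⟨hinj, hcard⟩
  obtain ⟨⟨c, ε⟩, hc⟩ := hbij.2 ⟨⟨v, hv⟩, fun hc => hv1 (congrArg Subtype.val hc)⟩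
  have h1 : ((c.out : E) : G) * pw ε * ((c.out : E) : G)⁻¹ = v :=
    congrArg Subtype.val (congrArg Subtype.val hc)
  refine ⟨(c.out : E), (c.out : E).2, ?_⟩
  cases ε
  · exact Or.inr h1
  · exact Or.inl h1

/-- `d ∈ D` centralising `P` is in `K`. -/
theorem mem_K_of_comm (S : Sit U a b z q) {d : G} (hd : d ∈ Dab G a b)
    (h : ∀ u ∈ U a ⊓ centralizer (zpowers z : Set G), d * u * d⁻¹ = u) :
    d ∈ kerFix Ω (zpowers z) := by
  rw [mem_K]
  intro c hc
  by_cases hca : c = a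
  · rw [hca]; exact hd.1
  obtain ⟨u, hu, hub⟩ := S.C.h.trans S.C.ab hca
  have h1 : u ∈ centralizer (zpowers z : Set G) :=
    S.C.h.comm_of_fixSub (fun x hx => (S.X_le hx).1) (fun x hx => (S.X_le hx).2) S.C.ab hu (by
      rw [hub]; exact mem_fix.2 hc)
  have h2 := h u ⟨hu, h1⟩
  rw [← hub, ← mul_smul, show d * u = u * d by nth_rewrite 2 [← h2]; group, mul_smul,
    show d • b = b from hd.2]

/-- **elements of `D` with square in `K`** are in `K` or invert `P`. -/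
theorem D_sq [Finite Ω] [Finite G] (S : Sit U a b z q) {d : G} (hd : d ∈ Dab G a b)
    (h2 : d * d ∈ kerFix Ω (zpowers z)) :
    d ∈ kerFix Ω (zpowers z) ∨
      ∀ u ∈ U a ⊓ centralizer (zpowers z : Set G), d * u * d⁻¹ = u⁻¹ := by
  have hsq : ∀ w ∈ U a ⊓ centralizer (zpowers z : Set G), d * (d * w * d⁻¹) * d⁻¹ = w := by
    intro w hw
    have h3 := S.K_P h2 hw
    calc d * (d * w * d⁻¹) * d⁻¹ = d * d * w * (d * d)⁻¹ := by group
      _ = w := by rw [h3]; group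
  by_cases hfix : ∃ u ∈ U a ⊓ centralizer (zpowers z : Set G), u ≠ 1 ∧ d * u * d⁻¹ = u
  · left
    obtain ⟨u, hu, hu1, hdu⟩ := hfix
    have key : ∀ v ∈ U a ⊓ centralizer (zpowers z : Set G), d * v * d⁻¹ = v⁻¹ → v = 1 := by
      intro v hv hdv
      by_contra hv1
      obtain ⟨h, hh, hc⟩ := S.exists_conj hu hu1 hv hv1
      -- a version for `u'` with `d u' d⁻¹ = u'`
      have main : ∀ u' ∈ U a ⊓ centralizer (zpowers z : Set G), u' ≠ 1 → d * u' * d⁻¹ = u' →
          h * u' * h⁻¹ = v → False := by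
        intro u' hu' hu'1 hdu' hc'
        have h3 : h⁻¹ * (d * h * d⁻¹) ∈ Dab G a b ⊓ genFix U (zpowers z) :=
          mul_mem (inv_mem hh) (mem_inf.2 ⟨(Dab G a b).mul_mem ((Dab G a b).mul_mem hd hh.1)
            ((Dab G a b).inv_mem hd), S.M_conj (S.D_C hd) hh.2⟩)
        apply hu'1
        refine S.E_inv h3 hu' ?_
        calc h⁻¹ * (d * h * d⁻¹) * u' * (h⁻¹ * (d * h * d⁻¹))⁻¹
            = h⁻¹ * (d * (h * (d⁻¹ * u' * d) * h⁻¹) * d⁻¹) * h := by group
          _ = h⁻¹ * (d * (h * u' * h⁻¹) * d⁻¹) * h := by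
              have : d⁻¹ * u' * d = u' := by nth_rewrite 1 [← hdu']; group
              rw [this]
          _ = h⁻¹ * v⁻¹ * h := by rw [hc', hdv]
          _ = (h⁻¹ * v * h)⁻¹ := by group
          _ = u'⁻¹ := by rw [← hc']; group
      rcases hc with hc | hc
      · exact main u hu hu1 hdu hc
      · refine main u⁻¹ (inv_mem hu) (inv_ne_one.2 hu1) ?_ hc
        calc d * u⁻¹ * d⁻¹ = (d * u * d⁻¹)⁻¹ := by group
          _ = u⁻¹ := by rw [hdu]
    apply S.mem_K_of_comm hd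
    intro w hw
    have h3 : w⁻¹ * (d * w * d⁻¹) = 1 := by
      apply key _ (mul_mem (inv_mem hw) (S.P_conj hd hw))
      calc d * (w⁻¹ * (d * w * d⁻¹)) * d⁻¹ = (d * w⁻¹ * d⁻¹) * (d * (d * w * d⁻¹) * d⁻¹) := by group
        _ = (w⁻¹ * (d * w * d⁻¹))⁻¹ := by rw [hsq w hw]; group
    exact (inv_mul_eq_one.1 h3).symm
  · right
    push Not at hfix
    intro w hw
    have h3 : w * (d * w * d⁻¹) = 1 := by
      by_contra hne
      refine hfix _ (mul_mem hw (S.P_conj hd hw)) hne ?_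
      calc d * (w * (d * w * d⁻¹)) * d⁻¹ = (d * w * d⁻¹) * (d * (d * w * d⁻¹) * d⁻¹) := by group
        _ = (d * w * d⁻¹) * w := by rw [hsq w hw]
        _ = w * (d * w * d⁻¹) := S.T.comm _ (S.P_conj hd hw) _ hw
    exact (eq_inv_of_mul_eq_one_right h3)

/-- a 2-element of `D` (mod `K`) of sign `1` is in `K`. -/
theorem two_elt [Finite Ω] [Finite G] (S : Sit U a b z q) (s : ℕ) : ∀ {d : G} (hd : d ∈ Dab G a b),
    SignFix.sgn (Ω := Ω) (zpowers z) ⟨d, mem_cen.2 (S.D_C hd)⟩ = 1 →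
    d ^ 2 ^ s ∈ kerFix Ω (zpowers z) → d ∈ kerFix Ω (zpowers z) := by
  induction s with
  | zero =>
    intro d _ _ h
    rwa [pow_zero, pow_one] at h
  | succ s ih =>
    intro d hd hsg h
    have hd' : d ^ 2 ^ s ∈ Dab G a b := pow_mem hd _
    have h1 : d ^ 2 ^ s * d ^ 2 ^ s ∈ kerFix Ω (zpowers z) := by
      rw [← pow_two, ← pow_mul, ← pow_succ]
      exact h
    rcases S.D_sq hd' h1 with h2 | h2
    · exact ih hd hsg h2
    · exfalso
      have hq : Nat.card (U a ⊓ centralizer (zpowers z : Set G) : Subgroup G) =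
          2 * (2 * (q / 4) + 1) + 1 := by
        rw [S.T.card]
        have := S.q4
        omega
      have h3 := S.C.sgn_inv S.odd hd' (fun u hu huz => h2 u ⟨hu, mem_cen.2 huz⟩) hq
      have h4 : (⟨d ^ 2 ^ s, mem_cen.2 (S.C.cW _ (Dab_le_Wab a b hd'))⟩ :
          centralizer (zpowers z : Set G)) = ⟨d, mem_cen.2 (S.D_C hd)⟩ ^ 2 ^ s := rfl
      rw [h4, map_pow, hsg, one_pow, pow_succ, pow_mul] at h3
      simp at h3

/-- elements of `D` of sign `1` have odd order mod `K`. -/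
theorem odd_elt [Finite Ω] [Finite G] (S : Sit U a b z q) {d : G} (hd : d ∈ Dab G a b)
    (hsg : SignFix.sgn (Ω := Ω) (zpowers z) ⟨d, mem_cen.2 (S.D_C hd)⟩ = 1) :
    ∃ j, d ^ (2 * j + 1) ∈ kerFix Ω (zpowers z) := by
  obtain ⟨s, m, hm, hsm⟩ := Nat.exists_eq_two_pow_mul_odd (orderOf_pos d).ne'
  obtain ⟨j, hj⟩ := hm
  refine ⟨j, ?_⟩
  rw [← hj]
  have hd' : d ^ m ∈ Dab G a b := pow_mem hd _
  refine S.two_elt s hd' ?_ ?_
  · have h4 : (⟨d ^ m, mem_cen.2 (S.D_C hd')⟩ :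
          centralizer (zpowers z : Set G)) = ⟨d, mem_cen.2 (S.D_C hd)⟩ ^ m := rfl
    rw [h4, map_pow, hsg, one_pow]
  · rw [← pow_mul, mul_comm, ← hsm, pow_orderOf_eq_one]
    exact one_mem _

theorem dihedral {Q : Type*} [Group Q] {y l : Q} (hy : y * y = 1) (hl : l * l = 1) {j : ℕ}
    (hj : (y * l) ^ (2 * j + 1) = 1) : y = (y * l) ^ (j + 1) * l * ((y * l) ^ (j + 1))⁻¹ := by
  have h1 : (y * l)⁻¹ = l * y := by
    rw [mul_inv_rev, inv_eq_of_mul_eq_one_left hl, inv_eq_of_mul_eq_one_left hy]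
  have h2 : ∀ i : ℕ, l * ((y * l) ^ i)⁻¹ = (y * l) ^ i * l := by
    intro i
    rw [← inv_pow, h1]
    induction i with
    | zero => simp
    | succ i ih =>
      rw [pow_succ, ← mul_assoc, ih, pow_succ]
      simp only [mul_assoc]
      rw [← mul_assoc l l y, hl, one_mul, mul_one]
  rw [mul_assoc, h2, ← mul_assoc, ← pow_add, show j + 1 + (j + 1) = 2 * j + 1 + 1 by ring, pow_succ,
    hj, one_mul, mul_assoc, hl, mul_one]

theorem M_trans [Finite Ω] (S : Sit U a b z q) {c d : Ω} (hcd : c ≠ d) (hc : z • c = c) (hd : z • d = d)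
    (h4 : 2 < Nat.card {c : Ω // z • c = c}) :
    ∃ m ∈ genFix U (zpowers z), m • c = a ∧ m • d = b := by
  -- elements of `U f ∩ C(z)`
  have key : ∀ {f c d : Ω}, z • f = f → z • c = c → z • d = d → c ≠ f → d ≠ f →
      ∃ m ∈ genFix U (zpowers z), m • c = d ∧ m • f = f := by
    intro f c d hf hc hd hcf hdf
    obtain ⟨u, hu, hub⟩ := S.C.h.trans hcf hdf
    have h1 : u ∈ centralizer (zpowers z : Set G) :=
      S.C.h.comm_of_fixSub (mem_fix.2 hf) (mem_fix.2 hc) hcf hu (by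
        rw [hub]; exact mem_fix.2 hd)
    exact ⟨u, PP1.mem_genFix (mem_fix.2 hf) hu h1, hub, S.C.h.fix hu⟩
  have h1 : ∃ m ∈ genFix U (zpowers z), m • c = a := by
    by_cases hca : c = a
    · exact ⟨1, one_mem _, by rw [one_smul, hca]⟩
    obtain ⟨f, hf⟩ := SSplit.three_of_card h4 ⟨a, S.C.zD.1⟩ ⟨c, hc⟩
    obtain ⟨m, hm, hmc, -⟩ := key f.2 hc S.C.zD.1 (fun e => hf.2 (Subtype.ext e.symm))
      (fun e => hf.1 (Subtype.ext e.symm))
    exact ⟨m, hm, hmc⟩
  obtain ⟨m, hm, hmc⟩ := h1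
  have hmz := S.M_C hm
  have hzd : z • m • d = m • d := by rw [← mul_smul, hmz, mul_smul, hd]
  have hne : m • d ≠ a := by
    intro e
    rw [← hmc] at e
    exact hcd (smul_left_cancel m e).symm
  obtain ⟨m', hm', hmd, hma⟩ := key (f := a) (c := m • d) (d := b) S.C.zD.1 hzd S.C.zD.2 hne S.C.ab
  exact ⟨m' * m, mul_mem hm' hm, by rw [mul_smul, hmc, hma], by rw [mul_smul, hmd]⟩

theorem card_fix [Finite Ω] (S : Sit U a b z q) : Nat.card {c : Ω // z • c = c} = q + 1 := by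
  rw [← S.T.card, ← S.C.card_fixedBy]
  rfl

theorem two_lt [Finite Ω] (S : Sit U a b z q) : 2 < Nat.card {c : Ω // z • c = c} := by
  rw [S.card_fix]
  have := S.q4
  omega

theorem M_trans' [Finite Ω] (S : Sit U a b z q) {c d : Ω} (hcd : c ≠ d) (hc : z • c = c)
    (hd : z • d = d) : ∃ m ∈ genFix U (zpowers z), m • c = a ∧ m • d = b :=
  S.M_trans hcd hc hd S.two_lt

theorem exists_l [Finite Ω] (S : Sit U a b z q) : ∃ l ∈ genFix U (zpowers z), Swaps l a b := by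
  obtain ⟨m, hm, h1, h2⟩ := S.M_trans' (c := b) (d := a) S.C.ab S.C.zD.2 S.C.zD.1
  exact ⟨m, hm, h2, h1⟩

/-- elements of `M` interchanging `a` and `b` have square in `K`. -/
theorem M_sq (S : Sit U a b z q) {l : G} (hl : l ∈ genFix U (zpowers z)) (hs : Swaps l a b) :
    l * l ∈ kerFix Ω (zpowers z) := by
  have h1 : l * l ∈ Dab G a b ⊓ genFix U (zpowers z) := ⟨hs.mul hs, mul_mem hl hl⟩
  apply S.E_sq h1
  have h2 := S.T.inv l ⟨hl, hs⟩ _ h1
  have h3 : l * l * (l * l) = l * (l * l) * l⁻¹ * (l * l) := by group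
  rw [h3]
  exact h2

theorem fixes_of_mem (_S : Sit U a b z q) {x y : G} (hx : z * x = x * z)
    (hy : z * y = y * z)
    (h : toPermHom (centralizer (zpowers z : Set G)) (fixSub Ω (zpowers z)) ⟨x, mem_cen.2 hx⟩ =
      toPermHom (centralizer (zpowers z : Set G)) (fixSub Ω (zpowers z)) ⟨y, mem_cen.2 hy⟩) :
    x * y⁻¹ ∈ kerFix Ω (zpowers z) := by
  rw [mem_K]
  intro c hc
  have hyz : z * y⁻¹ = y⁻¹ * z := (Commute.inv_right (show Commute z y from hy)).eq
  have h1 : z • y⁻¹ • c = y⁻¹ • c := by rw [← mul_smul, hyz, mul_smul, hc]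
  have h2 := DFunLike.congr_fun h ⟨y⁻¹ • c, mem_fix.2 h1⟩
  have h3 : x • y⁻¹ • c = y • y⁻¹ • c := congrArg Subtype.val h2
  rw [mul_smul, h3, smul_inv_smul]

/-- **f.p.f. involutions of `Fix z` interchanging `a` and `b` are in `M K`.** -/
theorem inner_ab [Finite Ω] [Finite G] (S : Sit U a b z q) {y : G} (hyz : z * y = y * z)
    (hy2 : y * y = 1) (hs : Swaps y a b) (hf : ∀ c : Ω, z • c = c → y • c ≠ c) :
    ∃ l ∈ genFix U (zpowers z), y * l⁻¹ ∈ kerFix Ω (zpowers z) := by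
  obtain ⟨l, hl, hls⟩ := S.exists_l
  have hl2 := S.M_sq hl hls
  have hlz := S.M_C hl
  -- signs
  have hsy : SignFix.sgn (Ω := Ω) (zpowers z) ⟨y, mem_cen.2 hyz⟩ = 1 := by
    have h1 : SignFix.sgn (Ω := Ω) (zpowers z) ⟨y, mem_cen.2 hyz⟩ = (-1) ^ (2 * ((q + 1) / 4)) := by
      apply SignFix.sgn_sq
      · intro c _
        change y • y • c = c
        rw [← mul_smul, hy2, one_smul]
      · have h1 : Nat.card {c : Ω // (∀ x ∈ zpowers z, x • c = c) ∧ y • c = c} = 0 := by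
          rw [Nat.card_eq_zero]
          left
          exact ⟨fun c => hf c (mem_fix.1 c.2.1) c.2.2⟩
        have h2 := S.q4
        have h3 := S.T.card
        rw [S.C.card_fixSub, h3]
        change Nat.card {c : Ω // (∀ x ∈ zpowers z, x • c = c) ∧ y • c = c} + _ = _
        rw [h1]
        omega
    rw [h1, pow_mul]
    simp
  have hsl : SignFix.sgn (Ω := Ω) (zpowers z) ⟨l, mem_cen.2 hlz⟩ = 1 :=
    SignFix.sgn_genFix (S.C.odd_all S.odd) hl
  have hxD : y * l ∈ Dab G a b := hs.mul hls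
  have hsx : SignFix.sgn (Ω := Ω) (zpowers z) ⟨y * l, mem_cen.2 (S.D_C hxD)⟩ = 1 := by
    have h1 : (⟨y * l, mem_cen.2 (S.D_C hxD)⟩ : centralizer (zpowers z : Set G)) =
        ⟨y, mem_cen.2 hyz⟩ * ⟨l, mem_cen.2 hlz⟩ := rfl
    rw [h1, map_mul, hsy, hsl, one_mul]
  obtain ⟨j, hj⟩ := S.odd_elt hxD hsx
  -- the permutations
  let C := centralizer (zpowers z : Set G)
  let φ := toPermHom C (fixSub Ω (zpowers z))
  have hφ : ∀ (x : G) (hx : z * x = x * z), x ∈ kerFix Ω (zpowers z) → φ ⟨x, mem_cen.2 hx⟩ = 1 := by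
    intro x hx hk
    ext c
    exact hk c c.2
  have e1 : φ ⟨y, mem_cen.2 hyz⟩ * φ ⟨y, mem_cen.2 hyz⟩ = 1 := by
    rw [← map_mul]
    have : (⟨y, mem_cen.2 hyz⟩ : C) * ⟨y, mem_cen.2 hyz⟩ = 1 := Subtype.ext hy2
    rw [this, map_one]
  have e2 : φ ⟨l, mem_cen.2 hlz⟩ * φ ⟨l, mem_cen.2 hlz⟩ = 1 := by
    rw [← map_mul]
    exact hφ (l * l) (by rw [← mul_assoc, hlz, mul_assoc, hlz, mul_assoc]) hl2
  have e3 : (φ ⟨y, mem_cen.2 hyz⟩ * φ ⟨l, mem_cen.2 hlz⟩) ^ (2 * j + 1) = 1 := by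
    rw [← map_mul, ← map_pow]
    exact hφ ((y * l) ^ (2 * j + 1)) (S.D_C (pow_mem hxD _)) hj
  have e4 := dihedral e1 e2 e3
  have hgz : z * (y * l) ^ (j + 1) = (y * l) ^ (j + 1) * z := S.D_C (pow_mem hxD _)
  refine ⟨(y * l) ^ (j + 1) * l * ((y * l) ^ (j + 1))⁻¹, S.M_conj hgz hl, ?_⟩
  have hwz := S.M_C (S.M_conj hgz hl)
  refine S.fixes_of_mem hyz hwz ?_
  change φ ⟨y, mem_cen.2 hyz⟩ = φ ⟨_, _⟩
  conv_lhs => rw [e4]
  rw [← map_mul, ← map_pow, ← map_mul, ← map_inv, ← map_mul]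
  rfl

/-- **f.p.f. involutions of `Fix z` are in `M K`.** -/
theorem inner [Finite Ω] [Finite G] (S : Sit U a b z q) {y : G} (hyz : y * z = z * y)
    (hy2 : y * y = 1) (hf : ∀ c : Ω, z • c = c → y • c ≠ c) :
    ∃ l ∈ genFix U (zpowers z), y * l⁻¹ ∈ kerFix Ω (zpowers z) := by
  have hya : z • y • a = y • a := by
    rw [← mul_smul, ← hyz, mul_smul, S.C.zD.1]
  obtain ⟨m, hm, h1, h2⟩ := S.M_trans' (hf a S.C.zD.1).symm S.C.zD.1 hya
  have hmz := S.M_C hm
  have hmz' : z * m⁻¹ = m⁻¹ * z := (Commute.inv_right (show Commute z m from hmz)).eq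
  have hm1 : m⁻¹ • a = a := by rw [inv_smul_eq_iff, h1]
  have hm2 : m⁻¹ • b = y • a := by rw [inv_smul_eq_iff, h2]
  have hyy : y • y • a = a := by rw [← mul_smul, hy2, one_smul]
  have hs : Swaps (m * y * m⁻¹) a b := by
    constructor
    · rw [mul_smul, mul_smul, hm1, h2]
    · rw [mul_smul, mul_smul, hm2, hyy, h1]
  have hz' : z * (m * y * m⁻¹) = m * y * m⁻¹ * z := by
    calc z * (m * y * m⁻¹) = (z * m) * y * m⁻¹ := by group
      _ = m * (z * y) * m⁻¹ := by rw [hmz]; group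
      _ = m * y * (z * m⁻¹) := by rw [← hyz]; group
      _ = m * y * m⁻¹ * z := by rw [hmz']; group
  obtain ⟨l, hl, hk⟩ := S.inner_ab hz' (by
    calc m * y * m⁻¹ * (m * y * m⁻¹) = m * (y * y) * m⁻¹ := by group
      _ = 1 := by rw [hy2]; group) hs (by
    intro c hc he
    refine hf (m⁻¹ • c) ?_ ?_
    · rw [← mul_smul, hmz', mul_smul, hc]
    · rw [mul_smul, mul_smul, smul_eq_iff_eq_inv_smul] at he
      exact he)
  refine ⟨m⁻¹ * l * m, mul_mem (mul_mem (inv_mem hm) hl) hm, ?_⟩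
  have h3 : m * y * m⁻¹ * l⁻¹ * m = m * (m * y * m⁻¹ * l⁻¹) := S.K_comm hk hm
  have h4 : y * (m⁻¹ * l * m)⁻¹ = m⁻¹ * (m * y * m⁻¹ * l⁻¹ * m) := by group
  rw [h4, h3, inv_mul_cancel_left]
  exact hk

/-- The abstract data of `CaseThree.lean`. -/
theorem toCfg [Finite Ω] [Finite G] (S : Sit U a b z q) (hz1 : z ≠ 1)
    (Kz : ∀ k ∈ kerFix Ω (zpowers z), k * k = 1 → k = 1 ∨ k = z)
    (MK : ∀ m ∈ genFix U (zpowers z), m ∈ kerFix Ω (zpowers z) → m = 1 ∨ m = z)
    (Mz : z ∈ genFix U (zpowers z) → ∀ m ∈ genFix U (zpowers z), m * m = 1 → m = 1 ∨ m = z)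
    (cardU : Nat.card (U a) = q ^ 3)
    (four : ∀ t ∈ Dab G a b, t * t = 1 → t ≠ 1 → t ≠ z → ∀ u ∈ U a, u * t = t * u →
      u * z = z * u → u = 1) : Cfg U a b z (genFix U (zpowers z)) q where
  h := S.C.h
  gen := S.gen
  odd := S.C.odd_all S.odd
  ab := S.C.ab
  zD := S.C.zD
  z1 := hz1
  zz := S.C.sq
  zW := fun w hw => (S.C.cW w hw).symm
  uz := fun g hg => S.C.eq_of_mem_D (isConj_iff.2 ⟨g, rfl⟩) hg
  Kz := Kz
  MC := fun m hm => (S.M_C hm).symm
  Mn := fun g hg m hm => S.M_conj hg.symm hm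
  MKc := fun m hm k hk => (S.K_comm hk hm).symm
  Mtr := fun c d hcd hc hd => S.M_trans' hcd hc hd
  MK := MK
  Mz := Mz
  Msw := fun m hm hs => S.M_sq hm hs
  Mcj := by
    intro l hl m hm hls hms
    -- `x` with `x ^ 2 = m l⁻¹` modulo `K`
    have hd : m * l⁻¹ ∈ Dab G a b ⊓ genFix U (zpowers z) :=
      ⟨hms.mul hls.inv, (genFix U (zpowers z)).mul_mem hm ((genFix U (zpowers z)).inv_mem hl)⟩
    have hn : ((kerFix Ω (zpowers z)).subgroupOf (Dab G a b ⊓ genFix U (zpowers z))).Normal := by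
      constructor
      rintro ⟨n, hn⟩ hnK ⟨g, hg⟩
      rw [mem_subgroupOf] at hnK ⊢
      change g * n * g⁻¹ ∈ _
      change n ∈ kerFix Ω (zpowers z) at hnK
      have h1 := S.K_comm hnK hg.2
      rw [← h1, mul_inv_cancel_right]
      exact hnK
    have h3 := pow_index_mem ((kerFix Ω (zpowers z)).subgroupOf
      (Dab G a b ⊓ genFix U (zpowers z))) ⟨m * l⁻¹, hd⟩
    rw [mem_subgroupOf] at h3
    change (m * l⁻¹) ^ _ ∈ kerFix Ω (zpowers z) at h3
    obtain ⟨r, hr⟩ := S.relIndex_odd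
    change Subgroup.index _ = _ at hr
    rw [hr] at h3
    -- `x = (m l⁻¹) ^ (r + 1)`
    refine ⟨(m * l⁻¹) ^ (r + 1), pow_mem hd.2 _, pow_mem hd.1 _, ?_⟩
    set d := m * l⁻¹ with hdd
    have hx : d ^ (r + 1) ∈ Dab G a b ⊓ genFix U (zpowers z) := pow_mem hd _
    have h4 := S.T.inv l ⟨hl, hls⟩ _ (inv_mem hx)
    -- `l x⁻¹ l⁻¹ x⁻¹ ∈ K`
    have h5 : d ^ (r + 1) * l * (d ^ (r + 1))⁻¹ * m⁻¹ =
        d ^ (r + 1) * (l * (d ^ (r + 1))⁻¹ * l⁻¹ * (d ^ (r + 1))⁻¹) * (d ^ (r + 1) * (l * m⁻¹)) := by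
      group
    have h6 : l * m⁻¹ = d⁻¹ := by rw [hdd]; group
    have h7 := S.K_comm h4 hx.2
    rw [h5, h6, ← h7, mul_assoc]
    refine mul_mem h4 ?_
    have h8 : d ^ (r + 1) * (d ^ (r + 1) * d⁻¹) = d ^ (2 * r + 1) := by
      rw [← mul_assoc, ← pow_add, mul_inv_eq_iff_eq_mul, ← pow_succ]
      congr 1
      ring
    rw [h8]
    exact h3
  cardE := S.T.cardE
  inner := fun y hy hy2 hf => S.inner hy hy2 hf
  cardZ := S.T.card
  cardU := cardU
  q4 := S.q4
  four := four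

end Sit

open Cfsg.Agent.Lib.SL2Mat in
theorem sl2_sq {F : Type*} [Field F] (h2 : (2 : F) ≠ 0) {x : Matrix.SpecialLinearGroup (Fin 2) F}
    (hx : x * x = 1) : x = 1 ∨ x = -1 := by
  have h3 : x = mk (ent x 1 1) (- ent x 0 1) (- ent x 1 0) (ent x 0 0)
      (by linear_combination det_eq x) := by
    rw [← ent_inv]
    exact (inv_eq_of_mul_eq_one_left hx).symm
  have e1 : ent x 0 0 = ent x 1 1 := congrArg (fun y => ent y 0 0) h3
  have e2 : ent x 0 1 = 0 := by
    have h4 : ent x 0 1 = - ent x 0 1 := congrArg (fun y => ent y 0 1) h3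
    have h5 : (2 : F) * ent x 0 1 = 0 := by linear_combination h4
    exact (mul_eq_zero.1 h5).resolve_left h2
  have e3 : ent x 1 0 = 0 := by
    have h4 : ent x 1 0 = - ent x 1 0 := congrArg (fun y => ent y 1 0) h3
    have h5 : (2 : F) * ent x 1 0 = 0 := by linear_combination h4
    exact (mul_eq_zero.1 h5).resolve_left h2
  have hd := det_eq x
  rw [← e1, e2, zero_mul, sub_zero] at hd
  rcases mul_self_eq_one_iff.1 hd with h4 | h4
  · left
    exact ext_ent h4 e2 e3 (by rw [← e1]; exact h4)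
  · right
    refine ext_ent h4 ?_ ?_ (by rw [← e1]; exact h4)
    · rw [e2]
      change (0 : F) = -(ent 1 0 1)
      rw [ent_one_01, neg_zero]
    · rw [e3]
      change (0 : F) = -(ent 1 1 0)
      rw [ent_one_10, neg_zero]

/-- Coordinates: `M` is a quotient of `SL(2,F)` by a central subgroup. -/
theorem MK_of_hom {F : Type*} [Field F] (h2 : (2 : F) ≠ 0) {M K : Subgroup G}
    (φ : Matrix.SpecialLinearGroup (Fin 2) F →* G) (hφ : ∀ m ∈ M, ∃ x, φ x = m)
    (hK : ∀ x, φ x ∈ K → x = 1 ∨ x = -1) (hz : z ∈ K) (hz1 : z ≠ 1)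
    (Kz : ∀ k ∈ K, k * k = 1 → k = 1 ∨ k = z) :
    (∀ m ∈ M, m ∈ K → m = 1 ∨ m = z) ∧ (z ∈ M → ∀ m ∈ M, m * m = 1 → m = 1 ∨ m = z) := by
  have hneg : φ (-1) * φ (-1) = 1 := by
    rw [← map_mul, neg_mul_neg, one_mul, map_one]
  have h1 : ∀ m ∈ M, m ∈ K → m = 1 ∨ m = z := by
    intro m hm hmK
    obtain ⟨x, rfl⟩ := hφ m hm
    rcases hK x hmK with rfl | rfl
    · left; rw [map_one]
    · exact Kz _ hmK hneg
  refine ⟨h1, fun hzM m hm hm2 => ?_⟩
  obtain ⟨y, hy⟩ := hφ z hzM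
  have hy1 : y = -1 := by
    rcases hK y (by rw [hy]; exact hz) with h | h
    · exact absurd (by rw [← hy, h, map_one]) hz1
    · exact h
  obtain ⟨x, rfl⟩ := hφ m hm
  rw [← map_mul] at hm2
  rcases hK (x * x) (by rw [hm2]; exact one_mem _) with h | h
  · rcases sl2_sq h2 h with rfl | rfl
    · left; rw [map_one]
    · right; rw [← hy, hy1]
  · exfalso
    rw [h, ← hy1, hy] at hm2
    exact hz1 hm2

/-- **(3b) of #6838.** -/
theorem kill_of [Finite G] [Finite Ω] [FaithfulSMul G Ω] {p k : ℕ} (C : CtxE U a b p k)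
    (hV : NoFourFix U a b) {e : G} (hz : z ∈ Dab G a b) (hz1 : z ≠ 1) (hz2 : z * z = 1)
    (hzW : ∀ w ∈ Wab G a b, w * z = z * w)
    (he : e ∈ Dab G a b) (he2 : e * e = 1) (he1 : e ≠ 1) (hez : e ≠ z)
    (hinv : ∀ u ∈ U a, z * u = u * z → e * u * e⁻¹ = u⁻¹)
    (hK : ∀ x ∈ kerFix Ω (zpowers z), x * x = 1 → x = 1 ∨ x = z)
    (hN : Nat.card (U a) % 4 = 3)
    (hDA : DA (U a ⊓ centralizer (zpowers z : Set G))
      (Dab G a b ⊓ genFix U (zpowers z)) (kerFix Ω (zpowers z))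
      (fun w => w ∈ genFix U (zpowers z) ∧ Swaps w a b) →
      Nat.card (U a ⊓ centralizer (zpowers z : Set G) : Subgroup G) = 3)
    (hMK : (∀ m ∈ genFix U (zpowers z), m ∈ kerFix Ω (zpowers z) → m = 1 ∨ m = z) ∧
      (z ∈ genFix U (zpowers z) → ∀ m ∈ genFix U (zpowers z), m * m = 1 → m = 1 ∨ m = z)) :
    False := by
  have hodd : Odd (Nat.card (U a)) := by
    rw [Nat.odd_iff]
    omega
  -- a nontrivial element of `C_{U a}(z)`
  have h3 : ∃ u ∈ U a, u ≠ 1 ∧ z * u = u * z := by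
    by_contra hc
    push Not at hc
    have h4 := C.fix z hz1 hz2
    have h5 : Nat.card (fixedBy Ω z) ≤ 2 := by
      have h6 : (fixedBy Ω z) ⊆ {a, b} := by
        intro c hzc
        have hzc' : z • c = c := hzc
        by_cases hca : c = a
        · exact Or.inl hca
        right
        obtain ⟨u, hu, hub⟩ := C.split.trans C.ne hca
        have h1 : u ∈ centralizer (zpowers z : Set G) :=
          C.split.comm_of_fixSub (mem_fix.2 hz.1) (mem_fix.2 hz.2) C.ne hu (by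
            rw [hub]; exact mem_fix.2 hzc')
        have h7 : u = 1 := by
          by_contra hu1
          exact hc u hu hu1 (mem_cen.1 h1)
        rw [← hub, h7, one_smul]
        rfl
      calc Nat.card (fixedBy Ω z) ≤ Nat.card ({a, b} : Set Ω) :=
            Nat.card_mono (Set.toFinite _) h6
        _ ≤ 2 := by
            rw [Nat.card_coe_set_eq]
            calc Set.ncard ({a, b} : Set Ω) ≤ Set.ncard ({b} : Set Ω) + 1 := Set.ncard_insert_le _ _
              _ = 2 := by rw [Set.ncard_singleton]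
    omega
  have hCen : Cen U a b z := ⟨C.split, C.ne, hz, hz2, fun g hg => (hzW g hg).symm, h3⟩
  have hcomm : ∀ u ∈ U a ⊓ centralizer (zpowers z : Set G),
      ∀ v ∈ U a ⊓ centralizer (zpowers z : Set G), u * v = v * u := by
    intro u hu v hv
    have e1 := hinv u hu.1 (mem_cen.1 hu.2)
    have e2 := hinv v hv.1 (mem_cen.1 hv.2)
    have huv := mul_mem hu hv
    have e3 := hinv _ huv.1 (mem_cen.1 huv.2)
    have e4 : e * (u * v) * e⁻¹ = (e * u * e⁻¹) * (e * v * e⁻¹) := by group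
    rw [e1, e2, e3, mul_inv_rev] at e4
    have e5 := congrArg (fun x => x⁻¹) e4
    simp only [mul_inv_rev, inv_inv] at e5
    exact e5
  have hc₀ : ∃ c₀ : Ω, z • c₀ ≠ c₀ := by
    by_contra hc
    push Not at hc
    exact hz1 (eq_of_smul_eq_smul (α := Ω) fun c => by rw [hc c, one_smul])
  obtain ⟨c₀, hc₀⟩ := hc₀
  obtain ⟨j, hj0, hkj, hq, hU, -⟩ := hCen.cube' C.gen C.prime C.p_ne_two C.cardU hc₀ he hinv
  have hq4 : Nat.card (U a ⊓ centralizer (zpowers z : Set G) : Subgroup G) % 4 = 3 := by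
    rw [hU] at hN
    rw [hq]
    have h6 : p ^ j % 4 = 1 ∨ p ^ j % 4 = 3 := by
      have h7 : Odd (p ^ j) := (C.prime.odd_of_ne_two C.p_ne_two).pow
      obtain ⟨s, hs⟩ := h7
      omega
    rcases h6 with h6 | h6
    · exfalso
      rw [Nat.pow_mod, h6] at hN
      norm_num at hN
    · exact h6
  have hX1 : zpowers z ≠ ⊥ := by rwa [Ne, zpowers_eq_bot]
  have hX : zpowers z ≤ Dab G a b := by rw [zpowers_le]; exact hz
  have hPne : U a ⊓ centralizer (zpowers z : Set G) ≠ ⊥ := by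
    intro hc
    rw [hc, card_bot] at hq4
    omega
  have hT3 : T3 U a b z (Nat.card (U a ⊓ centralizer (zpowers z : Set G) : Subgroup G)) := by
    rcases C.IH _ hX hX1 hPne with hT | ⟨q', hT⟩ | ⟨q', hT⟩ | ⟨n, hT⟩
    · have h6 := hDA hT
      rw [h6]
      exact T3.of_DA C.split C.ne hz hT h6
    · rw [hT.card]
      exact T3.of_DL hT
    · exfalso
      have h6 : (U a ⊓ centralizer (zpowers z : Set G)) ⊓
          centralizer ((U a ⊓ centralizer (zpowers z : Set G) : Subgroup G) : Set G) =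
          U a ⊓ centralizer (zpowers z : Set G) := by
        rw [inf_eq_left]
        intro u hu
        rw [mem_centralizer_iff]
        intro v hv
        exact hcomm v hv u hu
      have h7 := hT.cardZ
      rw [h6, hT.card] at h7
      have h8 := hT.pow.two_le
      have h9 : q' < q' ^ 3 := by
        calc q' = q' ^ 1 := (pow_one _).symm
          _ < q' ^ 3 := Nat.pow_lt_pow_right (by omega) (by norm_num)
      omega
    · exfalso
      obtain ⟨u, hu, v, hv, huv⟩ := hT.ncomm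
      exact huv (hcomm u hu v hv)
  have S : Sit U a b z (Nat.card (U a ⊓ centralizer (zpowers z : Set G) : Subgroup G)) :=
    ⟨hCen, C.gen, hodd, hT3, hq4⟩
  have hCfg := S.toCfg hz1 hK hMK.1 hMK.2 (by rw [hq, hU]) (by
    intro t ht ht2 ht1 htz u hu hut huz
    exact hV z hz t ht hz1 ht1 htz.symm hz2 ht2 (hCen.cW t (Dab_le_Wab a b ht)) u hu huz.symm
      hut.symm)
  exact hCfg.false he he2 he1 hez

end Cfsg.Agent.HKS.CaseThree
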