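import Mathlib
import Cfsg.Agent.HKS.CaseThreeInst
import Cfsg.Agent.HKS.RankOf
import Cfsg.Agent.HKS.RigA
import Cfsg.Agent.HKS.SLXFacts
import Cfsg.Agent.HKS.SLNorm

/-!
# `RankCentral 3` (#6838 (3b))
-/

set_option autoImplicit false

namespace Cfsg.Agent.HKS

open Subgroup MulAction CentralN SLCoord

namespace CaseThree

/-- The coordinates give `|M ∩ K| ≤ 2`. -/
theorem MK_of_slx {G Ω : Type*} [Group G] [MulAction G Ω] {U : Ω → Subgroup G} {a b : Ω} {z : G}
    (h : SSplit U) {F : Type} [Field F] [Fintype F] (hF : Odd (Fintype.card F))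
    {φ : Matrix.SpecialLinearGroup (Fin 2) F →* G} (S : SLX U (zpowers z) a b φ) (hz1 : z ≠ 1)
    (Kz : ∀ k ∈ kerFix Ω (zpowers z), k * k = 1 → k = 1 ∨ k = z) :
    (∀ m ∈ genFix U (zpowers z), m ∈ kerFix Ω (zpowers z) → m = 1 ∨ m = z) ∧
      (z ∈ genFix U (zpowers z) → ∀ m ∈ genFix U (zpowers z), m * m = 1 → m = 1 ∨ m = z) := by
  have h2 : (2 : F) ≠ 0 := by
    intro hc
    have : CharP F 2 := CharTwo.of_one_ne_zero_of_two_eq_zero one_ne_zero hc
    obtain ⟨n, hn, hcard⟩ := FiniteField.card F 2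
    rw [hcard] at hF
    exact (Nat.not_even_iff_odd.2 hF) (Nat.even_pow.2 ⟨even_two, n.ne_zero⟩)
  refine MK_of_hom (K := kerFix Ω (zpowers z)) h2 φ ?_ (fun x hx => S.eq_pm h hx) ?_ hz1 Kz
  · intro m hm
    rw [← S.range_eq h] at hm
    exact hm
  · exact mem_K.2 fun _ h => h

end CaseThree

theorem rankCentral_three.{v} : RankCentral.{v} 3 := by
  intro G Ω _ _ _ _ _ U a b p k C hV z e Z he he1 hez he2 hze hN
  have hX : zpowers z ≤ Dab G a b := by rw [zpowers_le]; exact Z.zD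
  have ha : ∀ x ∈ zpowers z, x • a = a := fun x hx => (hX hx).1
  have hb : ∀ x ∈ zpowers z, x • b = b := fun x hx => (hX hx).2
  have hX1 : zpowers z ≠ ⊥ := by rw [Ne, zpowers_eq_bot]; exact Z.ne_one
  have hinv : ∀ u ∈ U a, z * u = u * z → e * u * e⁻¹ = u⁻¹ := fun u hu hzu =>
    Z.inverts C hV he he2 he1 hez hu hzu
  have Kz : ∀ x ∈ kerFix Ω (zpowers z), x * x = 1 → x = 1 ∨ x = z := by
    intro x hx hxx
    by_cases hx1 : x = 1
    · exact Or.inl hx1
    · exact Or.inr (Z.ker_invol C hV hx hxx hx1)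
  obtain ⟨u₀, hu₀, hu₀1, hzu₀⟩ := FourZero.P_ne_bot' C Z.zD Z.ne_one Z.sq
  have hPne : U a ⊓ centralizer (zpowers z : Set G) ≠ ⊥ := by
    intro hc
    have h1 : u₀ ∈ U a ⊓ centralizer (zpowers z : Set G) := ⟨hu₀, mem_cen.2 hzu₀⟩
    rw [hc, mem_bot] at h1
    exact hu₀1 h1
  have hDA : DA (U a ⊓ centralizer (zpowers z : Set G))
      (Dab G a b ⊓ genFix U (zpowers z)) (kerFix Ω (zpowers z))
      (fun w => w ∈ genFix U (zpowers z) ∧ Swaps w a b) →
      Nat.card (U a ⊓ centralizer (zpowers z : Set G) : Subgroup G) = 3 := by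
    intro hT
    have hs : RigElt (Ω := Ω) (zpowers z) a b e := RigElt.of_comm he (by
      rintro x ⟨n, rfl⟩
      exact ((Commute.zpow_left (show Commute z e from hze) n).eq).symm) (by
      rw [he2]; exact one_mem _)
    rcases C.split.rigA C.even C.ne hX hs hT hPne C.prime C.cardU with h1 | h1
    · exfalso
      -- `e` centralises and inverts `u₀`
      have h2 := PP1.comm_genFix C.split C.ne hX h1
        (PP1.mem_genFix (c := a) ha hu₀ (mem_cen.2 hzu₀))
      have h3 := hinv u₀ hu₀ hzu₀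
      rw [h2, mul_inv_cancel_right] at h3
      have hodd : Odd (Nat.card (U a)) := FourZero.odd_U C
      have h6 : (⟨u₀, hu₀⟩ : U a) ^ 2 = 1 := by
        rw [pow_two]
        apply Subtype.ext
        change u₀ * u₀ = 1
        nth_rewrite 1 [h3]
        rw [inv_mul_cancel]
      have h7 : (⟨u₀, hu₀⟩ : U a) ^ Nat.card (U a) = 1 := pow_card_eq_one'
      have h8 : (⟨u₀, hu₀⟩ : U a) = 1 := by
        obtain ⟨s, hs⟩ := hodd
        rwa [hs, pow_succ, pow_mul, h6, one_pow, one_mul] at h7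
      exact hu₀1 (congrArg Subtype.val h8)
    · exact h1.1
  have hMK : (∀ m ∈ genFix U (zpowers z), m ∈ kerFix Ω (zpowers z) → m = 1 ∨ m = z) ∧
      (z ∈ genFix U (zpowers z) → ∀ m ∈ genFix U (zpowers z), m * m = 1 → m = 1 ∨ m = z) := by
    rcases C.IH _ hX hX1 hPne with hT | ⟨q', hT⟩ | ⟨q', hT⟩ | ⟨n, hT⟩
    · have h3 := hDA hT
      obtain ⟨F, i1, i2, hF, φ, S⟩ := SLCoord.exists_slx_of_three C.split C.ne ha hb h3
      exact CaseThree.MK_of_slx C.split (by rw [hF]; decide) S Z.ne_one Kz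
    · obtain ⟨F, i1, i2, hF, φ, S⟩ := SLCoord.exists_slx_of_DL C.split C.ne ha hb hT
      exact CaseThree.MK_of_slx C.split (by rw [hF]; exact hT.odd) S Z.ne_one Kz
    · exfalso
      have hcomm : ∀ u ∈ U a ⊓ centralizer (zpowers z : Set G),
          ∀ v ∈ U a ⊓ centralizer (zpowers z : Set G), v * u = u * v := fun u hu v hv =>
        ((Z.cU u hu.1).1 (mem_cen.1 hu.2) v hv.1).symm
      have h6 : (U a ⊓ centralizer (zpowers z : Set G)) ⊓
          centralizer ((U a ⊓ centralizer (zpowers z : Set G) : Subgroup G) : Set G) =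
          U a ⊓ centralizer (zpowers z : Set G) := by
        rw [inf_eq_left]
        intro u hu
        rw [mem_centralizer_iff]
        intro v hv
        exact hcomm u hu v hv
      have h7 := hT.cardZ
      rw [h6, hT.card] at h7
      have h8 := hT.pow.two_le
      have h9 : q' < q' ^ 3 := by
        calc q' = q' ^ 1 := (pow_one _).symm
          _ < q' ^ 3 := Nat.pow_lt_pow_right (by omega) (by norm_num)
      omega
    · exfalso
      obtain ⟨u, hu, v, hv, huv⟩ := hT.ncomm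
      exact huv ((Z.cU u hu.1).1 (mem_cen.1 hu.2) v hv.1)
  exact CaseThree.kill_of C hV Z.zD Z.ne_one Z.sq (fun w hw => (Z.cW w hw).symm) he he2 he1 hez
    hinv Kz hN hDA hMK

end Cfsg.Agent.HKS
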