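import Mathlib
import Cfsg.Agent.HKS.RankOf
import Cfsg.Agent.HKS.AbelianFinal
import Cfsg.Agent.HKS.CentralZInst
import Cfsg.Agent.HKS.RankCentralThree

/-!
# `GoalRank`
-/

set_option autoImplicit false

namespace Cfsg.Agent.HKS

open Subgroup MulAction

theorem rankAbelian.{v} : RankAbelian.{v} := by
  intro G Ω _ _ _ _ _ U a b p k C hV s hs t ht hs1 ht1 hst hss htt hc hQ
  exact AbelianEnd.abelian_false' C hV hQ hs ht hs1 ht1 hst hss htt hc

theorem goalRank.{v} : GoalRank.{v} :=
  goalRank_of rankAbelian rankCentral_one rankCentral_three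

end Cfsg.Agent.HKS
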