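import Mathlib
import Cfsg.Agent.LieRecognition.PSLTwoLocal
import Cfsg.Agent.ClassicalGeometry.NonsplitTorus

/-!
# Two-point stabiliser of 2-rank one: elements of `SL₂(q)` and `PSL₂(q)` fixed by an automorphism

* `fix_conj` : an element of prime order acting on a set of elements.
* `exists_fix_SL`, `exists_fix_PSL` : an element of prime order `ℓ ∣ q + 1` normalising `SL₂(q)`,
  `PSL₂(q)`, `q = 3 (mod 4)`.
* `exists_inv_pair` : an element of order `ℓ ∣ q + 1` of `SL₂(q)` inverted by a square root of `-1`.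
-/

set_option autoImplicit false

namespace Cfsg.Agent.HKS.TwoOne

open Subgroup
open Cfsg.Agent.ClassicalGeometry.SLTwoFour (w exists_conj_w w_mul_self two_ne_zero_of_odd
  eq_one_or_neg_one_of_mul_self)
open Cfsg.Agent.ClassicalGeometry.PSL2Klein (involution_iff card_SL_eq)
open Cfsg.Agent.LieRecognition.PSLTwoLocal (card_centralizer_w isCyclic_centralizer_w
  card_centralizer_mk_w exists_conj_mk_w)

section Abstract

variable {G : Type*} [Group G]

/-- An element of prime order acting by conjugation on a set of elements. -/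
theorem fix_conj [Finite G] {r : G} {ℓ : ℕ} (hℓ : ℓ.Prime) (hr : r ^ ℓ = 1) {X : Set G}
    (hX : ∀ x ∈ X, r * x * r⁻¹ ∈ X) (hcard : ¬ ℓ ∣ X.ncard) : ∃ x ∈ X, r * x = x * r := by
  classical
  have : Fintype X := Fintype.ofFinite X
  have : Fact ℓ.Prime := ⟨hℓ⟩
  let f : X → X := fun x => ⟨r * x * r⁻¹, hX x x.2⟩
  have hf : Function.Injective f := by
    intro x y hxy
    have h1 : r * (x : G) * r⁻¹ = r * y * r⁻¹ := congrArg Subtype.val hxy
    exact Subtype.ext (mul_left_cancel (mul_right_cancel h1))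
  let σ : Equiv.Perm X := Equiv.ofBijective f (Finite.injective_iff_bijective.1 hf)
  have hσ : ∀ (n : ℕ) (x : X), ((σ ^ n) x : G) = r ^ n * x * (r ^ n)⁻¹ := by
    intro n x
    induction n with
    | zero => simp
    | succ n ih =>
      rw [pow_succ', Equiv.Perm.mul_apply]
      change r * ((σ ^ n) x : G) * r⁻¹ = _
      rw [ih, pow_succ']; group
  obtain ⟨x, hx⟩ := Equiv.Perm.exists_fixed_point_of_prime (p := ℓ) (n := 1) (α := X)
    (by rw [← Nat.card_eq_fintype_card, Nat.card_coe_set_eq]; exact hcard) (σ := σ) (by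
      rw [pow_one]
      ext x
      rw [hσ, hr]; simp)
  refine ⟨x, x.2, ?_⟩
  have h1 : r * (x : G) * r⁻¹ = x := congrArg Subtype.val hx
  calc r * (x : G) = r * x * r⁻¹ * r := by group
    _ = x * r := by rw [h1]

/-- The size of a conjugacy class. -/
theorem ncard_class [Finite G] (w : G) {X : Set G} (hX : ∀ x, x ∈ X ↔ ∃ g, g * w * g⁻¹ = x) :
    X.ncard * Nat.card (centralizer {w} : Subgroup G) = Nat.card G := by
  rw [nat_card_centralizer_nat_card_stabilizer, ← Nat.card_coe_set_eq]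
  have h2 := (MulAction.stabilizer (ConjAct G) w).index_mul_card
  have h3 : Nat.card X = (MulAction.stabilizer (ConjAct G) w).index := by
    rw [MulAction.index_stabilizer, ← Nat.card_coe_set_eq]
    congr 1
    have : X = MulAction.orbit (ConjAct G) w := by
      ext x
      rw [hX]
      constructor
      · rintro ⟨g, rfl⟩
        exact ⟨ConjAct.toConjAct g, rfl⟩
      · rintro ⟨g, rfl⟩
        exact ⟨ConjAct.ofConjAct g, rfl⟩
    rw [this]
  rw [h3, h2]
  exact Nat.card_congr ConjAct.ofConjAct.toEquiv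

/-- The number of involutions of a finite group of even order is odd. -/
theorem odd_ncard_invol [Finite G] (H : Subgroup G) (h2 : ∃ x ∈ H, x ≠ 1 ∧ x * x = 1) :
    Odd {x : G | x ∈ H ∧ x ≠ 1 ∧ x * x = 1}.ncard := by
  classical
  have : Fintype H := Fintype.ofFinite H
  have : Fact (Nat.Prime 2) := ⟨Nat.prime_two⟩
  let f : Function.End H := fun x => x⁻¹
  have hf : f ^ 2 ^ 1 = 1 := by
    rw [pow_one, pow_two]
    funext x
    change (x⁻¹)⁻¹ = x
    rw [inv_inv]
  have h1 := Equiv.Perm.card_fixedPoints_modEq hf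
  have h3 : 2 ∣ Fintype.card H := by
    obtain ⟨x, hx, hx1, hx2⟩ := h2
    have h4 : orderOf (⟨x, hx⟩ : H) = 2 := orderOf_eq_prime (by
      apply Subtype.ext
      rw [pow_two]
      exact hx2) (fun e => hx1 (congrArg Subtype.val e))
    rw [← h4]
    exact orderOf_dvd_card
  have h4 : Fintype.card f.fixedPoints = {x : G | x ∈ H ∧ x ≠ 1 ∧ x * x = 1}.ncard + 1 := by
    have h5 : (insert 1 {x : G | x ∈ H ∧ x ≠ 1 ∧ x * x = 1}).ncard =
        {x : G | x ∈ H ∧ x ≠ 1 ∧ x * x = 1}.ncard + 1 :=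
      Set.ncard_insert_of_notMem (fun h => h.2.1 rfl) (Set.toFinite _)
    rw [← h5, ← Nat.card_eq_fintype_card, ← Nat.card_coe_set_eq]
    refine Nat.card_congr ⟨fun x => ⟨x.1.1, ?_⟩, fun x => ⟨⟨x.1, ?_⟩, ?_⟩, fun _ => rfl, fun _ => rfl⟩
    · by_cases hx : (x.1.1 : G) = 1
      · exact Or.inl hx
      · right
        refine ⟨x.1.2, hx, ?_⟩
        have h6 : (x.1.1 : G)⁻¹ = x.1.1 := congrArg Subtype.val (show (x.1)⁻¹ = x.1 from x.2)
        calc (x.1.1 : G) * x.1.1 = x.1.1⁻¹ * x.1.1 := by rw [h6]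
          _ = 1 := by group
    · rcases x.2 with h6 | h6
      · rw [h6]; exact H.one_mem
      · exact h6.1
    · change (⟨x.1, _⟩ : H)⁻¹ = ⟨x.1, _⟩
      apply Subtype.ext
      change (x.1 : G)⁻¹ = x.1
      rcases x.2 with h6 | h6
      · rw [h6, inv_one]
      · exact inv_eq_of_mul_eq_one_left h6.2.2
  rw [h4] at h1
  rw [← Nat.not_even_iff_odd, even_iff_two_dvd]
  intro hc
  have h5 : {x : G | x ∈ H ∧ x ≠ 1 ∧ x * x = 1}.ncard + 1 ≡ 0 [MOD 2] :=
    h1.symm.trans (Nat.modEq_zero_iff_dvd.2 h3)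
  have h6 := Nat.modEq_zero_iff_dvd.1 h5
  omega

end Abstract

section SL

variable {F : Type*} [Field F] [Fintype F]

local notation "SL2" => Matrix.SpecialLinearGroup (Fin 2)
local notation "PSL2" => Matrix.ProjectiveSpecialLinearGroup (Fin 2)
local notation "pmk" => Cfsg.Agent.ClassicalGeometry.PSL2Klein.mk

theorem finite_SL2 : Finite (SL2 F) := by
  apply Finite.of_injective (fun g : SL2 F => (g : Matrix (Fin 2) (Fin 2) F))
  exact Subtype.val_injective

/-- An element of order `ℓ` inverted by a square root of `-1`. -/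
theorem exists_inv_pair {ℓ : ℕ} (hd : ℓ ∣ Fintype.card F + 1) :
    ∃ x g : SL2 F, orderOf x = ℓ ∧ g * g = -1 ∧ g * x * g⁻¹ = x⁻¹ := by
  obtain ⟨a, s, K, ha, hs, hsa, -⟩ := Cfsg.Agent.ClassicalGeometry.NonsplitTorus.exists_torus (F := F)
  obtain ⟨m, hm⟩ := hd
  have hm0 : m ≠ 0 := by
    rintro rfl
    omega
  refine ⟨a ^ m, s⁻¹, ?_, ?_, ?_⟩
  · have : m ∣ orderOf a := ⟨ℓ, by rw [ha, hm, mul_comm]⟩
    rw [orderOf_pow_of_dvd hm0 this, ha, hm, Nat.mul_div_cancel _ (Nat.pos_of_ne_zero hm0)]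
  · rw [← mul_inv_rev, hs, inv_eq_iff_mul_eq_one]
    simp
  · rw [inv_inv]
    have h1 : s⁻¹ * a ^ m * s = (s⁻¹ * a * s) ^ m := by
      have := conj_pow (i := m) (a := s⁻¹) (b := a)
      rw [inv_inv] at this
      exact this.symm
    rw [h1, hsa, inv_pow]

theorem ncard_sq (hq : Fintype.card F % 4 = 3) :
    {x : SL2 F | x * x = -1}.ncard = Fintype.card F * (Fintype.card F - 1) := by
  have := finite_SL2 (F := F)
  have hodd : Odd (Fintype.card F) := Nat.odd_iff.2 (by omega)
  have h1 := ncard_class (w : SL2 F) (X := {x : SL2 F | x * x = -1}) (by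
    intro x
    constructor
    · intro hx
      exact exists_conj_w hodd x hx
    · rintro ⟨g, rfl⟩
      change g * w * g⁻¹ * (g * w * g⁻¹) = -1
      calc g * w * g⁻¹ * (g * w * g⁻¹) = g * (w * w) * g⁻¹ := by group
        _ = -1 := by rw [w_mul_self]; simp)
  rw [card_centralizer_w hq, Cfsg.Agent.ClassicalGeometry.PSL2Basic.card_SL2] at h1
  have h2 : Fintype.card F ^ 2 - 1 = (Fintype.card F + 1) * (Fintype.card F - 1) := by
    have := Nat.sq_sub_sq (Fintype.card F) 1
    rwa [one_pow] at this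
  have h3 : 0 < Fintype.card F + 1 := by omega
  apply Nat.eq_of_mul_eq_mul_right h3
  rw [h1, h2]; ring

theorem not_dvd_aux {q ℓ : ℕ} (hℓ : ℓ.Prime) (hℓ2 : ℓ ≠ 2) (hd : ℓ ∣ q + 1) (hq : 1 < q) :
    ¬ ℓ ∣ q * (q - 1) := by
  intro hc
  rcases hℓ.dvd_mul.1 hc with h1 | h1
  · have : ℓ ∣ 1 := (Nat.dvd_add_right h1).1 hd
    exact hℓ.one_lt.ne' (Nat.dvd_one.1 this)
  · have : ℓ ∣ 2 := by
      have h2 : ℓ ∣ (q + 1) - (q - 1) := Nat.dvd_sub hd h1
      have h3 : (q + 1) - (q - 1) = 2 := by omega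
      rwa [h3] at h2
    exact hℓ2 ((Nat.prime_dvd_prime_iff_eq hℓ Nat.prime_two).1 this)

variable {G : Type*} [Group G] [Finite G]

/-- An element of prime order `ℓ ∣ q + 1` normalising `PSL₂(q)` centralises an involution. -/
theorem exists_fix_PSL {M : Subgroup G} (e : PSL2 F ≃* M) (hq : Fintype.card F % 4 = 3) {r : G}
    {ℓ : ℕ} (hℓ : ℓ.Prime) (hr : r ^ ℓ = 1) (hℓ2 : ℓ ≠ 2) (hd : ℓ ∣ Fintype.card F + 1)
    (hM : ∀ m ∈ M, r * m * r⁻¹ ∈ M) : ∃ i ∈ M, i ≠ 1 ∧ i * i = 1 ∧ r * i = i * r := by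
  have hfin : Finite (PSL2 F) := Finite.of_equiv M e.symm.toEquiv
  have hodd : Odd (Fintype.card F) := Nat.odd_iff.2 (by omega)
  have h20 : (2 : F) ≠ 0 := two_ne_zero_of_odd hodd
  have h1 : {x : PSL2 F | x ≠ 1 ∧ x * x = 1}.ncard * (Fintype.card F + 1) = Nat.card (PSL2 F) := by
    rw [← card_centralizer_mk_w hq]
    apply ncard_class
    intro x
    constructor
    · rintro ⟨hx1, hx2⟩
      exact exists_conj_mk_w hodd x hx1 hx2
    · have hw : pmk (w : SL2 F) ≠ 1 ∧ pmk (w : SL2 F) * pmk w = 1 := by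
        rw [involution_iff h20]
        have := congrArg Subtype.val (w_mul_self (F := F))
        simpa using this
      rintro ⟨g, rfl⟩
      refine ⟨fun hc => hw.1 (conj_eq_one_iff.1 hc), ?_⟩
      calc g * pmk w * g⁻¹ * (g * pmk w * g⁻¹) = g * (pmk w * pmk w) * g⁻¹ := by group
        _ = 1 := by rw [hw.2]; group
  have h2 := card_SL_eq h20
  rw [Cfsg.Agent.ClassicalGeometry.PSL2Basic.card_SL2, ← h1] at h2
  have h3 : Fintype.card F ^ 2 - 1 = (Fintype.card F + 1) * (Fintype.card F - 1) := by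
    have := Nat.sq_sub_sq (Fintype.card F) 1
    rwa [one_pow] at this
  have h4 : Fintype.card F * (Fintype.card F - 1) = 2 * {x : PSL2 F | x ≠ 1 ∧ x * x = 1}.ncard := by
    have h5 : 0 < Fintype.card F + 1 := by omega
    apply Nat.eq_of_mul_eq_mul_right h5
    rw [h3] at h2
    linarith
  have hnd := not_dvd_aux hℓ hℓ2 hd (by have := Fintype.one_lt_card (α := F); omega)
  rw [h4] at hnd
  obtain ⟨i, ⟨hiM, hi1, hi2⟩, hri⟩ := fix_conj hℓ hr (X := {m : G | m ∈ M ∧ m ≠ 1 ∧ m * m = 1})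
    (by
      rintro m ⟨hm, hm1, hm2⟩
      refine ⟨hM m hm, fun hc => hm1 (conj_eq_one_iff.1 hc), ?_⟩
      calc r * m * r⁻¹ * (r * m * r⁻¹) = r * (m * m) * r⁻¹ := by group
        _ = 1 := by rw [hm2]; group)
    (by
      have h5 : {m : G | m ∈ M ∧ m ≠ 1 ∧ m * m = 1}.ncard =
          {x : PSL2 F | x ≠ 1 ∧ x * x = 1}.ncard := by
        rw [← Nat.card_coe_set_eq, ← Nat.card_coe_set_eq]
        refine Nat.card_congr ⟨fun m => ⟨e.symm ⟨m.1, m.2.1⟩, ?_, ?_⟩, fun x => ⟨(e x.1 : G), (e x.1).2,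
          ?_, ?_⟩, ?_, ?_⟩
        · intro hc
          apply m.2.2.1
          have : (⟨m.1, m.2.1⟩ : M) = 1 := by
            rw [← e.symm.map_eq_one_iff]; exact hc
          exact congrArg Subtype.val this
        · rw [← map_mul]
          have : (⟨m.1, m.2.1⟩ : M) * ⟨m.1, m.2.1⟩ = 1 := Subtype.ext m.2.2.2
          rw [this, map_one]
        · intro hc
          apply x.2.1
          have : e x.1 = 1 := Subtype.ext hc
          exact e.map_eq_one_iff.1 this
        · have : e x.1 * e x.1 = 1 := by rw [← map_mul, x.2.2, map_one]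
          exact congrArg Subtype.val this
        · intro m
          apply Subtype.ext
          simp
        · intro x
          apply Subtype.ext
          simp
      rw [h5]
      intro hc
      exact hnd (hc.mul_left 2))
  exact ⟨i, hiM, hi1, hi2, hri⟩

/-- An element of prime order `ℓ ∣ q + 1` normalising `SL₂(q)` centralises an element of order
`(q + 1)_2`. -/
theorem exists_fix_SL {M : Subgroup G} (e : SL2 F ≃* M) (hq : Fintype.card F % 4 = 3) {r : G}
    {ℓ : ℕ} (hℓ : ℓ.Prime) (hr : r ^ ℓ = 1) (hℓ2 : ℓ ≠ 2) (hd : ℓ ∣ Fintype.card F + 1)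
    (hM : ∀ m ∈ M, r * m * r⁻¹ ∈ M) {n m' : ℕ} (hn : 1 ≤ n) (hm : Fintype.card F + 1 = 2 ^ n * m') :
    ∃ y ∈ M, orderOf y = 2 ^ n ∧ r * y = y * r := by
  have hfin := finite_SL2 (F := F)
  have hodd : Odd (Fintype.card F) := Nat.odd_iff.2 (by omega)
  have h20 : (2 : F) ≠ 0 := two_ne_zero_of_odd hodd
  have hneg : (-1 : SL2 F) * -1 = 1 := by simp
  have hne : (-1 : SL2 F) ≠ 1 := by
    intro hc
    have h1 := congrArg (fun x : SL2 F => x 0 0) hc
    simp at h1
    apply h20
    linear_combination (-1) * h1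
  -- `r` centralises the involution of `M`
  have hz : r * (e (-1) : G) * r⁻¹ = (e (-1) : G) := by
    obtain ⟨z, hz⟩ := e.surjective ⟨_, hM _ (e (-1)).2⟩
    have hz' : (e z : G) = r * (e (-1) : G) * r⁻¹ := congrArg Subtype.val hz
    have h1 : z * z = 1 := by
      rw [← e.map_eq_one_iff, map_mul]
      apply Subtype.ext
      change (e z : G) * (e z : G) = 1
      rw [hz']
      have h2 : (e (-1) : G) * (e (-1) : G) = 1 := by
        have : e (-1) * e (-1) = 1 := by rw [← map_mul, hneg, map_one]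
        exact congrArg Subtype.val this
      calc r * (e (-1) : G) * r⁻¹ * (r * (e (-1) : G) * r⁻¹)
          = r * ((e (-1) : G) * (e (-1) : G)) * r⁻¹ := by group
        _ = 1 := by rw [h2]; group
    rcases eq_one_or_neg_one_of_mul_self h20 z h1 with rfl | rfl
    · exfalso
      apply hne
      rw [← e.map_eq_one_iff]
      apply Subtype.ext
      rw [map_one] at hz'
      exact conj_eq_one_iff.1 hz'.symm
    · exact hz'.symm
  -- an element of order four
  obtain ⟨i, ⟨hiM, hi2⟩, hri⟩ := fix_conj hℓ hr (X := {m : G | m ∈ M ∧ m * m = (e (-1) : G)})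
    (by
      rintro m ⟨hm, hm2⟩
      refine ⟨hM m hm, ?_⟩
      calc r * m * r⁻¹ * (r * m * r⁻¹) = r * (m * m) * r⁻¹ := by group
        _ = _ := by rw [hm2, hz])
    (by
      have h5 : {m : G | m ∈ M ∧ m * m = (e (-1) : G)}.ncard = {x : SL2 F | x * x = -1}.ncard := by
        rw [← Nat.card_coe_set_eq, ← Nat.card_coe_set_eq]
        refine Nat.card_congr ⟨fun m => ⟨e.symm ⟨m.1, m.2.1⟩, ?_⟩, fun x => ⟨(e x.1 : G), (e x.1).2,
          ?_⟩, ?_, ?_⟩
        · have : (⟨m.1, m.2.1⟩ : M) * ⟨m.1, m.2.1⟩ = e (-1) := Subtype.ext m.2.2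
          change e.symm ⟨m.1, m.2.1⟩ * e.symm ⟨m.1, m.2.1⟩ = -1
          rw [← map_mul, this, MulEquiv.symm_apply_apply]
        · have : e x.1 * e x.1 = e (-1) := by rw [← map_mul, show x.1 * x.1 = -1 from x.2]
          exact congrArg Subtype.val this
        · intro m
          apply Subtype.ext
          simp
        · intro x
          apply Subtype.ext
          simp
      rw [h5, ncard_sq hq]
      exact not_dvd_aux hℓ hℓ2 hd (by have := Fintype.one_lt_card (α := F); omega))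
  -- normalise `i = e' w`
  have hi' : e.symm ⟨i, hiM⟩ * e.symm ⟨i, hiM⟩ = -1 := by
    have : (⟨i, hiM⟩ : M) * ⟨i, hiM⟩ = e (-1) := Subtype.ext hi2
    rw [← map_mul, this, MulEquiv.symm_apply_apply]
  obtain ⟨g, hg⟩ := exists_conj_w hodd _ hi'
  let e' : SL2 F ≃* M := (MulAut.conj g).trans e
  have he' : ((e' w : M) : G) = i := by
    change ((e (g * w * g⁻¹) : M) : G) = i
    rw [hg, MulEquiv.apply_symm_apply]
  have hcyc := isCyclic_centralizer_w hq
  have hcard := card_centralizer_w hq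
  obtain ⟨y, ⟨hyM, hyi, hyo⟩, hry⟩ := fix_conj hℓ hr
    (X := {y : G | y ∈ M ∧ i * y = y * i ∧ orderOf y = 2 ^ n})
    (by
      rintro y ⟨hy, hyi, hyo⟩
      refine ⟨hM y hy, ?_, ?_⟩
      · have h1 : r * i * r⁻¹ = i := by rw [hri]; group
        calc i * (r * y * r⁻¹) = (r * i * r⁻¹) * (r * y * r⁻¹) := by rw [h1]
          _ = r * (i * y) * r⁻¹ := by group
          _ = r * (y * i) * r⁻¹ := by rw [hyi]
          _ = (r * y * r⁻¹) * (r * i * r⁻¹) := by group
          _ = _ := by rw [h1]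
      · rw [← hyo]
        exact orderOf_injective (MulAut.conj r).toMonoidHom (MulAut.conj r).injective y)
    (by
      have h5 : {y : G | y ∈ M ∧ i * y = y * i ∧ orderOf y = 2 ^ n}.ncard =
          Nat.card {x : (centralizer {(w : SL2 F)} : Subgroup (SL2 F)) // orderOf x = 2 ^ n} := by
        rw [← Nat.card_coe_set_eq]
        refine Nat.card_congr ⟨fun m => ⟨⟨e'.symm ⟨m.1, m.2.1⟩, ?_⟩, ?_⟩, fun x => ⟨(e' x.1.1 : G),
          (e' x.1.1).2, ?_, ?_⟩, ?_, ?_⟩
        · rw [mem_centralizer_singleton_iff]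
          apply e'.injective
          rw [map_mul, map_mul, MulEquiv.apply_symm_apply]
          apply Subtype.ext
          change m.1 * ((e' w : M) : G) = ((e' w : M) : G) * m.1
          rw [he']
          exact m.2.2.1.symm
        · rw [Subgroup.orderOf_mk, MulEquiv.orderOf_eq, Subgroup.orderOf_mk]
          exact m.2.2.2
        · have h6 := mem_centralizer_singleton_iff.1 x.1.2
          have h7 : e' w * e' x.1.1 = e' x.1.1 * e' w := by rw [← map_mul, ← map_mul, h6]
          have h8 : ((e' w : M) : G) * (e' x.1.1 : G) = (e' x.1.1 : G) * ((e' w : M) : G) :=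
            congrArg Subtype.val h7
          rw [he'] at h8
          exact h8
        · rw [Subgroup.orderOf_coe, MulEquiv.orderOf_eq, Subgroup.orderOf_coe]
          exact x.2
        · intro m
          apply Subtype.ext
          simp
        · intro x
          apply Subtype.ext
          apply Subtype.ext
          simp
      rw [h5]
      classical
      have : Fintype (centralizer {(w : SL2 F)} : Subgroup (SL2 F)) := Fintype.ofFinite _
      rw [Nat.card_eq_fintype_card, Fintype.card_subtype, IsCyclic.card_orderOf_eq_totient (by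
        rw [← Nat.card_eq_fintype_card, hcard, hm]; exact Dvd.intro _ rfl),
        Nat.totient_prime_pow Nat.prime_two hn]
      norm_num
      intro hc
      exact hℓ2 ((Nat.prime_dvd_prime_iff_eq hℓ Nat.prime_two).1 (hℓ.dvd_of_dvd_pow hc)))
  exact ⟨y, hyM, hyo, hry⟩

end SL

end Cfsg.Agent.HKS.TwoOne
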