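import Mathlib
import Cfsg.Agent.HKS.TwoOneInv
import Cfsg.Agent.HKS.Goals

/-!
# Two-point stabiliser of 2-rank one: the numbers

`r ∈ Dab a b` of odd prime order inverted by the involution `t ∈ Dab a b`: `t` centralises
`C_{U a}(r)` or acts without fixed points, and Wielandt's formula.
-/

set_option autoImplicit false

namespace Cfsg.Agent.HKS.TwoOne

open Subgroup MulAction SSplit

section Abstract

variable {G : Type*} [Group G]

/-- An involutory automorphism of a cyclic `p`-group, `p` odd. -/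
theorem cyclic_pm {P : Subgroup G} [Finite P] {p e : ℕ} (hp : p.Prime) (hp2 : p ≠ 2)
    (hcyc : IsCyclic P) (hcard : Nat.card P = p ^ e) {t : G} (ht : t * t = 1)
    (htP : ∀ u ∈ P, t * u * t⁻¹ ∈ P) :
    (∀ u ∈ P, t * u * t⁻¹ = u) ∨ (∀ u ∈ P, t * u * t⁻¹ = u⁻¹) := by
  obtain ⟨⟨g, hg⟩, hgen⟩ := hcyc.exists_generator
  have hgen' : ∀ u ∈ P, ∃ n : ℤ, u = g ^ n := by
    intro u hu
    obtain ⟨n, hn⟩ := hgen ⟨u, hu⟩
    exact ⟨n, by
      have := congrArg Subtype.val hn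
      simpa using this.symm⟩
  have hord : orderOf g = p ^ e := by
    rw [← hcard, ← orderOf_eq_card_of_forall_mem_zpowers hgen]
    exact (Subgroup.orderOf_mk g hg).symm
  obtain ⟨n, hn⟩ := hgen' _ (htP g hg)
  have h1 : g ^ (n * n) = g := by
    calc g ^ (n * n) = (g ^ n) ^ n := by rw [zpow_mul]
      _ = (t * g * t⁻¹) ^ n := by rw [hn]
      _ = t * g ^ n * t⁻¹ := by rw [conj_zpow]
      _ = t * (t * g * t⁻¹) * t⁻¹ := by rw [hn]
      _ = (t * t) * g * (t * t)⁻¹ := by group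
      _ = g := by rw [ht]; group
  have h2 : g ^ ((n - 1) * (n + 1)) = 1 := by
    have : (n - 1) * (n + 1) = n * n - 1 := by ring
    rw [this, zpow_sub, h1, zpow_one, mul_inv_cancel]
  have h3 : ((p : ℤ) ^ e) ∣ (n - 1) * (n + 1) := by
    have := orderOf_dvd_iff_zpow_eq_one.2 h2
    rw [hord] at this
    exact_mod_cast this
  have hpp := Nat.prime_iff_prime_int.1 hp
  have hpm : ∀ m : ℤ, g ^ m = 1 → ∀ c : ℤ, g ^ (c * m) = 1 := by
    intro m hm c
    rw [mul_comm, zpow_mul, hm, one_zpow]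
  have fin : ∀ m : ℤ, ((p : ℤ) ^ e) ∣ m → g ^ m = 1 := by
    intro m hm
    rw [← orderOf_dvd_iff_zpow_eq_one, hord]
    exact_mod_cast hm
  by_cases h4 : (p : ℤ) ∣ n + 1
  · right
    have h5 : ¬ (p : ℤ) ∣ n - 1 := by
      intro h5
      have h6 : (p : ℤ) ∣ 2 := by
        have := dvd_sub h4 h5
        have h7 : n + 1 - (n - 1) = 2 := by ring
        rwa [h7] at this
      have h7 : p ∣ 2 := by exact_mod_cast h6
      exact hp2 ((Nat.prime_dvd_prime_iff_eq hp Nat.prime_two).1 h7)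
    have h6 : IsCoprime ((p : ℤ) ^ e) (n - 1) := (hpp.coprime_iff_not_dvd.2 h5).pow_left
    have h7 := fin _ (h6.dvd_of_dvd_mul_left h3)
    have h8 : t * g * t⁻¹ = g⁻¹ := by
      rw [hn]
      rw [zpow_add, zpow_one] at h7
      exact eq_inv_of_mul_eq_one_left h7
    intro u hu
    obtain ⟨m, rfl⟩ := hgen' u hu
    rw [← conj_zpow, h8, inv_zpow]
  · left
    have h6 : IsCoprime ((p : ℤ) ^ e) (n + 1) := (hpp.coprime_iff_not_dvd.2 h4).pow_left
    have h7 := fin _ (h6.dvd_of_dvd_mul_right h3)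
    have h8 : t * g * t⁻¹ = g := by
      rw [hn]
      rw [zpow_sub, zpow_one, mul_inv_eq_one] at h7
      exact h7
    intro u hu
    obtain ⟨m, rfl⟩ := hgen' u hu
    rw [← conj_zpow, h8]

theorem eq_one_of_inv_eq {P : Subgroup G} [Finite P] (hodd : Odd (Nat.card P)) {u : G} (hu : u ∈ P)
    (h : u⁻¹ = u) : u = 1 := by
  have h1 : (⟨u, hu⟩ : P) ^ 2 = 1 := by
    apply Subtype.ext
    change u ^ 2 = 1
    rw [pow_two]
    calc u * u = u⁻¹ * u := by rw [h]
      _ = 1 := by group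
  have h2 := orderOf_dvd_of_pow_eq_one h1
  have h3 := orderOf_dvd_natCard (⟨u, hu⟩ : P)
  rcases (Nat.dvd_prime Nat.prime_two).1 h2 with h4 | h4
  · rw [orderOf_eq_one_iff] at h4
    exact congrArg Subtype.val h4
  · rw [h4] at h3
    exact absurd (even_iff_two_dvd.2 h3) (Nat.not_even_iff_odd.2 hodd)

theorem mem_of_sq_mem {E K : Subgroup G} [Finite E] (hodd : Odd (Nat.card E)) {d : G} (hd : d ∈ E)
    (h : d * d ∈ K) : d ∈ K := by
  obtain ⟨m, hm⟩ := hodd
  have h1 : d ^ Nat.card E = 1 := by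
    have := pow_card_eq_one' (x := (⟨d, hd⟩ : E))
    exact congrArg Subtype.val this
  have h2 : d = (d * d) ^ (m + 1) := by
    have : (d * d) ^ (m + 1) = d ^ Nat.card E * d := by
      rw [hm, ← pow_two, ← pow_mul, ← pow_succ]
      ring_nf
    rw [this, h1, one_mul]
  rw [h2]
  exact pow_mem h _

theorem mem_zpowers_invol {t x : G} (ht : t * t = 1) (hx : x ∈ zpowers t) : x = 1 ∨ x = t := by
  obtain ⟨n, rfl⟩ := hx
  change t ^ n = 1 ∨ t ^ n = t
  have h2 : ∀ m : ℤ, t ^ (m + m) = 1 := by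
    intro m
    rw [← two_mul, zpow_mul]
    have : t ^ (2 : ℤ) = 1 := by
      rw [show (2 : ℤ) = 1 + 1 from rfl, zpow_add, zpow_one, ht]
    rw [this, one_zpow]
  rcases Int.even_or_odd n with ⟨m, rfl⟩ | ⟨m, rfl⟩
  · exact Or.inl (h2 m)
  · right
    rw [two_mul, zpow_add, h2, zpow_one, one_mul]

/-- In type `DL` with `|E|` odd, an involution normalising `E` and `P` centralises `P` or has no
fixed points on `P`. -/
theorem dl_pm [Finite G] {M P E K : Subgroup G} {Sw : G → Prop} {q : ℕ} (D : DL M P E K Sw q)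
    (hodd : Odd (Nat.card E)) (hEP : ∀ d ∈ E, ∀ u ∈ P, d * u * d⁻¹ ∈ P)
    (hKP : ∀ x ∈ K, ∀ u ∈ P, x * u = u * x) {t : G} (htE : ∀ d ∈ E, t * d * t⁻¹ ∈ E)
    (htP : ∀ u ∈ P, t * u * t⁻¹ ∈ P) (ht : t * t = 1) :
    (∀ u ∈ P, t * u = u * t) ∨ (∀ u ∈ P, t * u = u * t → u = 1) := by
  classical
  have hPodd : Odd (Nat.card P) := by rw [D.card]; exact D.odd
  -- no element of `E` inverts an element of `P`
  have hkey : ∀ d ∈ E, ∀ u ∈ P, u ≠ 1 → d * u * d⁻¹ ≠ u⁻¹ := by
    intro d hd u hu hu1 hc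
    have h1 : (d * d) * u = u * (d * d) := by
      have h2 : d * u⁻¹ * d⁻¹ = u := by
        calc d * u⁻¹ * d⁻¹ = (d * u * d⁻¹)⁻¹ := by group
          _ = u := by rw [hc, inv_inv]
      calc (d * d) * u = d * (d * u * d⁻¹) * d⁻¹ * (d * d) := by group
        _ = (d * u⁻¹ * d⁻¹) * (d * d) := by rw [hc]
        _ = _ := by rw [h2]
    rcases D.free _ (mul_mem hd hd) u hu h1 with h2 | h2
    · have h3 := hKP d (mem_of_sq_mem hodd hd h2) u hu
      apply hu1
      apply eq_one_of_inv_eq hPodd hu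
      rw [← hc, h3]; group
    · exact hu1 h2
  by_contra hcon
  push Not at hcon
  obtain ⟨⟨v, hv, hvt⟩, ⟨u, hu, hut, hu1⟩⟩ := hcon
  set w := v⁻¹ * (t * v * t⁻¹) with hw
  have hwP : w ∈ P := mul_mem (inv_mem hv) (htP v hv)
  have hw1 : w ≠ 1 := by
    intro hc
    apply hvt
    have : t * v * t⁻¹ = v := by
      rw [hw] at hc
      exact (inv_mul_eq_one.1 hc).symm
    calc t * v = t * v * t⁻¹ * t := by group
      _ = v * t := by rw [this]
  have hwt : t * w * t⁻¹ = w⁻¹ := by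
    have h1 : t * w * t⁻¹ = (t * v * t⁻¹)⁻¹ * ((t * t) * v * (t * t)⁻¹) := by rw [hw]; group
    have h2 : w⁻¹ = (t * v * t⁻¹)⁻¹ * v := by rw [hw]; group
    rw [h1, h2, ht]; group
  -- the two orbits
  let A : G → Set G := fun x => (fun d => d * x * d⁻¹) '' (E : Set G)
  have hAcard : ∀ x ∈ P, x ≠ 1 → (A x).ncard = K.relIndex E := by
    intro x hx hx1
    rw [Subgroup.relIndex, Subgroup.index, ← Nat.card_coe_set_eq]
    symm
    refine Nat.card_congr (Equiv.ofBijective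
      (Quotient.lift (fun d : E => (⟨(d : G) * x * (d : G)⁻¹, ⟨d, d.2, rfl⟩⟩ : A x)) ?_) ⟨?_, ?_⟩)
    · intro d d' hdd
      have h1 : d⁻¹ * d' ∈ K.subgroupOf E := QuotientGroup.leftRel_apply.1 hdd
      have h2 : ((d : G)⁻¹ * d') * x = x * ((d : G)⁻¹ * d') := hKP _ (mem_subgroupOf.1 h1) x hx
      apply Subtype.ext
      change (d : G) * x * (d : G)⁻¹ = d' * x * (d' : G)⁻¹
      calc (d : G) * x * (d : G)⁻¹ = d * (x * ((d : G)⁻¹ * d')) * (d' : G)⁻¹ := by group
        _ = d * (((d : G)⁻¹ * d') * x) * (d' : G)⁻¹ := by rw [h2]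
        _ = _ := by group
    · rintro ⟨d⟩ ⟨d'⟩ hdd
      apply Quotient.sound
      apply QuotientGroup.leftRel_apply.2
      rw [mem_subgroupOf]
      have h1 : (d : G) * x * (d : G)⁻¹ = d' * x * (d' : G)⁻¹ := congrArg Subtype.val hdd
      have h2 : ((d : G)⁻¹ * d') * x = x * ((d : G)⁻¹ * d') := by
        calc ((d : G)⁻¹ * d') * x = (d : G)⁻¹ * (d' * x * (d' : G)⁻¹) * d' := by group
          _ = (d : G)⁻¹ * ((d : G) * x * (d : G)⁻¹) * d' := by rw [h1]
          _ = _ := by group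
      exact (D.free _ (mul_mem (inv_mem d.2) d'.2) x hx h2).resolve_right hx1
    · rintro ⟨_, d, hd, rfl⟩
      exact ⟨Quotient.mk _ ⟨d, hd⟩, rfl⟩
  have hui : u⁻¹ ≠ 1 := fun hc => hu1 (inv_eq_one.1 hc)
  have hdisj : Disjoint (A u) (A u⁻¹) := by
    rw [Set.disjoint_left]
    rintro _ ⟨d, hd, rfl⟩ ⟨d', hd', he⟩
    have he' : d' * u⁻¹ * d'⁻¹ = d * u * d⁻¹ := he
    refine hkey (d'⁻¹ * d) (mul_mem (inv_mem hd') hd) u hu hu1 ?_
    calc d'⁻¹ * d * u * (d'⁻¹ * d)⁻¹ = d'⁻¹ * (d * u * d⁻¹) * d' := by group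
      _ = d'⁻¹ * (d' * u⁻¹ * d'⁻¹) * d' := by rw [he']
      _ = u⁻¹ := by group
  have hsub : A u ∪ A u⁻¹ ⊆ (P : Set G) \ {1} := by
    rintro _ (⟨d, hd, rfl⟩ | ⟨d, hd, rfl⟩)
    · exact ⟨hEP d hd u hu, fun hc => hu1 (conj_eq_one_iff.1 hc)⟩
    · exact ⟨hEP d hd _ (inv_mem hu), fun hc => hui (conj_eq_one_iff.1 hc)⟩
  have hcount : ((P : Set G) \ {1}).ncard ≤ (A u ∪ A u⁻¹).ncard := by
    rw [Set.ncard_union_eq hdisj, hAcard u hu hu1, hAcard _ (inv_mem hu) hui,
      Set.ncard_sdiff (by simp), Set.ncard_singleton]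
    have h1 : (P : Set G).ncard = q := by
      rw [← Nat.card_coe_set_eq]; exact D.card
    have := D.cardE
    omega
  have heq := Set.eq_of_subset_of_ncard_le hsub hcount
  have hwA : w ∈ A u ∪ A u⁻¹ := by
    rw [heq]
    exact ⟨hwP, hw1⟩
  have hfin : ∀ x ∈ P, x ≠ 1 → t * x = x * t → w ∉ A x := by
    rintro x hx hx1 htx ⟨d, hd, he⟩
    have he' : d * x * d⁻¹ = w := he
    have h1 : (t * d * t⁻¹) * x * (t * d * t⁻¹)⁻¹ = t * w * t⁻¹ := by
      have htx' : t⁻¹ * x * t = x := by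
        calc t⁻¹ * x * t = t⁻¹ * (x * t) := by group
          _ = t⁻¹ * (t * x) := by rw [htx]
          _ = x := by group
      calc (t * d * t⁻¹) * x * (t * d * t⁻¹)⁻¹ = t * (d * (t⁻¹ * x * t) * d⁻¹) * t⁻¹ := by group
        _ = t * w * t⁻¹ := by rw [htx', he']
    rw [hwt, ← he'] at h1
    refine hkey (d⁻¹ * (t * d * t⁻¹)) (mul_mem (inv_mem hd) (htE d hd)) x hx hx1 ?_
    calc d⁻¹ * (t * d * t⁻¹) * x * (d⁻¹ * (t * d * t⁻¹))⁻¹
        = d⁻¹ * ((t * d * t⁻¹) * x * (t * d * t⁻¹)⁻¹) * d := by group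
      _ = d⁻¹ * (d * x * d⁻¹)⁻¹ * d := by rw [h1]
      _ = x⁻¹ := by group
  rcases hwA with h1 | h1
  · exact hfin u hu hu1 hut h1
  · refine hfin u⁻¹ (inv_mem hu) hui ?_ h1
    calc t * u⁻¹ = u⁻¹ * (u * t) * u⁻¹ := by group
      _ = u⁻¹ * (t * u) * u⁻¹ := by rw [hut]
      _ = u⁻¹ * t := by group

end Abstract

variable {G Ω : Type*} [Group G] [MulAction G Ω] {U : Ω → Subgroup G}

namespace Inverted

variable {p k : ℕ} {a b : Ω} {t r : G}

theorem zpowers_conj (hi : Inverted a b t r) : ∀ x ∈ zpowers r, t * x * t⁻¹ ∈ zpowers r := by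
  rintro _ ⟨n, rfl⟩
  change t * r ^ n * t⁻¹ ∈ zpowers r
  rw [← conj_zpow, hi.inv]
  exact zpow_mem (inv_mem (mem_zpowers r)) n

theorem inv_t (hi : Inverted a b t r) : t⁻¹ = t := inv_eq_of_mul_eq_one_left hi.t_sq

theorem sup_le (hi : Inverted a b t r) : zpowers r ⊔ zpowers t ≤ Dab G a b :=
  _root_.sup_le (zpowers_le.2 hi.r_mem) (zpowers_le.2 hi.t_mem)

theorem orderOf_t (hi : Inverted a b t r) : orderOf t = 2 :=
  orderOf_eq_prime (by rw [pow_two]; exact hi.t_sq) hi.t_ne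

/-- **Wielandt's formula** -/
theorem wielandt (hi : Inverted a b t r) (h : TO U p k a b) [Finite G] [Finite Ω] :
    Nat.card (U a ⊓ centralizer ((zpowers r ⊔ zpowers t : Subgroup G) : Set G) : Subgroup G) ^ 2 *
        Nat.card (U a) = Nat.card (CU U a t) ^ 2 * Nat.card (CU U a r) := by
  have ht : Nat.card (zpowers t) = 2 := by rw [Nat.card_zpowers, hi.orderOf_t]
  have hr : Nat.card (zpowers r) = orderOf r := Nat.card_zpowers r
  have hRT : zpowers r ⊓ zpowers t = ⊥ := by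
    rw [← disjoint_iff]
    apply Subgroup.disjoint_of_coprime_natCard
    rw [ht, hr]
    exact (Nat.coprime_primes hi.prime Nat.prime_two).2 hi.ne_two
  have hN := h.split.not_dvd_Dab h.gen h.hab h.hp h.hp2 h.hN
  have key := S1545.result (zpowers r) (zpowers t) (U a)
    (by rw [Ne, zpowers_eq_bot]; exact hi.r_ne) (by rw [Ne, zpowers_eq_bot]; exact hi.t_ne) hRT
    ?_ ?_ ?_ ?_ ?_ ?_
  · rw [ht] at key
    exact key
  · -- normalises
    intro e he u hu
    rcases mem_zpowers_invol hi.t_sq he with rfl | rfl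
    · simpa using hu
    · exact hi.zpowers_conj _ hu
  · -- fixed point free
    rintro e he he1 u ⟨n, rfl⟩ heu
    have h1 : e = t := (mem_zpowers_invol hi.t_sq he).resolve_left he1
    subst h1
    change r ^ n = 1
    have h2 : e * r ^ n * e⁻¹ = (r ^ n)⁻¹ := by rw [← conj_zpow, hi.inv, inv_zpow]
    have h3 : (r ^ n)⁻¹ = r ^ n := by
      rw [← h2]
      have : e * r ^ n = r ^ n * e := heu
      rw [this]; group
    apply eq_one_of_inv_eq (P := zpowers r) _ (zpow_mem (mem_zpowers r) n) h3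
    rw [hr]; exact hi.odd
  · intro x hx y hy
    exact h.split.conj_of_fix (hi.sup_le hx).1 hy
  · rw [eq_bot_iff]
    rintro x ⟨hx, hx'⟩
    exact h.split.free h.hab hx (hi.sup_le hx').2
  · have := h.split.nil a
    infer_instance
  · rw [h.hN]
    apply Nat.Coprime.pow_left
    rw [h.hp.coprime_iff_not_dvd]
    intro hc
    exact hN (hc.trans (card_dvd_of_le hi.sup_le))

theorem conj_CU (hi : Inverted a b t r) (h : TO U p k a b) {u : G} (hu : u ∈ CU U a r) :
    t * u * t⁻¹ ∈ CU U a r := by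
  rw [mem_CU] at hu ⊢
  refine ⟨h.split.conj_of_fix hi.t_mem.1 hu.1, ?_⟩
  have h1 : t * r * t⁻¹ = r⁻¹ := hi.inv
  have h2 : r = t * r⁻¹ * t⁻¹ := by
    calc r = (r⁻¹)⁻¹ := (inv_inv r).symm
      _ = (t * r * t⁻¹)⁻¹ := by rw [h1]
      _ = t * r⁻¹ * t⁻¹ := by group
  have h3 : r⁻¹ * u = u * r⁻¹ := by
    calc r⁻¹ * u = r⁻¹ * (u * r) * r⁻¹ := by group
      _ = r⁻¹ * (r * u) * r⁻¹ := by rw [hu.2]
      _ = u * r⁻¹ := by group
  calc r * (t * u * t⁻¹) = (t * r⁻¹ * t⁻¹) * (t * u * t⁻¹) := by rw [← h2]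
    _ = t * (r⁻¹ * u) * t⁻¹ := by group
    _ = t * (u * r⁻¹) * t⁻¹ := by rw [h3]
    _ = (t * u * t⁻¹) * (t * r⁻¹ * t⁻¹) := by group
    _ = (t * u * t⁻¹) * r := by rw [← h2]

theorem odd_E (hi : Inverted a b t r) (h : TO U p k a b) [Finite G] [Finite Ω] :
    Odd (Nat.card (Dab G a b ⊓ genFix U (zpowers r) : Subgroup G)) :=
  (hi.odd_cent h).of_dvd_nat (card_dvd_of_le (inf_le_inf_left _ (PP1.genFix_le_centralizer _)))

/-- `t` centralises `C_{U a}(r)` or acts without fixed points on it; `|C_{U a}(r)| = 3 (mod 4)`. -/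
theorem dich (hi : Inverted a b t r) (h : TO U p k a b) [Finite G] [Finite Ω]
    (IH : XType U (zpowers r) a b) :
    Nat.card (CU U a r) % 4 = 3 ∧ ((∀ u ∈ CU U a r, t * u = u * t) ∨
      (∀ u ∈ CU U a r, t * u = u * t → u = 1)) := by
  have hodd := hi.odd_E h
  have hX : zpowers r ≤ Dab G a b := zpowers_le.2 hi.r_mem
  rcases IH with D | ⟨q, D⟩ | ⟨q, D⟩ | ⟨n, D⟩
  · obtain ⟨s, hs, hcard⟩ := D.card
    refine ⟨?_, ?_⟩
    · obtain ⟨m, rfl⟩ := Nat.exists_eq_add_of_le hs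
      rw [pow_add] at hcard
      change Nat.card (CU U a r) + 1 = _ at hcard
      omega
    · obtain ⟨e, he⟩ : ∃ e, Nat.card (CU U a r) = p ^ e := by
        have h1 : Nat.card (CU U a r) ∣ p ^ k := by
          rw [← h.hN]; exact card_dvd_of_le inf_le_left
        obtain ⟨e, -, he⟩ := (Nat.dvd_prime_pow h.hp).1 h1
        exact ⟨e, he⟩
      rcases cyclic_pm h.hp h.hp2 D.cyc he hi.t_sq (fun u hu => hi.conj_CU h hu) with h1 | h1
      · left
        intro u hu
        calc t * u = t * u * t⁻¹ * t := by group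
          _ = u * t := by rw [h1 u hu]
      · right
        intro u hu hut
        apply eq_one_of_inv_eq ((h.odd_U a).of_dvd_nat (card_dvd_of_le inf_le_left)) hu
        rw [← h1 u hu, hut]; group
  · refine ⟨?_, ?_⟩
    · have h1 := D.cardE
      have h2 : Odd ((kerFix Ω (zpowers r)).relIndex (Dab G a b ⊓ genFix U (zpowers r))) :=
        hodd.of_dvd_nat (Subgroup.relIndex_dvd_card _ _)
      have h3 := D.three
      have h4 : Nat.card (CU U a r) = q := D.card
      obtain ⟨m, hm⟩ := h2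
      rw [hm] at h1
      omega
    · refine dl_pm D hodd ?_ ?_ ?_ ?_ hi.t_sq
      · rintro d ⟨hd, hd'⟩ u hu
        rw [mem_CU] at hu ⊢
        refine ⟨h.split.conj_of_fix hd.1 hu.1, ?_⟩
        have hdr : r * d = d * r := mem_cent_zpowers.1 (PP1.genFix_le_centralizer _ hd')
        have hdr' : r * d⁻¹ = d⁻¹ * r := by
          calc r * d⁻¹ = d⁻¹ * (d * r) * d⁻¹ := by group
            _ = d⁻¹ * (r * d) * d⁻¹ := by rw [hdr]
            _ = _ := by group
        calc r * (d * u * d⁻¹) = (r * d) * u * d⁻¹ := by group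
          _ = d * (r * u) * d⁻¹ := by rw [hdr]; group
          _ = d * u * (r * d⁻¹) := by rw [hu.2]; group
          _ = d * u * d⁻¹ * r := by rw [hdr']; group
      · intro x hx u hu
        exact h.split.comm_of_fix (X := zpowers r) (fun y hy => (hX hy).1) (fun y hy => (hX hy).2)
          h.hab hx hu.1 hu.2
      · rintro d ⟨hd, hd'⟩
        have hd'' : t * d * t⁻¹ ∈ Dab G a b :=
          (Dab G a b).mul_mem ((Dab G a b).mul_mem hi.t_mem hd) ((Dab G a b).inv_mem hi.t_mem)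
        refine ⟨hd'', ?_⟩
        refine PP1.conj_genFix h.split ?_ hd'
        intro x hx
        have := hi.zpowers_conj x hx
        rw [hi.inv_t] at this ⊢
        exact this
      · intro u hu
        exact hi.conj_CU h hu
  · exfalso
    obtain ⟨z, hz, hzK, hz2, -⟩ := D.invol
    exact hzK (mem_of_sq_mem hodd hz (by rw [hz2]; exact one_mem _))
  · exfalso
    obtain ⟨z, hz, hzK, hz2, -⟩ := D.invol
    exact hzK (mem_of_sq_mem hodd hz (by rw [hz2]; exact one_mem _))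

omit [MulAction G Ω] in
theorem CU_ne_bot {u : G} (hu : u ∈ CU U a r) (hu1 : u ≠ 1) :
    U a ⊓ centralizer ((zpowers r : Subgroup G) : Set G) ≠ ⊥ := by
  intro hc
  have : u ∈ (⊥ : Subgroup G) := by rw [← hc]; exact hu
  exact hu1 (mem_bot.1 this)

/-- The three cases. -/
theorem cases (hi : Inverted a b t r) (h : TO U p k a b) [Finite G] [Finite Ω]
    (IH : U a ⊓ centralizer ((zpowers r : Subgroup G) : Set G) ≠ ⊥ → XType U (zpowers r) a b) :
    (Nat.card (CU U a r) = 1 ∧ Nat.card (U a) = Nat.card (CU U a t) ^ 2) ∨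
    (Nat.card (CU U a r) % 4 = 3 ∧ (∀ u ∈ CU U a r, t * u = u * t) ∧
      Nat.card (CU U a r) * Nat.card (U a) = Nat.card (CU U a t) ^ 2) ∨
    (Nat.card (CU U a r) % 4 = 3 ∧ (∀ u ∈ CU U a r, t * u = u * t → u = 1) ∧
      Nat.card (U a) = Nat.card (CU U a t) ^ 2 * Nat.card (CU U a r)) := by
  have hW := hi.wielandt h
  have hsub : U a ⊓ centralizer ((zpowers r ⊔ zpowers t : Subgroup G) : Set G) =
      CU U a r ⊓ centralizer (zpowers t : Set G) := by
    ext x
    simp only [mem_inf]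
    constructor
    · rintro ⟨h1, h2⟩
      exact ⟨⟨h1, centralizer_le (SetLike.coe_subset_coe.2 le_sup_left) h2⟩,
        centralizer_le (SetLike.coe_subset_coe.2 le_sup_right) h2⟩
    · rintro ⟨⟨h1, h2⟩, h3⟩
      refine ⟨h1, ?_⟩
      have h4 : zpowers r ⊔ zpowers t ≤ centralizer ({x} : Set G) := by
        refine _root_.sup_le (zpowers_le.2 ?_) (zpowers_le.2 ?_)
        · exact mem_centralizer_singleton_iff.2 (mem_cent_zpowers.1 h2)
        · exact mem_centralizer_singleton_iff.2 (mem_cent_zpowers.1 h3)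
      rw [mem_centralizer_iff]
      intro y hy
      exact mem_centralizer_singleton_iff.1 (h4 hy)
  rw [hsub] at hW
  by_cases hb : U a ⊓ centralizer ((zpowers r : Subgroup G) : Set G) = ⊥
  · left
    have h1 : Nat.card (CU U a r) = 1 := by
      change Nat.card (U a ⊓ centralizer ((zpowers r : Subgroup G) : Set G) : Subgroup G) = 1
      rw [hb, Subgroup.card_bot]
    refine ⟨h1, ?_⟩
    have h2 : Nat.card (CU U a r ⊓ centralizer (zpowers t : Set G) : Subgroup G) = 1 := by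
      have : CU U a r ⊓ centralizer (zpowers t : Set G) = ⊥ := by
        rw [eq_bot_iff, ← hb]
        exact inf_le_left
      rw [this, Subgroup.card_bot]
    rw [h2, h1, one_pow, one_mul, mul_one] at hW
    exact hW
  · right
    obtain ⟨h3, h4 | h4⟩ := hi.dich h (IH hb)
    · left
      refine ⟨h3, h4, ?_⟩
      have h5 : CU U a r ⊓ centralizer (zpowers t : Set G) = CU U a r := by
        rw [inf_eq_left]
        intro x hx
        exact mem_cent_zpowers.2 (h4 x hx)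
      rw [h5] at hW
      have hpos : 0 < Nat.card (CU U a r) := Nat.card_pos
      apply Nat.eq_of_mul_eq_mul_right hpos
      rw [← hW]; ring
    · right
      refine ⟨h3, h4, ?_⟩
      have h5 : CU U a r ⊓ centralizer (zpowers t : Set G) = ⊥ := by
        rw [eq_bot_iff]
        rintro x ⟨hx, hx'⟩
        rw [mem_bot]
        exact h4 x hx (mem_cent_zpowers.1 hx')
      rw [h5, Subgroup.card_bot, one_pow, one_mul] at hW
      exact hW

end Inverted

end Cfsg.Agent.HKS.TwoOne
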