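import Mathlib
import Cfsg.Agent.HKS.TwoOneNum
import Cfsg.Agent.Lib.Zsigmondy

/-!
# Two-point stabiliser of 2-rank one: arithmetic of fixed points

`TO.fix_of_prime`: elements of prime order `ℓ`, `ℓ` prime to `|Ω| |U a|`.
`Inverted.cases'`: the case that `t` centralises `C_{U a}(r) ≠ 1` does not occur.
-/

set_option autoImplicit false

namespace Cfsg.Agent.HKS.TwoOne

open Subgroup MulAction SSplit

variable {G Ω : Type*} [Group G] [MulAction G Ω] {U : Ω → Subgroup G}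

/-- fixed points of an element of prime order -/
theorem modEq_fixedBy [Finite G] [Finite Ω] {x : G} {ℓ : ℕ} (hℓ : ℓ.Prime) (hx : orderOf x = ℓ) :
    Nat.card Ω ≡ Nat.card (fixedBy Ω x) [MOD ℓ] := by
  have : Fact ℓ.Prime := ⟨hℓ⟩
  have hP : IsPGroup ℓ (zpowers x) := IsPGroup.of_card (n := 1) (by
    rw [Nat.card_zpowers, hx, pow_one])
  have h1 := hP.card_modEq_card_fixedPoints Ω
  have h2 : Nat.card (fixedPoints (zpowers x) Ω) = Nat.card (fixedBy Ω x) := by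
    refine Nat.card_congr (Equiv.subtypeEquivRight fun c => ?_)
    constructor
    · intro h
      exact h ⟨x, mem_zpowers x⟩
    · intro h g
      exact zpowers_fix h g.1 g.2
  rw [h2] at h1
  exact h1

namespace TO

variable {p k : ℕ} {a b : Ω}

theorem card_sub (h : TO U p k a b) [Finite Ω] (c : Ω) {V : Subgroup G} (hV : V ≤ U c) :
    ∃ e, e ≤ k ∧ Nat.card V = p ^ e := by
  have h1 : Nat.card V ∣ p ^ k := by
    rw [← h.card_U c]; exact card_dvd_of_le hV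
  exact (Nat.dvd_prime_pow h.hp).1 h1

theorem card_Ω (h : TO U p k a b) [Finite Ω] : Nat.card Ω = p ^ k + 1 := by
  rw [h.split.card a, h.hN]

/-- An element of `Dab c d` centralising `U c` is trivial. -/
theorem eq_one_of_cent (h : TO U p k a b) [FaithfulSMul G Ω] {c d : Ω} (hcd : d ≠ c) {x : G}
    (hx : x ∈ Dab G c d) (hc : ∀ u ∈ U c, x * u = u * x) : x = 1 := by
  apply FaithfulSMul.eq_of_smul_eq_smul (α := Ω)
  intro e
  rw [one_smul]
  by_cases he : e = c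
  · rw [he]; exact hx.1
  · obtain ⟨u, hu, hud⟩ := h.split.trans hcd he
    rw [← hud, ← mul_smul, hc u hu, mul_smul, show x • d = d from hx.2]

/-- `|C_{U a}(x)| = p ^ e` with `e < k`. -/
theorem card_CU (h : TO U p k a b) [Finite Ω] [FaithfulSMul G Ω] {c d : Ω} (hcd : d ≠ c) {x : G}
    (hx : x ∈ Dab G c d) (hx1 : x ≠ 1) : ∃ e, e < k ∧ Nat.card (CU U c x) = p ^ e := by
  obtain ⟨e, he, hcard⟩ := h.card_sub c (inf_le_left : CU U c x ≤ U c)
  refine ⟨e, lt_of_le_of_ne he ?_, hcard⟩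
  rintro rfl
  apply hx1
  apply h.eq_one_of_cent hcd hx
  have hfin : Finite (U c) := h.split.finite_U c
  have h1 : CU U c x = U c := by
    apply Subgroup.eq_of_le_of_card_ge inf_le_left
    rw [hcard, h.card_U c]
  intro u hu
  rw [← h1] at hu
  exact (mem_CU.1 hu).2

/-- Elements of prime order `ℓ`, `ℓ` prime to `|Ω|` and `p`. -/
theorem fix_of_prime (h : TO U p k a b) [Finite G] [Finite Ω] [FaithfulSMul G Ω] {x : G} {ℓ : ℕ}
    (hℓ : ℓ.Prime) (hx : orderOf x = ℓ) (h1 : ¬ ℓ ∣ p ^ k + 1) (h2 : ℓ ≠ p) :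
    ∃ e, e < k ∧ Nat.card (fixedBy Ω x) = p ^ e + 1 ∧ p ^ k ≡ p ^ e [MOD ℓ] := by
  have hm := modEq_fixedBy (Ω := Ω) hℓ hx
  rw [h.card_Ω] at hm
  have hx1 : x ≠ 1 := by
    rintro rfl
    rw [orderOf_one] at hx
    exact hℓ.one_lt.ne hx
  have hpk : ¬ ℓ ∣ p ^ k := by
    intro hc
    exact h2 ((Nat.prime_dvd_prime_iff_eq hℓ h.hp).1 (hℓ.dvd_of_dvd_pow hc))
  -- two fixed points
  have hf : 1 < Nat.card (fixedBy Ω x) := by
    by_contra hc
    have h3 : Nat.card (fixedBy Ω x) = 0 ∨ Nat.card (fixedBy Ω x) = 1 := by omega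
    rcases h3 with h3 | h3
    · rw [h3] at hm
      exact h1 (Nat.modEq_zero_iff_dvd.1 hm)
    · rw [h3] at hm
      have h4 : p ^ k + 1 ≡ 0 + 1 [MOD ℓ] := hm
      exact hpk (Nat.modEq_zero_iff_dvd.1 (Nat.ModEq.add_right_cancel' 1 h4))
  have : Finite (fixedBy Ω x) := Subtype.finite
  obtain ⟨⟨c, hc⟩, ⟨d, hd⟩, hcd⟩ := Finite.one_lt_card_iff_nontrivial.1 hf
  have hcd' : d ≠ c := fun e => hcd (Subtype.ext e.symm)
  have hxD : x ∈ Dab G c d := ⟨hc, hd⟩
  obtain ⟨e, he, hcard⟩ := h.card_CU hcd' hxD hx1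
  have h5 := card_fixedBy_eq h.split hcd' hxD
  rw [hcard] at h5
  refine ⟨e, he, h5, ?_⟩
  rw [h5] at hm
  exact Nat.ModEq.add_right_cancel' 1 hm

/-- `4 ∣ |U a| - |C_{U a}(t)|` -/
theorem four (h : TO U p k a b) [Finite Ω] {c d : Ω} (hcd : d ≠ c) {t : G} (ht : t ∈ Dab G c d)
    (ht2 : t * t = 1) : 4 ∣ p ^ k - Nat.card (CU U c t) := by
  have h1 := h.split.four_dvd h.gen h.odd_U ht2
  rw [card_fixedBy_eq h.split hcd ht, h.card_Ω] at h1
  have h2 : p ^ k + 1 - (Nat.card (CU U c t) + 1) = p ^ k - Nat.card (CU U c t) := by omega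
  rwa [h2] at h1

/-- There is no involution `t` with `|Fix t| = p^s + 1`, `3 ≤ s < k < 2 s`. -/
theorem prim_dead (h : TO U p k a b) [Finite G] [Finite Ω] [FaithfulSMul G Ω] {c d : Ω}
    (hcd : d ≠ c) {t : G} (ht : t ∈ Dab G c d) {s : ℕ} (hs : 2 ≤ s) (hsk : s < k)
    (hk : k < 2 * s) (hcard : Nat.card (CU U c t) = p ^ s) : False := by
  obtain ⟨ℓ, hℓ, hprim, -, hℓp⟩ := Cfsg.Agent.Lib.Zsigmondy.exists_primitive (a := p) (n := 2 * s)
    h.hp.two_le (by omega) (fun e => by omega) (fun e => h.hp2 e.1)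
  have hne : ℓ ≠ p := fun e => hℓp (by rw [e])
  have hp1 : 1 ≤ p := h.hp.one_lt.le
  -- `ℓ ∣ p ^ s + 1`
  have h1 : ℓ ∣ p ^ s + 1 := by
    have h2 : ℓ ∣ p ^ (2 * s) - 1 := (hprim _).2 dvd_rfl
    have h3 : p ^ (2 * s) - 1 = (p ^ s + 1) * (p ^ s - 1) := by
      have := Nat.sq_sub_sq (p ^ s) 1
      rw [one_pow] at this
      rw [← this, ← pow_mul, mul_comm]
    rw [h3] at h2
    rcases hℓ.dvd_mul.1 h2 with h4 | h4
    · exact h4
    · have h5 := (hprim _).1 h4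
      have := Nat.le_of_dvd (by omega) h5
      omega
  -- `ℓ ∤ p ^ k + 1`
  have h2 : ¬ ℓ ∣ p ^ k + 1 := by
    intro hc
    have h3 : ℓ ∣ p ^ (2 * k) - 1 := by
      have h4 : p ^ (2 * k) - 1 = (p ^ k + 1) * (p ^ k - 1) := by
        have := Nat.sq_sub_sq (p ^ k) 1
        rw [one_pow] at this
        rw [← this, ← pow_mul, mul_comm]
      rw [h4]
      exact hc.mul_right _
    have h5 := (hprim _).1 h3
    have h6 : s ∣ k := Nat.dvd_of_mul_dvd_mul_left (by norm_num : 0 < 2) h5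
    obtain ⟨m, rfl⟩ := h6
    have h7 : 1 < m := by
      by_contra hm
      have : m = 0 ∨ m = 1 := by omega
      rcases this with rfl | rfl <;> simp at hsk
    have h8 : m < 2 := by
      by_contra hm
      have : s * 2 ≤ s * m := Nat.mul_le_mul_left _ (by omega)
      omega
    omega
  -- an element of order `ℓ`
  have hfix : Nat.card (fixSub Ω (zpowers t)) = p ^ s + 1 := by
    rw [card_fixSub_zpowers, card_fixedBy_eq h.split hcd ht, hcard]
  have h3 : 2 < Nat.card (fixSub Ω (zpowers t)) := by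
    rw [hfix]
    have h0 : p ^ 1 ≤ p ^ s := Nat.pow_le_pow_right hp1 (by omega)
    rw [pow_one] at h0
    have := h.hp.two_le
    omega
  have h4 := h.split.card_centralizer (zpowers t) hcd (zpowers_fix ht.1) (zpowers_fix ht.2) h3
  have h5 : ℓ ∣ Nat.card (centralizer (zpowers t : Set G)) := by
    rw [h4, hfix, mul_assoc]
    exact h1.mul_right _
  have : Fact ℓ.Prime := ⟨hℓ⟩
  obtain ⟨x, hx⟩ := exists_prime_orderOf_dvd_card' ℓ h5
  have hx' : orderOf (x : G) = ℓ := by rw [← hx]; exact Subgroup.orderOf_coe x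
  obtain ⟨e, he, -, hmod⟩ := h.fix_of_prime hℓ hx' h2 hne
  -- `ℓ ∣ p ^ (k - e) - 1`
  have h6 : ℓ ∣ p ^ (k - e) - 1 := by
    have h7 : ℓ ∣ p ^ k - p ^ e := (Nat.modEq_iff_dvd' (Nat.pow_le_pow_right hp1 he.le)).1 hmod.symm
    have h8 : p ^ k - p ^ e = p ^ e * (p ^ (k - e) - 1) := by
      rw [Nat.mul_sub, mul_one, ← pow_add, Nat.add_sub_cancel' he.le]
    rw [h8] at h7
    rcases hℓ.dvd_mul.1 h7 with h9 | h9
    · exact absurd (hℓ.dvd_of_dvd_pow h9) hℓp
    · exact h9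
  have h7 := Nat.le_of_dvd (by omega) ((hprim _).1 h6)
  omega

end TO

namespace Inverted

variable {p k : ℕ} {a b : Ω} {t r : G}

theorem odd_exp {p e m : ℕ} (hp : p ^ e % 4 = 3) (hm : p ^ m % 4 = 3) : Odd e ∧ Odd m ∧ p % 4 = 3 := by
  have h0 : p % 4 = 3 ∧ Odd e := by
    rcases Nat.even_or_odd e with ⟨n, rfl⟩ | he
    · exfalso
      rw [← two_mul, mul_comm, pow_mul, pow_two, Nat.mul_mod] at hp
      have : p ^ n % 4 < 4 := Nat.mod_lt _ (by norm_num)
      interval_cases p ^ n % 4 <;> omega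
    · refine ⟨?_, he⟩
      obtain ⟨n, rfl⟩ := he
      rw [pow_succ, pow_mul, pow_two, Nat.mul_mod, Nat.pow_mod, Nat.mul_mod p p] at hp
      have : p % 4 < 4 := Nat.mod_lt _ (by norm_num)
      interval_cases p % 4 <;> simp_all
      rcases n with _ | n <;> simp at hp
  refine ⟨h0.2, ?_, h0.1⟩
  rcases Nat.even_or_odd m with ⟨n, rfl⟩ | he
  · exfalso
    rw [← two_mul, mul_comm, pow_mul, pow_two, Nat.mul_mod] at hm
    have : p ^ n % 4 < 4 := Nat.mod_lt _ (by norm_num)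
    interval_cases p ^ n % 4 <;> omega
  · exact he

theorem pow_mod_four {p e : ℕ} (hp : p % 4 = 3) (he : Odd e) : p ^ e % 4 = 3 := by
  obtain ⟨n, rfl⟩ := he
  rw [pow_succ, pow_mul, pow_two, Nat.mul_mod, Nat.pow_mod, Nat.mul_mod p p, hp]
  norm_num

/-- The two cases which remain. -/
theorem cases' (hi : Inverted a b t r) (h : TO U p k a b) [Finite G] [Finite Ω] [FaithfulSMul G Ω]
    (IH : U a ⊓ centralizer ((zpowers r : Subgroup G) : Set G) ≠ ⊥ → XType U (zpowers r) a b) :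
    ∃ s, Nat.card (CU U a t) = p ^ s ∧
    ((Nat.card (CU U a r) = 1 ∧ k = 2 * s ∧ p ^ s % 4 = 1) ∨
     (∃ e, Nat.card (CU U a r) = p ^ e ∧ k = 2 * s + e ∧ Odd s ∧ Odd e ∧ p % 4 = 3 ∧
      (∀ u ∈ CU U a r, t * u = u * t → u = 1))) := by
  obtain ⟨s, hsk, hs⟩ := h.card_CU h.hab hi.t_mem hi.t_ne
  obtain ⟨e, -, he⟩ := h.card_sub a (inf_le_left : CU U a r ≤ U a)
  have h4 := h.four h.hab hi.t_mem hi.t_sq
  rw [hs] at h4
  have hinj : ∀ {i j : ℕ}, p ^ i = p ^ j → i = j := fun h' => Nat.pow_right_injective h.hp.two_le h'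
  have hle : p ^ s ≤ p ^ k := Nat.pow_le_pow_right h.hp.one_lt.le hsk.le
  refine ⟨s, hs, ?_⟩
  rcases hi.cases h IH with ⟨h1, h2⟩ | ⟨h1, h2, h3⟩ | ⟨h1, h2, h3⟩
  · left
    rw [h.hN, hs, ← pow_mul, mul_comm] at h2
    have hk := hinj h2
    refine ⟨h1, hk, ?_⟩
    have hodd : p ^ s % 2 = 1 := Nat.odd_iff.1 (h.p_odd.pow)
    have h5 : p ^ k = p ^ s * p ^ s := by rw [hk, two_mul, pow_add]
    rw [h5] at h4 hle
    have h6 : p ^ s * p ^ s - p ^ s = p ^ s * (p ^ s - 1) := by rw [Nat.mul_sub, mul_one]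
    rw [h6] at h4
    have hco : Nat.Coprime 4 (p ^ s) := by
      have : (4 : ℕ) = 2 ^ 2 := rfl
      rw [this]
      exact Nat.Coprime.pow 2 s ((Nat.coprime_primes Nat.prime_two h.hp).2 h.hp2.symm)
    have h7 := hco.dvd_of_dvd_mul_left h4
    have : 0 < p ^ s := Nat.pow_pos h.hp.pos
    omega
  · exfalso
    rw [h.hN, hs, he, ← pow_add, ← pow_mul] at h3
    have hk := hinj h3
    rw [he] at h1
    obtain ⟨he', -, hp3⟩ := odd_exp h1 h1
    have hkodd : Odd k := by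
      rcases Nat.even_or_odd k with h5 | h5
      · exfalso
        have h6 := he'.add_even h5
        rw [hk] at h6
        exact (Nat.not_even_iff_odd.2 h6) ⟨s, by ring⟩
      · exact h5
    have h5 := pow_mod_four hp3 hkodd
    have h6 : p ^ s % 4 = 3 := by omega
    obtain ⟨hs', -, -⟩ := odd_exp h6 h6
    obtain ⟨m, rfl⟩ := he'
    obtain ⟨n, rfl⟩ := hs'
    refine h.prim_dead h.hab hi.t_mem (s := 2 * n + 1) ?_ hsk ?_ hs <;> omega
  · right
    rw [h.hN, hs, he, ← pow_mul, ← pow_add] at h3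
    have hk := hinj h3
    rw [he] at h1
    obtain ⟨he', -, hp3⟩ := odd_exp h1 h1
    have hkodd : Odd k := by
      rw [hk]
      exact Even.add_odd ⟨s, by ring⟩ he'
    have h5 := pow_mod_four hp3 hkodd
    have h6 : p ^ s % 4 = 3 := by omega
    obtain ⟨hs', -, -⟩ := odd_exp h6 h6
    exact ⟨e, he, by omega, hs', he', hp3, h2⟩

end Inverted

end Cfsg.Agent.HKS.TwoOne
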