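import Mathlib
import Cfsg.Agent.HKS.TwoOneArith
import Cfsg.Agent.HKS.SignFix

/-!
# Two-point stabiliser of 2-rank one: signs

`sgn_cent`: all elements of `C_G(X)` induce even permutations on `Fix X`, if `|C_D(X)|` is odd.
`Inverted.no_cyclic`: `C_G(r)` has no element of order `(f+1)_2`, `|Fix r| = f + 1`.
-/

set_option autoImplicit false

namespace Cfsg.Agent.HKS.TwoOne

open Subgroup MulAction SSplit SignFix

section sign

/-- The sign of a permutation all of whose cycles have length `2 ^ n`. -/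
theorem sign_free {α : Type*} [Fintype α] [DecidableEq α] {σ : Equiv.Perm α} {n : ℕ} (hn : 1 ≤ n)
    (h : σ ^ 2 ^ n = 1) (hf : ∀ x, (σ ^ 2 ^ (n - 1)) x ≠ x) {m : ℕ}
    (hm : Fintype.card α = 2 ^ n * m) : Equiv.Perm.sign σ = (-1) ^ m := by
  have h1 : ∀ c ∈ σ.cycleType, c = 2 ^ n := by
    intro c hc
    have hd : c ∣ 2 ^ n := (Equiv.Perm.dvd_of_mem_cycleType hc).trans (orderOf_dvd_of_pow_eq_one h)
    obtain ⟨j, hj, rfl⟩ := (Nat.dvd_prime_pow Nat.prime_two).1 hd
    rcases Nat.lt_or_ge j n with hlt | hge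
    · exfalso
      obtain ⟨c, τ, hσ, hdis, hcyc, hcard⟩ := Equiv.Perm.mem_cycleType_iff.1 hc
      obtain ⟨x, hx, hx'⟩ := hcyc
      have hτx : τ x = x := (hdis x).resolve_left hx
      have h2 : c ^ 2 ^ j = 1 := by
        rw [← hcard, ← Equiv.Perm.IsCycle.orderOf ⟨x, hx, hx'⟩]
        exact pow_orderOf_eq_one c
      apply hf x
      have h3 : σ ^ 2 ^ j = τ ^ 2 ^ j := by
        rw [hσ, hdis.commute.mul_pow, h2, one_mul]
      have h4 : (σ ^ 2 ^ j) x = x := by
        rw [h3]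
        exact Equiv.Perm.pow_apply_eq_self_of_apply_eq_self hτx _
      have h5 : 2 ^ (n - 1) = 2 ^ j * 2 ^ (n - 1 - j) := by
        rw [← pow_add]; congr 1; omega
      rw [h5, pow_mul]
      exact Equiv.Perm.pow_apply_eq_self_of_apply_eq_self h4 _
    · rw [le_antisymm hj hge]
  have h2 : σ.cycleType = Multiset.replicate σ.cycleType.card (2 ^ n) :=
    Multiset.eq_replicate_card.2 h1
  have h3 : σ.support = Finset.univ := by
    ext x
    simp only [Equiv.Perm.mem_support, Finset.mem_univ, iff_true]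
    intro hc
    exact hf x (Equiv.Perm.pow_apply_eq_self_of_apply_eq_self hc _)
  have h4 := σ.sum_cycleType
  rw [h3, Finset.card_univ, hm, h2, Multiset.sum_replicate, smul_eq_mul, mul_comm] at h4
  have h5 : σ.cycleType.card = m := Nat.eq_of_mul_eq_mul_left (Nat.pow_pos (by norm_num)) h4
  rw [Equiv.Perm.sign_of_cycleType, h2, Multiset.sum_replicate, Multiset.card_replicate, h5,
    smul_eq_mul, pow_add]
  have h6 : Even (m * 2 ^ n) := by
    obtain ⟨n', rfl⟩ := Nat.exists_eq_add_of_le hn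
    rw [pow_add, pow_one]
    exact ⟨m * 2 ^ n', by ring⟩
  rw [h6.neg_one_pow, one_mul]

/-- The 2-part of `p ^ s + 1`, `s` odd. -/
theorem two_part {p n m : ℕ} (hp : Odd p) (hm : Odd m) (h : p + 1 = 2 ^ n * m) {s : ℕ} (hs : Odd s) :
    ∃ m', Odd m' ∧ p ^ s + 1 = 2 ^ n * m' := by
  obtain ⟨j, rfl⟩ := hs
  -- `p ^ (2 j) = 1 + 2 (p + 1) c`
  have key : ∀ j : ℕ, ∃ c, p ^ (2 * j) = 1 + 2 * (p + 1) * c := by
    intro j
    induction j with
    | zero => exact ⟨0, by simp⟩
    | succ j ih =>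
      obtain ⟨c, hc⟩ := ih
      obtain ⟨i, hi⟩ := hp
      refine ⟨i + c + 2 * (p + 1) * i * c, ?_⟩
      have h2 : p ^ 2 = 1 + 2 * (p + 1) * i := by
        rw [hi]; ring
      rw [Nat.mul_add, mul_one, pow_add, hc, h2]; ring
  obtain ⟨c, hc⟩ := key j
  refine ⟨m * (1 + 2 * c * p), ?_, ?_⟩
  · exact hm.mul (Even.one_add ⟨c * p, by ring⟩)
  · rw [pow_succ, hc]
    calc (1 + 2 * (p + 1) * c) * p + 1 = (p + 1) * (1 + 2 * c * p) := by ring
      _ = _ := by rw [h]; ring

end sign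

variable {G Ω : Type*} [Group G] [MulAction G Ω] {U : Ω → Subgroup G}

/-- `genFix U X` is 2-transitive on `Fix X`. -/
theorem two_genFix (h : SSplit U) [Finite Ω] {X : Subgroup G} (h3 : 2 < Nat.card (fixSub Ω X))
    {a b c d : Ω} (hab : b ≠ a) (hcd : d ≠ c) (ha : ∀ x ∈ X, x • a = a) (hb : ∀ x ∈ X, x • b = b)
    (hc : ∀ x ∈ X, x • c = c) (hd : ∀ x ∈ X, x • d = d) :
    ∃ g ∈ genFix U X, g • a = c ∧ g • b = d := by
  have : Finite (fixSub Ω X) := Subtype.finite
  have h1 := h.fixed X (three_of_card h3)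
  have h2 := h1.gen
  obtain ⟨g, hg1, hg2⟩ := h2.two (a := (⟨a, ha⟩ : fixSub Ω X)) (b := ⟨b, hb⟩) (c := ⟨c, hc⟩)
    (d := ⟨d, hd⟩) (fun e => hab (congrArg Subtype.val e).symm)
    (fun e => hcd (congrArg Subtype.val e).symm)
  refine ⟨g.1.1, ?_, congrArg Subtype.val hg1, congrArg Subtype.val hg2⟩
  have h4 : (⨆ e : fixSub Ω X, (U (e : Ω)).subgroupOf (centralizer (X : Set G))) ≤
      (genFix U X).subgroupOf (centralizer (X : Set G)) := by
    refine iSup_le fun e x hx => ?_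
    rw [mem_subgroupOf] at hx ⊢
    exact PP1.mem_genFix e.2 hx x.2
  exact mem_subgroupOf.1 (h4 g.2)

/-- All elements of `C_G(X)` induce even permutations on `Fix X`. -/
theorem sgn_cent (h : SSplit U) [Finite G] [Finite Ω] (hU : ∀ c, Odd (Nat.card (U c)))
    {X : Subgroup G} (h3 : 2 < Nat.card (fixSub Ω X)) {a b : Ω} (hab : b ≠ a)
    (ha : ∀ x ∈ X, x • a = a) (hb : ∀ x ∈ X, x • b = b)
    (hodd : Odd (Nat.card (Dab G a b ⊓ centralizer (X : Set G) : Subgroup G)))
    (g : centralizer (X : Set G)) : sgn (Ω := Ω) X g = 1 := by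
  have hfix : ∀ c : Ω, (∀ x ∈ X, x • c = c) → ∀ x ∈ X, x • (g : G) • c = (g : G) • c := by
    intro c hc x hx
    have h1 : x * g = g * x := mem_centralizer_iff.1 g.2 x hx
    rw [← mul_smul, h1, mul_smul, hc x hx]
  obtain ⟨l, hl, hla, hlb⟩ := two_genFix h h3 hab (c := (g : G) • a) (d := (g : G) • b)
    (fun e => hab (MulAction.injective _ e)) ha hb (hfix a ha) (hfix b hb)
  have hlC := PP1.genFix_le_centralizer X hl
  set d : centralizer (X : Set G) := (⟨l, hlC⟩ : centralizer (X : Set G))⁻¹ * g with hd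
  have hdD : (d : G) ∈ (Dab G a b ⊓ centralizer (X : Set G) : Subgroup G) := by
    refine ⟨⟨?_, ?_⟩, d.2⟩
    · change (l⁻¹ * (g : G)) • a = a
      rw [mul_smul, ← hla, inv_smul_smul]
    · change (l⁻¹ * (g : G)) • b = b
      rw [mul_smul, ← hlb, inv_smul_smul]
  have h2 : sgn (Ω := Ω) X d = 1 := by
    refine sgn_odd Ω hodd (Subtype.ext ?_)
    have h5 := pow_card_eq_one' (x := (⟨(d : G), hdD⟩ :
      (Dab G a b ⊓ centralizer (X : Set G) : Subgroup G)))
    have h6 := congrArg Subtype.val h5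
    exact h6
  have h4 : g = ⟨l, hlC⟩ * d := by rw [hd]; group
  rw [h4, map_mul, h2, sgn_genFix hU hl, mul_one]

namespace Inverted

variable {p k : ℕ} {a b : Ω} {t r : G}

/-- `C_G(r)` has no element of order `(f+1)_2`. -/
theorem no_cyclic (hi : Inverted a b t r) (h : TO U p k a b) [Finite G] [Finite Ω] {n m : ℕ}
    (hn : 2 ≤ n) (hm : Odd m) (hcard : Nat.card (CU U a r) + 1 = 2 ^ n * m) {g : G}
    (hg : orderOf g = 2 ^ n) (hgr : r * g = g * r) : False := by
  classical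
  have hfix : Nat.card (fixSub Ω (zpowers r)) = 2 ^ n * m := by
    rw [card_fixSub_zpowers, card_fixedBy_eq h.split h.hab hi.r_mem, hcard]
  have h3 : 2 < Nat.card (fixSub Ω (zpowers r)) := by
    rw [hfix]
    have h1 : 2 ^ 2 ≤ 2 ^ n := Nat.pow_le_pow_right (by norm_num) hn
    have h2 : 0 < m := hm.pos
    calc 2 < 2 ^ 2 * 1 := by norm_num
      _ ≤ 2 ^ n * m := Nat.mul_le_mul h1 h2
  have hgC : g ∈ centralizer (zpowers r : Set G) := mem_cent_zpowers.2 hgr
  have h1 := sgn_cent h.split h.odd_U h3 h.hab (zpowers_fix hi.r_mem.1) (zpowers_fix hi.r_mem.2)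
    (hi.odd_cent h) ⟨g, hgC⟩
  -- the involution
  set i := g ^ 2 ^ (n - 1) with hi_def
  have hpow : 2 ^ (n - 1) * 2 = 2 ^ n := by
    rw [← pow_succ]; congr 1; omega
  have hi2 : i * i = 1 := by
    rw [hi_def, ← pow_two, ← pow_mul, hpow, ← hg, pow_orderOf_eq_one]
  have hi1 : i ≠ 1 := by
    rw [hi_def]
    apply pow_ne_one_of_lt_orderOf
    · exact (Nat.pow_pos (by norm_num)).ne'
    · rw [hg]; exact Nat.pow_lt_pow_right (by norm_num) (by omega)
  have hir : i * r = r * i := (show Commute r g from hgr).symm.pow_left _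
  let _ : Fintype (fixSub Ω (zpowers r)) := Fintype.ofFinite _
  have h2 : sgn (Ω := Ω) (zpowers r) ⟨g, hgC⟩ = (-1) ^ m := by
    simp only [sgn, MonoidHom.comp_apply]
    refine sign_free (n := n) (by omega) ?_ ?_ ?_
    · rw [← map_pow]
      have : (⟨g, hgC⟩ : centralizer (zpowers r : Set G)) ^ 2 ^ n = 1 := by
        apply Subtype.ext
        change g ^ 2 ^ n = 1
        rw [← hg, pow_orderOf_eq_one]
      rw [this, map_one]
    · intro x hx
      rw [← map_pow] at hx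
      have hx' : i • (x : Ω) = x := congrArg Subtype.val hx
      exact hi.fpf h hi2 hi1 hir (mem_fixSub_zpowers.1 x.2) hx'
    · rw [← Nat.card_eq_fintype_card, hfix]
  rw [h1, hm.neg_one_pow] at h2
  exact absurd h2 (by decide)

end Inverted

end Cfsg.Agent.HKS.TwoOne
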