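import Mathlib
import Cfsg.Agent.HKS.TwoOneSign
import Cfsg.Agent.HKS.TwoOneSL

/-!
# Two-point stabiliser of 2-rank one: the case `|U a| = |C_{U a}(t)|² |C_{U a}(r)|`

`r ∈ Dab a b` of odd prime order inverted by the involution `t`, `t` fixed point free on
`C_{U a}(r) ≠ 1`: impossible.
-/

set_option autoImplicit false

namespace Cfsg.Agent.HKS.TwoOne

open Subgroup MulAction SSplit

variable {G Ω : Type*} [Group G] [MulAction G Ω] {U : Ω → Subgroup G}

/-- `genFix U ⟨t⟩` is an image of `SL₂(q)`, `q = |C_{U a}(t)|`. -/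
def HasSL (U : Ω → Subgroup G) (a : Ω) (t : G) : Prop :=
  ∃ (F : Type) (_ : Field F) (_ : Fintype F), Fintype.card F = Nat.card (CU U a t) ∧
    ∃ φ : Matrix.SpecialLinearGroup (Fin 2) F →* G, φ.range = genFix U (zpowers t)

/-- linear type at `t` -/
def DLt (U : Ω → Subgroup G) (a b : Ω) (t : G) : Prop :=
  ∃ q, DL (genFix U (zpowers t)) (U a ⊓ centralizer ((zpowers t : Subgroup G) : Set G))
    (Dab G a b ⊓ genFix U (zpowers t)) (kerFix Ω (zpowers t))
    (fun w => w ∈ genFix U (zpowers t) ∧ Swaps w a b) q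

/-- A fixed point free involutory automorphism inverts every element. -/
theorem inverts_of_fpf [Finite G] {V : Subgroup G} {t : G} (ht : t * t = 1)
    (hV : ∀ u ∈ V, t * u * t⁻¹ ∈ V) (hf : ∀ u ∈ V, t * u = u * t → u = 1) :
    ∀ u ∈ V, t * u * t⁻¹ = u⁻¹ := by
  let φ : V →* V :=
    { toFun := fun u => ⟨t * u * t⁻¹, hV u u.2⟩
      map_one' := by
        apply Subtype.ext
        change t * 1 * t⁻¹ = 1
        group
      map_mul' := by
        intro x y
        apply Subtype.ext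
        change t * ((x : G) * y) * t⁻¹ = (t * x * t⁻¹) * (t * y * t⁻¹)
        group }
  have h1 : MonoidHom.FixedPointFree φ := by
    intro u hu
    have h2 : t * (u : G) * t⁻¹ = u := congrArg Subtype.val hu
    apply Subtype.ext
    apply hf u u.2
    calc t * (u : G) = t * u * t⁻¹ * t := by group
      _ = u * t := by rw [h2]
  have h2 : Function.Involutive φ := by
    intro u
    apply Subtype.ext
    change t * (t * (u : G) * t⁻¹) * t⁻¹ = u
    calc t * (t * (u : G) * t⁻¹) * t⁻¹ = (t * t) * u * (t * t)⁻¹ := by group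
      _ = u := by rw [ht]; group
  intro u hu
  have h3 := congrFun (h1.coe_eq_inv_of_involutive h2) ⟨u, hu⟩
  exact congrArg Subtype.val h3

namespace Inverted

variable {p k : ℕ} {a b : Ω} {t r : G}

/-- `Fix ⟨r, t⟩ = {a, b}` -/
theorem fix_pair (hi : Inverted a b t r) (h : TO U p k a b)
    (hf : ∀ u ∈ CU U a r, t * u = u * t → u = 1) {c : Ω} (hr : r • c = c) (ht : t • c = c) :
    c = a ∨ c = b := by
  by_cases hca : c = a
  · left; exact hca
  right
  obtain ⟨u, hu, hub⟩ := h.split.trans h.hab hca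
  have hur : u ∈ centralizer (zpowers r : Set G) :=
    h.split.comm_of_fixSub (zpowers_fix hi.r_mem.1) (zpowers_fix hi.r_mem.2) h.hab hu
      (by rw [hub]; exact zpowers_fix hr)
  have hut : u ∈ centralizer (zpowers t : Set G) :=
    h.split.comm_of_fixSub (zpowers_fix hi.t_mem.1) (zpowers_fix hi.t_mem.2) h.hab hu
      (by rw [hub]; exact zpowers_fix ht)
  have h1 := hf u (mem_CU.2 ⟨hu, mem_cent_zpowers.1 hur⟩) (mem_cent_zpowers.1 hut)
  rw [h1, one_smul] at hub
  exact hub.symm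

theorem conj_CU' (hi : Inverted a b t r) (h : TO U p k a b) {u : G} (hu : u ∈ CU U b r) :
    t * u * t⁻¹ ∈ CU U b r := by
  rw [mem_CU] at hu ⊢
  refine ⟨h.split.conj_of_fix hi.t_mem.2 hu.1, ?_⟩
  have h1 : t * r * t⁻¹ = r⁻¹ := hi.inv
  have h2 : r = t * r⁻¹ * t⁻¹ := by
    calc r = (r⁻¹)⁻¹ := (inv_inv r).symm
      _ = (t * r * t⁻¹)⁻¹ := by rw [h1]
      _ = t * r⁻¹ * t⁻¹ := by group
  have h3 : r⁻¹ * u = u * r⁻¹ := by
    calc r⁻¹ * u = r⁻¹ * (u * r) * r⁻¹ := by group
      _ = r⁻¹ * (r * u) * r⁻¹ := by rw [hu.2]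
      _ = u * r⁻¹ := by group
  calc r * (t * u * t⁻¹) = (t * r⁻¹ * t⁻¹) * (t * u * t⁻¹) := by rw [← h2]
    _ = t * (r⁻¹ * u) * t⁻¹ := by group
    _ = t * (u * r⁻¹) * t⁻¹ := by rw [h3]
    _ = (t * u * t⁻¹) * (t * r⁻¹ * t⁻¹) := by group
    _ = (t * u * t⁻¹) * r := by rw [← h2]

/-- An involution interchanging `a` and `b` commutes with `r` and `t`. -/
theorem exists_y (hi : Inverted a b t r) (h : TO U p k a b) [Finite G] [Finite Ω]
    (hf : ∀ u ∈ CU U a r, t * u = u * t → u = 1) (hc : 1 < Nat.card (CU U a r)) :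
    ∃ y, Swaps y a b ∧ y * y = 1 ∧ y * r = r * y ∧ y * t = t * y := by
  have hcard : Nat.card (CU U b r) = Nat.card (CU U a r) := by
    have h1 := card_fixedBy_eq h.split h.hab hi.r_mem
    have h2 := card_fixedBy_eq h.split h.hab.symm (t := r) ⟨hi.r_mem.2, hi.r_mem.1⟩
    omega
  obtain ⟨⟨u, hu⟩, hu1⟩ : ∃ u : CU U b r, u ≠ 1 := by
    have : Nontrivial (CU U b r) := by
      rw [← Finite.one_lt_card_iff_nontrivial, hcard]; exact hc
    exact exists_ne 1
  have hu1' : u ≠ 1 := fun e => hu1 (Subtype.ext e)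
  have hinv : t * u * t⁻¹ = u⁻¹ := by
    refine inverts_of_fpf hi.t_sq (fun v hv => hi.conj_CU' h hv) ?_ u hu
    intro v hv htv
    by_contra hv1
    rw [mem_CU] at hv
    have h1 : r • v • a = v • a := by
      rw [← mul_smul, hv.2, mul_smul, show r • a = a from hi.r_mem.1]
    have h2 : t • v • a = v • a := by
      rw [← mul_smul, htv, mul_smul, show t • a = a from hi.t_mem.1]
    rcases hi.fix_pair h hf h1 h2 with h3 | h3
    · exact h.split.smul_ne_of_ne h.hab.symm hv.1 hv1 h3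
    · exact h.split.smul_ne_center h.hab.symm hv.1 h3
  rw [mem_CU] at hu
  set m := mu U a b u with hm
  have hms : Swaps m a b := h.split.mu_swaps h.hab hu.1 hu1'
  have hmr : r * m = m * r := h.split.mu_comm h.hab hu.1 hu1' hi.r_mem hu.2
  have hmt : t * m * t⁻¹ = m⁻¹ := h.split.mu_inverted h.hab hu.1 hu1' hi.t_mem hinv
  have hmm : m * m ∈ Dab G a b := hms.mul hms
  have hmmr : (m * m) * r = r * (m * m) := by
    calc (m * m) * r = m * (m * r) := by group
      _ = m * (r * m) := by rw [hmr]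
      _ = (m * r) * m := by group
      _ = (r * m) * m := by rw [hmr]
      _ = r * (m * m) := by group
  have hodd := hi.odd_order h hmm hmmr
  obtain ⟨n, hn⟩ := hodd
  have hy2 : m ^ (orderOf (m * m)) * m ^ (orderOf (m * m)) = 1 := by
    rw [← (Commute.refl m).mul_pow, pow_orderOf_eq_one]
  refine ⟨m ^ orderOf (m * m), ?_, hy2, ?_, ?_⟩
  · have h1 : m ^ orderOf (m * m) = m * (m * m) ^ n := by
      rw [hn, pow_succ', pow_mul, pow_two]
    rw [h1]
    exact hms.mul_D (pow_mem hmm n)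
  · exact ((show Commute r m from hmr).symm.pow_left _)
  · set y := m ^ orderOf (m * m) with hy
    have h1 : t * y * t⁻¹ = y⁻¹ := by
      rw [hy, conj_pow', hmt, inv_pow]
    have h2 : y⁻¹ = y := inv_eq_of_mul_eq_one_left hy2
    rw [h2] at h1
    calc y * t = (t * y * t⁻¹) * t := by rw [h1]
      _ = t * y := by group

/-- `orderOf r ∣ |Fix y|` for an involution `y` commuting with `r`. -/
theorem dvd_fix (hi : Inverted a b t r) (h : TO U p k a b) [Finite G] [Finite Ω] {y : G}
    (hy2 : y * y = 1) (hy1 : y ≠ 1) (hyr : y * r = r * y) :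
    orderOf r ∣ Nat.card (fixedBy Ω y) := by
  have hrC : r ∈ centralizer (zpowers y : Set G) := mem_cent_zpowers.2 hyr
  have : Finite (fixSub Ω (zpowers y)) := Subtype.finite
  have h1 := modEq_fixedBy (G := centralizer (zpowers y : Set G)) (Ω := fixSub Ω (zpowers y))
    hi.prime (x := ⟨r, hrC⟩) (by rw [Subgroup.orderOf_mk])
  have h2 : Nat.card (fixedBy (fixSub Ω (zpowers y)) (⟨r, hrC⟩ : centralizer (zpowers y : Set G))) =
      0 := by
    rw [Nat.card_eq_zero]
    left
    constructor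
    rintro ⟨⟨c, hc⟩, hc'⟩
    have h3 : r • c = c := congrArg Subtype.val hc'
    exact hi.fpf h hy2 hy1 hyr h3 (hc y (mem_zpowers y))
  rw [h2] at h1
  rw [← card_fixSub_zpowers]
  exact Nat.modEq_zero_iff_dvd.1 h1

end Inverted

namespace TO

variable {p k : ℕ} {a b : Ω}

/-- An involution of `Dab a b ⊓ genFix U ⟨t⟩` is `t`. -/
theorem eq_t (h : TO U p k a b) [Finite Ω] {t z : G} (ht : t ∈ Dab G a b) (ht2 : t * t = 1)
    (ht1 : t ≠ 1) (hz : z ∈ Dab G a b ⊓ genFix U (zpowers t)) (hz2 : z * z = 1) (hz1 : z ≠ 1) :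
    z = t :=
  h.one' h.hab hz.1 ht hz2 ht2 hz1 ht1
    (mem_cent_zpowers.1 (PP1.genFix_le_centralizer _ hz.2)).symm

/-- The type at `t` is affine or linear. -/
theorem type_t (h : TO U p k a b) [Finite Ω] {t : G} (ht : t ∈ Dab G a b) (ht2 : t * t = 1)
    (ht1 : t ≠ 1) (hT : XType U (zpowers t) a b) :
    DA (U a ⊓ centralizer ((zpowers t : Subgroup G) : Set G)) (Dab G a b ⊓ genFix U (zpowers t))
      (kerFix Ω (zpowers t)) (fun w => w ∈ genFix U (zpowers t) ∧ Swaps w a b) ∨
    DLt U a b t := by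
  have htK : t ∈ kerFix Ω (zpowers t) := fun c hc => hc t (mem_zpowers t)
  rcases hT with D | D | ⟨q, D⟩ | ⟨n, D⟩
  · exact Or.inl D
  · exact Or.inr D
  · exfalso
    obtain ⟨z, hz, hzK, hz2, -⟩ := D.invol
    have hz1 : z ≠ 1 := fun e => hzK (by rw [e]; exact one_mem _)
    exact hzK (by rw [h.eq_t ht ht2 ht1 hz hz2 hz1]; exact htK)
  · exfalso
    obtain ⟨z, hz, hzK, hz2, -⟩ := D.invol
    have hz1 : z ≠ 1 := fun e => hzK (by rw [e]; exact one_mem _)
    exact hzK (by rw [h.eq_t ht ht2 ht1 hz hz2 hz1]; exact htK)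

end TO

/-- `M = genFix U ⟨t⟩` of linear type is `PSL₂(q)` or `SL₂(q)`. -/
theorem psl_or_sl [Finite G] {a : Ω} {t : G} {q : ℕ} {P E : Subgroup G} {Sw : G → Prop}
    (hP : P = CU U a t) (D : DL (genFix U (zpowers t)) P E (kerFix Ω (zpowers t)) Sw q)
    (hSL : HasSL U a t) :
    (∃ (F : Type) (_ : Field F) (_ : Fintype F), Fintype.card F = q ∧
      Nonempty (Matrix.ProjectiveSpecialLinearGroup (Fin 2) F ≃* genFix U (zpowers t)) ∧
      ∀ x ∈ genFix U (zpowers t), x ∈ kerFix Ω (zpowers t) → x = 1) ∨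
    (∃ (F : Type) (_ : Field F) (_ : Fintype F), Fintype.card F = q ∧
      Nonempty (Matrix.SpecialLinearGroup (Fin 2) F ≃* genFix U (zpowers t))) := by
  obtain ⟨F, iF, iF', hF, f, hfs, hfk⟩ := D.iso
  by_cases hZ : ∀ x ∈ genFix U (zpowers t), x ∈ kerFix Ω (zpowers t) → x = 1
  · left
    refine ⟨F, iF, iF', hF, ⟨(MulEquiv.ofBijective f ⟨?_, hfs⟩).symm⟩, hZ⟩
    rw [injective_iff_map_eq_one]
    intro x hx
    exact Subtype.ext (hZ x x.2 ((hfk x).1 hx))
  · right
    push Not at hZ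
    obtain ⟨z, hzM, hzK, hz1⟩ := hZ
    obtain ⟨F', iF1, iF2, hF', φ, hφ⟩ := hSL
    have hcard : Fintype.card F' = q := by rw [hF', ← hP, D.card]
    refine ⟨F', iF1, iF2, hcard, ?_⟩
    have hfin := finite_SL2 (F := F')
    have hodd : Odd (Fintype.card F) := by rw [hF]; exact D.odd
    have h20 : (2 : F) ≠ 0 :=
      Cfsg.Agent.ClassicalGeometry.SLTwoFour.two_ne_zero_of_odd hodd
    -- `|M| ≥ 2 |PSL₂(F)|`
    have h1 : Nat.card (genFix U (zpowers t)) =
        Nat.card (Matrix.ProjectiveSpecialLinearGroup (Fin 2) F) * Nat.card f.ker := by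
      rw [Subgroup.card_eq_card_quotient_mul_card_subgroup f.ker]
      congr 1
      exact Nat.card_congr (QuotientGroup.quotientKerEquivOfSurjective f hfs).toEquiv
    have h2 : 2 ≤ Nat.card f.ker := by
      have : Nontrivial f.ker := ⟨⟨⟨⟨z, hzM⟩, (hfk _).2 hzK⟩, 1, fun e => hz1 (by
        have := congrArg (fun x : f.ker => ((x : genFix U (zpowers t)) : G)) e
        exact this)⟩⟩
      exact Finite.one_lt_card_iff_nontrivial.2 this
    have h3 := Cfsg.Agent.ClassicalGeometry.PSL2Klein.card_SL_eq h20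
    rw [Cfsg.Agent.ClassicalGeometry.PSL2Basic.card_SL2, hF, ← hcard,
      ← Cfsg.Agent.ClassicalGeometry.PSL2Basic.card_SL2] at h3
    have h4 : Nat.card φ.range ≤ Nat.card (Matrix.SpecialLinearGroup (Fin 2) F') :=
      Nat.card_le_card_of_surjective _ φ.rangeRestrict_surjective
    have h5 : Nat.card φ.range = Nat.card (genFix U (zpowers t)) := by rw [hφ]
    have h6 : Nat.card (Matrix.SpecialLinearGroup (Fin 2) F') ≤ Nat.card φ.range := by
      rw [h5, h1, h3, mul_comm]
      exact Nat.mul_le_mul_left _ h2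
    have h7 : Function.Bijective φ.rangeRestrict := by
      rw [Nat.bijective_iff_surjective_and_card]
      exact ⟨φ.rangeRestrict_surjective, le_antisymm h6 h4⟩
    exact ⟨(MulEquiv.ofBijective _ h7).trans (MulEquiv.subgroupCongr hφ)⟩

namespace TO

variable {p k : ℕ} {a b : Ω}

/-- The contradiction at a conjugate of `t` commuting with `r` and the inverting involution `t'`. -/
theorem core (h : TO U p k a b) [Finite G] [Finite Ω] {t : G}
    (ht : t ∈ Dab G a b) (ht2 : t * t = 1) (ht1 : t ≠ 1) {c d : Ω} {t' r : G}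
    (hi : Inverted c d t' r) (hcd : d ≠ c) (htr : t * r = r * t) (htt' : t * t' = t' * t)
    (hsw : Swaps t c d) (hf : ∀ u ∈ CU U c r, t' * u = u * t' → u = 1) {n m' m'' : ℕ} (hn : 2 ≤ n)
    (hm'' : Odd m'') (hr : Nat.card (CU U c r) + 1 = 2 ^ n * m'')
    (hq : Nat.card (CU U a t) + 1 = 2 ^ n * m')
    (hT : XType U (zpowers t) a b) (hSL : DLt U a b t → HasSL U a t) : False := by
  have hcd' := h.at' hcd
  have hℓ : orderOf r ∣ Nat.card (CU U a t) + 1 := by
    rw [← card_fixedBy_eq h.split h.hab ht]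
    exact hi.dvd_fix hcd' ht2 ht1 htr
  have hrpow : r ^ orderOf r = 1 := pow_orderOf_eq_one r
  rcases h.type_t ht ht2 ht1 hT with D | ⟨q, D⟩
  · obtain ⟨s, -, hs⟩ := D.card
    change Nat.card (CU U a t) + 1 = 2 ^ s at hs
    rw [hs] at hℓ
    exact hi.ne_two ((Nat.prime_dvd_prime_iff_eq hi.prime Nat.prime_two).1
      (hi.prime.dvd_of_dvd_pow hℓ))
  · have hqc : Nat.card (CU U a t) = q := D.card
    have hq4 : q % 4 = 3 := by
      rw [hqc] at hq
      obtain ⟨n', rfl⟩ := Nat.exists_eq_add_of_le hn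
      have h1 : q + 1 = 4 * (2 ^ n' * m') := by rw [hq, pow_add]; ring
      omega
    rw [hqc] at hq hℓ
    have htC : ∀ x ∈ genFix U (zpowers t), t * x = x * t := fun x hx =>
      mem_cent_zpowers.1 (PP1.genFix_le_centralizer _ hx)
    have hMconj : ∀ {g : G}, t * g = g * t → ∀ m ∈ genFix U (zpowers t),
        g * m * g⁻¹ ∈ genFix U (zpowers t) := by
      intro g hg m hm
      refine PP1.conj_genFix h.split ?_ hm
      rintro _ ⟨j, rfl⟩
      have h1 : g⁻¹ * t ^ j * g = t ^ j := by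
        have h2 : Commute (t ^ j) g := (show Commute t g from hg).zpow_left j
        rw [mul_assoc, h2.eq]; group
      change g⁻¹ * t ^ j * g ∈ _
      rw [h1]
      exact zpow_mem (mem_zpowers t) j
    rcases psl_or_sl rfl D (hSL ⟨q, D⟩) with ⟨F, _, _, hF, ⟨e⟩, hZ⟩ | ⟨F, _, _, hF, ⟨e⟩⟩
    · obtain ⟨i₀, hi₀M, hi₀1, hi₀2, hi₀r⟩ := exists_fix_PSL e (by rw [hF]; exact hq4) hi.prime hrpow
        hi.ne_two (by rw [hF]; exact hℓ) (hMconj htr)
      -- an involution commuting with `t'` too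
      have hodd := odd_ncard_invol (genFix U (zpowers t) ⊓ centralizer {r})
        ⟨i₀, ⟨hi₀M, mem_centralizer_singleton_iff.2 hi₀r.symm⟩, hi₀1, hi₀2⟩
      obtain ⟨i, ⟨⟨hiM, hir⟩, hi1, hi2⟩, hit'⟩ := fix_conj Nat.prime_two
        (by rw [pow_two]; exact hi.t_sq)
        (X := {x : G | x ∈ genFix U (zpowers t) ⊓ centralizer {r} ∧ x ≠ 1 ∧ x * x = 1}) (by
          rintro x ⟨⟨hxM, hxr⟩, hx1, hx2⟩
          refine ⟨⟨hMconj htt' x hxM, ?_⟩, fun hc => hx1 (conj_eq_one_iff.1 hc),
            mul_self_conj rfl hx2⟩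
          have hxr' : x * r = r * x := mem_centralizer_singleton_iff.1 hxr
          refine mem_centralizer_singleton_iff.2 ?_
          have h1 : t' * r * t'⁻¹ = r⁻¹ := hi.inv
          have h2 : r = t' * r⁻¹ * t'⁻¹ := by
            calc r = (t' * r * t'⁻¹)⁻¹ := by rw [h1, inv_inv]
              _ = _ := by group
          have h3 : x * r⁻¹ = r⁻¹ * x := by
            calc x * r⁻¹ = r⁻¹ * (r * x) * r⁻¹ := by group
              _ = r⁻¹ * (x * r) * r⁻¹ := by rw [hxr']
              _ = r⁻¹ * x := by group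
          calc t' * x * t'⁻¹ * r = t' * x * t'⁻¹ * (t' * r⁻¹ * t'⁻¹) := by rw [← h2]
            _ = t' * (x * r⁻¹) * t'⁻¹ := by group
            _ = t' * (r⁻¹ * x) * t'⁻¹ := by rw [h3]
            _ = (t' * r⁻¹ * t'⁻¹) * (t' * x * t'⁻¹) := by group
            _ = r * (t' * x * t'⁻¹) := by rw [← h2])
        (by
          rw [← even_iff_two_dvd, Nat.not_even_iff_odd]
          exact hodd)
      have hir' : i * r = r * i := mem_centralizer_singleton_iff.1 hir
      have hit : i ≠ t := by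
        rintro rfl
        exact ht1 (hZ _ hiM (fun c hc => hc _ (mem_zpowers _)))
      have hti := htC i hiM
      have hic : i • c = d := by
        have h1 : r • i • c = i • c := by
          rw [← mul_smul, ← hir', mul_smul, show r • c = c from hi.r_mem.1]
        have h2 : t' • i • c = i • c := by
          rw [← mul_smul, hit', mul_smul, show t' • c = c from hi.t_mem.1]
        rcases hi.fix_pair hcd' hf h1 h2 with h3 | h3
        · exact absurd h3 (hi.fpf hcd' hi2 hi1 hir' hi.r_mem.1)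
        · exact h3
      have hit1 : t * i ≠ 1 := by
        intro hc
        apply hit
        rw [← inv_eq_of_mul_eq_one_right hc, inv_eq_of_mul_eq_one_left ht2]
      have hfix : (t * i) • c = c := by
        rw [mul_smul, hic]
        exact hsw.2
      refine hi.fpf hcd' (s := t * i) ?_ hit1 ?_ hi.r_mem.1 hfix
      · calc t * i * (t * i) = t * (i * t) * i := by group
          _ = t * (t * i) * i := by rw [hti]
          _ = (t * t) * (i * i) := by group
          _ = 1 := by rw [ht2, hi2, one_mul]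
      · calc t * i * r = t * (i * r) := by group
          _ = t * (r * i) := by rw [hir']
          _ = (t * r) * i := by group
          _ = (r * t) * i := by rw [htr]
          _ = r * (t * i) := by group
    · obtain ⟨y, -, hy, hry⟩ := exists_fix_SL e (by rw [hF]; exact hq4) hi.prime hrpow
        hi.ne_two (by rw [hF]; exact hℓ) (hMconj htr) (n := n) (m' := m') (by omega)
        (by rw [hF]; exact hq)
      exact hi.no_cyclic hcd' hn hm'' hr hy hry

end TO

namespace Inverted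

variable {p k : ℕ} {a b : Ω} {t r : G}

/-- **Case (C)** is impossible. -/
theorem caseC (hi : Inverted a b t r) (h : TO U p k a b) [Finite G] [Finite Ω] [FaithfulSMul G Ω]
    {s e : ℕ} (hs : Nat.card (CU U a t) = p ^ s) (he : Nat.card (CU U a r) = p ^ e)
    (hso : Odd s) (heo : Odd e) (hp : p % 4 = 3)
    (hf : ∀ u ∈ CU U a r, t * u = u * t → u = 1)
    (hT : XType U (zpowers t) a b) (hSL : DLt U a b t → HasSL U a t) : False := by
  have hpos : 0 < e := heo.pos
  have hc : 1 < Nat.card (CU U a r) := by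
    rw [he]
    exact Nat.one_lt_pow hpos.ne' h.hp.one_lt
  obtain ⟨y, hsw, hy2, hyr, hyt⟩ := hi.exists_y h hf hc
  have hy1 : y ≠ 1 := by
    rintro rfl
    have h1 := hsw.1
    rw [one_smul] at h1
    exact h.hab h1.symm
  -- conjugate `y` to `t`
  obtain ⟨g, hg⟩ := isConj_iff.1 (h.isConj hy2 hi.t_sq hy1 hi.t_ne)
  have hi' := hi.conj g
  -- numbers
  obtain ⟨n, m, hm, hnm⟩ := Nat.exists_eq_two_pow_mul_odd (n := p + 1) (by omega)
  have hn : 2 ≤ n := by
    by_contra hn
    have h1 : n = 0 ∨ n = 1 := by omega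
    obtain ⟨j, rfl⟩ := hm
    rcases h1 with rfl | rfl
    · omega
    · omega
  obtain ⟨m', -, hsm⟩ := two_part h.p_odd hm hnm hso
  obtain ⟨m'', hm'', hem⟩ := two_part h.p_odd hm hnm heo
  have hcardr : Nat.card (CU U (g • a) (g * r * g⁻¹)) = Nat.card (CU U a r) := by
    have h1 := card_fixedBy_eq h.split h.hab hi.r_mem
    have h2 := card_fixedBy_eq h.split (show g • b ≠ g • a from
      fun e => h.hab (MulAction.injective g e)) hi'.r_mem
    have h3 := card_fixedBy_conj (Ω := Ω) g r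
    omega
  refine h.core hi.t_mem hi.t_sq hi.t_ne hi' (fun e => h.hab (MulAction.injective g e)) ?_ ?_ ?_ ?_
    hn hm'' (by rw [hcardr, he]; exact hem) (by rw [hs]; exact hsm) hT hSL
  · rw [← hg]
    calc g * y * g⁻¹ * (g * r * g⁻¹) = g * (y * r) * g⁻¹ := by group
      _ = g * (r * y) * g⁻¹ := by rw [hyr]
      _ = _ := by group
  · calc t * (g * t * g⁻¹) = (g * y * g⁻¹) * (g * t * g⁻¹) := by rw [hg]
      _ = g * (y * t) * g⁻¹ := by group
      _ = g * (t * y) * g⁻¹ := by rw [hyt]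
      _ = (g * t * g⁻¹) * (g * y * g⁻¹) := by group
      _ = (g * t * g⁻¹) * t := by rw [hg]
  · rw [← hg]
    exact hsw.conj g
  · intro u hu htu
    rw [mem_CU] at hu
    have h1 : g⁻¹ * u * g ∈ CU U a r := by
      rw [mem_CU]
      refine ⟨h.split.conj' g hu.1, ?_⟩
      calc r * (g⁻¹ * u * g) = g⁻¹ * ((g * r * g⁻¹) * u) * g := by group
        _ = g⁻¹ * (u * (g * r * g⁻¹)) * g := by rw [hu.2]
        _ = _ := by group
    have h2 := hf _ h1 (by
      calc t * (g⁻¹ * u * g) = g⁻¹ * ((g * t * g⁻¹) * u) * g := by group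
        _ = g⁻¹ * (u * (g * t * g⁻¹)) * g := by rw [htu]
        _ = _ := by group)
    calc u = g * (g⁻¹ * u * g) * g⁻¹ := by group
      _ = 1 := by rw [h2]; group

end Inverted

end Cfsg.Agent.HKS.TwoOne
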