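import Mathlib
import Cfsg.Agent.HKS.TwoOneC

/-!
# Two-point stabiliser of 2-rank one: the case `|U a| = |C_{U a}(t)|²`
-/

set_option autoImplicit false

namespace Cfsg.Agent.HKS.TwoOne

open Subgroup MulAction SSplit

section perm

/-- A permutation of order dividing `4` with fixed point free square. -/
theorem four_dvd_of_free {α : Type*} [Finite α] {σ : Equiv.Perm α} (h : σ ^ 4 = 1)
    (hf : ∀ x, (σ ^ 2) x ≠ x) : 4 ∣ Nat.card α := by
  classical
  have := Fintype.ofFinite α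
  have h1 : ∀ c ∈ σ.cycleType, c = 4 := by
    intro c hc
    have hd : c ∣ 2 ^ 2 := (Equiv.Perm.dvd_of_mem_cycleType hc).trans (orderOf_dvd_of_pow_eq_one h)
    obtain ⟨c', τ, hσ, hdis, hcyc, hcard⟩ := Equiv.Perm.mem_cycleType_iff.1 hc
    obtain ⟨j, hj, rfl⟩ := (Nat.dvd_prime_pow Nat.prime_two).1 hd
    rcases Nat.lt_or_ge j 2 with hlt | hge
    · exfalso
      obtain ⟨x, hx, hx'⟩ := hcyc
      have hτx : τ x = x := (hdis x).resolve_left hx
      have h2 : c' ^ 2 ^ j = 1 := by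
        rw [← hcard, ← Equiv.Perm.IsCycle.orderOf ⟨x, hx, hx'⟩]
        exact pow_orderOf_eq_one c'
      have h2' : c' ^ 2 = 1 := by
        interval_cases j
        · rw [pow_zero, pow_one] at h2
          rw [h2, one_pow]
        · rw [pow_one] at h2
          exact h2
      apply hf x
      rw [hσ, hdis.commute.mul_pow, h2', one_mul]
      exact Equiv.Perm.pow_apply_eq_self_of_apply_eq_self hτx _
    · rw [le_antisymm hj hge]; norm_num
  have h2 : σ.cycleType = Multiset.replicate σ.cycleType.card 4 :=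
    Multiset.eq_replicate_card.2 h1
  have h3 : σ.support = Finset.univ := by
    ext x
    simp only [Equiv.Perm.mem_support, Finset.mem_univ, iff_true]
    intro hc
    exact hf x (Equiv.Perm.pow_apply_eq_self_of_apply_eq_self hc _)
  have h4 := σ.sum_cycleType
  rw [h3, Finset.card_univ, h2, Multiset.sum_replicate, smul_eq_mul] at h4
  rw [Nat.card_eq_fintype_card, ← h4]
  exact Dvd.intro_left _ rfl

end perm

/-- `p ^ s = -1`, `p ^ e = p ^ (2 s)` modulo an odd prime and `e` odd: impossible. -/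
theorem mod_dead {p ℓ s e : ℕ} (hℓ : ℓ.Prime) (hℓ2 : ℓ ≠ 2) (h1 : ℓ ∣ p ^ s + 1)
    (h2 : p ^ (2 * s) ≡ p ^ e [MOD ℓ]) (he : Odd e) : False := by
  have : Fact ℓ.Prime := ⟨hℓ⟩
  have e1 : (p : ZMod ℓ) ^ s = -1 := by
    have := (ZMod.natCast_eq_zero_iff (p ^ s + 1) ℓ).2 h1
    push_cast at this
    linear_combination this
  have e2 : (p : ZMod ℓ) ^ (2 * s) = 1 := by
    rw [mul_comm, pow_mul, e1]; norm_num
  have e3 : (p : ZMod ℓ) ^ e = 1 := by
    have := (ZMod.natCast_eq_natCast_iff _ _ _).2 h2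
    push_cast at this
    rw [← this, e2]
  have hd : orderOf (p : ZMod ℓ) ∣ s := by
    have h3 := orderOf_dvd_of_pow_eq_one e3
    have h4 := orderOf_dvd_of_pow_eq_one e2
    have h5 : Nat.Coprime (orderOf (p : ZMod ℓ)) 2 :=
      Nat.Coprime.coprime_dvd_left h3 (Nat.coprime_two_right.2 he)
    exact h5.dvd_of_dvd_mul_left h4
  have e4 : (p : ZMod ℓ) ^ s = 1 := orderOf_dvd_iff_pow_eq_one.1 hd
  rw [e1] at e4
  have e5 : (2 : ZMod ℓ) = 0 := by linear_combination (-1) * e4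
  have h6 : ((2 : ℕ) : ZMod ℓ) = 0 := by exact_mod_cast e5
  exact hℓ2 ((Nat.prime_dvd_prime_iff_eq hℓ Nat.prime_two).1 ((ZMod.natCast_eq_zero_iff _ _).1 h6))

variable {G Ω : Type*} [Group G] [MulAction G Ω] {U : Ω → Subgroup G}

namespace TO

variable {p k : ℕ} {a b : Ω}

/-- In linear type, an element of `M` of odd prime order `ℓ ∣ q + 1` inverted in `M` is fixed point
free on `Fix t`. -/
theorem fpf_nonsplit (h : TO U p k a b) [Finite G] [Finite Ω] {t : G}
    (ht : t ∈ Dab G a b) {q : ℕ} {Sw : G → Prop}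
    (D : DL (genFix U (zpowers t)) (U a ⊓ centralizer ((zpowers t : Subgroup G) : Set G))
      (Dab G a b ⊓ genFix U (zpowers t)) (kerFix Ω (zpowers t)) Sw q)
    {ℓ : ℕ} (hℓ : ℓ.Prime) (hℓ2 : ℓ ≠ 2) (hq : ℓ ∣ q + 1) {x g : G}
    (hx : x ∈ genFix U (zpowers t)) (hg : g ∈ genFix U (zpowers t)) (hxo : orderOf x = ℓ)
    (hgx : g * x * g⁻¹ = x⁻¹) {c : Ω} (hc : t • c = c) : x • c ≠ c := by
  intro hxc
  have hD3 := D.three
  have hcardP : Nat.card (CU U a t) = q := D.card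
  have hfix : Nat.card (fixSub Ω (zpowers t)) = q + 1 := by
    rw [card_fixSub_zpowers, card_fixedBy_eq h.split h.hab ht, hcardP]
  have h3 : 2 < Nat.card (fixSub Ω (zpowers t)) := by omega
  have hMC := PP1.genFix_le_centralizer (U := U) (zpowers t)
  have hpow : x ^ ℓ = 1 := by rw [← hxo]; exact pow_orderOf_eq_one x
  -- a second fixed point
  obtain ⟨d, hdc, hd, hxd⟩ : ∃ d, d ≠ c ∧ t • d = d ∧ x • d = d := by
    classical
    have : Fintype (fixSub Ω (zpowers t)) := Fintype.ofFinite _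
    have : Fact ℓ.Prime := ⟨hℓ⟩
    obtain ⟨d, hd, hdc⟩ := Equiv.Perm.exists_fixed_point_of_prime' (p := ℓ) (n := 1)
      (α := fixSub Ω (zpowers t)) (by rw [← Nat.card_eq_fintype_card, hfix]; exact hq)
      (σ := toPermHom (centralizer (zpowers t : Set G)) (fixSub Ω (zpowers t)) ⟨x, hMC hx⟩) (by
        rw [pow_one, ← map_pow]
        have : (⟨x, hMC hx⟩ : centralizer (zpowers t : Set G)) ^ ℓ = 1 := Subtype.ext hpow
        rw [this, map_one]) (a := ⟨c, zpowers_fix hc⟩) (Subtype.ext hxc)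
    exact ⟨d, fun e => hdc (Subtype.ext e), mem_fixSub_zpowers.1 d.2, congrArg Subtype.val hd⟩
  -- move to `a`, `b`
  obtain ⟨m, hm, hma, hmb⟩ := two_genFix h.split h3 h.hab hdc (zpowers_fix ht.1)
    (zpowers_fix ht.2) (zpowers_fix hc) (zpowers_fix hd)
  set x' := m⁻¹ * x * m with hx'
  set g' := m⁻¹ * g * m with hg'
  have hx'M : x' ∈ genFix U (zpowers t) := mul_mem (mul_mem (inv_mem hm) hx) hm
  have hg'M : g' ∈ genFix U (zpowers t) := mul_mem (mul_mem (inv_mem hm) hg) hm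
  have hx'E : x' ∈ Dab G a b ⊓ genFix U (zpowers t) := by
    refine ⟨⟨?_, ?_⟩, hx'M⟩
    · change (m⁻¹ * x * m) • a = a
      rw [mul_smul, mul_smul, hma, hxc, ← hma, inv_smul_smul]
    · change (m⁻¹ * x * m) • b = b
      rw [mul_smul, mul_smul, hmb, hxd, ← hmb, inv_smul_smul]
  have hx'pow : x' ^ ℓ = 1 := by
    have h1 : x' ^ ℓ = m⁻¹ * x ^ ℓ * m := by
      have := conj_pow (i := ℓ) (a := m⁻¹) (b := x)
      rw [inv_inv] at this
      exact this
    rw [h1, hpow]; group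
  obtain ⟨u, ⟨hu, hu1⟩, hxu⟩ := fix_conj hℓ hx'pow
    (X := {u : G | u ∈ U a ⊓ centralizer ((zpowers t : Subgroup G) : Set G) ∧ u ≠ 1}) (by
      rintro u ⟨hu, hu1⟩
      refine ⟨⟨h.split.conj_of_fix hx'E.1.1 hu.1, ?_⟩, fun hc => hu1 (conj_eq_one_iff.1 hc)⟩
      exact (centralizer ((zpowers t : Subgroup G) : Set G)).mul_mem
        ((centralizer ((zpowers t : Subgroup G) : Set G)).mul_mem (hMC hx'M) hu.2)
        ((centralizer ((zpowers t : Subgroup G) : Set G)).inv_mem (hMC hx'M)))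
    (by
      have h1 : {u : G | u ∈ U a ⊓ centralizer ((zpowers t : Subgroup G) : Set G) ∧ u ≠ 1} =
          ((U a ⊓ centralizer ((zpowers t : Subgroup G) : Set G) : Subgroup G) : Set G) \ {1} := by
        ext u
        rfl
      rw [h1, Set.ncard_sdiff (by simp), Set.ncard_singleton]
      have h2 : ((U a ⊓ centralizer ((zpowers t : Subgroup G) : Set G) : Subgroup G) : Set G).ncard =
          q := by
        rw [← Nat.card_coe_set_eq]; exact D.card
      rw [h2]
      intro hc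
      have h4 : ℓ ∣ (q + 1) - (q - 1) := Nat.dvd_sub hq hc
      have h5 : (q + 1) - (q - 1) = 2 := by omega
      rw [h5] at h4
      exact hℓ2 ((Nat.prime_dvd_prime_iff_eq hℓ Nat.prime_two).1 h4))
  have hK := (D.free x' hx'E u hu hxu).resolve_right hu1
  have hX : zpowers t ≤ Dab G a b := zpowers_le.2 ht
  have hcomm := PP1.comm_genFix h.split h.hab hX (fun e he => hK e he) hg'M
  have hinv : g' * x' * g'⁻¹ = x'⁻¹ := by
    calc g' * x' * g'⁻¹ = m⁻¹ * (g * x * g⁻¹) * m := by rw [hg', hx']; group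
      _ = m⁻¹ * x⁻¹ * m := by rw [hgx]
      _ = x'⁻¹ := by rw [hx']; group
  have h6 : x' = x'⁻¹ := by
    calc x' = (x' * g') * g'⁻¹ := by group
      _ = g' * x' * g'⁻¹ := by rw [hcomm]
      _ = x'⁻¹ := hinv
  have h7 : x * x = 1 := by
    have h8 : x' * x' = 1 := by
      nth_rewrite 2 [h6]
      exact mul_inv_cancel x'
    calc x * x = m * (x' * x') * m⁻¹ := by rw [hx']; group
      _ = 1 := by rw [h8]; group
  have h9 : ℓ ∣ 2 := by
    rw [← hxo]
    exact orderOf_dvd_of_pow_eq_one (by rw [pow_two]; exact h7)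
  exact hℓ2 ((Nat.prime_dvd_prime_iff_eq hℓ Nat.prime_two).1 h9)

/-- **Case (A)** is impossible: `|U a| = q²`, `q = |C_{U a}(t)| = 1 (mod 4)`. -/
theorem caseA (h : TO U p k a b) [Finite G] [Finite Ω] [FaithfulSMul G Ω] {t : G}
    (ht : t ∈ Dab G a b) (ht2 : t * t = 1) (ht1 : t ≠ 1) {s : ℕ}
    (hs : Nat.card (CU U a t) = p ^ s) (hk : k = 2 * s) (hq4 : p ^ s % 4 = 1)
    (hT : XType U (zpowers t) a b) (hSL : DLt U a b t → HasSL U a t) : False := by
  rcases h.type_t ht ht2 ht1 hT with D | ⟨q, D⟩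
  · obtain ⟨j, hj, hjc⟩ := D.card
    change Nat.card (CU U a t) + 1 = 2 ^ j at hjc
    obtain ⟨i, rfl⟩ := Nat.exists_eq_add_of_le hj
    rw [hs, pow_add] at hjc
    omega
  have hqc : Nat.card (CU U a t) = q := D.card
  have hqs : q = p ^ s := by rw [← hqc, hs]
  have h3 := D.three
  have htK : t ∈ kerFix Ω (zpowers t) := fun c hc => hc t (mem_zpowers t)
  -- `t ∈ M`
  have htM : t ∈ genFix U (zpowers t) := by
    have h1 := D.cardE
    have h2 : 2 ∣ (kerFix Ω (zpowers t)).relIndex (Dab G a b ⊓ genFix U (zpowers t)) := by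
      rw [← hqs] at hq4
      omega
    have h4 : 2 ∣ Nat.card (Dab G a b ⊓ genFix U (zpowers t) : Subgroup G) :=
      h2.trans (Subgroup.relIndex_dvd_card _ _)
    have : Fact (Nat.Prime 2) := ⟨Nat.prime_two⟩
    obtain ⟨z, hz⟩ := exists_prime_orderOf_dvd_card' 2 h4
    have hz2 : (z : G) * z = 1 := by
      have := pow_orderOf_eq_one z
      rw [hz, pow_two] at this
      exact congrArg Subtype.val this
    have hz1 : (z : G) ≠ 1 := by
      intro hc
      have : z = 1 := Subtype.ext hc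
      rw [this, orderOf_one] at hz
      omega
    have h5 := h.eq_t ht ht2 ht1 z.2 hz2 hz1
    have h6 : (z : G) ∈ genFix U (zpowers t) := z.2.2
    rwa [h5] at h6
  rcases psl_or_sl rfl D (hSL ⟨q, D⟩) with ⟨F, _, _, hF, -, hZ⟩ | ⟨F, _, _, hF, ⟨e⟩⟩
  · exact ht1 (hZ t htM htK)
  have hoddF : Odd (Fintype.card F) := by rw [hF]; exact D.odd
  have h20 : (2 : F) ≠ 0 := Cfsg.Agent.ClassicalGeometry.SLTwoFour.two_ne_zero_of_odd hoddF
  -- `e (-1) = t`
  have het : (e (-1) : G) = t := by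
    obtain ⟨z, hz⟩ := e.surjective ⟨t, htM⟩
    have h1 : z * z = 1 := by
      rw [← e.map_eq_one_iff, map_mul, hz]
      exact Subtype.ext ht2
    rcases Cfsg.Agent.ClassicalGeometry.SLTwoFour.eq_one_or_neg_one_of_mul_self h20 z h1 with
      rfl | rfl
    · exfalso
      rw [map_one] at hz
      exact ht1 (congrArg Subtype.val hz).symm
    · rw [hz]
  -- an odd prime dividing `q + 1`
  obtain ⟨ℓ, hℓ, hℓd⟩ := Nat.exists_prime_and_dvd (n := (q + 1) / 2) (by omega)
  have hℓ2 : ℓ ≠ 2 := by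
    rintro rfl
    omega
  have hℓq : ℓ ∣ q + 1 := by
    have : (q + 1) / 2 * 2 = q + 1 := by omega
    rw [← this]
    exact hℓd.mul_right 2
  obtain ⟨x₀, g₀, hxo, hgg, hgx⟩ := exists_inv_pair (F := F) (ℓ := ℓ) (by rw [hF]; exact hℓq)
  set x : G := (e x₀ : G) with hx
  set g : G := (e g₀ : G) with hg
  have hxM : x ∈ genFix U (zpowers t) := (e x₀).2
  have hgM : g ∈ genFix U (zpowers t) := (e g₀).2
  have hxo' : orderOf x = ℓ := by
    rw [hx, Subgroup.orderOf_coe, MulEquiv.orderOf_eq, hxo]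
  have hgg' : g * g = t := by
    rw [← het, ← hgg, map_mul]
    rfl
  have hgx' : g * x * g⁻¹ = x⁻¹ := by
    have h1 : e g₀ * e x₀ * (e g₀)⁻¹ = (e x₀)⁻¹ := by
      rw [← map_mul, ← map_inv, ← map_inv, ← map_mul, hgx]
    exact congrArg Subtype.val h1
  -- `|Fix x|`
  have hℓp : ℓ ≠ p := by
    rintro rfl
    have hs0 : s ≠ 0 := by
      rintro rfl
      rw [pow_zero] at hqs
      omega
    rw [hqs] at hℓq
    have h1 : ℓ ∣ 1 := (Nat.dvd_add_right (dvd_pow_self ℓ hs0)).1 hℓq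
    exact hℓ.one_lt.ne' (Nat.dvd_one.1 h1)
  have hnd : ¬ ℓ ∣ p ^ k + 1 := by
    intro hc
    rw [hk] at hc
    have h1 : p ^ (2 * s) + 1 = (p ^ s + 1) * (p ^ s - 1) + 2 := by
      have h2 : p ^ (2 * s) = p ^ s * p ^ s := by rw [two_mul, pow_add]
      have h4 : 1 ≤ p ^ s := Nat.pow_pos h.hp.pos
      obtain ⟨i, hi⟩ := Nat.exists_eq_add_of_le h4
      rw [h2, hi]
      have : 1 + i - 1 = i := by omega
      rw [this]; ring
    rw [h1] at hc
    rw [hqs] at hℓq
    have h5 := (Nat.dvd_add_right (hℓq.mul_right (p ^ s - 1))).1 hc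
    exact hℓ2 ((Nat.prime_dvd_prime_iff_eq hℓ Nat.prime_two).1 h5)
  obtain ⟨e', -, hfix, hmod⟩ := h.fix_of_prime hℓ hxo' hnd hℓp
  -- `t` is fixed point free on `Fix x`
  have hfpf : ∀ c : Ω, x • c = c → t • c ≠ c := fun c hxc htc =>
    h.fpf_nonsplit ht D hℓ hℓ2 hℓq hxM hgM hxo' hgx' htc hxc
  -- `4 ∣ |Fix x|`
  have hgx'' : x⁻¹ * g = g * x := by
    rw [← hgx']; group
  have hgfix : ∀ c : fixedBy Ω x, g • (c : Ω) ∈ fixedBy Ω x := by
    intro c
    have h1 : x • (c : Ω) = c := c.2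
    rw [mem_fixedBy]
    have h2 : x⁻¹ • g • (c : Ω) = g • (c : Ω) := by
      rw [← mul_smul, hgx'', mul_smul, h1]
    exact (inv_smul_eq_iff.1 h2).symm
  have hfour : 4 ∣ Nat.card (fixedBy Ω x) := by
    have : Finite (fixedBy Ω x) := Subtype.finite
    let f : fixedBy Ω x → fixedBy Ω x := fun c => ⟨g • (c : Ω), hgfix c⟩
    have hf : Function.Injective f := by
      intro c d hcd
      have h1 : g • (c : Ω) = g • (d : Ω) := congrArg Subtype.val hcd
      exact Subtype.ext (MulAction.injective g h1)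
    let σ : Equiv.Perm (fixedBy Ω x) := Equiv.ofBijective f (Finite.injective_iff_bijective.1 hf)
    have hσ : ∀ c : fixedBy Ω x, ((σ ^ 2) c : Ω) = t • (c : Ω) := by
      intro c
      rw [pow_two, Equiv.Perm.mul_apply]
      change g • g • (c : Ω) = t • (c : Ω)
      rw [← mul_smul, hgg']
    refine four_dvd_of_free (σ := σ) ?_ ?_
    · ext c
      have h1 : (σ ^ 4) c = (σ ^ 2) ((σ ^ 2) c) := by
        rw [← Equiv.Perm.mul_apply, ← pow_add]
      rw [h1, hσ, hσ, ← mul_smul, ht2, one_smul, Equiv.Perm.one_apply]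
    · intro c hc
      have h1 := congrArg Subtype.val hc
      rw [hσ] at h1
      exact hfpf c c.2 h1
  rw [hfix] at hfour
  have h5 : p ^ e' % 4 = 3 := by omega
  obtain ⟨he', -, -⟩ := Inverted.odd_exp h5 h5
  rw [hk] at hmod
  rw [hqs] at hℓq
  exact mod_dead hℓ hℓ2 hℓq hmod he'

/-- **The involution of `Dab a b` is central.** -/
theorem central_of (h : TO U p k a b) [Finite G] [Finite Ω] [FaithfulSMul G Ω]
    (IH : ∀ X : Subgroup G, X ≤ Dab G a b → X ≠ ⊥ → U a ⊓ centralizer (X : Set G) ≠ ⊥ →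
      XType U X a b) {t : G} (ht : t ∈ Dab G a b) (ht2 : t * t = 1) (ht1 : t ≠ 1)
    (hfix : 2 < Nat.card (fixedBy Ω t)) (hSL : DLt U a b t → HasSL U a t) :
    ∀ d ∈ Dab G a b, d * t = t * d := by
  by_contra hc
  obtain ⟨r, hi⟩ := h.exists_inverted ht ht2 ht1 hc
  have hT : XType U (zpowers t) a b := by
    refine IH _ (zpowers_le.2 ht) (by rw [Ne, zpowers_eq_bot]; exact ht1) ?_
    intro hbot
    rw [card_fixedBy_eq h.split h.hab ht] at hfix
    have h1 : Nat.card (CU U a t) = 1 := by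
      change Nat.card (U a ⊓ centralizer ((zpowers t : Subgroup G) : Set G) : Subgroup G) = 1
      rw [hbot, Subgroup.card_bot]
    omega
  obtain ⟨s, hs, ⟨-, hk, hq4⟩ | ⟨e, he, -, hso, heo, hp, hf⟩⟩ := hi.cases' h
    (IH _ (zpowers_le.2 hi.r_mem) (by rw [Ne, zpowers_eq_bot]; exact hi.r_ne))
  · exact h.caseA ht ht2 ht1 hs hk hq4 hT hSL
  · exact hi.caseC h hs he hso heo hp hf hT hSL

end TO

end Cfsg.Agent.HKS.TwoOne
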