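import Mathlib
import Cfsg.Agent.HKS.TwoOneA
import Cfsg.Agent.HKS.Goals
import Cfsg.Agent.HKS.SLNorm
import Cfsg.Agent.HKS.SLXFacts

/-!
# (II): the involution of `G_ab` is central (2-rank one)
-/

set_option autoImplicit false

namespace Cfsg.Agent.HKS.TwoOne

open Subgroup MulAction SSplit

variable {G Ω : Type*} [Group G] [MulAction G Ω] {U : Ω → Subgroup G} {p k : ℕ} {a b : Ω}

/-- `SL₂` coordinates give `HasSL`. -/
theorem hasSL (h : SSplit U) [Finite Ω] (hab : b ≠ a) {t : G} (ht : t ∈ Dab G a b)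
    (hD : DLt U a b t) : HasSL U a t := by
  obtain ⟨q, D⟩ := hD
  obtain ⟨F, i1, i2, hF, φ, S⟩ := SLCoord.exists_slx_of_DL h hab (zpowers_fix ht.1)
    (zpowers_fix ht.2) D
  exact ⟨F, i1, i2, by rw [hF]; exact D.card.symm, φ, S.range_eq h⟩

theorem toTO_of [Finite G] (C : CtxE U a b p k) (R : RankOneD G a b) : TO U p k a b where
  split := C.split
  gen := C.gen
  hab := C.ne
  hp := C.prime
  hp2 := C.p_ne_two
  hN := C.cardU
  one := fun s hs t ht hs2 ht2 hs1 ht1 hst => R s hs t ht hs1 ht1 hs2 ht2 hst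
  ex := by
    have : Fact (Nat.Prime 2) := ⟨Nat.prime_two⟩
    obtain ⟨x, hx⟩ := exists_prime_orderOf_dvd_card' 2 C.two
    refine ⟨x, x.2, ?_, ?_⟩
    · have := pow_orderOf_eq_one x
      rw [hx, pow_two] at this
      exact congrArg Subtype.val this
    · intro hc
      have : x = 1 := Subtype.ext hc
      rw [this, orderOf_one] at hx
      omega

/-- **`t ∈ Z(G_ab)`**: the involution of a two-point stabiliser of 2-rank one is central. -/
theorem central [Finite G] [Finite Ω] [FaithfulSMul G Ω] (C : CtxE U a b p k)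
    (R : RankOneD G a b) {t : G} (ht : t ∈ Dab G a b) (ht2 : t * t = 1) (ht1 : t ≠ 1) :
    ∀ d ∈ Dab G a b, d * t = t * d :=
  (toTO_of C R).central_of C.IH ht ht2 ht1 (C.fix t ht1 ht2) (hasSL C.split C.ne ht)

/-- The involution of `G_ab` is unique. -/
theorem unique [Finite G] [Finite Ω] [FaithfulSMul G Ω] (C : CtxE U a b p k)
    (R : RankOneD G a b) {s t : G} (hs : s ∈ Dab G a b) (hs2 : s * s = 1) (hs1 : s ≠ 1)
    (ht : t ∈ Dab G a b) (ht2 : t * t = 1) (ht1 : t ≠ 1) : s = t :=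
  R s hs t ht hs1 ht1 hs2 ht2 (central C R ht ht2 ht1 s hs)

end Cfsg.Agent.HKS.TwoOne
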