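import Mathlib
import Cfsg.Agent.HKS.SLCoord

/-!
# The unitary end: setting

`USet U a b t φ` : `t` is the unique involution of `G_ab`, `φ : SL₂(F) →* G` are coordinates of the group
generated by the `C_{U c}(t)`, `φ (-1) = t`, `|U a| = |F|^3`; every involution fixes a point; an
involution `y` interchanging `a` and `b` acts on `SL₂(F)` as conjugation by `[[0, ν], [1, 0]]`, `ν` a
nonsquare.
-/

set_option autoImplicit false

namespace Cfsg.Agent.HKS.UEnd

open Subgroup MulAction Cfsg.Agent.HKS Cfsg.Agent.ONan.SL2Hom Cfsg.Agent.HKS.SLRel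
  Cfsg.Agent.HKS.SLCoord

/-- conjugation by `[[0, ν], [1, 0]]`: `[[x, y], [z, u]] ↦ [[u, ν z], [y / ν, x]]` -/
def wconj {F : Type*} [Field F] (ν : F) (hν : ν ≠ 0) (A : Matrix.SpecialLinearGroup (Fin 2) F) :
    Matrix.SpecialLinearGroup (Fin 2) F :=
  mk (A.1 1 1) (ν * A.1 1 0) (ν⁻¹ * A.1 0 1) (A.1 0 0) (by
    have := det_eq A
    field_simp
    linear_combination this)

/-- The setting. -/
structure USet {G Ω F : Type*} [Group G] [MulAction G Ω] [Field F] (U : Ω → Subgroup G) (a b : Ω)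
    (t : G) (φ : Matrix.SpecialLinearGroup (Fin 2) F →* G) : Prop where
  h : SSplit U
  S : SLX U (zpowers t) a b φ
  inj : Function.Injective φ
  tD : t ∈ Dab G a b
  neg : φ (-1) = t
  cen : ∀ d ∈ Dab G a b, d * t = t * d
  uniq : ∀ s ∈ Dab G a b, s ≠ 1 → s * s = 1 → s = t
  fix : ∀ s : G, s ≠ 1 → s * s = 1 → ∃ c : Ω, s • c = c
  odd : Odd (Nat.card F)
  card : Nat.card (U a) = Nat.card F ^ 3
  /-- involutions interchanging `a` and `b` -/
  act : ∀ y : G, y * y = 1 → Swaps y a b → ∃ (ν : F) (hν : ν ≠ 0), ¬ IsSquare ν ∧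
    ∀ A, y * φ A * y⁻¹ = φ (wconj ν hν A)
  /-- `|J| = q - 1` -/
  cardJ : Nat.card {y : G // y * y = 1 ∧ Swaps y a b} = Nat.card F - 1

end Cfsg.Agent.HKS.UEnd
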