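import Mathlib
import Cfsg.Agent.HKS.UEndBase
import Cfsg.Agent.HKS.SLXFacts

/-!
# The unitary end: `C_{U a}(t)` is central in `U a`, and `t` inverts the quotient
-/

set_option autoImplicit false

namespace Cfsg.Agent.HKS.UEnd

open Subgroup MulAction Cfsg.Agent.HKS Cfsg.Agent.ONan.SL2Hom Cfsg.Agent.HKS.SLRel
  Cfsg.Agent.HKS.SLCoord

section Arith

/-- `q - 1 ∣ p^r - 1`, `0 < r < 2n`, `q = p^n` imply `r = n`. -/
theorem arith {p n r c : ℕ} (hp : 2 ≤ p) (hr : 0 < r) (hrn : r < 2 * n)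
    (h : (p ^ n - 1) * c = p ^ r - 1) : r = n := by
  have hpos : ∀ k, 1 ≤ p ^ k := fun k => Nat.one_le_pow _ _ (by omega)
  have hmono : ∀ {k l : ℕ}, p ^ k ≤ p ^ l → k ≤ l := fun {k l} hkl =>
    (Nat.pow_le_pow_iff_right hp).1 hkl
  have hc : c ≠ 0 := by
    rintro rfl
    rw [mul_zero] at h
    have h1 : p ^ r ≤ p ^ 0 := by rw [pow_zero]; omega
    have := hmono h1
    omega
  have hnr : n ≤ r := by
    apply hmono
    have h1 : p ^ n - 1 ≤ (p ^ n - 1) * c := Nat.le_mul_of_pos_right _ (Nat.pos_of_ne_zero hc)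
    have h2 := hpos n
    have h3 := hpos r
    omega
  by_contra hne
  obtain ⟨s, rfl⟩ := Nat.exists_eq_add_of_le hnr
  have hs : 0 < s := by omega
  have hsn : s < n := by omega
  -- `p^(n+s) - 1 = p^s (p^n - 1) + (p^s - 1)`
  have h4 : p ^ (n + s) - 1 = (p ^ n - 1) * p ^ s + (p ^ s - 1) := by
    have e : p ^ (n + s) = p ^ n * p ^ s := pow_add _ _ _
    have h5 := hpos s
    have h6 := hpos n
    obtain ⟨x, hx⟩ := Nat.exists_eq_add_of_le h6
    obtain ⟨y, hy⟩ := Nat.exists_eq_add_of_le h5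
    rw [e, hx, hy, Nat.add_sub_cancel_left, Nat.add_sub_cancel_left]
    have : (1 + x) * (1 + y) = x * (1 + y) + y + 1 := by ring
    rw [this, Nat.add_sub_cancel]
  have h7 : (p ^ n - 1) ∣ (p ^ s - 1) := by
    have h8 : (p ^ n - 1) ∣ (p ^ n - 1) * p ^ s + (p ^ s - 1) := by
      rw [← h4]; exact ⟨c, h.symm⟩
    exact (Nat.dvd_add_right ⟨_, rfl⟩).1 h8
  have h9 : p ^ s - 1 ≠ 0 := by
    intro h10
    have h11 : p ^ s ≤ p ^ 0 := by rw [pow_zero]; omega
    have := hmono h11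
    omega
  have h12 := Nat.le_of_dvd (Nat.pos_of_ne_zero h9) h7
  have h13 : p ^ n ≤ p ^ s := by
    have := hpos n
    omega
  have := hmono h13
  omega

end Arith

variable {G Ω F : Type*} [Group G] [MulAction G Ω] [Field F] {U : Ω → Subgroup G} {a b : Ω}
  {t : G} {φ : Matrix.SpecialLinearGroup (Fin 2) F →* G}

namespace USet

theorem ne (D : USet U a b t φ) : b ≠ a := D.S.ne

theorem t_sq (D : USet U a b t φ) : t * t = 1 := by
  rw [← D.neg, ← map_mul, neg_mul_neg, one_mul, map_one]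

theorem two (D : USet U a b t φ) [Finite F] : (2 : F) ≠ 0 := by
  intro h
  have := Fintype.ofFinite F
  have h1 : ringChar F = 2 := by
    apply CharP.ringChar_of_prime_eq_zero Nat.prime_two
    exact_mod_cast h
  have h2 := FiniteField.even_card_iff_char_two.1 h1
  have h3 := D.odd
  rw [Nat.card_eq_fintype_card, Nat.odd_iff] at h3
  omega

theorem t_ne_one (D : USet U a b t φ) [Finite F] : t ≠ 1 := by
  intro h
  rw [← D.neg, ← map_one φ] at h
  have h1 := D.inj h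
  have h2 : (-1 : Matrix.SpecialLinearGroup (Fin 2) F).1 0 0 =
      (1 : Matrix.SpecialLinearGroup (Fin 2) F).1 0 0 := by rw [h1]
  simp at h2
  exact D.two (by linear_combination -h2)

theorem t_inv (D : USet U a b t φ) : t⁻¹ = t := inv_eq_of_mul_eq_one_left D.t_sq

theorem comm_φ (D : USet U a b t φ) (A : Matrix.SpecialLinearGroup (Fin 2) F) :
    t * φ A = φ A * t := by
  rw [← D.neg, ← map_mul, ← map_mul, neg_mul, one_mul, mul_neg, mul_one]

theorem cenW [Finite F] (D : USet U a b t φ) {w : G} (hw : w ∈ Wab G a b) : t * w = w * t := by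
  rcases hw with hw | hw
  · exact (D.cen w hw).symm
  · have hs : Swaps w a b := hw
    have h1 : w * t * w⁻¹ ∈ Dab G a b := by
      constructor
      · change (w * t * w⁻¹) • a = a
        rw [mul_smul, mul_smul, hs.inv.1, show t • b = b from D.tD.2, hs.2]
      · change (w * t * w⁻¹) • b = b
        rw [mul_smul, mul_smul, hs.inv.2, show t • a = a from D.tD.1, hs.1]
    have h2 : w * t * w⁻¹ * (w * t * w⁻¹) = 1 := by
      calc w * t * w⁻¹ * (w * t * w⁻¹) = w * (t * t) * w⁻¹ := by group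
        _ = 1 := by rw [D.t_sq]; group
    have h3 : w * t * w⁻¹ ≠ 1 := fun h3 => D.t_ne_one (conj_eq_one_iff.1 h3)
    have h4 := D.uniq _ h1 h3 h2
    calc t * w = w * t * w⁻¹ * w := by rw [h4]
      _ = w * t := by group

theorem mem_Z (D : USet U a b t φ) {u : G} (hu : u ∈ U a) : t * u = u * t ↔ ∃ s, u = φ (tM s) := by
  constructor
  · intro h
    have h1 : u ∈ centralizer (zpowers t : Set G) := by
      rw [mem_centralizer_iff]
      rintro _ ⟨k, rfl⟩
      exact (Commute.zpow_left h k)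
    obtain ⟨s, hs⟩ := D.S.up_surj u ⟨hu, h1⟩
    exact ⟨s, hs.symm⟩
  · rintro ⟨s, rfl⟩
    exact D.comm_φ _

theorem up (D : USet U a b t φ) (s : F) : φ (tM s) ∈ U a := (D.S.up s).1

theorem card_Z (D : USet U a b t φ) :
    Nat.card ((U a ⊓ centralizer (zpowers t : Set G) : Subgroup G)) = Nat.card F := by
  symm
  refine Nat.card_eq_of_bijective (fun s : F => (⟨φ (tM s), D.S.up s⟩ :
    (U a ⊓ centralizer (zpowers t : Set G) : Subgroup G))) ⟨?_, ?_⟩
  · intro s r hsr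
    exact D.S.tM_inj (congrArg Subtype.val hsr)
  · rintro ⟨u, hu⟩
    obtain ⟨s, hs⟩ := D.S.up_surj u hu
    exact ⟨s, Subtype.ext hs⟩

/-- the centre of `U c` -/
def RR (U : Ω → Subgroup G) (c : Ω) : Subgroup G := U c ⊓ centralizer (U c : Set G)

omit [MulAction G Ω] in
theorem mem_RR {c : Ω} {x : G} : x ∈ RR U c ↔ x ∈ U c ∧ ∀ y ∈ U c, y * x = x * y := by
  unfold RR
  rw [Subgroup.mem_inf, mem_centralizer_iff]
  rfl

theorem RR_conj (h : SSplit U) {g : G} {c d : Ω} (hg : g • c = d) {x : G} (hx : x ∈ RR U c) :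
    g * x * g⁻¹ ∈ RR U d := by
  rw [mem_RR] at hx ⊢
  refine ⟨h.conj_of_eq hg hx.1, fun y hy => ?_⟩
  have h1 := hx.2 (g⁻¹ * y * g) (h.conj_of_eq' hg hy)
  calc y * (g * x * g⁻¹) = g * ((g⁻¹ * y * g) * x) * g⁻¹ := by group
    _ = g * (x * (g⁻¹ * y * g)) * g⁻¹ := by rw [h1]
    _ = _ := by group

/-- one nontrivial element of `C_{U a}(t)` in the centre suffices -/
theorem all_of_one (D : USet U a b t φ) [Finite F] {s : F} (hs : s ≠ 0)
    (hR : φ (tM s) ∈ RR U a) (r : F) : φ (tM r) ∈ RR U a := by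
  have hmul : ∀ x : F, φ (tM (x ^ 2 * s)) ∈ RR U a := by
    intro x
    by_cases hx : x = 0
    · rw [hx]
      have : (0 : F) ^ 2 * s = 0 := by ring
      rw [this, tM_zero, map_one]
      exact one_mem _
    · have h1 := RR_conj D.h (D.S.nM_mem D.h x hx).1 hR
      rw [← map_inv, ← map_mul, ← map_mul, nM_tM, mul_inv_cancel_right] at h1
      exact h1
  obtain ⟨x, y, hxy⟩ := exists_two_sq D.odd (r / s)
  have e : r = x ^ 2 * s + y ^ 2 * s := by
    rw [← add_mul, hxy, div_mul_cancel₀ _ hs]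
  rw [e, tM_add, map_mul]
  exact mul_mem (hmul x) (hmul y)

theorem RR_inv_a (D : USet U a b t φ) (hB : ∀ x ∈ RR U a, t * x = x * t → x = 1) {x : G}
    (hx : x ∈ RR U a) : t * x * t⁻¹ = x⁻¹ := by
  have hx' := mem_RR.1 hx
  have h1 : t * x * t⁻¹ ∈ RR U a := RR_conj D.h D.tD.1 hx
  have h2 : x * (t * x * t⁻¹) ∈ RR U a := mul_mem hx h1
  have h3 : x * (t * x * t⁻¹) = t * x * t⁻¹ * x := (hx'.2 _ (mem_RR.1 h1).1).symm
  have h4 : t * (x * (t * x * t⁻¹)) = x * (t * x * t⁻¹) * t := by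
    have h5 : t * t = 1 := D.t_sq
    calc t * (x * (t * x * t⁻¹)) = t * x * t⁻¹ * ((t * t) * x * t⁻¹) := by group
      _ = (t * x * t⁻¹ * x) * t⁻¹ := by rw [h5]; group
      _ = x * (t * x * t⁻¹) * t := by rw [← h3, D.t_inv]
  exact eq_inv_of_mul_eq_one_right (hB _ h2 h4)

theorem RR_inv_b [Finite F] (D : USet U a b t φ) (hB : ∀ x ∈ RR U a, t * x = x * t → x = 1)
    {x : G} (hx : x ∈ RR U b) : t * x * t⁻¹ = x⁻¹ := by
  have hw := D.S.mM_swaps D.h 1 one_ne_zero
  set w := φ (mM 1 one_ne_zero) with hwdef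
  have hc : t * w = w * t := D.comm_φ _
  have h1 : w * x * w⁻¹ ∈ RR U a := RR_conj D.h hw.2 hx
  have h2 := D.RR_inv_a hB h1
  have h3 : t * x * t⁻¹ = w⁻¹ * (t * (w * x * w⁻¹) * t⁻¹) * w := by
    calc t * x * t⁻¹ = w⁻¹ * (w * t) * x * (w * t)⁻¹ * w := by group
      _ = w⁻¹ * (t * w) * x * (t * w)⁻¹ * w := by rw [hc]
      _ = _ := by group
  rw [h3, h2]
  group

/-- the fibre of `μ` on the centre of `U b` -/
def Fib (U : Ω → Subgroup G) (a b : Ω) (y : G) : Type _ :=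
  {u : G // u ∈ RR U b ∧ u ≠ 1 ∧ SSplit.mu U a b u = y}

theorem fib_card (D : USet U a b t φ) {y d : G} (hd : d ∈ Dab G a b) :
    Nat.card (Fib U a b (d * y * d⁻¹)) = Nat.card (Fib U a b y) := by
  have key : ∀ (e : G), e ∈ Dab G a b → ∀ z : G, ∀ u : G, (u ∈ RR U b ∧ u ≠ 1 ∧ SSplit.mu U a b u = z) →
      (e * u * e⁻¹ ∈ RR U b ∧ e * u * e⁻¹ ≠ 1 ∧ SSplit.mu U a b (e * u * e⁻¹) = e * z * e⁻¹) := by
    rintro e he z u ⟨h1, h2, h3⟩
    refine ⟨RR_conj D.h he.2 h1, fun h4 => h2 (conj_eq_one_iff.1 h4), ?_⟩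
    rw [D.h.mu_conj_D D.ne (mem_RR.1 h1).1 h2 he, h3]
  symm
  refine Nat.card_congr
    { toFun := fun u => ⟨d * u.1 * d⁻¹, key d hd y u.1 u.2⟩
      invFun := fun u => ⟨d⁻¹ * u.1 * d, ?_⟩
      left_inv := ?_
      right_inv := ?_ }
  · have h1 := key d⁻¹ (inv_mem hd) _ u.1 u.2
    have e1 : d⁻¹ * (d * y * d⁻¹) * d⁻¹⁻¹ = y := by group
    rw [e1, inv_inv] at h1
    exact h1
  · intro u
    apply Subtype.ext
    change d⁻¹ * (d * u.1 * d⁻¹) * d = u.1
    group
  · intro u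
    apply Subtype.ext
    change d * (d⁻¹ * u.1 * d) * d⁻¹ = u.1
    group

theorem mu_invol [Finite F] (D : USet U a b t φ) (hB : ∀ x ∈ RR U a, t * x = x * t → x = 1)
    {u : G} (hu : u ∈ RR U b) (hu1 : u ≠ 1) :
    SSplit.mu U a b u * SSplit.mu U a b u = 1 ∧ Swaps (SSplit.mu U a b u) a b := by
  have hub := (mem_RR.1 hu).1
  have hs := D.h.mu_swaps D.ne hub hu1
  refine ⟨?_, hs⟩
  have h1 := D.h.mu_inverted D.ne hub hu1 D.tD (D.RR_inv_b hB hu)
  rw [D.cenW hs.mem_W, mul_inv_cancel_right] at h1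
  exact mul_eq_one_iff_eq_inv.2 h1

/-- `|Z(U b)| - 1` is a multiple of `q - 1` -/
theorem card_fib [Finite G] [Finite F] (D : USet U a b t φ)
    (hJ : ∀ y y' : G, y * y = 1 → Swaps y a b → y' * y' = 1 → Swaps y' a b →
      ∃ d ∈ Dab G a b, d * y * d⁻¹ = y')
    (hB : ∀ x ∈ RR U a, t * x = x * t → x = 1) {y : G} (hy : y * y = 1) (hys : Swaps y a b) :
    Nat.card (RR U b) = (Nat.card F - 1) * Nat.card (Fib U a b y) + 1 := by
  classical
  let J := {y : G // y * y = 1 ∧ Swaps y a b}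
  have hfin : ∀ z : G, Finite (Fib U a b z) := fun z => Subtype.finite
  have hfinJ : Finite J := Subtype.finite
  have e1 : {u : RR U b // u ≠ 1} ≃ Σ z : J, Fib U a b z.1 :=
    { toFun := fun u => ⟨⟨SSplit.mu U a b (u.1 : G), D.mu_invol hB u.1.2
          (fun h => u.2 (Subtype.ext h))⟩, ⟨(u.1 : G), u.1.2, fun h => u.2 (Subtype.ext h), rfl⟩⟩
      invFun := fun z => ⟨⟨z.2.1, z.2.2.1⟩, fun h => z.2.2.2.1 (congrArg Subtype.val h)⟩
      left_inv := fun u => rfl
      right_inv := by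
        rintro ⟨⟨z, hz⟩, ⟨u, hu⟩⟩
        have h3 : SSplit.mu U a b u = z := hu.2.2
        subst h3
        rfl }
  have e2 : Nat.card (Σ z : J, Fib U a b z.1) = Nat.card J * Nat.card (Fib U a b y) := by
    have := Fintype.ofFinite J
    rw [Nat.card_sigma]
    have h3 : ∀ z : J, Nat.card (Fib U a b z.1) = Nat.card (Fib U a b y) := by
      rintro ⟨z, hz, hzs⟩
      obtain ⟨d, hd, he⟩ := hJ y z hy hys hz hzs
      have h4 := D.fib_card (y := y) hd
      rw [he] at h4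
      exact h4
    rw [Finset.sum_congr rfl (fun z _ => h3 z), Finset.sum_const, Finset.card_univ,
      ← Nat.card_eq_fintype_card, smul_eq_mul]
  have e3 : Nat.card {u : RR U b // u ≠ 1} + 1 = Nat.card (RR U b) :=
    card_ne_pt (1 : RR U b)
  rw [← e3, Nat.card_congr e1, e2, D.cardJ]

theorem RR_card (h : SSplit U) {g : G} {c d : Ω} (hg : g • c = d) :
    Nat.card (RR U c) = Nat.card (RR U d) := by
  have hg' : g⁻¹ • d = c := by rw [inv_smul_eq_iff, hg]
  refine Nat.card_congr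
    { toFun := fun x => ⟨g * x.1 * g⁻¹, RR_conj h hg x.2⟩
      invFun := fun x => ⟨g⁻¹ * x.1 * g, by
        have := RR_conj h hg' x.2
        rwa [inv_inv] at this⟩
      left_inv := fun x => Subtype.ext (by
        change g⁻¹ * (g * x.1 * g⁻¹) * g = x.1
        group)
      right_inv := fun x => Subtype.ext (by
        change g * (g⁻¹ * x.1 * g) * g⁻¹ = x.1
        group) }

theorem three_le [Finite F] (D : USet U a b t φ) : 3 ≤ Nat.card F := by
  have h1 : 1 < Nat.card F := Finite.one_lt_card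
  have h2 := D.odd
  rcases Nat.lt_or_ge (Nat.card F) 3 with h3 | h3
  · have : Nat.card F = 2 := by omega
    rw [this] at h2
    exact absurd h2 (by decide)
  · exact h3

theorem exists_J [Finite F] (D : USet U a b t φ) : ∃ y : G, y * y = 1 ∧ Swaps y a b := by
  have h1 := D.cardJ
  have h2 := D.three_le
  by_contra hc
  push Not at hc
  have h3 : IsEmpty {y : G // y * y = 1 ∧ Swaps y a b} := ⟨fun y => hc y.1 y.2.1 y.2.2⟩
  rw [Nat.card_of_isEmpty] at h1
  omega

theorem sq_ne_one [Finite G] (D : USet U a b t φ) {c : Ω} (hc : Nat.card (U c) = Nat.card F ^ 3)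
    {u : G} (hu : u ∈ U c) (h2 : u * u = 1) : u = 1 := by
  have h1 : orderOf u ∣ 2 := orderOf_dvd_of_pow_eq_one (by rw [pow_two, h2])
  have h3 : orderOf u ∣ Nat.card F ^ 3 := by
    rw [← hc]
    have := orderOf_dvd_natCard (⟨u, hu⟩ : U c)
    rwa [← Subgroup.orderOf_coe] at this
  have h4 : Odd (orderOf u) := Odd.of_dvd_nat (D.odd.pow) h3
  have h5 : orderOf u = 1 := by
    rcases (Nat.dvd_prime Nat.prime_two).1 h1 with h5 | h5
    · exact h5
    · rw [h5] at h4
      exact absurd h4 (by decide)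
  exact orderOf_eq_one_iff.1 h5

/-- **`C_{U a}(t)` is central in `U a`.** -/
theorem central [Finite G] [Finite Ω] [Finite F] (D : USet U a b t φ)
    (hJ : ∀ y y' : G, y * y = 1 → Swaps y a b → y' * y' = 1 → Swaps y' a b →
      ∃ d ∈ Dab G a b, d * y * d⁻¹ = y') (s : F) : φ (tM s) ∈ RR U a := by
  by_contra hs
  have hno : ∀ r : F, φ (tM r) ∈ RR U a → r = 0 := by
    intro r hr
    by_contra hr0
    exact hs (D.all_of_one hr0 hr s)
  have hB : ∀ x ∈ RR U a, t * x = x * t → x = 1 := by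
    intro x hx htx
    obtain ⟨r, rfl⟩ := (D.mem_Z (mem_RR.1 hx).1).1 htx
    rw [hno r hx, tM_zero, map_one]
  obtain ⟨y, hy, hys⟩ := D.exists_J
  have hfib := D.card_fib hJ hB hy hys
  have := Fintype.ofFinite F
  obtain ⟨p, -, n, hp, hn⟩ := FiniteField.card' F
  rw [← Nat.card_eq_fintype_card] at hn
  have hfp : Fact p.Prime := ⟨hp⟩
  have hcb : Nat.card (U b) = Nat.card F ^ 3 := by
    have h1 := D.h.card a
    have h2 := D.h.card b
    rw [← D.card]
    omega
  have hR : Nat.card (RR U a) = Nat.card (RR U b) :=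
    RR_card D.h (D.S.mM_swaps D.h 1 one_ne_zero).1
  -- the injection
  let f : RR U a × F → U a := fun z => ⟨z.1 * φ (tM z.2), mul_mem (mem_RR.1 z.1.2).1 (D.up _)⟩
  have hf : Function.Injective f := by
    rintro ⟨r, x⟩ ⟨r', x'⟩ h
    have h1 : (r : G) * φ (tM x) = r' * φ (tM x') := congrArg Subtype.val h
    have h2 : φ (tM (x' + -x)) ∈ RR U a := by
      have h3 : φ (tM (x' + -x)) = (r' : G)⁻¹ * r := by
        rw [tM_add, map_mul, ← tM_inv, map_inv]
        calc φ (tM x') * (φ (tM x))⁻¹ = (r' : G)⁻¹ * (r' * φ (tM x')) * (φ (tM x))⁻¹ := by group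
          _ = (r' : G)⁻¹ * (r * φ (tM x)) * (φ (tM x))⁻¹ := by rw [h1]
          _ = _ := by group
      rw [h3]
      exact mul_mem (inv_mem r'.2) r.2
    have h4 := hno _ h2
    have h5 : x' = x := by
      rw [← sub_eq_add_neg, sub_eq_zero] at h4
      exact h4
    subst h5
    have h6 : (r : G) = r' := mul_right_cancel h1
    rw [Subtype.ext h6]
  have hcf : Nat.card (RR U a × F) = Nat.card (RR U a) * Nat.card F := Nat.card_prod _ _
  have hle : Nat.card (RR U a) * Nat.card F ≤ Nat.card F ^ 3 := by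
    rw [← hcf, ← D.card]
    exact Nat.card_le_card_of_injective f hf
  have hlt : Nat.card (RR U a) * Nat.card F < Nat.card F ^ 3 := by
    refine lt_of_le_of_ne hle fun heq => ?_
    have hb : Function.Bijective f := by
      refine (Nat.bijective_iff_injective_and_card f).2 ⟨hf, ?_⟩
      rw [hcf, heq, D.card]
    have h1 : φ (tM 1) ∈ RR U a := by
      rw [mem_RR]
      refine ⟨D.up 1, fun x hx => ?_⟩
      obtain ⟨⟨r, x'⟩, hx'⟩ := hb.2 ⟨x, hx⟩
      have h2 : (r : G) * φ (tM x') = x := congrArg Subtype.val hx'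
      have h3 := (mem_RR.1 r.2).2 (φ (tM 1)) (D.up 1)
      rw [← h2, mul_assoc, ← map_mul, ← tM_add, add_comm, tM_add, map_mul, ← mul_assoc, ← h3,
        mul_assoc]
    exact one_ne_zero (hno 1 h1)
  have hFpos : 0 < Nat.card F := Nat.card_pos
  have hlt2 : Nat.card (RR U a) < Nat.card F ^ 2 := by
    have h1 : Nat.card F ^ 3 = Nat.card F ^ 2 * Nat.card F := by ring
    rw [h1] at hlt
    exact Nat.lt_of_mul_lt_mul_right hlt
  -- `|RR|` is a power of `p`
  have hdvd : Nat.card (RR U a) ∣ p ^ ((n : ℕ) * 3) := by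
    rw [pow_mul, ← hn, ← D.card]
    exact Subgroup.card_dvd_of_le inf_le_left
  obtain ⟨r, -, hr⟩ := (Nat.dvd_prime_pow hp).1 hdvd
  have hr2 : r < 2 * (n : ℕ) := by
    rw [hr, hn, ← pow_mul, mul_comm] at hlt2
    exact (Nat.pow_lt_pow_iff_right hp.one_lt).1 hlt2
  have hr0 : 0 < r := by
    rcases Nat.eq_zero_or_pos r with h0 | h0
    · exfalso
      rw [h0, pow_zero] at hr
      -- the centre of `U a` is nontrivial
      have hpg : IsPGroup p (U a) := IsPGroup.of_card (n := (n : ℕ) * 3) (by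
        rw [D.card, hn, pow_mul])
      have hnt : Nontrivial (U a) := by
        rw [← Finite.one_lt_card_iff_nontrivial, D.card]
        have := D.three_le
        exact Nat.one_lt_pow (by norm_num) (by omega)
      have := hpg.center_nontrivial
      obtain ⟨z, hz⟩ := exists_ne (1 : center (U a))
      have h1 : ((z : U a) : G) ∈ RR U a := by
        rw [mem_RR]
        refine ⟨(z : U a).2, fun x hx => ?_⟩
        have := (mem_center_iff.1 z.2) ⟨x, hx⟩
        exact congrArg Subtype.val this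
      have h2 : RR U a = ⊥ := (Subgroup.card_eq_one).1 hr
      rw [h2, mem_bot] at h1
      exact hz (Subtype.ext (Subtype.ext h1))
    · exact h0
  have hrn : r = n := by
    refine arith (c := Nat.card (Fib U a b y)) hp.two_le hr0 hr2 ?_
    rw [← hn, ← hr, hR, hfib, Nat.add_sub_cancel]
  have hc1 : Nat.card (Fib U a b y) = 1 := by
    rw [← hR, hr, hrn, ← hn] at hfib
    have h3 := D.three_le
    have h4 : (Nat.card F - 1) * Nat.card (Fib U a b y) = (Nat.card F - 1) * 1 := by omega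
    exact Nat.eq_of_mul_eq_mul_left (by omega) h4
  obtain ⟨hsub, ⟨u, hu⟩⟩ := Nat.card_eq_one_iff_unique.1 hc1
  obtain ⟨hu1, hu2, hu3⟩ := hu
  have hub := (mem_RR.1 hu1).1
  have h5 : u⁻¹ ∈ RR U b ∧ u⁻¹ ≠ 1 ∧ SSplit.mu U a b u⁻¹ = y := by
    refine ⟨inv_mem hu1, fun h => hu2 (inv_eq_one.1 h), ?_⟩
    rw [D.h.mu_inv D.ne hub hu2, hu3]
    exact inv_eq_of_mul_eq_one_left hy
  have h6 : u⁻¹ = u := congrArg Subtype.val
    (hsub.elim (⟨u⁻¹, h5⟩ : Fib U a b y) ⟨u, hu1, hu2, hu3⟩)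
  apply hu2
  refine D.sq_ne_one hcb hub ?_
  nth_rewrite 1 [← h6]
  exact inv_mul_cancel u

/-- `t` inverts `U a / C_{U a}(t)` -/
theorem inv [Finite G] [Finite Ω] [Finite F] (D : USet U a b t φ)
    (hZ : ∀ s : F, φ (tM s) ∈ RR U a) {x : G} (hx : x ∈ U a) :
    ∃ z : F, t * x * t⁻¹ = φ (tM z) * x⁻¹ := by
  -- `c = x⁻¹ x^t` is inverted by `t`
  have hxt : t * x * t⁻¹ ∈ U a := D.h.conj_of_fix D.tD.1 hx
  set c := x⁻¹ * (t * x * t⁻¹) with hc
  have hcU : c ∈ U a := mul_mem (inv_mem hx) hxt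
  have hct : t * c * t⁻¹ = c⁻¹ := by
    have h5 : t * t = 1 := D.t_sq
    calc t * c * t⁻¹ = t * x⁻¹ * (t * x * t⁻¹) * t⁻¹ := by rw [hc]; group
      _ = (t * x⁻¹ * t⁻¹) * ((t * t) * x * (t * t)⁻¹) := by group
      _ = (t * x⁻¹ * t⁻¹) * x := by rw [h5]; group
      _ = c⁻¹ := by rw [hc]; group
  -- its square root
  obtain ⟨m, hm⟩ : Odd (Nat.card (U a)) := by
    rw [D.card]
    exact D.odd.pow
  have hcm : c ^ (2 * m + 1) = 1 := by
    rw [← hm]
    have := pow_card_eq_one' (x := (⟨c, hcU⟩ : U a))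
    exact congrArg Subtype.val this
  set e := c ^ (m + 1) with he
  have hee : e * e = c := by
    rw [he, ← pow_add]
    have : m + 1 + (m + 1) = 2 * m + 1 + 1 := by ring
    rw [this, pow_succ, hcm, one_mul]
  have heU : e ∈ U a := pow_mem hcU _
  have het : t * e * t⁻¹ = e⁻¹ := by
    rw [he, ← conj_pow, hct, inv_pow]
  have hxe : t * (x * e) = x * e * t := by
    have h1 : t * (x * e) * t⁻¹ = x * e := by
      calc t * (x * e) * t⁻¹ = (t * x * t⁻¹) * (t * e * t⁻¹) := by group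
        _ = x * c * e⁻¹ := by rw [het, hc]; group
        _ = x * e := by rw [← hee]; group
    calc t * (x * e) = t * (x * e) * t⁻¹ * t := by group
      _ = x * e * t := by rw [h1]
  obtain ⟨z, hz⟩ := (D.mem_Z (mul_mem hx heU)).1 hxe
  refine ⟨z + z, ?_⟩
  have hcomm := (mem_RR.1 (hZ z)).2
  have h1 : x = φ (tM z) * e⁻¹ := by rw [← hz]; group
  have h2 : t * x * t⁻¹ = φ (tM z) * e := by
    have h3 := D.comm_φ (tM z)
    calc t * x * t⁻¹ = (t * φ (tM z)) * t⁻¹ * (t * e * t⁻¹)⁻¹ := by rw [h1]; group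
      _ = _ := by rw [h3, het]; group
  have h4 : x⁻¹ = (φ (tM z))⁻¹ * e := by
    rw [h1, mul_inv_rev, inv_inv]
    have h5 := hcomm e heU
    calc e * (φ (tM z))⁻¹ = (φ (tM z))⁻¹ * (φ (tM z) * e) * (φ (tM z))⁻¹ := by group
      _ = (φ (tM z))⁻¹ * (e * φ (tM z)) * (φ (tM z))⁻¹ := by rw [h5]
      _ = _ := by group
  rw [h2, h4, tM_add, map_mul]
  group

end USet

end Cfsg.Agent.HKS.UEnd
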