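import Mathlib
import Cfsg.Agent.HKS.UEndCenter
import Cfsg.Agent.UThreeOdd.Final

/-!
# The unitary end: `RegAct` and the isomorphism with `PSU(3, q)`
-/

set_option autoImplicit false

namespace Cfsg.Agent.HKS.UEnd

open Subgroup MulAction Cfsg.Agent.HKS Cfsg.Agent.ONan.SL2Hom Cfsg.Agent.HKS.SLRel
  Cfsg.Agent.HKS.SLCoord

section Psu

open Cfsg.Agent.LieRecognition.RankOneAbstract Cfsg.Agent.UThreeGen.MatGroup
  Cfsg.Agent.UThreeOdd Cfsg.Agent.UThreeOdd.Act Cfsg.Agent.UThreeOdd.Alg Cfsg.Agent.UThreeOdd.Final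
  Matrix

variable {G Ω F : Type*} [Group G] [MulAction G Ω] [Field F] {a b : Ω} {Q : Subgroup G}
  {φ : SpecialLinearGroup (Fin 2) F →* G}

/-- **Recognition of `PSU₃(q)`, `q` odd**, from a regular `SL₂(q)`, for faithful actions. -/
theorem nonempty_psu (S : RegAct a b Q φ) [FaithfulSMul G Ω] [Fintype F] {L : Type*} [Field L]
    [Fintype L] {q : ℕ} (hF : Fintype.card F = q) (hL : Fintype.card L = q ^ 2)
    (hgen : Subgroup.closure ((Q : Set G) ∪ {φ (NN F)}) = ⊤) :
    Nonempty (G ≃* Cfsg.PSU 3 L q) := by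
  obtain ⟨i⟩ := exists_embedding hF hL
  obtain ⟨σ, hs, hσσ⟩ := exists_sigma hF hL
  have hσ : Fact (∀ x, σ (σ x) = x) := ⟨hσσ⟩
  have h2 : (2 : L) ≠ 0 := by
    intro h
    apply S.two
    apply i.injective
    rw [map_ofNat, map_zero]; exact h
  have hq : 2 < q := by
    have h1 : 1 < q := by rw [← hF]; exact Fintype.one_lt_card
    have h3 : q ≠ 2 := by
      rintro rfl
      apply S.two
      have h4 : ((2 : ℕ) : F) = 0 := by
        rw [← hF]; exact FiniteField.cast_card_eq_zero F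
      exact_mod_cast h4
    omega
  have hne : ∃ x, x ∉ Set.range S.del := ⟨_, S.base_not_mem⟩
  obtain ⟨Θ, η, hη0, hη, hδ, hrel⟩ := Heis.exists_heis S.coord hne i hF hL hs
  obtain ⟨H, S', w, ψ, D', hw', hcore', hgen', hrel'⟩ := Model.exists_model hq h2 hs hL hη0 hη
  have D := data S
  have hnn : φ (NN F) * φ (NN F) ∈ stabilizer G a := by
    rw [mem_stabilizer_iff, mul_smul, S.N_a, S.N_b]
  have hcore : ∀ g : G, (∀ k : G, k⁻¹ * g * k ∈ stabilizer G a) → g = 1 := by
    intro g hg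
    apply FaithfulSMul.eq_of_smul_eq_smul (α := Ω)
    intro c
    rw [one_smul]
    obtain ⟨k, hk⟩ : ∃ k : G, k • a = c := by
      by_cases hc : c = a
      · exact ⟨1, by rw [one_smul, hc]⟩
      · obtain ⟨x, -, hx⟩ := S.Q_trans c hc
        exact ⟨x * φ (NN F), by rw [mul_smul, S.N_a, hx]⟩
    have h1 := hg k
    rw [mem_stabilizer_iff, mul_smul, mul_smul, inv_smul_eq_iff, hk] at h1
    exact h1
  obtain ⟨Φ, -, -⟩ := Model.exists_mulEquiv_of_data D D' hnn hw' hcore hcore' hgen hgen'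
    (Θ.trans ψ) (by
    intro x y hx h
    have hpt : φ (NN F) • (x : G) • b = (y : G) • b := by
      rw [mem_stabilizer_iff, mul_smul, inv_smul_eq_iff, mul_smul, mul_smul, mul_smul, S.N_a] at h
      exact h
    have hΘx : Θ x ≠ 1 := fun h1 => hx (Θ.injective (h1.trans (map_one Θ).symm))
    apply hrel' (Θ x) (Θ y) hΘx
    · by_cases hxE : x ∈ Set.range S.del
      · obtain ⟨c, rfl⟩ := hxE
        have hc : c ≠ 0 := by
          rintro rfl
          exact hx S.del_zero
        rw [S.coe_del, S.N_E hc] at hpt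
        have hy : y = S.del (-c⁻¹) := S.smul_b_inj' hpt.symm
        rw [hy, (hδ _).1, (hδ _).1, mul_zero, zero_div]
      · exact (hrel x y hxE (S.not_mem_of_smul hxE hpt) (S.T_B_of_N hxE (S.not_mem_of_smul hxE hpt) hpt).1
          (S.T_B_of_N hxE (S.not_mem_of_smul hxE hpt) hpt).2).1
    · by_cases hxE : x ∈ Set.range S.del
      · obtain ⟨c, rfl⟩ := hxE
        have hc : c ≠ 0 := by
          rintro rfl
          exact hx S.del_zero
        have hic : i c ≠ 0 := fun h => hc (i.injective (by rw [h, map_zero]))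
        rw [S.coe_del, S.N_E hc] at hpt
        have hy : y = S.del (-c⁻¹) := S.smul_b_inj' hpt.symm
        rw [hy, (hδ _).2, (hδ _).2, map_neg, map_inv₀]
        field_simp
      · exact (hrel x y hxE (S.not_mem_of_smul hxE hpt) (S.T_B_of_N hxE (S.not_mem_of_smul hxE hpt) hpt).1
          (S.T_B_of_N hxE (S.not_mem_of_smul hxE hpt) hpt).2).2)
  exact ⟨Φ⟩

end Psu

section Reg

open Cfsg.Agent.UThreeOdd.Act (UU NN DD RegAct)

variable {G Ω F : Type*} [Group G] [MulAction G Ω] [Field F] {U : Ω → Subgroup G} {a b : Ω}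
  {t : G} {φ : Matrix.SpecialLinearGroup (Fin 2) F →* G}

theorem UU_eq (s : F) : UU s = tM s := rfl

theorem NN_eq : NN F = mM (-1) (neg_ne_zero.mpr one_ne_zero) := by
  apply ext' <;> simp [NN]

theorem DD_eq (l : Fˣ) : DD l = nM (l : F) l.ne_zero := by
  apply ext' <;> simp [DD]

/-- elements of `U a` not centralised by `t` move `b` to a point not fixed by `t` -/
theorem USet.move [Finite F] (D : USet U a b t φ) {x : G} (hx : x ∈ U a)
    (h : ∀ z : F, x ≠ φ (UU z)) : t • x • b ≠ x • b := by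
  intro hc
  have h1 : t * x * t⁻¹ = x := by
    refine D.h.eq_of_smul_eq D.ne (D.h.conj_of_fix D.tD.1 hx) hx ?_
    rw [mul_smul, mul_smul, D.t_inv, show t • b = b from D.tD.2, hc]
  have h2 : t * x = x * t := by
    calc t * x = t * x * t⁻¹ * t := by group
      _ = x * t := by rw [h1]
  obtain ⟨s, hs⟩ := (D.mem_Z hx).1 h2
  exact h s hs

theorem USet.regAct [Finite G] [Finite Ω] [Finite F] (D : USet U a b t φ)
    (hJ : ∀ y y' : G, y * y = 1 → Swaps y a b → y' * y' = 1 → Swaps y' a b →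
      ∃ d ∈ Dab G a b, d * y * d⁻¹ = y')
    (hreg : ∀ c : Ω, t • c ≠ c → ∀ A, φ A • c = c → A = 1)
    (htr : ∀ c c' : Ω, t • c ≠ c → t • c' ≠ c' → ∃ A, φ A • c = c') :
    RegAct a b (U a) φ where
  two := D.two
  ne := D.ne
  Q_a := fun _ hx => D.h.fix hx
  Q_trans := fun _ hc => D.h.trans D.ne hc
  Q_free := fun _ hx hxb => D.h.free D.ne hx hxb
  Q_norm := fun _ hg _ hx => D.h.conj_of_fix hg hx
  U_mem := fun z => D.up z
  U_comm := fun z x hx => ((USet.mem_RR.1 (D.central hJ z)).2 x hx).symm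
  inv := by
    intro x hx
    rw [D.neg]
    exact D.inv (D.central hJ) hx
  N_a := by
    rw [NN_eq]
    exact (D.S.mM_swaps D.h _ _).1
  N_b := by
    rw [NN_eq]
    exact (D.S.mM_swaps D.h _ _).2
  D_a := by
    intro l
    rw [DD_eq]
    exact (D.S.nM_mem D.h _ _).1
  D_b := by
    intro l
    rw [DD_eq]
    exact (D.S.nM_mem D.h _ _).2
  stab := by
    intro g hga hgb z
    have hg : g ∈ Dab G a b := ⟨hga, hgb⟩
    have h1 : g * φ (UU z) * g⁻¹ ∈ U a := D.h.conj_of_fix hga (D.up z)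
    have h2 := (D.cen g hg).symm
    have h3 := D.comm_φ (UU z)
    refine (D.mem_Z h1).1 ?_
    have h4 : t * g⁻¹ = g⁻¹ * t := by
      calc t * g⁻¹ = g⁻¹ * (g * t) * g⁻¹ := by group
        _ = g⁻¹ * (t * g) * g⁻¹ := by rw [h2]
        _ = g⁻¹ * t := by group
    calc t * (g * φ (UU z) * g⁻¹) = (t * g) * φ (UU z) * g⁻¹ := by group
      _ = g * (t * φ (UU z)) * g⁻¹ := by rw [h2]; group
      _ = g * φ (UU z) * (t * g⁻¹) := by rw [h3]; group
      _ = g * φ (UU z) * g⁻¹ * t := by rw [h4]; group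
  trans := fun x hx y hy hx' hy' => htr _ _ (D.move hx hx') (D.move hy hy')
  free := fun x hx hx' A hA => hreg _ (D.move hx hx') A hA
  exists_not := by
    by_contra hc
    push Not at hc
    have h1 : Function.Surjective (fun z : F => (⟨φ (UU z), D.up z⟩ : U a)) := by
      rintro ⟨x, hx⟩
      obtain ⟨z, hz⟩ := hc x hx
      exact ⟨z, Subtype.ext hz.symm⟩
    have h2 := Nat.card_le_card_of_surjective _ h1
    rw [D.card] at h2
    have h3 := D.three_le
    have h4 : Nat.card F ^ 1 < Nat.card F ^ 3 := Nat.pow_lt_pow_right (by omega) (by norm_num)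
    rw [pow_one] at h4
    omega

/-- **`G ≃ PSU(3, q)`.** -/
theorem USet.psu [Finite G] [Finite Ω] [FaithfulSMul G Ω] [Fintype F] (D : USet U a b t φ)
    (hJ : ∀ y y' : G, y * y = 1 → Swaps y a b → y' * y' = 1 → Swaps y' a b →
      ∃ d ∈ Dab G a b, d * y * d⁻¹ = y')
    (hreg : ∀ c : Ω, t • c ≠ c → ∀ A, φ A • c = c → A = 1)
    (htr : ∀ c c' : Ω, t • c ≠ c → t • c' ≠ c' → ∃ A, φ A • c = c')
    (hgen : (⨆ c, U c) = ⊤) {L : Type*} [Field L] [Fintype L] {q : ℕ} (hF : Fintype.card F = q)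
    (hL : Fintype.card L = q ^ 2) : Nonempty (G ≃* Cfsg.PSU 3 L q) := by
  refine nonempty_psu (D.regAct hJ hreg htr) hF hL ?_
  rw [eq_top_iff, ← hgen, ← D.h.sup_eq_iSup D.ne]
  apply sup_le
  · exact fun x hx => subset_closure (Or.inl hx)
  · intro x hx
    have hN : φ (NN F) ∈ closure ((U a : Set G) ∪ {φ (NN F)}) := subset_closure (Or.inr rfl)
    have hs : Swaps (φ (NN F)) a b := by
      rw [NN_eq]
      exact D.S.mM_swaps D.h _ _
    have h1 : (φ (NN F))⁻¹ * x * φ (NN F) ∈ U a := D.h.conj_of_eq' hs.1 hx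
    have h2 : x = φ (NN F) * ((φ (NN F))⁻¹ * x * φ (NN F)) * (φ (NN F))⁻¹ := by group
    rw [h2]
    exact mul_mem (mul_mem hN (subset_closure (Or.inl h1))) (inv_mem hN)

end Reg

end Cfsg.Agent.HKS.UEnd
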