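import Mathlib
import Cfsg.Agent.HKS.UEndBase
import Cfsg.Agent.HKS.FrameCount
import Cfsg.Agent.ClassicalGeometry.PSL2Basic

/-!
# The unitary end: `SL₂(F)` is regular on the points not fixed by `t`

`USet.regular`, `USet.trans`: the group `φ (SL₂(F))` is regular on `{c | t • c ≠ c}`.
-/

set_option autoImplicit false

namespace Cfsg.Agent.HKS.UEnd

open Subgroup MulAction Cfsg.Agent.HKS Cfsg.Agent.ONan.SL2Hom Cfsg.Agent.HKS.SLRel
  Cfsg.Agent.HKS.SLCoord

section Mat

variable {F : Type*} [Field F]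

@[simp] theorem wconj_00 (ν : F) (hν : ν ≠ 0) (A : Matrix.SpecialLinearGroup (Fin 2) F) :
    (wconj ν hν A).1 0 0 = A.1 1 1 := rfl
@[simp] theorem wconj_01 (ν : F) (hν : ν ≠ 0) (A : Matrix.SpecialLinearGroup (Fin 2) F) :
    (wconj ν hν A).1 0 1 = ν * A.1 1 0 := rfl
@[simp] theorem wconj_10 (ν : F) (hν : ν ≠ 0) (A : Matrix.SpecialLinearGroup (Fin 2) F) :
    (wconj ν hν A).1 1 0 = ν⁻¹ * A.1 0 1 := rfl
@[simp] theorem wconj_11 (ν : F) (hν : ν ≠ 0) (A : Matrix.SpecialLinearGroup (Fin 2) F) :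
    (wconj ν hν A).1 1 1 = A.1 0 0 := rfl

theorem neg_one_00 : (-1 : Matrix.SpecialLinearGroup (Fin 2) F).1 0 0 = -1 := by simp
theorem neg_one_01 : (-1 : Matrix.SpecialLinearGroup (Fin 2) F).1 0 1 = 0 := by simp
theorem neg_one_10 : (-1 : Matrix.SpecialLinearGroup (Fin 2) F).1 1 0 = 0 := by simp
theorem neg_one_11 : (-1 : Matrix.SpecialLinearGroup (Fin 2) F).1 1 1 = -1 := by simp

theorem neg_one_comm (A : Matrix.SpecialLinearGroup (Fin 2) F) : -1 * A = A * -1 := by
  rw [neg_one_mul, mul_neg_one]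

/-- involutions of `SL₂` -/
theorem eq_of_sq (h2 : (2 : F) ≠ 0) {g : Matrix.SpecialLinearGroup (Fin 2) F} (hg : g * g = 1) :
    g = 1 ∨ g = -1 := by
  have hdet := det_eq g
  have hi : g⁻¹ = g := inv_eq_of_mul_eq_one_left hg
  have e00 : g.1 1 1 = g.1 0 0 := by
    have := congrArg (fun m : Matrix.SpecialLinearGroup (Fin 2) F => m.1 0 0) hi
    simpa [Matrix.SpecialLinearGroup.coe_inv, Matrix.adjugate_fin_two] using this
  have e01 : g.1 0 1 = 0 := by
    have := congrArg (fun m : Matrix.SpecialLinearGroup (Fin 2) F => m.1 0 1) hi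
    have h3 : -g.1 0 1 = g.1 0 1 := by
      simpa [Matrix.SpecialLinearGroup.coe_inv, Matrix.adjugate_fin_two] using this
    have h4 : 2 * g.1 0 1 = 0 := by linear_combination -h3
    exact (mul_eq_zero.1 h4).resolve_left h2
  have e10 : g.1 1 0 = 0 := by
    have := congrArg (fun m : Matrix.SpecialLinearGroup (Fin 2) F => m.1 1 0) hi
    have h3 : -g.1 1 0 = g.1 1 0 := by
      simpa [Matrix.SpecialLinearGroup.coe_inv, Matrix.adjugate_fin_two] using this
    have h4 : 2 * g.1 1 0 = 0 := by linear_combination -h3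
    exact (mul_eq_zero.1 h4).resolve_left h2
  rw [e00, e01, e10] at hdet
  have h5 : (g.1 0 0 - 1) * (g.1 0 0 + 1) = 0 := by linear_combination hdet
  rcases mul_eq_zero.1 h5 with h6 | h6
  · left
    have h7 : g.1 0 0 = 1 := sub_eq_zero.1 h6
    apply ext'
    · rw [h7]; rfl
    · rw [e01]; rfl
    · rw [e10]; rfl
    · rw [e00, h7]; rfl
  · right
    have h7 : g.1 0 0 = -1 := eq_neg_of_add_eq_zero_left h6
    apply ext'
    · rw [h7, neg_one_00]
    · rw [e01, neg_one_01]
    · rw [e10, neg_one_10]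
    · rw [e00, h7, neg_one_11]

theorem nM_conj_tM (r : F) (hr : r ≠ 0) (s : F) :
    nM r hr * tM s * (nM r hr)⁻¹ = tM (r ^ 2 * s) := by
  rw [mul_inv_eq_iff_eq_mul]
  apply ext' <;> (simp [mul_apply']; try field_simp)

theorem nM_conj_lM (r : F) (hr : r ≠ 0) (s : F) :
    nM r hr * lM s * (nM r hr)⁻¹ = lM (r⁻¹ ^ 2 * s) := by
  rw [mul_inv_eq_iff_eq_mul]
  apply ext' <;> (simp [mul_apply']; try field_simp)

theorem tM_neg_mul (s : F) : tM (-s) * tM s = 1 := by
  rw [← tM_add, neg_add_cancel, tM_zero]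

theorem tM_mul_neg (s : F) : tM s * tM (-s) = 1 := by
  rw [← tM_add, add_neg_cancel, tM_zero]

/-- the norm equation: `ν v² - u² = 1` -/
theorem exists_norm [Finite F] (hF : Odd (Nat.card F)) {ν : F} (hν : ν ≠ 0) :
    ∃ u v : F, ν * v ^ 2 - u ^ 2 = 1 := by
  classical
  have := Fintype.ofFinite F
  have h2 : Fintype.card F % 2 = 1 := by
    rw [Nat.card_eq_fintype_card] at hF
    exact Nat.odd_iff.1 hF
  obtain ⟨v, u, h⟩ := FiniteField.exists_root_sum_quadratic (R := F)
    (f := Polynomial.C ν * Polynomial.X ^ 2 + Polynomial.C 0 * Polynomial.X + Polynomial.C (-1))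
    (g := Polynomial.C (-1) * Polynomial.X ^ 2 + Polynomial.C 0 * Polynomial.X + Polynomial.C 0)
    (Polynomial.degree_quadratic hν) (Polynomial.degree_quadratic (by simp)) h2
  refine ⟨u, v, ?_⟩
  simp at h
  linear_combination h

end Mat

section

variable {G Ω F : Type*} [Group G] [MulAction G Ω] [Field F] {U : Ω → Subgroup G} {a b : Ω} {t : G}
  {φ : Matrix.SpecialLinearGroup (Fin 2) F →* G}

theorem two_ne_zero_of_odd [Finite F] (hF : Odd (Nat.card F)) : (2 : F) ≠ 0 := by
  classical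
  have := Fintype.ofFinite F
  intro h2
  have h3 : CharP F 2 := by
    have := (CharP.charP_iff_prime_eq_zero (R := F) Nat.prime_two).2 (by exact_mod_cast h2)
    exact this
  have h4 := FiniteField.even_card_iff_char_two (F := F)
  have h5 : ringChar F = 2 := ringChar.eq F 2 |>.symm ▸ rfl
  have h6 := h4.1 h5
  rw [Nat.card_eq_fintype_card] at hF
  have := Nat.odd_iff.1 hF
  omega

/-! ### The action of `SL₂` on `Fix t` -/

theorem fix_t {c : Ω} : (∀ x ∈ zpowers t, x • c = c) ↔ t • c = c := by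
  constructor
  · intro h1
    exact h1 t (mem_zpowers t)
  · intro h1 x hx
    have h2 : zpowers t ≤ stabilizer G c := by
      rw [zpowers_le]
      exact h1
    exact h2 hx

theorem cen_t {g : G} : g ∈ centralizer (zpowers t : Set G) ↔ t * g = g * t := by
  rw [mem_centralizer_iff]
  constructor
  · intro h1
    exact h1 t (mem_zpowers t)
  · intro h1 x hx
    have h2 : zpowers t ≤ centralizer ({g} : Set G) := by
      rw [zpowers_le, mem_centralizer_singleton_iff]
      exact h1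
    exact (mem_centralizer_singleton_iff.1 (h2 hx))

namespace USet

theorem ab (D : USet U a b t φ) : b ≠ a := D.S.ne

theorem tt (D : USet U a b t φ) : t * t = 1 := by
  rw [← D.neg, ← map_mul, neg_one_mul, neg_neg, map_one]

theorem t_ne [Finite F] (D : USet U a b t φ) : t ≠ 1 := by
  intro h1
  rw [← D.neg, ← map_one φ] at h1
  have h2 := D.inj h1
  have h3 := congrArg (fun m : Matrix.SpecialLinearGroup (Fin 2) F => m.1 0 0) h2
  change (-1 : Matrix.SpecialLinearGroup (Fin 2) F).1 0 0 = 1 at h3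
  rw [neg_one_00] at h3
  exact two_ne_zero_of_odd D.odd (by linear_combination -h3)

theorem t_comm (D : USet U a b t φ) (A : Matrix.SpecialLinearGroup (Fin 2) F) :
    t * φ A = φ A * t := by
  rw [← D.neg, ← map_mul, ← map_mul, neg_one_comm]

/-- `Fix t` -/
theorem fix_iff (D : USet U a b t φ) {c : Ω} :
    t • c = c ↔ c = a ∨ ∃ s : F, φ (tM s) • b = c := by
  constructor
  · intro hc
    by_cases hca : c = a
    · exact Or.inl hca
    · right
      obtain ⟨u, hu, hub⟩ := D.h.trans D.ab hca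
      have h1 : u ∈ centralizer (zpowers t : Set G) :=
        D.h.comm_of_fixSub (fix_t.2 D.tD.1) (fix_t.2 D.tD.2) D.ab hu
          (fix_t.2 (by rw [hub]; exact hc))
      obtain ⟨s, hs⟩ := D.S.up_surj u ⟨hu, h1⟩
      exact ⟨s, by rw [hs, hub]⟩
  · rintro (rfl | ⟨s, rfl⟩)
    · exact D.tD.1
    · rw [← mul_smul, D.t_comm, mul_smul, show t • b = b from D.tD.2]

theorem up_inj (D : USet U a b t φ) {s r : F} (h : φ (tM s) • b = φ (tM r) • b) : s = r := by
  have h1 := D.h.eq_of_smul_eq D.ab (D.S.up s).1 (D.S.up r).1 h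
  have h2 := D.inj h1
  exact congrArg (fun m : Matrix.SpecialLinearGroup (Fin 2) F => m.1 0 1) h2

theorem tM_a (D : USet U a b t φ) (s : F) : φ (tM s) • a = a := D.h.fix (D.S.up s).1

theorem lM_b (D : USet U a b t φ) (s : F) : φ (lM s) • b = b := D.h.fix (D.S.lo s).1

theorem tM_ne (D : USet U a b t φ) : φ (tM 1) ≠ 1 := by
  intro h1
  have := D.inj (h1.trans (map_one φ).symm)
  have h3 := congrArg (fun m : Matrix.SpecialLinearGroup (Fin 2) F => m.1 0 1) this
  change (1 : F) = 0 at h3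
  exact one_ne_zero h3

theorem lM_ne (D : USet U a b t φ) : φ (lM 1) ≠ 1 := by
  intro h1
  have := D.inj (h1.trans (map_one φ).symm)
  have h3 := congrArg (fun m : Matrix.SpecialLinearGroup (Fin 2) F => m.1 1 0) this
  change (1 : F) = 0 at h3
  exact one_ne_zero h3

theorem eq_of_conj (D : USet U a b t φ) {g u : G} {c d : Ω} (hu1 : u ≠ 1) (hu : u ∈ U c)
    (hg : g * u * g⁻¹ ∈ U d) : g • c = d := by
  by_contra hne
  have h1 := D.h.inf_eq_bot (a := d) (b := g • c) hne hg (D.h.conj g hu)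
  apply hu1
  calc u = g⁻¹ * (g * u * g⁻¹) * g := by group
    _ = 1 := by rw [h1]; group

theorem nM_a (D : USet U a b t φ) (r : F) (hr : r ≠ 0) : φ (nM r hr) • a = a := by
  refine D.eq_of_conj D.tM_ne (D.S.up 1).1 ?_
  rw [← map_inv, ← map_mul, ← map_mul, nM_conj_tM]
  exact (D.S.up _).1

theorem nM_b (D : USet U a b t φ) (r : F) (hr : r ≠ 0) : φ (nM r hr) • b = b := by
  refine D.eq_of_conj D.lM_ne (D.S.lo 1).1 ?_
  rw [← map_inv, ← map_mul, ← map_mul, nM_conj_lM]
  exact (D.S.lo _).1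

theorem mM_a (D : USet U a b t φ) (c : F) (hc : c ≠ 0) : φ (mM c hc) • a = b := by
  refine D.eq_of_conj D.tM_ne (D.S.up 1).1 ?_
  rw [← map_inv, ← map_mul, ← map_mul, mM_tM, mul_inv_cancel_right]
  exact (D.S.lo _).1

theorem mM_b (D : USet U a b t φ) (c : F) (hc : c ≠ 0) : φ (mM c hc) • b = a := by
  refine D.eq_of_conj D.lM_ne (D.S.lo 1).1 ?_
  rw [← map_inv, ← map_mul, ← map_mul, mM_lM, mul_inv_cancel_right]
  exact (D.S.up _).1

theorem sl_fix_a (D : USet U a b t φ) {A : Matrix.SpecialLinearGroup (Fin 2) F}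
    (hA : φ A • a = a) : A.1 1 0 = 0 := by
  by_contra hz
  have h1 : A = tM (A.1 0 0 / A.1 1 0) * mM (A.1 1 0)⁻¹ (inv_ne_zero hz) *
      tM (A.1 1 1 / A.1 1 0) := by
    have hdet := det_eq A
    apply ext'
    · simp [mul_apply']
      field_simp
    · simp [mul_apply']
      field_simp
      linear_combination -hdet
    · simp [mul_apply']
    · simp [mul_apply']
      field_simp
  rw [h1, map_mul, map_mul, mul_smul, mul_smul, D.tM_a, D.mM_a] at hA
  exact D.h.smul_ne_center D.ab (D.S.up _).1 hA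

theorem sl_fix_b (D : USet U a b t φ) {A : Matrix.SpecialLinearGroup (Fin 2) F}
    (hA : φ A • b = b) : A.1 0 1 = 0 := by
  have h1 : φ (mM 1 one_ne_zero * A * (mM 1 one_ne_zero)⁻¹) • a = a := by
    rw [map_mul, map_mul, map_inv, mul_smul, mul_smul,
      show (φ (mM 1 one_ne_zero))⁻¹ • a = b by rw [inv_smul_eq_iff, D.mM_b], hA, D.mM_b]
  have h2 := D.sl_fix_a h1
  simpa [mul_apply', Matrix.SpecialLinearGroup.coe_inv, Matrix.adjugate_fin_two] using h2

/-! ### Counting -/

theorem card_fix_t [Finite F] [Finite Ω] (D : USet U a b t φ) :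
    Nat.card (fixedBy Ω t) = Nat.card F + 1 := by
  have e : fixedBy Ω t ≃ Option F := by
    refine (Equiv.ofBijective (fun o : Option F => (match o with
      | none => ⟨a, D.tD.1⟩
      | some s => ⟨φ (tM s) • b, D.fix_iff.2 (Or.inr ⟨s, rfl⟩)⟩ : fixedBy Ω t)) ⟨?_, ?_⟩).symm
    · rintro (_ | s) (_ | r) he
      · rfl
      · exact absurd (congrArg Subtype.val he).symm (D.h.smul_ne_center D.ab (D.S.up r).1)
      · exact absurd (congrArg Subtype.val he) (D.h.smul_ne_center D.ab (D.S.up s).1)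
      · rw [D.up_inj (congrArg Subtype.val he)]
    · rintro ⟨c, hc⟩
      rcases D.fix_iff.1 hc with rfl | ⟨s, rfl⟩
      · exact ⟨none, rfl⟩
      · exact ⟨some s, rfl⟩
  rw [Nat.card_congr e, Finite.card_option]

/-- An element of prime order acting on the fixed points of a commuting element. -/
theorem card_mod {x s : G} (hxs : s * x = x * s) {l : ℕ} [hl : Fact l.Prime] (hx : x ^ l = 1)
    [Finite Ω] : Nat.card (fixedBy Ω s) ≡ Nat.card {c : Ω // s • c = c ∧ x • c = c} [MOD l] := by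
  let x' : centralizer (zpowers s : Set G) := ⟨x, cen_t.2 hxs⟩
  have hp : IsPGroup l (zpowers x') := by
    rintro ⟨g, hg⟩
    obtain ⟨k, rfl⟩ := mem_zpowers_iff.1 hg
    refine ⟨1, ?_⟩
    apply Subtype.ext
    apply Subtype.ext
    change (x ^ k) ^ l ^ 1 = 1
    rw [pow_one, ← zpow_natCast, ← zpow_mul, mul_comm, zpow_mul, zpow_natCast, hx, one_zpow]
  have h1 := hp.card_modEq_card_fixedPoints (fixSub Ω (zpowers s))
  have h2 : Nat.card (fixSub Ω (zpowers s)) = Nat.card (fixedBy Ω s) :=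
    Nat.card_congr (Equiv.subtypeEquivRight fun _ => fix_t)
  have h3 : Nat.card (fixedPoints (zpowers x') (fixSub Ω (zpowers s))) =
      Nat.card {c : Ω // s • c = c ∧ x • c = c} := by
    refine Nat.card_congr ⟨fun c => ⟨c.1.1, fix_t.1 c.1.2, ?_⟩,
      fun c => ⟨⟨c.1, fix_t.2 c.2.1⟩, ?_⟩, fun _ => rfl, fun _ => rfl⟩
    · exact congrArg Subtype.val (c.2 ⟨x', mem_zpowers x'⟩)
    · have h4 : zpowers x' ≤ stabilizer (centralizer (zpowers s : Set G))
          (⟨c.1, fix_t.2 c.2.1⟩ : fixSub Ω (zpowers s)) := by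
        rw [zpowers_le]
        exact Subtype.ext c.2.2
      intro g
      exact h4 g.2
  rw [h2, h3] at h1
  exact h1

theorem card_U [Finite Ω] (D : USet U a b t φ) (c : Ω) : Nat.card (U c) = Nat.card F ^ 3 := by
  have h1 := D.h.card c
  have h2 := D.h.card a
  rw [D.card] at h2
  omega

/-- The number of fixed points of a subgroup with two fixed points. -/
theorem exists_pow [Finite Ω] (D : USet U a b t φ) {p m : ℕ} (hp : p.Prime)
    (hF : Nat.card F = p ^ m) {x y : G} {c d : Ω} (hcd : d ≠ c) (hxc : x • c = c) (hxd : x • d = d)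
    (hyc : y • c = c) (hyd : y • d = d) :
    ∃ i, Nat.card {c : Ω // x • c = c ∧ y • c = c} = p ^ i + 1 := by
  have hX : ∀ e : Ω, (∀ z ∈ closure {x, y}, z • e = e) ↔ (x • e = e ∧ y • e = e) := by
    intro e
    constructor
    · intro h1
      exact ⟨h1 x (subset_closure (by simp)), h1 y (subset_closure (by simp))⟩
    · rintro ⟨h1, h2⟩
      have h3 : closure {x, y} ≤ stabilizer G e := by
        rw [closure_le]
        rintro z (rfl | rfl)
        · exact h1
        · exact h2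
      exact fun z hz => h3 hz
  have h1 := D.h.card_fixSub (X := closure {x, y}) hcd ((hX c).2 ⟨hxc, hyc⟩) ((hX d).2 ⟨hxd, hyd⟩)
  have h2 : Nat.card (fixSub Ω (closure {x, y})) = Nat.card {c : Ω // x • c = c ∧ y • c = c} :=
    Nat.card_congr (Equiv.subtypeEquivRight hX)
  rw [h2] at h1
  have h3 : Nat.card (U c ⊓ centralizer ((closure {x, y} : Subgroup G) : Set G) : Subgroup G) ∣
      p ^ (m * 3) := by
    rw [pow_mul, ← hF, ← D.card_U c]
    exact card_dvd_of_le inf_le_left
  obtain ⟨i, -, hi⟩ := (Nat.dvd_prime_pow hp).1 h3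
  exact ⟨i, by rw [h1, hi]⟩

/-- An involution commuting with `z` and fixing a point of `Fix z` fixes a second one. -/
theorem exists_second [Finite Ω] {z : G} (hev : Even (Nat.card (fixedBy Ω z))) {y : G}
    (hy2 : y * y = 1) (hyz : y * z = z * y) {c : Ω} (hc : z • c = c) (hyc : y • c = c) :
    ∃ d, d ≠ c ∧ z • d = d ∧ y • d = d := by
  classical
  by_contra hcon
  push Not at hcon
  have := Fintype.ofFinite Ω
  let S : Finset Ω := Finset.univ.filter (fun d => z • d = d ∧ d ≠ c)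
  have hS : Odd S.card := by
    have h1 : Nat.card (fixedBy Ω z) = (Finset.univ.filter (fun d : Ω => z • d = d)).card := by
      rw [Nat.card_eq_fintype_card, Fintype.card_subtype]
      rfl
    have h2 : S = (Finset.univ.filter (fun d : Ω => z • d = d)).erase c := by
      ext d
      simp only [S, Finset.mem_filter, Finset.mem_univ, true_and, Finset.mem_erase]
      tauto
    rw [h2, Finset.card_erase_of_mem (by simp [hc]), ← h1]
    have h3 : 0 < Nat.card (fixedBy Ω z) := by
      have : Nonempty (fixedBy Ω z) := ⟨⟨c, hc⟩⟩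
      exact Nat.card_pos
    obtain ⟨r, hr⟩ := hev
    exact ⟨r - 1, by omega⟩
  have hcomm : ∀ d : Ω, y • z • d = z • y • d := fun d => by
    rw [← mul_smul, hyz, mul_smul]
  have hyy : ∀ d : Ω, y • y • d = d := fun d => by rw [← mul_smul, hy2, one_smul]
  have h1 : Even S.card := by
    rw [← ZMod.natCast_eq_zero_iff_even, Finset.cast_card]
    refine Finset.sum_involution (fun d _ => y • d) (fun _ _ => by decide) ?_ ?_ ?_
    · intro d hd _
      rw [Finset.mem_filter] at hd
      exact hcon d hd.2.2 hd.2.1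
    · intro d hd
      rw [Finset.mem_filter] at hd ⊢
      refine ⟨Finset.mem_univ _, ?_, ?_⟩
      · rw [← hcomm, hd.2.1]
      · intro hc'
        exact hd.2.2 (MulAction.injective y (by
          change y • d = y • c
          rw [hc', hyc]))
    · intro d _
      exact hyy d
  exact (Nat.not_even_iff_odd.2 hS) h1

/-- In a two-point stabiliser there is only one involution conjugate to `t`, and it is central. -/
theorem conj_data (D : USet U a b t φ) {g : G} {c d : Ω} (hgc : g • a = c) (hgd : g • b = d)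
    {x : G} (hxc : x • c = c) (hxd : x • d = d) :
    x * (g * t * g⁻¹) = g * t * g⁻¹ * x ∧ (x ≠ 1 → x * x = 1 → x = g * t * g⁻¹) := by
  have hga : g⁻¹ • c = a := by rw [inv_smul_eq_iff, hgc]
  have hgb : g⁻¹ • d = b := by rw [inv_smul_eq_iff, hgd]
  have h1 : g⁻¹ * x * g ∈ Dab G a b := by
    constructor
    · change (g⁻¹ * x * g) • a = a
      rw [mul_smul, mul_smul, hgc, hxc, hga]
    · change (g⁻¹ * x * g) • b = b
      rw [mul_smul, mul_smul, hgd, hxd, hgb]
  constructor
  · have h2 := D.cen _ h1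
    calc x * (g * t * g⁻¹) = g * (g⁻¹ * x * g * t) * g⁻¹ := by group
      _ = g * (t * (g⁻¹ * x * g)) * g⁻¹ := by rw [h2]
      _ = g * t * g⁻¹ * x := by group
  · intro hx1 hx2
    have h2 := D.uniq _ h1 (fun he => hx1 (by
      calc x = g * (g⁻¹ * x * g) * g⁻¹ := by group
        _ = 1 := by rw [he]; group)) (by
      calc g⁻¹ * x * g * (g⁻¹ * x * g) = g⁻¹ * (x * x) * g := by group
        _ = 1 := by rw [hx2]; group)
    rw [← h2]
    group

theorem sq_conj (D : USet U a b t φ) (g : G) : g * t * g⁻¹ * (g * t * g⁻¹) = 1 := by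
  calc g * t * g⁻¹ * (g * t * g⁻¹) = g * (t * t) * g⁻¹ := by group
    _ = 1 := by rw [D.tt]; group

theorem ne_one_conj [Finite F] (D : USet U a b t φ) (g : G) : g * t * g⁻¹ ≠ 1 := fun he =>
  D.t_ne (by
    calc t = g⁻¹ * (g * t * g⁻¹) * g := by group
      _ = 1 := by rw [he]; group)

/-- The involution `y_c` of `G_{c, t c}`. -/
theorem exists_y [Finite Ω] [Finite F] (D : USet U a b t φ) {c : Ω} (hc : t • c ≠ c) :
    ∃ y, IsConj t y ∧ y * y = 1 ∧ y • c = c ∧ y * t = t * y ∧
      (∀ x : G, x • c = c → x * t = t * x → x * y = y * x) ∧ ∀ d : Ω, t • d = d → y • d ≠ d := by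
  obtain ⟨g, hg1, hg2⟩ := D.h.two (a := a) (b := b) (c := c) (d := t • c) D.ab.symm hc.symm
  have htt : t • t • c = c := by rw [← mul_smul, D.tt, one_smul]
  have hyc : (g * t * g⁻¹) • c = c := by
    rw [mul_smul, mul_smul, show g⁻¹ • c = a by rw [inv_smul_eq_iff, hg1],
      show t • a = a from D.tD.1, hg1]
  have hytc : (g * t * g⁻¹) • t • c = t • c := by
    rw [mul_smul, mul_smul, show g⁻¹ • t • c = b by rw [inv_smul_eq_iff, hg2],
      show t • b = b from D.tD.2, hg2]
  have hti : t⁻¹ = t := inv_eq_of_mul_eq_one_left D.tt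
  have hcomm : g * t * g⁻¹ * t = t * (g * t * g⁻¹) := by
    have h1 : t * (g * t * g⁻¹) * t⁻¹ = g * t * g⁻¹ := by
      refine (D.conj_data hg1 hg2 ?_ ?_).2 ?_ ?_
      · rw [mul_smul, mul_smul, hti, hytc, htt]
      · rw [mul_smul, mul_smul, inv_smul_smul, hyc]
      · intro he
        apply D.ne_one_conj g
        calc g * t * g⁻¹ = t⁻¹ * (t * (g * t * g⁻¹) * t⁻¹) * t := by group
          _ = 1 := by rw [he]; group
      · calc t * (g * t * g⁻¹) * t⁻¹ * (t * (g * t * g⁻¹) * t⁻¹) =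
            t * (g * t * g⁻¹ * (g * t * g⁻¹)) * t⁻¹ := by group
          _ = 1 := by rw [D.sq_conj]; group
    calc g * t * g⁻¹ * t = t * (g * t * g⁻¹) * t⁻¹ * t := by rw [h1]
      _ = t * (g * t * g⁻¹) := by group
  refine ⟨g * t * g⁻¹, isConj_iff.2 ⟨g, rfl⟩, D.sq_conj g, hyc, hcomm, ?_, ?_⟩
  · intro x hxc hxt
    refine (D.conj_data hg1 hg2 hxc ?_).1
    rw [← mul_smul, hxt, mul_smul, hxc]
  · intro d htd hyd
    obtain ⟨e, hed, hte, hye⟩ := exists_second (by
      rw [D.card_fix_t]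
      exact D.odd.add_one) (D.sq_conj g) hcomm htd hyd
    obtain ⟨k, hk1, hk2⟩ := D.h.two (a := a) (b := b) (c := d) (d := e) D.ab.symm hed.symm
    have h1 := (D.conj_data hk1 hk2 hyd hye).2 (D.ne_one_conj g) (D.sq_conj g)
    have h2 := (D.conj_data hk1 hk2 htd hte).2 D.t_ne D.tt
    apply hc
    rw [← h2] at h1
    rw [← h1]
    exact hyc

/-- **`J = y H`.** -/
theorem exists_nM [Finite G] [Finite F] (D : USet U a b t φ) {y : G} (hyy : y * y = 1)
    (hys : Swaps y a b) {y' : G} (hyy' : y' * y' = 1) (hys' : Swaps y' a b) :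
    ∃ (r : F) (hr : r ≠ 0), y' = y * φ (nM r hr) := by
  classical
  obtain ⟨ν, hν, -, hact⟩ := D.act y hyy hys
  have hyi : y⁻¹ = y := inv_eq_of_mul_eq_one_left hyy
  have hsq : ∀ (r : F) (hr : r ≠ 0), y * φ (nM r hr) * (y * φ (nM r hr)) = 1 := by
    intro r hr
    have h1 : wconj ν hν (nM r hr) * nM r hr = 1 := by
      apply ext' <;> simp [mul_apply', hr]
    calc y * φ (nM r hr) * (y * φ (nM r hr)) = y * φ (nM r hr) * y⁻¹ * φ (nM r hr) := by
          rw [hyi]; group
      _ = φ (wconj ν hν (nM r hr) * nM r hr) := by rw [hact, map_mul]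
      _ = 1 := by rw [h1, map_one]
  have hsw : ∀ (r : F) (hr : r ≠ 0), Swaps (y * φ (nM r hr)) a b := by
    intro r hr
    exact ⟨by rw [mul_smul, D.nM_a, hys.1], by rw [mul_smul, D.nM_b, hys.2]⟩
  have hinj : Function.Injective (fun r : Fˣ =>
      (⟨y * φ (nM (r : F) r.ne_zero), hsq _ _, hsw _ _⟩ : {y : G // y * y = 1 ∧ Swaps y a b})) := by
    intro r r' he
    have h1 : y * φ (nM (r : F) r.ne_zero) = y * φ (nM (r' : F) r'.ne_zero) :=
      congrArg Subtype.val he
    have h2 := D.inj (mul_left_cancel h1)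
    exact Units.ext (congrArg (fun m : Matrix.SpecialLinearGroup (Fin 2) F => m.1 0 0) h2)
  have hc : Nat.card Fˣ = Nat.card {y : G // y * y = 1 ∧ Swaps y a b} := by
    rw [D.cardJ, Nat.card_units]
  obtain ⟨r, hr⟩ := ((Nat.bijective_iff_injective_and_card _).2 ⟨hinj, hc⟩).2 ⟨y', hyy', hys'⟩
  exact ⟨r, r.ne_zero, (congrArg Subtype.val hr).symm⟩

/-- The last step: an element of odd prime order of `SL₂` fixing a point outside `Fix t`. -/
theorem key [Finite G] [Finite Ω] [Finite F] (D : USet U a b t φ)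
    {g : Matrix.SpecialLinearGroup (Fin 2) F} {c : Ω} {y : G} {l : ℕ} [hl : Fact l.Prime]
    (hl2 : l ≠ 2) (hg1 : g ≠ 1) (hgl : g ^ l = 1) (hc : t • c ≠ c) (hx : φ g • c = c)
    (hyy : y * y = 1) (hys : Swaps y a b) (hyc : y • c = c) (hyt : y * t = t * y)
    (hty : IsConj t y) (hxy : φ g * y = y * φ g) : False := by
  classical
  have h2 : (2 : F) ≠ 0 := two_ne_zero_of_odd D.odd
  have hti : t⁻¹ = t := inv_eq_of_mul_eq_one_left D.tt
  have hlodd : Odd l := hl.out.odd_of_ne_two hl2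
  obtain ⟨ν, hν, hns, hact⟩ := D.act y hyy hys
  have hw : wconj ν hν g = g := by
    apply D.inj
    rw [← hact, mul_inv_eq_iff_eq_mul, hxy]
  have e11 : g.1 1 1 = g.1 0 0 :=
    congrArg (fun m : Matrix.SpecialLinearGroup (Fin 2) F => m.1 0 0) hw
  have e01 : g.1 0 1 = ν * g.1 1 0 :=
    (congrArg (fun m : Matrix.SpecialLinearGroup (Fin 2) F => m.1 0 1) hw).symm
  have hdet := det_eq g
  rw [e11, e01] at hdet
  -- `β ≠ 0`
  have hβ : g.1 1 0 ≠ 0 := by
    intro h0
    have hgg : g * g = 1 := by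
      rw [h0] at hdet
      apply ext' <;> simp [mul_apply', e11, e01, h0]
      · linear_combination hdet
      · linear_combination hdet
    apply hg1
    obtain ⟨k, hk⟩ := hlodd
    rw [hk, pow_succ, pow_mul, pow_two, hgg, one_pow, one_mul] at hgl
    exact hgl
  -- no fixed points on `Fix t`
  have hnof : ∀ d : Ω, t • d = d → φ g • d ≠ d := by
    intro d hd hgd
    rcases D.fix_iff.1 hd with rfl | ⟨s, rfl⟩
    · exact hβ (D.sl_fix_a hgd)
    · have h3 : φ (tM (-s) * g * tM s) • b = b := by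
        rw [map_mul, map_mul, mul_smul, mul_smul, hgd, ← mul_smul, ← map_mul, tM_neg_mul, map_one,
          one_smul]
      have h4 := D.sl_fix_b h3
      have h5 : (ν - s * s) * g.1 1 0 = 0 := by
        simp [mul_apply', e11, e01] at h4
        linear_combination h4
      rcases mul_eq_zero.1 h5 with h6 | h6
      · exact hns ⟨s, by linear_combination h6⟩
      · exact hβ h6
  have hxt : φ g * t = t * φ g := (D.t_comm g).symm
  have hxl : (φ g) ^ l = 1 := by rw [← map_pow, hgl, map_one]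
  -- `l ∣ q + 1`
  have hlq : l ∣ Nat.card F + 1 := by
    have h3 := card_mod (Ω := Ω) hxt.symm hxl
    have h4 : Nat.card {c : Ω // t • c = c ∧ φ g • c = c} = 0 := by
      have : IsEmpty {c : Ω // t • c = c ∧ φ g • c = c} := ⟨fun d => hnof d.1 d.2.1 d.2.2⟩
      exact Nat.card_of_isEmpty
    rw [h4, D.card_fix_t] at h3
    exact (Nat.modEq_zero_iff_dvd).1 h3
  have hlA : l ∣ Nat.card {c : Ω // y • c = c ∧ φ g • c = c} := by
    have h3 := card_mod (Ω := Ω) hxy.symm hxl
    rw [← SSplit.card_fixedBy_isConj hty, D.card_fix_t] at h3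
    exact (h3.dvd_iff dvd_rfl).1 hlq
  -- the fixed points of `x`
  have hdich : ∀ c' : Ω, φ g • c' = c' → y • c' = c' ∨ (t * y) • c' = c' := by
    intro c' hxc'
    have hc' : t • c' ≠ c' := fun h3 => hnof c' h3 hxc'
    obtain ⟨y', hty', hyy', hyc', hyt', hcy', hyf'⟩ := D.exists_y hc'
    have hxy' := hcy' (φ g) hxc' hxt
    have h3 : t • y' • a = y' • a := by
      rw [← mul_smul, ← hyt', mul_smul, show t • a = a from D.tD.1]
    obtain ⟨s, hs⟩ := (D.fix_iff.1 h3).resolve_left (hyf' a D.tD.1)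
    -- `y'' = φ(tM s)⁻¹ y' φ(tM s)` interchanges `a` and `b`
    have hys'' : Swaps (φ (tM (-s)) * y' * φ (tM s)) a b := by
      have h4 : (φ (tM (-s)) * y' * φ (tM s)) • a = b := by
        rw [mul_smul, mul_smul, D.tM_a, ← hs, ← mul_smul, ← map_mul, tM_neg_mul, map_one, one_smul]
      refine ⟨h4, ?_⟩
      have h5 : φ (tM (-s)) * y' * φ (tM s) * (φ (tM (-s)) * y' * φ (tM s)) = 1 := by
        have e1 : φ (tM s) * φ (tM (-s)) = 1 := by rw [← map_mul, tM_mul_neg, map_one]
        have e2 : φ (tM (-s)) * φ (tM s) = 1 := by rw [← map_mul, tM_neg_mul, map_one]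
        calc _ = φ (tM (-s)) * y' * (φ (tM s) * φ (tM (-s))) * y' * φ (tM s) := by group
          _ = φ (tM (-s)) * (y' * y') * φ (tM s) := by rw [e1]; group
          _ = 1 := by rw [hyy', mul_one, e2]
      rw [← h4, ← mul_smul, h5, one_smul]
    have hyy'' : φ (tM (-s)) * y' * φ (tM s) * (φ (tM (-s)) * y' * φ (tM s)) = 1 := by
      have e1 : φ (tM s) * φ (tM (-s)) = 1 := by rw [← map_mul, tM_mul_neg, map_one]
      have e2 : φ (tM (-s)) * φ (tM s) = 1 := by rw [← map_mul, tM_neg_mul, map_one]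
      calc _ = φ (tM (-s)) * y' * (φ (tM s) * φ (tM (-s))) * y' * φ (tM s) := by group
        _ = φ (tM (-s)) * (y' * y') * φ (tM s) := by rw [e1]; group
        _ = 1 := by rw [hyy', mul_one, e2]
    obtain ⟨ν', hν', -, hact'⟩ := D.act _ hyy'' hys''
    have hw' : wconj ν' hν' (tM (-s) * g * tM s) = tM (-s) * g * tM s := by
      apply D.inj
      rw [← hact', mul_inv_eq_iff_eq_mul]
      have e1 : φ (tM s) * φ (tM (-s)) = 1 := by rw [← map_mul, tM_mul_neg, map_one]
      rw [map_mul, map_mul]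
      calc φ (tM (-s)) * y' * φ (tM s) * (φ (tM (-s)) * φ g * φ (tM s)) =
          φ (tM (-s)) * y' * (φ (tM s) * φ (tM (-s))) * φ g * φ (tM s) := by group
        _ = φ (tM (-s)) * (y' * φ g) * φ (tM s) := by rw [e1]; group
        _ = φ (tM (-s)) * φ g * 1 * y' * φ (tM s) := by rw [← hxy']; group
        _ = φ (tM (-s)) * φ g * φ (tM s) * (φ (tM (-s)) * y' * φ (tM s)) := by rw [← e1]; group
    have f00 := congrArg (fun m : Matrix.SpecialLinearGroup (Fin 2) F => m.1 0 0) hw'
    have f01 := congrArg (fun m : Matrix.SpecialLinearGroup (Fin 2) F => m.1 0 1) hw'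
    simp [mul_apply', e11, e01] at f00 f01
    have hs0 : s = 0 := by
      have h6 : 2 * (g.1 1 0 * s) = 0 := by linear_combination f00
      exact (mul_eq_zero.1 ((mul_eq_zero.1 h6).resolve_left h2)).resolve_left hβ
    subst hs0
    have hν'' : ν' = ν := by
      have h6 : (ν' - ν) * g.1 1 0 = 0 := by linear_combination f01
      exact sub_eq_zero.1 ((mul_eq_zero.1 h6).resolve_right hβ)
    subst hν''
    have e3 : φ (tM (-(0 : F))) * y' * φ (tM 0) = y' := by
      rw [neg_zero, tM_zero, map_one]; group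
    rw [e3] at hys'' hyy'' hact'
    obtain ⟨r, hr, hyr⟩ := D.exists_nM hyy hys hyy'' hys''
    have h6 : nM r hr * tM 1 * (nM r hr)⁻¹ = tM 1 := by
      apply D.inj
      have h7 : φ (nM r hr) = y⁻¹ * y' := by rw [hyr]; group
      rw [map_mul, map_mul, map_inv, h7]
      have h8 : y * φ (tM 1) * y⁻¹ = y' * φ (tM 1) * y'⁻¹ := by rw [hact, hact']
      calc y⁻¹ * y' * φ (tM 1) * (y⁻¹ * y')⁻¹ = y⁻¹ * (y' * φ (tM 1) * y'⁻¹) * y := by group
        _ = φ (tM 1) := by rw [← h8]; group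
    rw [nM_conj_tM] at h6
    have h7 : r ^ 2 * 1 = 1 := congrArg (fun m : Matrix.SpecialLinearGroup (Fin 2) F => m.1 0 1) h6
    have h8 : nM r hr * nM r hr = 1 := by
      have h9 : r * r = 1 := by linear_combination h7
      have h10 : r⁻¹ * r⁻¹ = 1 := by rw [← mul_inv, h9, inv_one]
      apply ext' <;> simp [mul_apply', h9, h10]
    rcases eq_of_sq h2 h8 with h9 | h9
    · left
      rw [h9, map_one, mul_one] at hyr
      rw [← hyr]
      exact hyc'
    · right
      rw [h9, D.neg, hyt] at hyr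
      rw [← hyr]
      exact hyc'
  -- the element `n`
  obtain ⟨u, v, huv⟩ := exists_norm D.odd hν
  let n : Matrix.SpecialLinearGroup (Fin 2) F :=
    Cfsg.Agent.ONan.SL2Hom.mk u (-(ν * v)) v (-u) (by linear_combination huv)
  have hn1 : φ n * y * (φ n)⁻¹ = t * y := by
    have h3 : wconj ν hν n = -1 * n := by
      apply ext'
      · rw [wconj_00, mul_apply', neg_one_00, neg_one_01]; simp [n]
      · rw [wconj_01, mul_apply', neg_one_00, neg_one_01]; simp [n]
      · rw [wconj_10, mul_apply', neg_one_10, neg_one_11]; simp [n]; field_simp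
      · rw [wconj_11, mul_apply', neg_one_10, neg_one_11]; simp [n]
    have h4 := hact n
    rw [h3, map_mul, D.neg] at h4
    calc φ n * y * (φ n)⁻¹ = t⁻¹ * (t * φ n) * y * (φ n)⁻¹ := by group
      _ = t⁻¹ * (y * φ n * y⁻¹) * y * (φ n)⁻¹ := by rw [h4]
      _ = t⁻¹ * y := by group
      _ = t * y := by rw [hti]
  have hn2 : φ n * φ g * (φ n)⁻¹ = (φ g)⁻¹ := by
    rw [← map_inv, ← map_inv, ← map_mul, ← map_mul]
    congr 1
    rw [mul_inv_eq_iff_eq_mul]
    apply ext' <;> simp [mul_apply', n, Matrix.SpecialLinearGroup.coe_inv, Matrix.adjugate_fin_two,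
      e11, e01] <;> ring
  have hxinv : ∀ d : Ω, (φ g)⁻¹ • d = d ↔ φ g • d = d := fun d => by
    rw [inv_smul_eq_iff, eq_comm]
  have hcardn : Nat.card {c : Ω // y • c = c ∧ φ g • c = c} =
      Nat.card {c : Ω // (t * y) • c = c ∧ φ g • c = c} := by
    have hn : ∀ (z z' : G), φ n * z * (φ n)⁻¹ = z' → ∀ d : Ω, z' • φ n • d = φ n • d ↔ z • d = d := by
      intro z z' h3 d
      rw [← h3, mul_smul, mul_smul, inv_smul_smul]
      constructor
      · intro h4
        exact MulAction.injective (φ n) h4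
      · intro h4
        rw [h4]
    refine Nat.card_congr ⟨fun d => ⟨φ n • d.1, (hn _ _ hn1 _).2 d.2.1,
      (hxinv _).1 ((hn _ _ hn2 _).2 d.2.2)⟩, fun d => ⟨(φ n)⁻¹ • d.1, ?_, ?_⟩, ?_, ?_⟩
    · rw [← hn _ _ hn1, smul_inv_smul]
      exact d.2.1
    · rw [← hn _ _ hn2, smul_inv_smul]
      exact (hxinv _).2 d.2.2
    · intro d
      exact Subtype.ext (inv_smul_smul _ _)
    · intro d
      exact Subtype.ext (smul_inv_smul _ _)
  have hsum : Nat.card {c : Ω // φ g • c = c ∧ φ g • c = c} =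
      Nat.card {c : Ω // y • c = c ∧ φ g • c = c} +
        Nat.card {c : Ω // (t * y) • c = c ∧ φ g • c = c} := by
    rw [← Nat.card_sum]
    have hdisj : ∀ d : Ω, φ g • d = d → y • d = d → (t * y) • d ≠ d := by
      intro d h3 h4 h5
      rw [mul_smul, h4] at h5
      exact hnof d h5 h3
    refine Nat.card_congr (Equiv.ofBijective (fun z : {c : Ω // y • c = c ∧ φ g • c = c} ⊕
      {c : Ω // (t * y) • c = c ∧ φ g • c = c} => (match z with
        | Sum.inl d => ⟨d.1, d.2.2, d.2.2⟩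
        | Sum.inr d => ⟨d.1, d.2.2, d.2.2⟩ : {c : Ω // φ g • c = c ∧ φ g • c = c})) ⟨?_, ?_⟩).symm
    · rintro (d | d) (e | e) he
      · have h3 := congrArg Subtype.val he
        exact congrArg Sum.inl (Subtype.ext h3)
      · have h3 : d.1 = e.1 := congrArg Subtype.val he
        exact absurd (h3 ▸ e.2.1) (hdisj d.1 d.2.2 d.2.1)
      · have h3 : d.1 = e.1 := congrArg Subtype.val he
        exact absurd (h3 ▸ d.2.1) (hdisj e.1 e.2.2 e.2.1)
      · have h3 := congrArg Subtype.val he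
        exact congrArg Sum.inr (Subtype.ext h3)
    · rintro ⟨d, hd, -⟩
      rcases hdich d hd with h3 | h3
      · exact ⟨Sum.inl ⟨d, h3, hd⟩, rfl⟩
      · exact ⟨Sum.inr ⟨d, h3, hd⟩, rfl⟩
  -- the numbers
  have := Fintype.ofFinite F
  obtain ⟨p, m, hp, hpm⟩ : ∃ p m : ℕ, p.Prime ∧ Nat.card F = p ^ m := by
    obtain ⟨p, hp⟩ := CharP.exists F
    obtain ⟨m, hp', hm⟩ := FiniteField.card F p
    exact ⟨p, m, hp', by rw [Nat.card_eq_fintype_card, hm]⟩
  have hxtc : φ g • t • c = t • c := by rw [← mul_smul, hxt, mul_smul, hx]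
  have hytc : y • t • c = t • c := by rw [← mul_smul, hyt, mul_smul, hyc]
  obtain ⟨i, hi⟩ := D.exists_pow hp hpm hc hyc hytc hx hxtc
  obtain ⟨j, hj⟩ := D.exists_pow hp hpm hc hx hxtc hx hxtc
  rw [← hcardn, hi, hj] at hsum
  have hpodd : p ≠ 2 := by
    rintro rfl
    have h3 := D.odd
    rw [hpm] at h3
    have hm0 : m ≠ 0 := by
      rintro rfl
      have : 1 < Nat.card F := Finite.one_lt_card
      rw [hpm] at this
      simp at this
    exact (Nat.not_even_iff_odd.2 h3) (Nat.even_pow.2 ⟨even_two, hm0⟩)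
  have hi0 : i = 0 := by
    by_contra hi0
    have hj0 : j ≠ 0 := by
      rintro rfl
      have : 0 < p ^ i := pow_pos hp.pos i
      rw [pow_zero] at hsum
      omega
    have h3 : p ∣ p ^ i := dvd_pow_self p hi0
    have h4 : p ∣ p ^ j := dvd_pow_self p hj0
    have h5 : p ∣ 1 := by
      have h6 : p ^ j = 2 * p ^ i + 1 := by omega
      rw [h6] at h4
      exact (Nat.dvd_add_right (dvd_mul_of_dvd_right h3 2)).1 h4
    exact hp.one_lt.ne' (Nat.dvd_one.1 h5)
  rw [hi, hi0, pow_zero] at hlA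
  exact hl2 ((Nat.prime_dvd_prime_iff_eq hl.out Nat.prime_two).1 hlA)

/-- **`SL₂(F)` is semiregular on the points not fixed by `t`.** -/
theorem regular [Finite G] [Finite Ω] [Finite F] (D : USet U a b t φ) {c : Ω} (hc : t • c ≠ c)
    {A : Matrix.SpecialLinearGroup (Fin 2) F} (hA : φ A • c = c) : A = 1 := by
  classical
  by_contra hA1
  have h2 : (2 : F) ≠ 0 := two_ne_zero_of_odd D.odd
  obtain ⟨l, hl, hlA⟩ := Nat.exists_prime_and_dvd (n := orderOf A) (fun h => hA1 (orderOf_eq_one_iff.1 h))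
  have : Fact l.Prime := ⟨hl⟩
  obtain ⟨k, hk⟩ := hlA
  have hk0 : k ≠ 0 := by
    rintro rfl
    rw [mul_zero] at hk
    exact (orderOf_pos A).ne' hk
  let g := A ^ k
  have hgl : g ^ l = 1 := by
    change (A ^ k) ^ l = 1
    rw [← pow_mul, mul_comm, ← hk, pow_orderOf_eq_one]
  have hg1 : g ≠ 1 := by
    intro h1
    have h3 := orderOf_dvd_of_pow_eq_one h1
    have h4 := Nat.le_of_dvd (Nat.pos_of_ne_zero hk0) h3
    rw [hk] at h4
    have := Nat.mul_le_mul_right k hl.two_le
    omega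
  have hgc : φ g • c = c := by
    have h1 : φ A ∈ stabilizer G c := hA
    have h3 : φ g ∈ stabilizer G c := by
      change φ (A ^ k) ∈ _
      rw [map_pow]
      exact pow_mem h1 k
    exact h3
  have hl2 : l ≠ 2 := by
    rintro rfl
    rcases eq_of_sq h2 (by rw [← pow_two]; exact hgl) with h1 | h1
    · exact hg1 h1
    · rw [h1, D.neg] at hgc
      exact hc hgc
  obtain ⟨y, hty, hyy, hyc, hyt, hcy, hyf⟩ := D.exists_y hc
  have hxt : φ g * t = t * φ g := (D.t_comm g).symm
  have hxy := hcy _ hgc hxt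
  have h3 : t • y • a = y • a := by
    rw [← mul_smul, ← hyt, mul_smul, show t • a = a from D.tD.1]
  obtain ⟨s, hs⟩ := (D.fix_iff.1 h3).resolve_left (hyf a D.tD.1)
  have e1 : φ (tM s) * φ (tM (-s)) = 1 := by rw [← map_mul, tM_mul_neg, map_one]
  have e2 : φ (tM (-s)) * φ (tM s) = 1 := by rw [← map_mul, tM_neg_mul, map_one]
  have e3 : (φ (tM (-s)))⁻¹ = φ (tM s) := inv_eq_of_mul_eq_one_right e2
  have hgi : (tM (-s) * g * tM s) ^ l = 1 := by
    have h4 : tM (-s) * g * tM s = tM (-s) * g * (tM (-s))⁻¹ := by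
      rw [inv_eq_of_mul_eq_one_right (tM_neg_mul s)]
    rw [h4, conj_pow, hgl]; group
  have hyy'' : φ (tM (-s)) * y * φ (tM s) * (φ (tM (-s)) * y * φ (tM s)) = 1 := by
    calc _ = φ (tM (-s)) * y * (φ (tM s) * φ (tM (-s))) * y * φ (tM s) := by group
      _ = φ (tM (-s)) * (y * y) * φ (tM s) := by rw [e1]; group
      _ = 1 := by rw [hyy, mul_one, e2]
  have hsa : (φ (tM (-s)) * y * φ (tM s)) • a = b := by
    rw [mul_smul, mul_smul, D.tM_a, ← hs, ← mul_smul, e2, one_smul]
  refine D.key (g := tM (-s) * g * tM s) (c := φ (tM (-s)) • c)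
    (y := φ (tM (-s)) * y * φ (tM s)) hl2 ?_ hgi ?_ ?_ hyy'' ⟨hsa, ?_⟩ ?_ ?_ ?_ ?_
  · intro h4
    apply hg1
    calc g = tM s * tM (-s) * g * (tM s * tM (-s)) := by rw [tM_mul_neg]; group
      _ = tM s * (tM (-s) * g * tM s) * tM (-s) := by group
      _ = 1 := by rw [h4, mul_one, tM_mul_neg]
  · intro h4
    rw [← mul_smul, D.t_comm, mul_smul] at h4
    exact hc (MulAction.injective _ h4)
  · rw [map_mul, map_mul, mul_smul, mul_smul, ← mul_smul (φ (tM s)), e1, one_smul, hgc]
  · rw [← hsa, ← mul_smul, hyy'', one_smul]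
  · rw [mul_smul, mul_smul, ← mul_smul (φ (tM s)), e1, one_smul, hyc]
  · calc φ (tM (-s)) * y * φ (tM s) * t = φ (tM (-s)) * y * (φ (tM s) * t) := by group
      _ = φ (tM (-s)) * (y * t) * φ (tM s) := by rw [← D.t_comm]; group
      _ = φ (tM (-s)) * t * y * φ (tM s) := by rw [hyt]; group
      _ = t * (φ (tM (-s)) * y * φ (tM s)) := by rw [← D.t_comm]; group
  · refine hty.trans (isConj_iff.2 ⟨φ (tM (-s)), ?_⟩)
    rw [e3]
  · rw [map_mul, map_mul]
    calc φ (tM (-s)) * φ g * φ (tM s) * (φ (tM (-s)) * y * φ (tM s)) =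
        φ (tM (-s)) * φ g * (φ (tM s) * φ (tM (-s))) * y * φ (tM s) := by group
      _ = φ (tM (-s)) * (φ g * y) * φ (tM s) := by rw [e1]; group
      _ = φ (tM (-s)) * y * 1 * φ g * φ (tM s) := by rw [hxy]; group
      _ = φ (tM (-s)) * y * φ (tM s) * (φ (tM (-s)) * φ g * φ (tM s)) := by rw [← e1]; group

/-- **`SL₂(F)` is transitive on the points not fixed by `t`.** -/
theorem trans [Finite G] [Finite Ω] [Finite F] (D : USet U a b t φ) {c c' : Ω} (hc : t • c ≠ c)
    (hc' : t • c' ≠ c') : ∃ A, φ A • c = c' := by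
  classical
  have := Fintype.ofFinite F
  have hmem : ∀ A, t • φ A • c ≠ φ A • c := by
    intro A h1
    rw [← mul_smul, D.t_comm, mul_smul] at h1
    exact hc (MulAction.injective _ h1)
  have hinj : Function.Injective (fun A : Matrix.SpecialLinearGroup (Fin 2) F =>
      (⟨φ A • c, hmem A⟩ : {c : Ω // t • c ≠ c})) := by
    intro A B he
    have h1 : φ A • c = φ B • c := congrArg Subtype.val he
    have h2 : φ (B⁻¹ * A) • c = c := by
      rw [map_mul, map_inv, mul_smul, h1, inv_smul_smul]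
    exact (inv_mul_eq_one.1 (D.regular hc h2)).symm
  have hcard : Nat.card (Matrix.SpecialLinearGroup (Fin 2) F) = Nat.card {c : Ω // t • c ≠ c} := by
    have h1 := Nat.card_congr (Equiv.sumCompl (fun c : Ω => t • c = c))
    rw [Nat.card_sum] at h1
    have h2 : Nat.card {c : Ω // t • c = c} = Nat.card F + 1 := D.card_fix_t
    rw [h2, D.h.card a, D.card] at h1
    have h3 := ClassicalGeometry.PSL2Basic.card_SL2 F
    rw [← Nat.card_eq_fintype_card] at h3
    have h4 : Nat.card {c : Ω // ¬ t • c = c} = Nat.card {c : Ω // t • c ≠ c} := rfl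
    rw [← h4]
    have h5 : 1 < Nat.card F := Finite.one_lt_card
    rw [h3]
    have h6 : Nat.card F * (Nat.card F ^ 2 - 1) + Nat.card F = Nat.card F ^ 3 := by
      have h7 : 1 ≤ Nat.card F ^ 2 := Nat.one_le_pow _ _ (by omega)
      have h8 : Nat.card F * (Nat.card F ^ 2 - 1) + Nat.card F =
        Nat.card F * (Nat.card F ^ 2 - 1 + 1) := by ring
      rw [h8, Nat.sub_add_cancel h7]; ring
    omega
  obtain ⟨A, hA⟩ := ((Nat.bijective_iff_injective_and_card _).2 ⟨hinj, hcard⟩).2 ⟨c', hc'⟩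
  exact ⟨A, congrArg Subtype.val hA⟩

end USet

end

end Cfsg.Agent.HKS.UEnd
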