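import Mathlib
import Cfsg.Agent.HKS.EndL
import Cfsg.Agent.S0280
import Cfsg.Agent.S0243
import Cfsg.Prelude.Def_CaseTheorems

/-!
# Orders of `PSL(3, F)`, `PSU(3, q)` and the numbers `n`, `d` of a strongly split action
-/

set_option autoImplicit false

namespace Cfsg.Agent.HKS.EndOrd

open Matrix Subgroup MulAction
open Cfsg.Agent.HKS.EndNum (Ord)

section Orders

variable {F : Type} [Field F] [Fintype F]

theorem prime_pow_of_sq {q : ℕ} (hF : Fintype.card F = q ^ 2) : ∃ s f : ℕ, s.Prime ∧ f ≠ 0 ∧ q = s ^ f := by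
  obtain ⟨s, -, n, hs, hn⟩ := FiniteField.card' F
  have h1 : q ∣ s ^ (n : ℕ) := by
    rw [← hn, hF]
    exact dvd_pow_self q two_ne_zero
  obtain ⟨f, -, hf⟩ := (Nat.dvd_prime_pow hs).1 h1
  refine ⟨s, f, hs, ?_, hf⟩
  rintro rfl
  rw [pow_zero] at hf
  rw [hf, one_pow] at hF
  have := Fintype.one_lt_card (α := F)
  omega

/-- Order of `PSL(3, F)`. -/
theorem card_psl_three {t : ℕ} (ht : Fintype.card F = t + 1) :
    Nat.gcd 3 t * Nat.card (ProjectiveSpecialLinearGroup (Fin 3) F)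
      = (t + 1) ^ 3 * (t ^ 2 * ((t + 2) * (t ^ 2 + 3 * t + 3))) := by
  have h1 : 0 < t := by
    have := Fintype.one_lt_card (α := F)
    omega
  have h := Cfsg.Agent.S0243.result (F := F) ht 3 (by norm_num)
  rw [Nat.add_sub_cancel, Fin.prod_univ_three] at h
  have e0 : (t + 1) ^ 3 - (t + 1) ^ ((0 : Fin 3) : ℕ) = t * (t ^ 2 + 3 * t + 3) := by
    apply Nat.sub_eq_of_eq_add
    change _ = _ + (t + 1) ^ 0
    ring
  have e1 : (t + 1) ^ 3 - (t + 1) ^ ((1 : Fin 3) : ℕ) = (t + 1) * (t * (t + 2)) := by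
    apply Nat.sub_eq_of_eq_add
    change _ = _ + (t + 1) ^ 1
    ring
  have e2 : (t + 1) ^ 3 - (t + 1) ^ ((2 : Fin 3) : ℕ) = (t + 1) ^ 2 * t := by
    apply Nat.sub_eq_of_eq_add
    change _ = _ + (t + 1) ^ 2
    ring
  rw [e0, e1, e2] at h
  apply Nat.eq_of_mul_eq_mul_left h1
  calc t * (Nat.gcd 3 t * Nat.card (ProjectiveSpecialLinearGroup (Fin 3) F))
      = Nat.gcd 3 t * (t * Nat.card (ProjectiveSpecialLinearGroup (Fin 3) F)) := by ring
    _ = _ := by rw [h]; ring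

/-- Order of `PSU(3, q)`. -/
theorem card_psu_three {t : ℕ} (hF : Fintype.card F = (t + 1) ^ 2) :
    Nat.gcd 3 (t + 2) * Nat.card (Cfsg.PSU 3 F (t + 1))
      = (t + 1) ^ 3 * (t * ((t + 2) ^ 2 * (t ^ 2 + t + 1))) := by
  have h := Cfsg.Agent.S0280.result (F := F) hF 3 (by norm_num)
  rw [Finset.prod_range_succ, Finset.prod_range_succ, Finset.prod_range_one] at h
  have e1 : (t + 1) ^ (1 + 1) - 1 = t * (t + 2) := by
    apply Nat.sub_eq_of_eq_add
    ring
  have e3 : (t + 1) ^ (2 + 1) + 1 = (t + 2) * (t ^ 2 + t + 1) := by ring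
  rw [if_pos (by decide), if_neg (by decide), if_pos (by decide), e1, e3] at h
  apply Nat.eq_of_mul_eq_mul_left (Nat.succ_pos (t + 1))
  change (t + 2) * _ = (t + 2) * _
  have e4 : t + 1 + 1 = t + 2 := rfl
  rw [e4] at h
  calc (t + 2) * (Nat.gcd 3 (t + 2) * Nat.card (Cfsg.PSU 3 F (t + 1)))
      = Nat.gcd 3 (t + 2) * ((t + 2) * Nat.card (Cfsg.PSU 3 F (t + 1))) := by ring
    _ = _ := by
      rw [h]
      norm_num
      ring

end Orders

section Num

/-- `|²G₂(r)|`, `r = t + 1 = 3 ^ f`. -/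
theorem ree_num {N n d p k t f : ℕ} (h : Ord N n d p k) (hr : t + 1 = 3 ^ f) (ht : 2 ≤ t)
    (hN : N = (t + 1) ^ 3 * (((t + 2) * (t ^ 2 + t + 1)) * t)) : n = (t + 1) ^ 3 ∧ d = t := by
  have hp := h.prime
  have e1 : t ^ 2 + t + 1 = t * (t + 1) + 1 := by ring
  have hpt : p ∣ t → ¬ p ∣ t ^ 2 + t + 1 := fun hc h1 => by
    rw [e1] at h1
    exact hp.one_lt.ne' (Nat.dvd_one.1 ((Nat.dvd_add_right (hc.mul_right _)).1 h1))
  have hpt2 : p ∣ t → ¬ p ∣ t + 2 := fun hc h1 =>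
    h.ne_two ((Nat.prime_dvd_prime_iff_eq hp Nat.prime_two).1 ((Nat.dvd_add_right hc).1 h1))
  by_cases hp3 : p = 3
  · subst hp3
    have ht0 : ¬ 3 ∣ t := fun hc => by
      have h3 : 3 ∣ t + 1 := by
        rw [hr]
        apply dvd_pow_self
        rintro rfl
        rw [pow_zero] at hr
        omega
      omega
    have hf : f ≠ 0 := by
      rintro rfl
      rw [pow_zero] at hr
      omega
    have h3 : 3 ∣ t + 1 := by
      rw [hr]
      exact dvd_pow_self _ hf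
    have h1 : ¬ 3 ∣ ((t + 2) * (t ^ 2 + t + 1)) * t := by
      intro hc
      rcases (Nat.prime_three.dvd_mul).1 hc with hc | hc
      · rcases (Nat.prime_three.dvd_mul).1 hc with hc | hc
        · omega
        · rw [e1] at hc
          have := (Nat.dvd_add_right (h3.mul_left t)).1 hc
          omega
      · exact ht0 hc
    have h2 : 3 ^ (3 * f) * (((t + 2) * (t ^ 2 + t + 1)) * t) = 3 ^ k * ((n + 1) * d) := by
      rw [mul_comm 3 f, pow_mul, ← hr, ← hN, h.eq, ← h.hn]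
      ring
    have h4 : 3 * f = k := EndNum.pow_eq_of_mul_eq Nat.prime_three h2 h1 h.not_dvd
    have h5 : n = (t + 1) ^ 3 := by
      rw [h.hn, ← h4, mul_comm 3 f, pow_mul, ← hr]
    refine ⟨h5, ?_⟩
    have h6 : (t + 1) ^ 3 * (((t + 2) * (t ^ 2 + t + 1)) * t)
        = ((t + 1) ^ 3 + 1) * (t + 1) ^ 3 * d := by
      rw [← hN, h.eq, h5]
    have h7 : (t + 1) ^ 3 + 1 = (t + 2) * (t ^ 2 + t + 1) := by ring
    rw [h7] at h6
    have h8 : ((t + 2) * (t ^ 2 + t + 1) * (t + 1) ^ 3) * t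
        = ((t + 2) * (t ^ 2 + t + 1) * (t + 1) ^ 3) * d := by
      rw [← h6]
      ring
    exact (Nat.eq_of_mul_eq_mul_left (by positivity) h8).symm
  · exfalso
    have hpr : ¬ p ∣ (t + 1) ^ 3 := by
      intro hc
      have h1 := hp.dvd_of_dvd_pow hc
      rw [hr] at h1
      exact hp3 ((Nat.prime_dvd_prime_iff_eq hp Nat.prime_three).1 (hp.dvd_of_dvd_pow h1))
    have e2 : t ^ 2 + t + 1 + t + 1 = t * (t + 2) + 2 := by ring
    have h0 : n ∣ ((t + 2) * (t ^ 2 + t + 1)) * t := by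
      have := h.dvd_N
      rw [hN] at this
      exact (h.coprime hpr).dvd_of_dvd_mul_left this
    have key : n ≤ t ^ 2 + t + 1 := by
      by_cases h1 : p ∣ t
      · have h2 : n ∣ t := by
          refine (h.coprime (x := (t + 2) * (t ^ 2 + t + 1)) ?_).dvd_of_dvd_mul_left h0
          intro hc
          rcases hp.dvd_mul.1 hc with hc | hc
          · exact hpt2 h1 hc
          · exact hpt h1 hc
        have := Nat.le_of_dvd (by omega) h2
        nlinarith
      · have h2 : n ∣ (t + 2) * (t ^ 2 + t + 1) := (h.coprime h1).dvd_of_dvd_mul_right h0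
        by_cases h3 : p ∣ t + 2
        · have h4 : n ∣ t + 2 := by
            refine (h.coprime (x := t ^ 2 + t + 1) ?_).dvd_of_dvd_mul_right h2
            intro hc
            -- `t ^ 2 + t + 1 + t + 1 = t (t + 2) + 2`, `(t + 2) (t - 1) + 3`
            have h5 : (t + 2) * t + 3 = t ^ 2 + t + 1 + (t + 2) := by ring
            have h6 : p ∣ (t + 2) * t + 3 := by
              rw [h5]
              exact dvd_add hc h3
            have h7 := (Nat.dvd_add_right (h3.mul_right t)).1 h6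
            exact hp3 ((Nat.prime_dvd_prime_iff_eq hp Nat.prime_three).1 h7)
          have := Nat.le_of_dvd (by omega) h4
          nlinarith
        · exact Nat.le_of_dvd (by positivity) ((h.coprime h3).dvd_of_dvd_mul_left h2)
    have h9 := h.lt
    have h10 : n ^ 3 ≤ (t ^ 2 + t + 1) ^ 3 := Nat.pow_le_pow_left key 3
    have h11 : (t ^ 2 + t + 1) ^ 3 ≤ N := by
      rw [hN]
      obtain ⟨x, rfl⟩ := Nat.exists_eq_add_of_le ht
      ring_nf
      nlinarith [Nat.zero_le (x ^ 7), Nat.zero_le (x ^ 6), Nat.zero_le (x ^ 5), Nat.zero_le (x ^ 4),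
        Nat.zero_le (x ^ 3), Nat.zero_le (x ^ 2), Nat.zero_le x]
    omega

theorem not_504 {n d p k : ℕ} (h : Ord 504 n d p k) : False := by
  have hn : n ∣ 504 := h.dvd_N
  have hn1 : n + 1 ∣ 504 := h.succ_dvd_N
  have hd := h.hdn
  have hd' := h.eq
  have h3 := h.three_le
  have h8 : ¬ n ≤ 7 := fun hc => by
    have : n ^ 3 ≤ 7 ^ 3 := Nat.pow_le_pow_left hc 3
    have := h.lt
    omega
  have hn2 : n ≤ 504 := Nat.le_of_dvd (by norm_num) hn
  have hlt : n < 22 := by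
    by_contra hc
    push Not at hc
    have h1 : 1 ≤ d := h.d_pos
    have : 23 * 22 * 1 ≤ (n + 1) * n * d :=
      Nat.mul_le_mul (Nat.mul_le_mul (by omega) hc) h1
    omega
  have hodd : ¬ 2 ∣ n := by
    intro hc
    rw [h.hn] at hc
    have := Nat.prime_two.dvd_of_dvd_pow hc
    exact h.ne_two ((Nat.prime_dvd_prime_iff_eq Nat.prime_two h.prime).1 this).symm
  interval_cases n <;> omega

end Num

section PSU

variable {G Ω : Type*} [Group G] [MulAction G Ω] [Finite G] [Finite Ω] {U : Ω → Subgroup G}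
  {a b : Ω} {p k : ℕ}

/-- The numbers `|U a|` and `|Dab|` when `G` is isomorphic to `PSU(3, q)`, `q` odd. -/
theorem psu_num (h : SSplit U) (hab : b ≠ a) (hp : p.Prime) (hp2 : p ≠ 2) (hk : k ≠ 0)
    (hU : Nat.card (U a) = p ^ k) (hd : ¬ p ∣ Nat.card (Dab G a b))
    (hlt : Nat.card (Dab G a b) < Nat.card (U a)) {F : Type} [Field F] [Fintype F] {q : ℕ}
    (hF : Fintype.card F = q ^ 2) (hq : Odd q) (e : G ≃* Cfsg.PSU 3 F q) :
    Nat.card (U a) = q ^ 3 ∧ Nat.gcd 3 (q + 1) * Nat.card (Dab G a b) = q ^ 2 - 1 := by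
  have hord := EndL.ord h hab hp hp2 hk hU hd hlt
  obtain ⟨v, rfl⟩ := hq
  obtain ⟨s, f, hs, hf, hsf⟩ := prime_pow_of_sq hF
  have hv : v ≠ 0 := by
    rintro rfl
    have := Fintype.one_lt_card (α := F)
    omega
  have hc := card_psu_three (F := F) (t := 2 * v) hF
  rw [← Nat.card_congr e.toEquiv] at hc
  obtain ⟨h1, h2⟩ := EndNum.psu_three hord hs hsf (by omega) (dvd_mul_right 2 v) rfl hc
  refine ⟨h1, ?_⟩
  change Nat.gcd 3 (2 * v + 2) * _ = _
  rw [h2]
  symm
  apply Nat.sub_eq_of_eq_add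
  ring

end PSU

end Cfsg.Agent.HKS.EndOrd
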