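import Mathlib
import Cfsg.Agent.HKS.EndOrd
import Cfsg.Agent.UThreeGen.Recog
import Cfsg.Agent.LieClassical.HermBasic

/-!
# Type `PSU(3, q)` from an abstract isomorphism

The torus `diag (l, σ l / l, (σ l)⁻¹)` of the group `SUG σ`, its action on the unitriangular subgroup,
and the data `TU U a b q` of a strongly split 2-transitive group isomorphic to `PSU(3, q)`, `q` odd.
-/

set_option autoImplicit false

namespace Cfsg.Agent.HKS.EndU

open Matrix Subgroup MulAction
open Cfsg.Agent.LieRecognition.RankOneAbstract (Data)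
open Cfsg.Agent.UThreeGen.MatGroup
open Cfsg.Agent.LieRecognition.PSUThreeSylow (conjT)

section Model

variable {F : Type*} [Field F] {σ : F →+* F} [hσ : Fact (∀ x, σ (σ x) = x)]

/-- The diagonal matrix `diag (l, σ l / l, (σ l)⁻¹)`. -/
def tmat (σ : F →+* F) (l : Fˣ) : Matrix (Fin 3) (Fin 3) F :=
  !![(l : F), 0, 0; 0, σ (l : F) / (l : F), 0; 0, 0, (σ (l : F))⁻¹]

omit hσ in
theorem sne (l : Fˣ) : σ (l : F) ≠ 0 := (map_ne_zero σ).mpr l.ne_zero

omit hσ in
theorem det_tmat (l : Fˣ) : (tmat σ l).det = 1 := by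
  have h1 : (l : F) ≠ 0 := l.ne_zero
  have h2 : σ (l : F) ≠ 0 := sne l
  rw [tmat, Matrix.det_fin_three]
  simp
  field_simp

theorem tmat_mem (l : Fˣ) : (tmat σ l)ᵀ * Gm F * (tmat σ l).map σ = Gm F := by
  have h1 : (l : F) ≠ 0 := l.ne_zero
  have h2 : σ (l : F) ≠ 0 := sne l
  ext i j
  fin_cases i <;> fin_cases j <;>
    simp [tmat, Gm, Matrix.mul_apply, Fin.sum_univ_three, sig, h1, h2]

omit hσ in
theorem tmat_mul (l m : Fˣ) : tmat σ l * tmat σ m = tmat σ (l * m) := by
  have h1 : (l : F) ≠ 0 := l.ne_zero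
  have h2 : σ (l : F) ≠ 0 := sne l
  have h3 : (m : F) ≠ 0 := m.ne_zero
  have h4 : σ (m : F) ≠ 0 := sne m
  ext i j
  fin_cases i <;> fin_cases j <;>
    simp [tmat, Matrix.mul_apply, Fin.sum_univ_three]
  · field_simp
  · field_simp

/-- The torus. -/
def tor (σ : F →+* F) [hσ : Fact (∀ x, σ (σ x) = x)] : Fˣ →* SUG σ where
  toFun l := ⟨⟨tmat σ l, det_tmat l⟩, tmat_mem l⟩
  map_one' := by
    apply Subtype.ext
    apply Subtype.ext
    ext i j
    fin_cases i <;> fin_cases j <;> simp [tmat]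
  map_mul' := by
    intro x y
    apply Subtype.ext
    apply Subtype.ext
    exact (tmat_mul x y).symm

theorem tor_val (l : Fˣ) : (tor σ l).1.1 = tmat σ l := rfl

theorem tor_mem (l : Fˣ) : tor σ l ∈ borel σ := by
  rw [mem_borel, tor_val]
  simp [tmat]

/-- The action of the torus on pairs. -/
def act (l : Fˣ) (x : HG σ) : HG σ :=
  ⟨(l : F) ^ 2 / σ (l : F) * x.a, (l : F) * σ (l : F) * x.b, by
    have h1 : (l : F) ≠ 0 := l.ne_zero
    have h2 : σ (l : F) ≠ 0 := sne l
    have h := x.h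
    simp only [map_mul, map_div₀, map_pow, sig]
    field_simp
    linear_combination h⟩

theorem tor_emb (l : Fˣ) (x : HG σ) : tor σ l * emb σ x = emb σ (act l x) * tor σ l := by
  have h1 : (l : F) ≠ 0 := l.ne_zero
  have h2 : σ (l : F) ≠ 0 := sne l
  apply Subtype.ext
  apply Subtype.ext
  rw [coe_mul_SUG, coe_mul_SUG, tor_val, emb_val, emb_val]
  ext i j
  fin_cases i <;> fin_cases j <;>
    simp [tmat, umat, act, Matrix.mul_apply, Fin.sum_univ_three, sig]
  · field_simp
  · field_simp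
  · field_simp

/-- The inverse of the conjugate. -/
def ci (σ : F →+* F) (l : Fˣ) : Fˣ := (Units.map (σ : F →* F) l)⁻¹

omit hσ in
theorem ci_val (l : Fˣ) : ((ci σ l : Fˣ) : F) = (σ (l : F))⁻¹ := by
  rw [ci, Units.val_inv_eq_inv_val]
  rfl

theorem wel_tor (l : Fˣ) : wel σ * tor σ l * wel σ = tor σ (ci σ l) := by
  have h1 : (l : F) ≠ 0 := l.ne_zero
  have h2 : σ (l : F) ≠ 0 := sne l
  apply Subtype.ext
  apply Subtype.ext
  rw [coe_mul_SUG, coe_mul_SUG, tor_val, tor_val, wel_val]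
  ext i j
  rw [Matrix.mul_assoc]
  obtain ⟨a0, a1, a2⟩ := Wm_mul_apply (tmat σ l * Wm F) j
  fin_cases i
  · refine a0.trans ?_
    obtain ⟨b0, b1, b2⟩ := mul_Wm_apply (tmat σ l) 2
    fin_cases j
    · refine (congrArg Neg.neg b0).trans ?_
      simp [tmat, ci_val]
    · refine (congrArg Neg.neg b1).trans ?_
      simp [tmat, ci_val]
    · refine (congrArg Neg.neg b2).trans ?_
      simp [tmat, ci_val]
  · refine a1.trans ?_
    obtain ⟨b0, b1, b2⟩ := mul_Wm_apply (tmat σ l) 1
    fin_cases j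
    · refine (congrArg Neg.neg b0).trans ?_
      simp [tmat, ci_val]
    · refine (congrArg Neg.neg b1).trans ?_
      simp [tmat, ci_val, sig]
      field_simp
    · refine (congrArg Neg.neg b2).trans ?_
      simp [tmat, ci_val]
  · refine a2.trans ?_
    obtain ⟨b0, b1, b2⟩ := mul_Wm_apply (tmat σ l) 0
    fin_cases j
    · refine (congrArg Neg.neg b0).trans ?_
      simp [tmat, ci_val]
    · refine (congrArg Neg.neg b1).trans ?_
      simp [tmat, ci_val]
    · refine (congrArg Neg.neg b2).trans ?_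
      simp [tmat, ci_val, sig]

theorem exists_tor {g : SUG σ} (hg : g ∈ borel σ) (h : (wel σ)⁻¹ * g * wel σ ∈ borel σ) :
    ∃ l : Fˣ, g = tor σ l := by
  obtain ⟨h10, h20, h01, h21, h02, h12⟩ := entries_of_mem hg h
  have e02 := entry_of_mem_SUG g.2 0 2
  have j02 : Gm F 0 2 = 1 := by simp [Gm]
  simp only [h10, h20, h02, h12, zero_mul, add_zero, sub_zero, j02] at e02
  have hdet : g.1.1.det = 1 := g.1.2
  rw [Matrix.det_fin_three, h10, h20, h12, h02] at hdet
  have h00 : g.1.1 0 0 ≠ 0 := by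
    intro h0
    rw [h0] at e02
    simp at e02
  have hs00 : σ (g.1.1 0 0) ≠ 0 := (map_ne_zero σ).mpr h00
  have e22 : g.1.1 2 2 = (σ (g.1.1 0 0))⁻¹ := by
    have h1 := congrArg σ e02
    rw [map_mul, sig, map_one] at h1
    exact eq_inv_of_mul_eq_one_right h1
  have e11 : g.1.1 1 1 = σ (g.1.1 0 0) / g.1.1 0 0 := by
    rw [e22] at hdet
    rw [eq_div_iff h00]
    field_simp at hdet
    linear_combination hdet
  refine ⟨Units.mk0 _ h00, ?_⟩
  apply Subtype.ext
  apply Subtype.ext
  rw [tor_val]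
  ext i j
  fin_cases i <;> fin_cases j <;> simp [tmat, h10, h20, h01, h21, h02, h12, e11, e22]

theorem tor_mem_center {l : Fˣ} (hl : (l : F) ^ 2 = σ (l : F)) :
    tor σ l ∈ Subgroup.center (SUG σ) := by
  have h1 : (l : F) ≠ 0 := l.ne_zero
  have h2 : σ (l : F) ≠ 0 := sne l
  have h3 : (l : F) * σ (l : F) = 1 := by
    have h4 := congrArg σ hl
    rw [map_pow, sig, ← hl] at h4
    have h5 : (l : F) * ((l : F) * (l : F) ^ 2 - 1) = 0 := by linear_combination h4
    rw [← hl]
    exact sub_eq_zero.1 ((mul_eq_zero.1 h5).resolve_left h1)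
  have hscal : (tor σ l).1.1 = Matrix.scalar (Fin 3) (l : F) := by
    rw [tor_val]
    have h6 : σ (l : F) / (l : F) = l := by
      rw [div_eq_iff h1, ← hl, sq]
    have h7 : (σ (l : F))⁻¹ = l := by
      rw [inv_eq_iff_eq_inv]
      exact (inv_eq_of_mul_eq_one_right h3).symm
    ext i j
    fin_cases i <;> fin_cases j <;> simp [tmat, h6, h7]
  rw [Subgroup.mem_center_iff]
  intro k
  apply Subtype.ext
  apply Subtype.ext
  change k.1.1 * (tor σ l).1.1 = (tor σ l).1.1 * k.1.1
  rw [hscal]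
  exact (Matrix.scalar_commute (l : F) (Commute.all _) k.1.1).eq.symm

theorem eq_of_emb_mul {x y : HG σ} {z : SUG σ} (hz : z ∈ Subgroup.center (SUG σ))
    (h : emb σ x = emb σ y * z) : x = y := by
  have h1 : emb σ (y⁻¹ * x) = z := by
    rw [map_mul, map_inv, h, inv_mul_cancel_left]
  exact (inv_mul_eq_one.1 (eq_one_of_mem_center (h1 ▸ hz))).symm

end Model

section Proj

variable {F : Type*} [Field F] {σ : F →+* F} [hσ : Fact (∀ x, σ (σ x) = x)]

/-- The projection of `SUG σ` onto `PSU(3, q)`. -/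
theorem exists_pi [Finite F] {q : ℕ} (hq : 1 < q) (h2 : (2 : F) ≠ 0) (hs : ∀ x, σ x = x ^ q)
    (hF : Nat.card F = q ^ 2) :
    ∃ π : SUG σ →* Cfsg.PSU 3 F q, Function.Surjective π ∧
      ∀ g, π g = 1 ↔ g ∈ Subgroup.center (SUG σ) := by
  obtain ⟨v, hv⟩ := UThreeGen.Recog.exists_norm (σ := σ) hq hs hF (c := -1)
    (by rw [map_neg, map_one])
  obtain ⟨T, T', hTT', hT⟩ := UThreeGen.Recog.exists_T (σ := σ) h2 hv
  let e : SUG σ ≃* Cfsg.SU 3 F q :=
    ((conjT hTT').subgroupMap (SUG σ)).trans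
      (MulEquiv.subgroupCongr (UThreeGen.Recog.SU_eq_map hs hTT' hT))
  refine ⟨(QuotientGroup.mk' (Subgroup.center (Cfsg.SU 3 F q))).comp e.toMonoidHom,
    (QuotientGroup.mk'_surjective _).comp e.surjective, fun g => ?_⟩
  have h1 : (QuotientGroup.mk' (Subgroup.center (Cfsg.SU 3 F q))).comp e.toMonoidHom g = 1 ↔
      e g ∈ Subgroup.center (Cfsg.SU 3 F q) := by
    rw [← QuotientGroup.eq_one_iff]
    exact Iff.rfl
  rw [h1, Subgroup.mem_center_iff, Subgroup.mem_center_iff]
  constructor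
  · intro h k
    apply e.injective
    rw [map_mul, map_mul]
    exact h (e k)
  · intro h k
    obtain ⟨k, rfl⟩ := e.surjective k
    rw [← map_mul, ← map_mul, h k]

end Proj

section Pairs

variable {F : Type*} [Field F] [Fintype F] {q : ℕ} {σ : F →+* F} [hσ : Fact (∀ x, σ (σ x) = x)]

omit hσ in
theorem card_anti (hF : Fintype.card F = q ^ 2) (hs : ∀ x, σ x = x ^ q) :
    Nat.card {b : F // b + σ b = 0} = q := by
  obtain ⟨δ, hδ, hδ'⟩ := LieClassical.HermBasic.exists_trace_zero_ne hF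
  rw [← hs] at hδ'
  have hsδ : σ δ = -δ := by linear_combination hδ'
  have hcf := LieClassical.HermBasic.card_fixed hF
  rw [← hcf]
  refine Nat.card_congr (Equiv.symm
    { toFun := fun x => ⟨x.1 * δ, ?_⟩
      invFun := fun b => ⟨b.1 / δ, ?_⟩
      left_inv := ?_
      right_inv := ?_ })
  · have := x.2
    rw [← hs] at this
    rw [map_mul, this, hsδ]
    ring
  · have := b.2
    have h1 : σ b.1 = -b.1 := by linear_combination this
    rw [← hs, map_div₀, h1, hsδ, neg_div_neg_eq]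
  · intro x
    exact Subtype.ext (mul_div_cancel_right₀ _ hδ)
  · intro x
    exact Subtype.ext (div_mul_cancel₀ _ hδ)

theorem card_HG (hF : Fintype.card F = q ^ 2) (h2 : (2 : F) ≠ 0) (hs : ∀ x, σ x = x ^ q) :
    Nat.card (HG σ) = q ^ 3 := by
  have hs2 : σ (2 : F) = 2 := map_ofNat σ 2
  have h1 : Nat.card (HG σ) = Nat.card (F × {b : F // b + σ b = 0}) := by
    refine Nat.card_congr
      { toFun := fun x => (x.a, ⟨x.b - x.a * σ x.a / 2, ?_⟩)
        invFun := fun y => ⟨y.1, y.2.1 + y.1 * σ y.1 / 2, ?_⟩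
        left_inv := ?_
        right_inv := ?_ }
    · have h := x.h
      rw [map_sub, map_div₀, map_mul, hs2, sig]
      field_simp
      linear_combination 2 * h
    · have h := y.2.2
      rw [map_add, map_div₀, map_mul, hs2, sig]
      field_simp
      linear_combination 2 * h
    · intro x
      ext
      · rfl
      · simp
    · intro y
      ext
      · rfl
      · simp
  rw [h1, Nat.card_prod, card_anti hF hs, Nat.card_eq_fintype_card, hF]
  ring

end Pairs

section Push

variable {F L : Type*} [Field F] [Group L] {σ : F →+* F} [hσ : Fact (∀ x, σ (σ x) = x)]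
  {π : SUG σ →* L}

/-- Elements with first coordinate `0` commute with all pairs. -/
theorem comm_of_a {x : HG σ} (hx : x.a = 0) (y : HG σ) : x * y = y * x := by
  ext
  · rw [mul_a, mul_a, hx, add_comm]
  · rw [mul_b, mul_b, hx, map_zero]
    ring

/-- Pairs whose images commute, commute. -/
theorem comm_of_pi (hker : ∀ g, π g = 1 ↔ g ∈ Subgroup.center (SUG σ)) {x y : HG σ}
    (h : π (emb σ x) * π (emb σ y) = π (emb σ y) * π (emb σ x)) : x * y = y * x := by
  rw [← map_mul, ← map_mul, ← map_mul, ← map_mul] at h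
  have h1 : π ((emb σ (y * x))⁻¹ * emb σ (x * y)) = 1 := by
    rw [map_mul, map_inv, h, inv_mul_cancel]
  exact eq_of_emb_mul ((hker _).1 h1) (by rw [mul_inv_cancel_left])

theorem a_eq_zero (hc : ∃ c : F, σ c ≠ c) (h2 : (2 : F) ≠ 0) {x : HG σ}
    (h : ∀ y : HG σ, x * y = y * x) : x.a = 0 := by
  obtain ⟨c, hc⟩ := hc
  obtain ⟨y₁, hy₁⟩ := UThreeGen.Recog.exists_a (σ := σ) h2 1
  obtain ⟨y₂, hy₂⟩ := UThreeGen.Recog.exists_a (σ := σ) h2 c
  have e1 := congrArg HG.b (h y₁)
  have e2 := congrArg HG.b (h y₂)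
  rw [mul_b, mul_b, hy₁, map_one] at e1
  rw [mul_b, mul_b, hy₂] at e2
  have e3 : x.a = σ x.a := by linear_combination e1
  have e4 : x.a * (σ c - c) = 0 := by
    rw [← e3] at e2
    linear_combination e2
  exact (mul_eq_zero.1 e4).resolve_right (sub_ne_zero.2 hc)

/-- An element of the torus commuting with a non-central pair is trivial. -/
theorem comm_tor (hker : ∀ g, π g = 1 ↔ g ∈ Subgroup.center (SUG σ)) {l : Fˣ} {x : HG σ}
    (h : π (tor σ l) * π (emb σ x) = π (emb σ x) * π (tor σ l)) :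
    act l x = x := by
  rw [← map_mul, ← map_mul, tor_emb, map_mul, map_mul] at h
  have h1 := mul_right_cancel h
  have h2 : π ((emb σ x)⁻¹ * emb σ (act l x)) = 1 := by
    rw [map_mul, map_inv, h1, inv_mul_cancel]
  exact eq_of_emb_mul ((hker _).1 h2) (by rw [mul_inv_cancel_left])

theorem comm_tor_iff (hker : ∀ g, π g = 1 ↔ g ∈ Subgroup.center (SUG σ)) {l : Fˣ} {x : HG σ} :
    π (tor σ l) * π (emb σ x) = π (emb σ x) * π (tor σ l) ↔ act l x = x := by
  refine ⟨comm_tor hker, fun h => ?_⟩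
  rw [← map_mul, tor_emb, h, map_mul]

theorem tor_conj (l : Fˣ) (x : HG σ) :
    π (tor σ l) * π (emb σ x) * (π (tor σ l))⁻¹ = π (emb σ (act l x)) := by
  rw [← map_mul, tor_emb, map_mul, mul_inv_cancel_right]

end Push

/-- **Type `PSU(3, q)`.** -/
theorem tu_of_iso {G Ω : Type*} [Group G] [MulAction G Ω] [Finite G] [Finite Ω]
    {U : Ω → Subgroup G} (h : SSplit U) {a b : Ω} (hab : b ≠ a) {F : Type} [Field F] [Fintype F]
    {q : ℕ} (hF : Fintype.card F = q ^ 2) (hq : Odd q) (e : G ≃* Cfsg.PSU 3 F q) {p k : ℕ}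
    (hp : p.Prime) (hp2 : p ≠ 2) (hk : k ≠ 0) (hU : Nat.card (U a) = p ^ k)
    (hd : ¬ p ∣ Nat.card (Dab G a b)) (hlt : Nat.card (Dab G a b) < Nat.card (U a)) :
    TU U a b q := by
  classical
  have hfp : Fact p.Prime := ⟨hp⟩
  have hord := EndL.ord h hab hp hp2 hk hU hd hlt
  obtain ⟨hcU, hcD⟩ := EndOrd.psu_num h hab hp hp2 hk hU hd hlt hF hq e
  have hq1 : 1 < q := LieClassical.HermBasic.two_le hF
  have hcF : Nat.card F = q ^ 2 := by rw [Nat.card_eq_fintype_card, hF]
  have h2 : (2 : F) ≠ 0 := by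
    intro h0
    have h1 : ringChar F = 2 := by
      have := ringChar.dvd (R := F) (x := 2) (by exact_mod_cast h0)
      rcases (Nat.dvd_prime Nat.prime_two).1 this with h3 | h3
      · exact absurd h3 (CharP.ringChar_ne_one)
      · exact h3
    have h3 := FiniteField.even_card_of_char_two h1
    rw [hF] at h3
    exact absurd (hq.pow (n := 2)) (by rw [Nat.not_odd_iff]; exact h3)
  let σ : F →+* F := (LieClassical.HermBasic.conj hF).toRingHom
  have hs : ∀ x, σ x = x ^ q := fun x => rfl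
  have hσ : Fact (∀ x, σ (σ x) = x) := ⟨fun x => LieClassical.HermBasic.pow_q_pow_q hF x⟩
  obtain ⟨c, hc⟩ := LieClassical.HermBasic.exists_not_fixed hF
  have hc' : ∃ c : F, σ c ≠ c := ⟨c, hc⟩
  obtain ⟨x₁, hx₁⟩ := UThreeGen.Recog.exists_a (σ := σ) h2 1
  have hx : ∃ x : HG σ, x.a ≠ 0 := ⟨x₁, by rw [hx₁]; exact one_ne_zero⟩
  obtain ⟨π, hπ, hker⟩ := exists_pi (σ := σ) hq1 h2 hs hcF
  have hkB : π.ker ≤ borel σ := by
    intro g hg
    exact center_le_borel hx ((hker g).1 hg)
  have D := UThreeGen.DataIso.data_map data_SUG π hπ hkB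
  have hinj : Function.Injective (π.comp (emb σ)) := by
    rw [injective_iff_map_eq_one]
    exact fun x hx => eq_one_of_mem_center ((hker _).1 hx)
  have hcS : Nat.card ((emb σ).range.map π) = q ^ 3 := by
    rw [← MonoidHom.range_comp, ← Nat.card_congr (MonoidHom.ofInjective hinj).toEquiv]
    exact card_HG hF h2 hs
  have hG' : Nat.card G = p ^ k * ((Nat.card (U a) + 1) * Nat.card (Dab G a b)) := by
    rw [hord.eq, ← hU]
    ring
  obtain ⟨φ, hφS, hφa, hφb, hφw⟩ := EndT.exists_transport h D e hk hab hU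
    (by rw [hcS, ← hcU, hU]) hG' hord.not_dvd
  -- the two-point stabiliser
  have hD : ∀ g ∈ Dab G a b, ∃ l : Fˣ, φ g = π (tor σ l) := by
    intro g hg
    obtain ⟨g₀, hg₀⟩ := hπ (φ g)
    have h1 : g₀ ∈ borel σ :=
      UThreeGen.DataIso.mem_of_map_mem π hkB (by rw [hg₀]; exact (hφa g).2 hg.1)
    have h3 : (wel σ)⁻¹ * g₀ * wel σ ∈ borel σ :=
      UThreeGen.DataIso.mem_of_map_mem π hkB (by
        rw [map_mul, map_mul, map_inv, hg₀]
        exact (hφb g).2 hg.2)
    obtain ⟨l, rfl⟩ := exists_tor h1 h3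
    exact ⟨l, hg₀.symm⟩
  have hwt : ∀ l : Fˣ, π (wel σ) * π (tor σ l) * π (wel σ) = π (tor σ (ci σ l)) := by
    intro l
    rw [← map_mul, ← map_mul, wel_tor]
  have hw2 : π (wel σ) * π (wel σ) = 1 := by rw [← map_mul, wel_mul_wel, map_one]
  have hwi : (π (wel σ))⁻¹ = π (wel σ) := inv_eq_of_mul_eq_one_right hw2
  have hD' : ∀ l : Fˣ, φ.symm (π (tor σ l)) ∈ Dab G a b := fun l =>
    ⟨(hφa _).1 (by rw [φ.apply_symm_apply]; exact ⟨_, tor_mem l, rfl⟩),
      (hφb _).1 (by
        rw [φ.apply_symm_apply, hwi, hwt]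
        exact ⟨_, tor_mem _, rfl⟩)⟩
  have hUx : ∀ u ∈ U a, ∃ x : HG σ, φ u = π (emb σ x) := by
    intro u hu
    obtain ⟨_, ⟨x, rfl⟩, hx⟩ := (hφS u).2 hu
    exact ⟨x, hx.symm⟩
  have hUx' : ∀ x : HG σ, φ.symm (π (emb σ x)) ∈ U a := fun x =>
    (hφS _).1 (by
      rw [φ.apply_symm_apply]
      exact ⟨emb σ x, ⟨x, rfl⟩, rfl⟩)
  -- the centre of `U a`
  have hZ : ∀ u ∈ U a, ∀ x : HG σ, φ u = π (emb σ x) →
      ((∀ v ∈ U a, u * v = v * u) ↔ x.a = 0) := by
    intro u hu x hux
    constructor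
    · intro hcu
      apply a_eq_zero hc' h2
      intro y
      apply comm_of_pi hker
      have h3 := hcu _ (hUx' y)
      have h4 := congrArg φ h3
      rwa [map_mul, map_mul, φ.apply_symm_apply, hux] at h4
    · intro hxa v hv
      obtain ⟨y, hy⟩ := hUx v hv
      apply φ.injective
      rw [map_mul, map_mul, hux, hy, ← map_mul, ← map_mul, ← map_mul, ← map_mul,
        comm_of_a hxa]
  have hfree : ∀ l : Fˣ, ∀ x : HG σ, act l x = x → π (tor σ l) = 1 ∨ x.a = 0 := by
    intro l x hlx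
    by_cases hxa : x.a = 0
    · exact Or.inr hxa
    · left
      have h1 := congrArg HG.a hlx
      change (l : F) ^ 2 / σ (l : F) * x.a = x.a at h1
      have h3 : (l : F) ^ 2 / σ (l : F) = 1 := by
        apply mul_right_cancel₀ hxa
        rw [h1, one_mul]
      rw [hker]
      exact tor_mem_center (by rwa [div_eq_one_iff_eq (sne l)] at h3)
  refine
    { pow := ?_, odd := hq, card := hcU, cyc := ?_, cardE := ?_, cardZ := ?_, invol := ?_,
      swE := ?_, free := ?_, transZ := ?_, iso := ?_ }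
  · obtain ⟨s, f, hs', hf, hqf⟩ := EndOrd.prime_pow_of_sq hF
    rw [hqf]
    exact hs'.isPrimePow.pow hf
  · obtain ⟨g, hg⟩ := IsCyclic.exists_generator (α := Fˣ)
    refine ⟨φ.symm (π (tor σ g)), hD' g, fun d hd' => ?_⟩
    obtain ⟨α, hα⟩ := hD d hd'
    obtain ⟨m, hm⟩ := mem_powers_iff_mem_zpowers.2 (hg α⁻¹)
    refine ⟨m, ?_⟩
    rw [mem_bot]
    apply φ.injective
    have hm' : g ^ m = α⁻¹ := hm
    rw [map_mul, map_pow, φ.apply_symm_apply, hα, ← map_pow, ← map_pow, hm', ← map_mul,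
      ← map_mul, mul_inv_cancel, map_one, map_one, map_one]
  · rw [relIndex_bot_left]
    exact hcD
  · have h3 : Nat.card (U a ⊓ centralizer (U a : Set G) : Subgroup G) =
        Nat.card {b : F // b + σ b = 0} := by
      symm
      refine Nat.card_congr (Equiv.ofBijective
        (fun b : {b : F // b + σ b = 0} =>
          (⟨φ.symm (π (emb σ ⟨0, b.1, by rw [b.2, zero_mul]⟩)), ?_⟩ :
            (U a ⊓ centralizer (U a : Set G) : Subgroup G))) ⟨?_, ?_⟩)
      · refine ⟨hUx' _, mem_centralizer_iff.2 fun v hv => ?_⟩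
        exact ((hZ _ (hUx' _) _ (φ.apply_symm_apply _)).2 rfl v hv).symm
      · intro b b' hbb
        have h4 := φ.symm.injective (congrArg Subtype.val hbb)
        have h5 := hinj h4
        exact Subtype.ext (congrArg HG.b h5)
      · rintro ⟨u, hu, hcu⟩
        obtain ⟨x, hx⟩ := hUx u hu
        have hxa := (hZ u hu x hx).1 fun v hv => (mem_centralizer_iff.1 hcu v hv).symm
        refine ⟨⟨x.b, by rw [x.h, hxa, zero_mul]⟩, ?_⟩
        apply Subtype.ext
        apply φ.injective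
        rw [φ.apply_symm_apply, hx]
        congr 2
        ext
        · exact hxa.symm
        · rfl
    rw [h3, card_anti hF hs]
  · refine ⟨φ.symm (π (tor σ (-1))), hD' _, ?_, ?_, ?_⟩
    · rw [mem_bot]
      intro h1
      have h3 : π (tor σ (-1)) = 1 := by
        have := congrArg φ h1
        rwa [φ.apply_symm_apply, map_one] at this
      have h4 : π (tor σ (-1)) * π (emb σ x₁) = π (emb σ x₁) * π (tor σ (-1)) := by
        rw [h3, one_mul, mul_one]
      have h5 := congrArg HG.a (comm_tor hker h4)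
      change (((-1 : Fˣ) : F)) ^ 2 / σ (((-1 : Fˣ) : F)) * x₁.a = x₁.a at h5
      rw [hx₁] at h5
      simp at h5
      have h6 : (2 : F) = 0 := by linear_combination -h5
      exact h2 h6
    · rw [← map_mul, ← map_mul, ← map_mul]
      simp
    · intro u hu
      obtain ⟨x, hx⟩ := hUx u hu
      rw [hZ u hu x hx]
      have h3 : φ.symm (π (tor σ (-1))) * u = u * φ.symm (π (tor σ (-1))) ↔
          act (-1) x = x := by
        rw [← comm_tor_iff hker, ← hx, ← φ.injective.eq_iff, map_mul, map_mul,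
          φ.apply_symm_apply]
      rw [h3]
      constructor
      · intro h4
        have h5 := congrArg HG.a h4
        change (((-1 : Fˣ) : F)) ^ 2 / σ (((-1 : Fˣ) : F)) * x.a = x.a at h5
        simp at h5
        have h6 : (2 : F) * x.a = 0 := by linear_combination -h5
        exact (mul_eq_zero.1 h6).resolve_left h2
      · intro h4
        ext
        · change (((-1 : Fˣ) : F)) ^ 2 / σ (((-1 : Fˣ) : F)) * x.a = x.a
          rw [h4, mul_zero]
        · change (((-1 : Fˣ) : F)) * σ (((-1 : Fˣ) : F)) * x.b = x.b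
          simp
  · have hx0 : φ (φ.symm (π (wel σ))) = π (wel σ) := φ.apply_symm_apply _
    have hwa := hφw _ hx0
    have hw3 : φ.symm (π (wel σ)) * φ.symm (π (wel σ)) = 1 := by
      rw [← map_mul, hw2, map_one]
    refine ⟨φ.symm (π (wel σ)), ⟨hwa, ?_⟩, ?_, ?_⟩
    · rw [← hwa, ← mul_smul, hw3, one_smul]
    · rw [mem_bot, hw3]
    · intro d hd'
      obtain ⟨l, hl⟩ := hD d hd'
      rw [mem_bot]
      apply φ.injective
      rw [map_mul, map_mul, map_mul, map_inv, map_pow, hx0, hl, hwi, hwt, map_one, ← map_pow,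
        ← map_pow, ← map_mul, ← map_mul]
      have h3 : ci σ l * l ^ q = 1 := by
        apply Units.ext
        rw [Units.val_mul, ci_val, Units.val_pow_eq_pow_val, ← hs, Units.val_one]
        exact inv_mul_cancel₀ (sne l)
      rw [h3, map_one, map_one]
  · intro d hd' u hu hdu
    obtain ⟨l, hl⟩ := hD d hd'
    obtain ⟨x, hx⟩ := hUx u hu
    rw [hZ u hu x hx, mem_bot]
    have h3 : act l x = x := by
      apply comm_tor hker
      rw [← hl, ← hx, ← map_mul, ← map_mul, hdu]
    rcases hfree l x h3 with h4 | h4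
    · left
      apply φ.injective
      rw [hl, h4, map_one]
    · exact Or.inr h4
  · intro u hu u' hu' hcu hcu' hu1 hu1'
    obtain ⟨x, hx⟩ := hUx u hu
    obtain ⟨x', hx'⟩ := hUx u' hu'
    have hxa := (hZ u hu x hx).1 hcu
    have hxa' := (hZ u' hu' x' hx').1 hcu'
    have hne : x ≠ 1 := by
      rintro rfl
      apply hu1
      apply φ.injective
      rw [hx, map_one, map_one, map_one]
    have hne' : x' ≠ 1 := by
      rintro rfl
      apply hu1'
      apply φ.injective
      rw [hx', map_one, map_one, map_one]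
    have hb := b_ne_zero hne
    have hb' := b_ne_zero hne'
    have e1 : σ x.b = -x.b := by
      have := x.h
      rw [hxa, zero_mul] at this
      linear_combination this
    have e2 : σ x'.b = -x'.b := by
      have := x'.h
      rw [hxa', zero_mul] at this
      linear_combination this
    obtain ⟨l, hl⟩ := UThreeGen.Recog.exists_norm (σ := σ) hq1 hs hcF (c := x'.b / x.b)
      (by rw [map_div₀, e1, e2, neg_div_neg_eq])
    have hl0 : l ≠ 0 := by
      rintro rfl
      rw [zero_mul, eq_comm, div_eq_zero_iff] at hl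
      exact hl.elim hb' hb
    refine ⟨φ.symm (π (tor σ (Units.mk0 l hl0))), hD' _, ?_⟩
    apply φ.injective
    rw [map_mul, map_mul, map_inv, φ.apply_symm_apply, hx, hx', tor_conj]
    congr 2
    ext
    · change l ^ 2 / σ l * x.a = x'.a
      rw [hxa, hxa', mul_zero]
    · change l * σ l * x.b = x'.b
      rw [hl, div_mul_cancel₀ _ hb]
  · refine ⟨F, inferInstance, inferInstance, hF, e.toMonoidHom.comp (⊤ : Subgroup G).subtype,
      ?_, ?_⟩
    · intro y
      exact ⟨⟨e.symm y, mem_top _⟩, e.apply_symm_apply y⟩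
    · intro x
      rw [mem_bot]
      change e (x : G) = 1 ↔ _
      rw [map_eq_one_iff e e.injective]

end Cfsg.Agent.HKS.EndU
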