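import Mathlib
import Cfsg.Agent.HKS.AffThree
import Cfsg.Agent.HKS.SLNorm
import Cfsg.Agent.HKS.SLXFacts
import Cfsg.Agent.HKS.SLFrame

/-!
# Two-point stabiliser of 2-rank one: coordinates

`CtxE U a b p k`, no four-group in `Dab G a b`, `t` an involution of `Dab G a b`: there are
`SL(2,F)`-coordinates `SLX U (zpowers t) a b φ`, `|F|` odd. `φ (-1) = 1` if `t ∉ genFix U (zpowers t)`;
`SLData U a b t φ` if `t ∈ genFix U (zpowers t)` and `t` is central in `Dab G a b`.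
-/

set_option autoImplicit false

namespace Cfsg.Agent.HKS.Head

open Subgroup MulAction SSplit TwoOne SLCoord

variable {G Ω : Type*} [Group G] [MulAction G Ω] {U : Ω → Subgroup G} {a b : Ω} {p k : ℕ}

theorem zpowers_le_Dab {t : G} (ht : t ∈ Dab G a b) : zpowers t ≤ Dab G a b := zpowers_le.2 ht

theorem cent_ne_bot [Finite Ω] (C : CtxE U a b p k) {t : G} (ht : t ∈ Dab G a b) (ht1 : t ≠ 1)
    (ht2 : t * t = 1) : U a ⊓ centralizer (zpowers t : Set G) ≠ ⊥ := by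
  intro hc
  have h1 := card_fixedBy_eq C.split C.ne ht
  have h2 := C.fix t ht1 ht2
  rw [h1] at h2
  have h3 : Nat.card (CU U a t) = 1 := by
    rw [CU, hc]
    exact card_bot
  omega

/-- elements of `genFix U (zpowers t)` commute with `t` -/
theorem comm_genFix {t g : G} (hg : g ∈ genFix U (zpowers t)) : t * g = g * t := by
  have h1 : genFix U (zpowers t) ≤ centralizer (zpowers t : Set G) :=
    iSup_le fun _ => inf_le_right
  exact mem_cent_zpowers.1 (h1 hg)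

/-- `t` is the only involution of `Dab G a b ⊓ genFix U (zpowers t)`, if there is one. -/
theorem eq_of_mem (R : RankOneD G a b) {t : G} (ht : t ∈ Dab G a b) (ht1 : t ≠ 1)
    (ht2 : t * t = 1) {z : G} (hz : z ∈ Dab G a b ⊓ genFix U (zpowers t)) (hz1 : z ≠ 1)
    (hz2 : z * z = 1) : z = t :=
  R z hz.1 t ht hz1 ht1 hz2 ht2 (comm_genFix hz.2).symm

theorem mem_kerFix_self (Ω : Type*) [MulAction G Ω] (t : G) : t ∈ kerFix Ω (zpowers t) :=
  fun _ hc => hc t (mem_zpowers t)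

/-- No involution of `Dab ⊓ genFix` is outside the kernel. -/
theorem no_invol (R : RankOneD G a b) {t : G} (ht : t ∈ Dab G a b) (ht1 : t ≠ 1)
    (ht2 : t * t = 1) {z : G} (hz : z ∈ Dab G a b ⊓ genFix U (zpowers t))
    (hz1 : z ∉ kerFix Ω (zpowers t)) (hz2 : z * z = 1) : False := by
  have hz0 : z ≠ 1 := by
    rintro rfl
    exact hz1 (one_mem _)
  apply hz1
  rw [eq_of_mem R ht ht1 ht2 hz hz0 hz2]
  exact mem_kerFix_self Ω t

/-- **Coordinates.** -/
theorem exists_slx [Finite G] [Finite Ω] [FaithfulSMul G Ω] (C : CtxE U a b p k)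
    (R : RankOneD G a b) {t : G} (ht : t ∈ Dab G a b) (ht1 : t ≠ 1) (ht2 : t * t = 1) :
    ∃ (F : Type) (_ : Field F) (_ : Fintype F), Odd (Fintype.card F) ∧
      ∃ φ : Matrix.SpecialLinearGroup (Fin 2) F →* G, SLX U (zpowers t) a b φ := by
  have hne : zpowers t ≠ ⊥ := by rwa [Ne, zpowers_eq_bot]
  have hX := C.IH (zpowers t) (zpowers_le_Dab ht) hne (cent_ne_bot C ht ht1 ht2)
  have ha := zpowers_fix (t := t) (c := a) ht.1
  have hb := zpowers_fix (t := t) (c := b) ht.2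
  rcases hX with hA | ⟨q, hL⟩ | ⟨q, hU⟩ | ⟨n, hR⟩
  · have h3 := AffThree.card_three C R ht ht1 ht2 hA
    obtain ⟨F, i1, i2, hF, φ, S⟩ := exists_slx_of_three C.split C.ne ha hb h3
    exact ⟨F, i1, i2, by rw [hF]; decide, φ, S⟩
  · obtain ⟨F, i1, i2, hF, φ, S⟩ := exists_slx_of_DL C.split C.ne ha hb hL
    exact ⟨F, i1, i2, by rw [hF]; exact hL.odd, φ, S⟩
  · obtain ⟨z, hz, hz1, hz2, -⟩ := hU.invol
    exact (no_invol R ht ht1 ht2 hz hz1 hz2).elim
  · obtain ⟨z, hz, hz1, hz2, -⟩ := hR.invol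
    exact (no_invol R ht ht1 ht2 hz hz1 hz2).elim

variable {F : Type*} [Field F] {φ : Matrix.SpecialLinearGroup (Fin 2) F →* G}

theorem neg_mem (C : CtxE U a b p k) {X : Subgroup G} (S : SLX U X a b φ) :
    φ (-1) ∈ Dab G a b ⊓ genFix U X :=
  ⟨⟨(S.fix_a_iff C.split (-1)).2 (by simp), (S.fix_b_iff C.split (-1)).2 (by simp)⟩, S.gen _⟩

theorem neg_sq : φ (-1) * φ (-1) = 1 := by
  rw [← map_mul, neg_mul_neg, one_mul, map_one]

/-- `φ (-1) = 1` if `t ∉ genFix U (zpowers t)`. -/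
theorem neg_eq_one (C : CtxE U a b p k) (R : RankOneD G a b) {t : G} (ht : t ∈ Dab G a b)
    (ht1 : t ≠ 1) (ht2 : t * t = 1) (S : SLX U (zpowers t) a b φ)
    (hL : t ∉ genFix U (zpowers t)) : φ (-1) = 1 := by
  by_contra hc
  have h1 := neg_mem C S
  have h2 := eq_of_mem R ht ht1 ht2 h1 hc neg_sq
  rw [h2] at h1
  exact hL h1.2

end Cfsg.Agent.HKS.Head
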