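import Mathlib
import Cfsg.Agent.HKS.SLFrame

/-!
# Strongly split groups with `C_G(t) ≥ SL(2,q) ∋ t`: action of `C_G(t)` on `SL(2,q)`
-/

set_option autoImplicit false

namespace Cfsg.Agent.HKS

open Subgroup MulAction
open Cfsg.Agent.Lib.SL2Mat Cfsg.Agent.Lib.AutSL2Out Cfsg.Agent.Lib.AutSL2

namespace SLData

variable {G Ω F : Type*} [Group G] [MulAction G Ω] [Field F] {U : Ω → Subgroup G} {a b : Ω}
  {t : G} {φ : Matrix.SpecialLinearGroup (Fin 2) F →* G}

/-- `φ(lo s) a = φ(up s⁻¹) b` -/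
theorem lo_a (S : SLData U a b t φ) {s : F} (hs : s ≠ 0) : φ (lo s) • a = φ (up s⁻¹) • b := by
  have h1 := wm_eq s⁻¹ (inv_ne_zero hs)
  rw [inv_inv] at h1
  have h2 : lo s * wm s⁻¹ (inv_ne_zero hs) = up s⁻¹ * lo (-s) := by
    rw [h1, ← mul_assoc, ← mul_assoc, lo_mul, add_neg_cancel, lo_zero, one_mul]
  have h3 : φ (lo s) * φ (wm s⁻¹ (inv_ne_zero hs)) = φ (up s⁻¹) * φ (lo (-s)) := by
    rw [← map_mul, h2, map_mul]
  have h4 : (φ (lo s) * φ (wm s⁻¹ (inv_ne_zero hs))) • b = (φ (up s⁻¹) * φ (lo (-s))) • b := by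
    rw [h3]
  rw [mul_smul, mul_smul, (S.wm_swaps (inv_ne_zero hs)).2, S.split.fix (S.lo_mem (-s))] at h4
  exact h4

theorem wm_sq (r : F) (hr : r ≠ 0) :
    wm r hr * wm r hr = (-1 : Matrix.SpecialLinearGroup (Fin 2) F) := by
  have e : ∀ i j, ent (-1 : Matrix.SpecialLinearGroup (Fin 2) F) i j = - ent 1 i j := fun _ _ => rfl
  refine ext_ent ?_ ?_ ?_ ?_ <;> rw [ent_mul, e] <;> simp [hr]

theorem wm_up' (r z : F) (hr : r ≠ 0) :
    wm r hr * up z * (wm r hr)⁻¹ = lo (-(z / r ^ 2)) := by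
  rw [wm_up, mul_inv_cancel_right]

theorem wm_lo' (r z : F) (hr : r ≠ 0) :
    wm r hr * lo z * (wm r hr)⁻¹ = up (-(z * r ^ 2)) := by
  rw [wm_lo, mul_inv_cancel_right]

/-- **The action of an involution interchanging `a` and `b`.** -/
theorem swap_act [Finite F] (S : SLData U a b t φ) {y : G} (hy : y * y = 1) (hs : Swaps y a b) :
    ∃ c : F, ¬ IsSquare c ∧ (∀ z, y * φ (up z) * y⁻¹ = φ (lo (z / c))) ∧
      ∀ z, y * φ (lo z) * y⁻¹ = φ (up (c * z)) := by
  obtain ⟨w, hw⟩ : ∃ w, w = φ (wm 1 one_ne_zero) := ⟨_, rfl⟩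
  have hws : Swaps w a b := by rw [hw]; exact S.wm_swaps one_ne_zero
  obtain ⟨l, σ, hl, hup, hlo⟩ := S.exists_param (hs.mul hws)
  have hwu : ∀ z, w⁻¹ * φ (up z) * w = φ (lo (-z)) := by
    intro z
    have h1 := wm_lo (1 : F) (-z) one_ne_zero
    rw [one_pow, mul_one, neg_neg] at h1
    have h2 : w * φ (lo (-z)) = φ (up z) * w := by rw [hw, ← map_mul, h1, map_mul]
    calc w⁻¹ * φ (up z) * w = w⁻¹ * (φ (up z) * w) := by group
      _ = φ (lo (-z)) := by rw [← h2]; group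
  have hwl : ∀ z, w⁻¹ * φ (lo z) * w = φ (up (-z)) := by
    intro z
    have h1 := wm_up (1 : F) (-z) one_ne_zero
    rw [one_pow, div_one, neg_neg] at h1
    have h2 : w * φ (up (-z)) = φ (lo z) * w := by rw [hw, ← map_mul, h1, map_mul]
    calc w⁻¹ * φ (lo z) * w = w⁻¹ * (φ (lo z) * w) := by group
      _ = φ (up (-z)) := by rw [← h2]; group
  have hyu : ∀ z, y * φ (up z) * y⁻¹ = φ (lo ((-l)⁻¹ * σ z)) := by
    intro z
    calc y * φ (up z) * y⁻¹ = (y * w) * (w⁻¹ * φ (up z) * w) * (y * w)⁻¹ := by group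
      _ = φ (lo ((-l)⁻¹ * σ z)) := by
        rw [hwu, hlo, map_neg, inv_neg]
        congr 2
        ring
  have hyl : ∀ z, y * φ (lo z) * y⁻¹ = φ (up (-l * σ z)) := by
    intro z
    calc y * φ (lo z) * y⁻¹ = (y * w) * (w⁻¹ * φ (lo z) * w) * (y * w)⁻¹ := by group
      _ = φ (up (-l * σ z)) := by
        rw [hwl, hup, map_neg]
        congr 2
        ring
  obtain ⟨c, hc⟩ : ∃ c, c = -l := ⟨_, rfl⟩
  have hc0 : c ≠ 0 := by rw [hc]; exact neg_ne_zero.2 hl
  rw [← hc] at hyu hyl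
  -- `y² = 1`
  have hyy : ∀ z, c * σ (c⁻¹ * σ z) = z := by
    intro z
    have h1 : y * (y * φ (up z) * y⁻¹) * y⁻¹ = φ (up z) := by
      calc y * (y * φ (up z) * y⁻¹) * y⁻¹ = (y * y) * φ (up z) * (y * y)⁻¹ := by group
        _ = φ (up z) := by rw [hy]; group
    rw [hyu, hyl] at h1
    exact up_inj (S.inj h1)
  have hσc : σ c = c := by
    have h1 := hyy 1
    rw [map_one, mul_one, map_inv₀] at h1
    have h2 : σ c ≠ 0 := by rwa [ne_eq, map_eq_zero]
    field_simp at h1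
    exact h1.symm
  have hσ2 : ∀ z, σ (σ z) = z := by
    intro z
    have h1 := hyy z
    rw [map_mul, map_inv₀, hσc, ← mul_assoc, mul_inv_cancel₀ hc0, one_mul] at h1
    exact h1
  -- `y` fixes no fixed point of `t`
  have hno : ∀ z, z * σ z ≠ c := by
    intro z hz
    have hz0 : z ≠ 0 := by
      rintro rfl
      rw [zero_mul] at hz
      exact hc0 hz.symm
    have hσz0 : σ z ≠ 0 := by rwa [ne_eq, map_eq_zero]
    have h1 : y • φ (up z) • b = φ (up z) • b := by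
      have h2 : y * φ (up z) = φ (lo (c⁻¹ * σ z)) * y := by
        rw [← hyu]; group
      rw [← mul_smul, h2, mul_smul, hs.2, S.lo_a (mul_ne_zero (inv_ne_zero hc0) hσz0)]
      congr 3
      rw [← hz]
      field_simp
    have h3 : t • φ (up z) • b = φ (up z) • b := (S.fix_iff _).2 (Or.inr ⟨z, rfl⟩)
    rcases S.eq_of_fix_fix hy (S.comm_swaps hs) h3 h1 with h4 | h4
    · rw [h4] at hs
      exact S.ne (by rw [← hs.1, one_smul])
    · rw [h4] at hs
      exact S.ne (by rw [← hs.1, S.t_a])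
  have hσ1 : ∀ z, σ z = z := by
    by_contra hcon
    push Not at hcon
    obtain ⟨z, hz⟩ := hcon
    obtain ⟨v, hv⟩ := Cfsg.Agent.Lib.PSL2Outer.exists_norm S.two σ hσ2 (δ := z - σ z)
      (sub_ne_zero.2 hz.symm) (by rw [map_sub, hσ2]; ring) hσc
    exact hno v hv
  refine ⟨c, ?_, fun z => ?_, fun z => ?_⟩
  · rintro ⟨r, hr⟩
    exact hno r (by rw [hσ1, hr])
  · rw [hyu, hσ1]
    congr 2
    field_simp
  · rw [hyl, hσ1]

/-- elements commuting with `φ(up)` and `φ(lo)` centralise `SL(2,F)` -/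
theorem cen_of_up_lo {k : G} (h1 : ∀ z, k * φ (up z) = φ (up z) * k)
    (h2 : ∀ z, k * φ (lo z) = φ (lo z) * k) (x : Matrix.SpecialLinearGroup (Fin 2) F) :
    k * φ x = φ x * k := by
  obtain ⟨z₁, z₂, z₃, z₄, rfl⟩ := exists_up_lo x
  simp only [map_mul]
  calc k * (φ (up z₁) * φ (lo z₂) * φ (up z₃) * φ (lo z₄)) =
      (k * φ (up z₁)) * φ (lo z₂) * φ (up z₃) * φ (lo z₄) := by group
    _ = φ (up z₁) * (k * φ (lo z₂)) * φ (up z₃) * φ (lo z₄) := by rw [h1]; group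
    _ = φ (up z₁) * φ (lo z₂) * (k * φ (up z₃)) * φ (lo z₄) := by rw [h2]; group
    _ = φ (up z₁) * φ (lo z₂) * φ (up z₃) * (k * φ (lo z₄)) := by rw [h1]; group
    _ = _ := by rw [h2]; group

theorem cen_mem (S : SLData U a b t φ) {k : G} (hk : ∀ x, k * φ x = φ x * k) :
    k ∈ Dab G a b := by
  constructor
  · change k • a = a
    refine S.eq_of_fix (S.up_mem 1) (S.up_ne one_ne_zero) ?_
    rw [← mul_smul, ← hk, mul_smul, S.split.fix (S.up_mem 1)]
  · change k • b = b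
    refine S.eq_of_fix (S.lo_mem 1) (S.lo_ne one_ne_zero) ?_
    rw [← mul_smul, ← hk, mul_smul, S.split.fix (S.lo_mem 1)]

/-- the centre of `SL(2,F)` -/
theorem eq_of_cen (S : SLData U a b t φ) {x : Matrix.SpecialLinearGroup (Fin 2) F}
    (hx : ∀ z, φ x * φ z = φ z * φ x) : φ x = 1 ∨ φ x = t := by
  have h1 : ∀ z, x * z = z * x := by
    intro z
    apply S.inj
    rw [map_mul, map_mul, hx]
  have hc : x ∈ Subgroup.center (Matrix.SpecialLinearGroup (Fin 2) F) := by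
    rw [Subgroup.mem_center_iff]
    exact fun z => (h1 z).symm
  obtain ⟨h2, h3⟩ := mem_center_offdiag hc
  have h4 := congrArg (fun v => ent v 0 1) (h1 (up 1))
  simp only [ent_mul, up_01, up_11, up_00, h2] at h4
  have h5 : ent x 0 0 = ent x 1 1 := by linear_combination h4
  have h6 := det_eq x
  rw [h2, zero_mul, sub_zero, ← h5] at h6
  have h7 : (ent x 0 0 - 1) * (ent x 0 0 + 1) = 0 := by linear_combination h6
  rcases mul_eq_zero.1 h7 with h8 | h8
  · left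
    have : x = 1 := ext_ent (by rw [ent_one_00]; linear_combination h8) (by rw [ent_one_01, h2])
      (by rw [ent_one_10, h3]) (by rw [ent_one_11, ← h5]; linear_combination h8)
    rw [this, map_one]
  · right
    have e : ∀ i j, ent (-1 : Matrix.SpecialLinearGroup (Fin 2) F) i j = - ent 1 i j := fun _ _ => rfl
    have : x = -1 := ext_ent (by rw [e, ent_one_00]; linear_combination h8)
      (by rw [e, ent_one_01, h2, neg_zero]) (by rw [e, ent_one_10, h3, neg_zero])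
      (by rw [e, ent_one_11, ← h5]; linear_combination h8)
    rw [this, S.neg]

theorem isSquare_neg_of_not [Finite F] (h3 : ¬ IsSquare (-1 : F)) {c : F} (hc : ¬ IsSquare c) :
    ∃ r : F, r ≠ 0 ∧ -c = r ^ 2 := by
  have h2 : ringChar F ≠ 2 := by
    intro h
    exact h3 (FiniteField.isSquare_of_char_two h _)
  have hc0 : c ≠ 0 := by rintro rfl; exact hc (IsSquare.zero)
  have h4 : IsSquare (-c) := by
    have := Fintype.ofFinite F
    have hm : (-1 : F) ≠ 0 := neg_ne_zero.2 one_ne_zero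
    rw [FiniteField.isSquare_iff h2 (neg_ne_zero.2 hc0)]
    rw [FiniteField.isSquare_iff h2 hc0] at hc
    rw [FiniteField.isSquare_iff h2 hm] at h3
    have h5 := (FiniteField.pow_dichotomy h2 hc0).resolve_left hc
    have h6 := (FiniteField.pow_dichotomy h2 hm).resolve_left h3
    rw [show (-c : F) = -1 * c by ring, mul_pow, h5, h6]
    ring
  obtain ⟨r, hr⟩ := h4
  refine ⟨r, ?_, by rw [hr, pow_two]⟩
  rintro rfl
  rw [mul_zero] at hr
  exact hc0 (neg_eq_zero.1 hr)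

/-- `q ≡ 3 (mod 4)`: an involution interchanging `a` and `b` is `φ(wm r) k₀`. -/
theorem exists_wm_mul [Finite F] (S : SLData U a b t φ) (h3 : ¬ IsSquare (-1 : F)) {y : G}
    (hy : y * y = 1) (hs : Swaps y a b) : ∃ (r : F) (hr : r ≠ 0) (k : G),
      y = φ (wm r hr) * k ∧ (∀ x, k * φ x = φ x * k) ∧ k * k = t := by
  obtain ⟨c, hc, hu, hl⟩ := S.swap_act hy hs
  obtain ⟨r, hr, hcr⟩ := isSquare_neg_of_not h3 hc
  have hcr' : c = -r ^ 2 := by rw [← hcr, neg_neg]
  obtain ⟨k, hk⟩ : ∃ k, k = (φ (wm r hr))⁻¹ * y := ⟨_, rfl⟩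
  have hyk : y = φ (wm r hr) * k := by rw [hk]; group
  have hcen : ∀ x, k * φ x = φ x * k := by
    refine cen_of_up_lo (fun z => ?_) (fun z => ?_)
    · have h1 : φ (wm r hr) * φ (up z) * (φ (wm r hr))⁻¹ = y * φ (up z) * y⁻¹ := by
        rw [hu, ← map_inv, ← map_mul, ← map_mul, wm_up', hcr']
        congr 2
        rw [div_neg]
      have h2 : k * φ (up z) * k⁻¹ = φ (up z) := by
        calc k * φ (up z) * k⁻¹ = (φ (wm r hr))⁻¹ * (y * φ (up z) * y⁻¹) * φ (wm r hr) := by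
              rw [hk]; group
          _ = φ (up z) := by rw [← h1]; group
      calc k * φ (up z) = k * φ (up z) * k⁻¹ * k := by group
        _ = _ := by rw [h2]
    · have h1 : φ (wm r hr) * φ (lo z) * (φ (wm r hr))⁻¹ = y * φ (lo z) * y⁻¹ := by
        rw [hl, ← map_inv, ← map_mul, ← map_mul, wm_lo', hcr']
        congr 2
        ring
      have h2 : k * φ (lo z) * k⁻¹ = φ (lo z) := by
        calc k * φ (lo z) * k⁻¹ = (φ (wm r hr))⁻¹ * (y * φ (lo z) * y⁻¹) * φ (wm r hr) := by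
              rw [hk]; group
          _ = φ (lo z) := by rw [← h1]; group
      calc k * φ (lo z) = k * φ (lo z) * k⁻¹ * k := by group
        _ = _ := by rw [h2]
  refine ⟨r, hr, k, hyk, hcen, ?_⟩
  have h4 : φ (wm r hr) * φ (wm r hr) * (k * k) = 1 := by
    have h5 := hcen (wm r hr)
    calc φ (wm r hr) * φ (wm r hr) * (k * k) = φ (wm r hr) * (φ (wm r hr) * k) * k := by group
      _ = φ (wm r hr) * (k * φ (wm r hr)) * k := by rw [h5]
      _ = y * y := by rw [hyk]; group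
      _ = 1 := hy
  rw [← map_mul, wm_sq, S.neg] at h4
  calc k * k = t * t * (k * k) := by rw [S.t_sq, one_mul]
    _ = t * (t * (k * k)) := by group
    _ = t := by rw [h4, mul_one]

theorem exists_two_squares [Finite F] (h2 : (2 : F) ≠ 0) : ∃ α β : F, α ^ 2 + β ^ 2 = -1 := by
  have := Fintype.ofFinite F
  have hodd := Cfsg.Agent.Lib.PSL2Torus.odd_card h2
  rw [Nat.card_eq_fintype_card] at hodd
  let f : Polynomial F := Polynomial.X ^ 2
  let g : Polynomial F := Polynomial.C 1 * Polynomial.X ^ 2 + Polynomial.C 0 * Polynomial.X +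
    Polynomial.C 1
  obtain ⟨x, y, hxy⟩ : ∃ x y, f.eval x + g.eval y = 0 :=
    FiniteField.exists_root_sum_quadratic (f := f) (g := g) (Polynomial.degree_X_pow 2)
      (Polynomial.degree_quadratic one_ne_zero) hodd
  simp only [f, g, Polynomial.eval_add, Polynomial.eval_mul, Polynomial.eval_C, Polynomial.eval_X,
    Polynomial.eval_pow] at hxy
  exact ⟨x, y, by linear_combination hxy⟩

/-- an element of `SL(2,F)` inverting `wm r` -/
theorem exists_anti [Finite F] (h2 : (2 : F) ≠ 0) (r : F) (hr : r ≠ 0) :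
    ∃ x : Matrix.SpecialLinearGroup (Fin 2) F, x * wm r hr = -1 * (wm r hr * x) := by
  obtain ⟨α, β, hαβ⟩ := exists_two_squares h2
  have e : ∀ (z : Matrix.SpecialLinearGroup (Fin 2) F) i j, ent (-1 * z) i j = - ent z i j := by
    intro z i j
    rw [neg_mul, one_mul]
    rfl
  refine ⟨Cfsg.Agent.Lib.SL2Mat.mk α (β * r) (β / r) (-α) (by field_simp; linear_combination -hαβ), ?_⟩
  refine ext_ent ?_ ?_ ?_ ?_ <;>
    simp only [ent_mul, e, mk_00, mk_01, mk_10, mk_11, wm_00, wm_01, wm_10, wm_11] <;> field_simp <;>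
    ring

/-- trace relation between an element of `C(t)` and a field automorphism -/
def TrRel (φ : Matrix.SpecialLinearGroup (Fin 2) F →* G) (g : G) (σ : F ≃+* F) : Prop :=
  ∀ x, ∃ x', g * φ x * g⁻¹ = φ x' ∧ Cfsg.Agent.Lib.PSL2Inv.tr x' = σ (Cfsg.Agent.Lib.PSL2Inv.tr x)

theorem TrRel.one : TrRel φ (1 : G) 1 := fun x => ⟨x, by group, rfl⟩

theorem TrRel.mul {g h : G} {σ τ : F ≃+* F} (hg : TrRel φ g σ) (hh : TrRel φ h τ) :
    TrRel φ (g * h) (σ * τ) := by
  intro x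
  obtain ⟨x₁, h1, h2⟩ := hh x
  obtain ⟨x₂, h3, h4⟩ := hg x₁
  refine ⟨x₂, ?_, by rw [h4, h2]; rfl⟩
  rw [← h3, ← h1]
  group

theorem TrRel.pow {g : G} {σ : F ≃+* F} (hg : TrRel φ g σ) (n : ℕ) : TrRel φ (g ^ n) (σ ^ n) := by
  induction n with
  | zero => rw [pow_zero, pow_zero]; exact TrRel.one
  | succ n ih => rw [pow_succ, pow_succ]; exact ih.mul hg

theorem TrRel.unique (S : SLData U a b t φ) {g : G} {σ τ : F ≃+* F} (hg : TrRel φ g σ)
    (hh : TrRel φ g τ) : σ = τ := by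
  apply RingEquiv.ext
  intro z
  obtain ⟨x, hx⟩ := Cfsg.Agent.Lib.PSL2Inv.exists_tr z
  obtain ⟨x₁, h1, h2⟩ := hg x
  obtain ⟨x₂, h3, h4⟩ := hh x
  rw [← hx, ← h2, ← h4, S.inj (h1.symm.trans h3)]

theorem TrRel.range (x : Matrix.SpecialLinearGroup (Fin 2) F) : TrRel φ (φ x) 1 := by
  intro z
  refine ⟨x * z * x⁻¹, by rw [map_mul, map_mul, map_inv], ?_⟩
  rw [← conjGL_toGL, Cfsg.Agent.Lib.PSL2Inv.tr_conjGL]
  rfl

/-- `q ≡ 3 (mod 4)`: field automorphisms of 2-power order are trivial -/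
theorem aut_two [Finite F] (h3 : ¬ IsSquare (-1 : F)) {σ : F ≃+* F} {n : ℕ} (hσ : σ ^ 2 ^ n = 1) :
    σ = 1 := by
  induction n with
  | zero => rwa [pow_zero, pow_one] at hσ
  | succ n ih =>
    apply ih
    obtain ⟨τ, hτ⟩ : ∃ τ, τ = σ ^ 2 ^ n := ⟨_, rfl⟩
    have h1 : ∀ z, τ (τ z) = z := by
      intro z
      have h2 : τ * τ = 1 := by rw [hτ, ← pow_two, ← pow_mul, ← pow_succ]; exact hσ
      exact DFunLike.congr_fun h2 z
    rw [← hτ]
    apply RingEquiv.ext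
    intro z
    change τ z = z
    by_contra hz
    have h4 : z - τ z ≠ 0 := sub_ne_zero.2 (Ne.symm hz)
    have h5 : τ (z - τ z) = -(z - τ z) := by rw [map_sub, h1]; ring
    obtain ⟨v, hv⟩ := isSquare_mul_map τ (z - τ z)
    rw [h5] at hv
    apply h3
    refine ⟨v / (z - τ z), ?_⟩
    field_simp
    linear_combination hv

/-- the action of `d ∈ D` on `SL(2,F)` in terms of its parameters -/
theorem act_of_param (S : SLData U a b t φ) {d : G} (hd : d ∈ Dab G a b) {l : F} {σ : F ≃+* F}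
    (hl : l ≠ 0) (hu : ∀ z, d * φ (up z) * d⁻¹ = φ (up (l * σ z)))
    (hlo : ∀ z, d * φ (lo z) * d⁻¹ = φ (lo (l⁻¹ * σ z))) (x : Matrix.SpecialLinearGroup (Fin 2) F) :
    d * φ x * d⁻¹ = φ (conjGL (dgl l hl) (fieldAut σ x)) := by
  obtain ⟨α, hα⟩ := S.exists_aut (S.comm_D hd)
  have h1 : α.toMonoidHom = (conjGL (dgl l hl) * fieldAut σ).toMonoidHom := by
    refine hom_ext _ _ (fun z => ?_) (fun z => ?_)
    · change α (up z) = conjGL (dgl l hl) (fieldAut σ (up z))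
      apply S.inj
      rw [← hα, hu, fieldAut_up, conjGL_dgl_up]
    · change α (lo z) = conjGL (dgl l hl) (fieldAut σ (lo z))
      apply S.inj
      rw [← hα, hlo, fieldAut_lo, conjGL_dgl_lo, div_eq_inv_mul]
  rw [hα]
  exact congrArg φ (DFunLike.congr_fun h1 x)

theorem trRel_of_param (S : SLData U a b t φ) {d : G} (hd : d ∈ Dab G a b) {l : F} {σ : F ≃+* F}
    (hl : l ≠ 0) (hu : ∀ z, d * φ (up z) * d⁻¹ = φ (up (l * σ z)))
    (hlo : ∀ z, d * φ (lo z) * d⁻¹ = φ (lo (l⁻¹ * σ z))) : TrRel φ d σ := by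
  intro x
  refine ⟨_, S.act_of_param hd hl hu hlo x, ?_⟩
  rw [Cfsg.Agent.Lib.PSL2Inv.tr_conjGL, Cfsg.Agent.Lib.PSL2Inv.tr_fieldAut]

/-- `q ≡ 3 (mod 4)`: 2-elements of `C(t)` act on `SL(2,F)` as elements of `GL(2,F)`. -/
theorem exists_gl [Finite F] (S : SLData U a b t φ) (h3 : ¬ IsSquare (-1 : F)) {g : G} {n : ℕ}
    (hg : t * g = g * t) (hgn : g ^ 2 ^ n = 1) :
    (∃ A : GL (Fin 2) F, ∀ x, g * φ x * g⁻¹ = φ (conjGL A x)) ∧ TrRel φ g 1 := by
  obtain ⟨α, hα⟩ := S.exists_aut hg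
  obtain ⟨A, σ, hA⟩ := exists_eq α
  have h1 : ∀ x, g * φ x * g⁻¹ = φ (conjGL A (fieldAut σ x)) := by
    intro x
    rw [hα, hA]
    rfl
  have h2 : TrRel φ g σ := fun x => ⟨_, h1 x, by
    rw [Cfsg.Agent.Lib.PSL2Inv.tr_conjGL, Cfsg.Agent.Lib.PSL2Inv.tr_fieldAut]⟩
  have h4 : σ = 1 := by
    apply aut_two h3 (n := n)
    have h5 := h2.pow (2 ^ n)
    rw [hgn] at h5
    exact TrRel.unique S h5 TrRel.one
  subst h4
  exact ⟨⟨A, h1⟩, h2⟩

/-- an element of `GL(2,F)` anticommuting with `wm r` acts as an involution -/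
theorem conjGL_sq_of_anti (A : GL (Fin 2) F) (r : F) (hr : r ≠ 0)
    (hA : conjGL A (wm r hr) = -1 * wm r hr) (x : Matrix.SpecialLinearGroup (Fin 2) F) :
    conjGL A (conjGL A x) = x := by
  have h1 : A.1 * (wm r hr).1 = (-1 * wm r hr).1 * A.1 := by
    rw [← hA, conjGL_val, Matrix.mul_assoc (A.1 * _), inv_val_mul_val, Matrix.mul_one]
  have e1 : (wm r hr).1 = !![0, r; -r⁻¹, 0] := rfl
  have e2 : (-1 * wm r hr).1 = !![0, -r; r⁻¹, 0] := by
    rw [neg_mul, one_mul]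
    change -(wm r hr).1 = _
    rw [e1]
    ext i j
    fin_cases i <;> fin_cases j <;> simp
  rw [e1, e2] at h1
  have a1 := congrFun (congrFun h1 0) 0
  have a2 := congrFun (congrFun h1 0) 1
  simp only [Matrix.mul_apply, Fin.sum_univ_two, Matrix.of_apply, Matrix.cons_val', Matrix.cons_val_zero,
    Matrix.cons_val_one, Matrix.cons_val_fin_one] at a1 a2
  have b1 : A.1 0 1 = r ^ 2 * A.1 1 0 := by
    field_simp at a1
    linear_combination -a1
  have b2 : A.1 1 1 = - A.1 0 0 := by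
    have : r * (A.1 1 1 + A.1 0 0) = 0 := by linear_combination a2
    rcases mul_eq_zero.1 this with h | h
    · exact absurd h hr
    · linear_combination h
  obtain ⟨e, he⟩ : ∃ e, e = A.1 0 0 ^ 2 + A.1 0 1 * A.1 1 0 := ⟨_, rfl⟩
  have h4 : A.1 * A.1 = e • (1 : Matrix (Fin 2) (Fin 2) F) := by
    ext i j
    fin_cases i <;> fin_cases j <;>
      simp only [Matrix.mul_apply, Fin.sum_univ_two, Matrix.smul_apply, Fin.zero_eta, Fin.mk_one,
        Matrix.one_apply_eq, smul_eq_mul, mul_one, he, b2, ne_eq, one_ne_zero, zero_ne_one,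
        not_false_eq_true, Matrix.one_apply_ne, mul_zero] <;> ring
  have h5 : conjGL A (conjGL A x) = conjGL (A * A) x := by rw [map_mul]; rfl
  rw [h5]
  apply Subtype.ext
  rw [conjGL_val]
  have h6 : (A * A).1 = e • (1 : Matrix (Fin 2) (Fin 2) F) := by rw [Units.val_mul, h4]
  have h7 : (A * A).1 * x.1 = x.1 * (A * A).1 := by
    rw [h6, Matrix.smul_mul, Matrix.one_mul, Matrix.mul_smul, Matrix.mul_one]
  rw [h7, Matrix.mul_assoc, ← Units.val_mul, mul_inv_cancel, Units.val_one, Matrix.mul_one]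

end SLData

end Cfsg.Agent.HKS
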