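import Mathlib
import Cfsg.Agent.HKS.SLAct

/-!
# Strongly split groups with `C_G(t) ≥ SL(2,q) ∋ t`: the involutions interchanging `a` and `b`

`SLData.exists_neg` : for `q ≡ 3 (mod 4)` some `d ∈ D` acts on `SL(2,q)` as `diag(-1,1)`.
`SLData.trans_J` : if there are exactly `q - 1` involutions interchanging `a` and `b`, then `D` is
transitive on them.
-/

set_option autoImplicit false

namespace Cfsg.Agent.HKS

open Subgroup MulAction
open Cfsg.Agent.Lib.SL2Mat Cfsg.Agent.Lib.AutSL2Out Cfsg.Agent.Lib.AutSL2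

namespace SLData

variable {G Ω F : Type*} [Group G] [MulAction G Ω] [Field F] {U : Ω → Subgroup G} {a b : Ω}
  {t : G} {φ : Matrix.SpecialLinearGroup (Fin 2) F →* G}

theorem fuse_swap [Finite F] (S : SLData U a b t φ) (h3 : ¬ IsSquare (-1 : F)) {y : G}
    (hy : y * y = 1) (hs : Swaps y a b) : ∃ x, t * x = x * t ∧ x * y * x⁻¹ = t * y := by
  obtain ⟨r, hr, k, hyk, hcen, hkk⟩ := S.exists_wm_mul h3 hy hs
  obtain ⟨x, hx⟩ := exists_anti S.two r hr
  refine ⟨φ x, S.comm_range x, ?_⟩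
  have h1 : φ x * φ (wm r hr) = t * (φ (wm r hr) * φ x) := by
    rw [← S.neg, ← map_mul, ← map_mul, ← map_mul, hx]
  calc φ x * y * (φ x)⁻¹ = (φ x * φ (wm r hr)) * k * (φ x)⁻¹ := by rw [hyk]; group
    _ = t * φ (wm r hr) * (φ x * k) * (φ x)⁻¹ := by rw [h1]; group
    _ = t * φ (wm r hr) * k := by rw [← hcen]; group
    _ = t * y := by rw [hyk]; group

theorem fuse_t [Finite F] (S : SLData U a b t φ) (h3 : ¬ IsSquare (-1 : F)) {y : G}
    (hy : y * y = 1) (hty : t * y = y * t) (hy1 : y ≠ 1) (hyt : y ≠ t) :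
    ∃ x, t * x = x * t ∧ x * y * x⁻¹ = t * y := by
  have h1 : y • a ≠ a := by
    intro h
    rcases S.eq_of_fix_fix hy hty S.t_a h with h | h
    · exact hy1 h
    · exact hyt h
  have h2 : t • y • a = y • a := by rw [← mul_smul, hty, mul_smul, S.t_a]
  obtain ⟨x, hxa, hxb⟩ := S.two_trans S.t_a h2 h1
  have hs : Swaps ((φ x)⁻¹ * y * φ x) a b := by
    constructor
    · rw [mul_smul, mul_smul, hxa, inv_smul_eq_iff, hxb]
    · rw [mul_smul, mul_smul, hxb, ← mul_smul y, hy, one_smul, inv_smul_eq_iff, hxa]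
  have hy' : (φ x)⁻¹ * y * φ x * ((φ x)⁻¹ * y * φ x) = 1 := by
    calc (φ x)⁻¹ * y * φ x * ((φ x)⁻¹ * y * φ x) = (φ x)⁻¹ * (y * y) * φ x := by group
      _ = 1 := by rw [hy]; group
  obtain ⟨z, hz1, hz2⟩ := S.fuse_swap h3 hy' hs
  have hx1 := S.comm_range x
  have hx2 := S.comm_range x⁻¹
  rw [map_inv] at hx2
  refine ⟨φ x * z * (φ x)⁻¹, ?_, ?_⟩
  · calc t * (φ x * z * (φ x)⁻¹) = (t * φ x) * z * (φ x)⁻¹ := by group
      _ = φ x * (t * z) * (φ x)⁻¹ := by rw [hx1]; group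
      _ = φ x * z * (t * (φ x)⁻¹) := by rw [hz1]; group
      _ = φ x * z * (φ x)⁻¹ * t := by rw [hx2]; group
  · calc φ x * z * (φ x)⁻¹ * y * (φ x * z * (φ x)⁻¹)⁻¹ =
        φ x * (z * ((φ x)⁻¹ * y * φ x) * z⁻¹) * (φ x)⁻¹ := by group
      _ = (φ x * t) * (φ x)⁻¹ * y := by rw [hz2]; group
      _ = t * y := by rw [← hx1]; group

/-- all pairs of commuting involutions look like `(t, y)`, `y` interchanging `a` and `b` -/
theorem fuse [Finite F] (S : SLData U a b t φ) (h3 : ¬ IsSquare (-1 : F)) {y : G}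
    (hy : y * y = 1) (hty : t * y = y * t) (hy1 : y ≠ 1) (hyt : y ≠ t) :
    ∃ x, y * x = x * y ∧ x * t * x⁻¹ = y * t := by
  obtain ⟨g, hg⟩ := isConj_iff.1 (S.conj y hy hy1)
  -- `g t g⁻¹ = y`; put `t' = g⁻¹ t g`
  have h1 : g⁻¹ * t * g * (g⁻¹ * t * g) = 1 := by
    calc g⁻¹ * t * g * (g⁻¹ * t * g) = g⁻¹ * (t * t) * g := by group
      _ = 1 := by rw [S.t_sq]; group
  have h2 : t * (g⁻¹ * t * g) = g⁻¹ * t * g * t := by
    calc t * (g⁻¹ * t * g) = g⁻¹ * (g * t * g⁻¹ * t) * g := by group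
      _ = g⁻¹ * (t * (g * t * g⁻¹)) * g := by rw [hg, hty]
      _ = g⁻¹ * t * g * t := by group
  have h4 : g⁻¹ * t * g ≠ 1 := by
    intro h
    apply S.t_ne
    calc t = g * (g⁻¹ * t * g) * g⁻¹ := by group
      _ = 1 := by rw [h]; group
  have h5 : g⁻¹ * t * g ≠ t := by
    intro h
    apply hyt
    rw [← hg]
    calc g * t * g⁻¹ = g * (g⁻¹ * t * g) * g⁻¹ := by rw [h]
      _ = t := by group
  obtain ⟨x, hx1, hx2⟩ := S.fuse_t h3 h1 h2 h4 h5
  refine ⟨g * x * g⁻¹, ?_, ?_⟩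
  · rw [← hg]
    calc g * t * g⁻¹ * (g * x * g⁻¹) = g * (t * x) * g⁻¹ := by group
      _ = g * x * g⁻¹ * (g * t * g⁻¹) := by rw [hx1]; group
  · calc g * x * g⁻¹ * t * (g * x * g⁻¹)⁻¹ = g * (x * (g⁻¹ * t * g) * x⁻¹) * g⁻¹ := by group
      _ = (g * t * g⁻¹) * t := by rw [hx2]; group
      _ = y * t := by rw [hg]

/-- a 2-element of `D` other than `1`, `t` has a power with square `t` -/
theorem exists_pow_sq (S : SLData U a b t φ) {h : G} (hh : h ∈ Dab G a b) {n : ℕ}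
    (hn : h ^ 2 ^ n = 1) (h1 : h ≠ 1) (ht : h ≠ t) : ∃ i : ℕ, h ^ i * h ^ i = t := by
  classical
  have hex : ∃ n, h ^ 2 ^ n = 1 := ⟨n, hn⟩
  obtain ⟨m, hm⟩ : ∃ m, m = Nat.find hex := ⟨_, rfl⟩
  have hm1 : h ^ 2 ^ m = 1 := by rw [hm]; exact Nat.find_spec hex
  have hm0 : ∀ j < m, h ^ 2 ^ j ≠ 1 := fun j hj => Nat.find_min hex (by rw [← hm]; exact hj)
  match m, hm1, hm0 with
  | 0, hm1, _ => exact absurd (by rwa [pow_zero, pow_one] at hm1) h1
  | 1, hm1, hm0 =>
    exfalso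
    have h2 : h * h = 1 := by rwa [pow_one, pow_two] at hm1
    rcases S.unique h hh h2 with h3 | h3
    · exact h1 h3
    · exact ht h3
  | m + 2, hm1, hm0 =>
    refine ⟨2 ^ m, ?_⟩
    have h2 : h ^ 2 ^ m * h ^ 2 ^ m = h ^ 2 ^ (m + 1) := by
      rw [← pow_add]; congr 1; ring
    have h3 : h ^ 2 ^ (m + 1) * h ^ 2 ^ (m + 1) = 1 := by
      rw [← pow_add, ← hm1]; congr 1; ring
    rw [h2]
    rcases S.unique _ (pow_mem hh _) h3 with h4 | h4
    · exact absurd h4 (hm0 (m + 1) (by omega))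
    · exact h4

/-- `g^(2^m)` for `2^m`-th powers: `(g^k)^k`-bookkeeping -/
theorem pow_two_succ (g : G) (m : ℕ) : g ^ 2 ^ m * g ^ 2 ^ m = g ^ 2 ^ (m + 1) := by
  rw [← pow_add]; congr 1; ring

theorem pow_two_succ' (g : G) (m : ℕ) : (g * g) ^ 2 ^ m = g ^ 2 ^ (m + 1) := by
  rw [← pow_two, ← pow_mul]; congr 1; ring

theorem mem_one_t_of_range (S : SLData U a b t φ) {x : Matrix.SpecialLinearGroup (Fin 2) F}
    (h : φ x * φ x = 1) : φ x = 1 ∨ φ x = t := by
  rw [← map_mul, ← map_one φ] at h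
  rcases Cfsg.Agent.Lib.PSL2Inv.sq_eq_one S.two (S.inj h) with h1 | h1
  · left; rw [h1, map_one]
  · right; rw [h1, S.neg]

/-- **Theorem T.** `q ≡ 3 (mod 4)`: some 2-element of `C(t)` commutes with `k₀` and induces a
non-inner automorphism of `SL(2,F)`. -/
theorem exists_outer [Finite G] [Finite F] (S : SLData U a b t φ) (h3 : ¬ IsSquare (-1 : F)) {y : G}
    (hy : y * y = 1) (hs : Swaps y a b) {r : F} (hr : r ≠ 0) {k : G} (hyk : y = φ (wm r hr) * k)
    (hcen : ∀ x, k * φ x = φ x * k) (hkk : k * k = t) :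
    ∃ (g : G) (n : ℕ), g ^ 2 ^ n = 1 ∧ t * g = g * t ∧ g * k = k * g ∧
      ¬ ∃ x, ∀ z, g * φ z * g⁻¹ = φ (x * z * x⁻¹) := by
  classical
  by_contra hcon
  have hno : ∀ (g : G) (n : ℕ), g ^ 2 ^ n = 1 → t * g = g * t → g * k = k * g →
      ∃ x, ∀ z, g * φ z * g⁻¹ = φ (x * z * x⁻¹) := by
    intro g n h1 h2 h4
    by_contra hc
    exact hcon ⟨g, n, h1, h2, h4, hc⟩
  obtain ⟨l, hl⟩ : ∃ l, l = φ (wm r hr) := ⟨_, rfl⟩
  rw [← hl] at hyk
  have hll : l * l = t := by rw [hl, ← map_mul, wm_sq, S.neg]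
  have htt := S.t_sq
  have hkl : k * l = l * k := by rw [hl]; exact hcen _
  have hkD : k ∈ Dab G a b := S.cen_mem hcen
  have htk : t * k = k * t := S.comm_D hkD
  have htl : t * l = l * t := by rw [hl]; exact S.comm_range _
  have hty : t * y = y * t := S.comm_swaps hs
  have hy1 : y ≠ 1 := by
    rintro rfl
    exact S.ne (by rw [← hs.1, one_smul])
  have hyt : y ≠ t := by
    rintro rfl
    exact S.ne (by rw [← hs.1, S.t_a])
  obtain ⟨x, hxy, hxt⟩ := S.fuse h3 hy hty hy1 hyt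
  have hkinv : k⁻¹ = t * k := by
    apply inv_eq_of_mul_eq_one_left
    rw [mul_assoc, hkk, htt]
  -- the condition `P m`
  let P : ℕ → Prop := fun m => ∀ g n, g ^ 2 ^ n = 1 → t * g = g * t → y * g = g * y →
    g ^ 2 ^ m = 1 ∨ g ^ 2 ^ m = t
  have hPex : ∃ m, P m := by
    refine ⟨(Nat.card G).factorization 2, fun g n hgn _ _ => Or.inl ?_⟩
    have h1 : orderOf g ∣ 2 ^ n := orderOf_dvd_of_pow_eq_one hgn
    obtain ⟨j, -, hj⟩ := (Nat.dvd_prime_pow Nat.prime_two).1 h1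
    have h2 : 2 ^ j ∣ Nat.card G := by rw [← hj]; exact orderOf_dvd_natCard g
    have h4 : j ≤ (Nat.card G).factorization 2 :=
      (Nat.prime_two.pow_dvd_iff_le_factorization Nat.card_pos.ne').1 h2
    rw [← orderOf_dvd_iff_pow_eq_one, hj]
    exact pow_dvd_pow 2 h4
  have hP0 : ¬ P 0 := by
    intro h
    have h1 := h y 1 (by rw [pow_one, pow_two, hy]) hty rfl
    rw [pow_zero, pow_one] at h1
    rcases h1 with h1 | h1
    · exact hy1 h1
    · exact hyt h1
  -- no 2-element of `M` has `2^m`-th power `t`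
  have hX : ∀ m, P m → ∀ g n, g ^ 2 ^ n = 1 → t * g = g * t → y * g = g * y → g ^ 2 ^ m ≠ t := by
    intro m hm g n h1 h2 h4 h5
    have hxy' : x * y * x⁻¹ = y := by rw [← hxy]; group
    have e1 : x * (y * t) * x⁻¹ = t := by
      calc x * (y * t) * x⁻¹ = (x * y * x⁻¹) * (x * t * x⁻¹) := by group
        _ = t := by rw [hxy', hxt, ← mul_assoc, hy, one_mul]
    have hconj : ∀ c : G, c * g = g * c → x * c * x⁻¹ * (x * g * x⁻¹) = x * g * x⁻¹ * (x * c * x⁻¹) := by
      intro c hc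
      calc x * c * x⁻¹ * (x * g * x⁻¹) = x * (c * g) * x⁻¹ := by group
        _ = x * g * x⁻¹ * (x * c * x⁻¹) := by rw [hc]; group
    have h6 := hm (x * g * x⁻¹) n (by rw [conj_pow, h1]; group) (by
        have h7 := hconj (y * t) (by rw [mul_assoc, h2, ← mul_assoc, h4, mul_assoc])
        rwa [e1] at h7) (by
        have h7 := hconj y h4
        rwa [hxy'] at h7)
    rw [conj_pow, h5, hxt] at h6
    rcases h6 with h6 | h6
    · apply hyt
      calc y = y * t * t⁻¹ := by group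
        _ = t := by rw [h6, S.t_inv, one_mul]
    · exact hy1 (mul_eq_right.1 h6)
  obtain ⟨m, hm⟩ : ∃ m, m = Nat.find hPex := ⟨_, rfl⟩
  have hPm : P m := by rw [hm]; exact Nat.find_spec hPex
  have hmin : ∀ j < m, ¬ P j := fun j hj => Nat.find_min hPex (by rw [← hm]; exact hj)
  match m, hPm, hmin with
  | 0, hPm, _ => exact hP0 hPm
  | 1, hPm, _ =>
    refine hX 1 hPm l 2 ?_ htl ?_ (by rw [pow_one, pow_two, hll])
    · have h1 : l ^ 2 ^ 2 = l ^ 2 ^ 1 * l ^ 2 ^ 1 := (pow_two_succ l 1).symm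
      rw [h1, pow_one, pow_two l, hll, htt]
    · rw [hyk, mul_assoc, hkl]
  | m + 2, hPm, hmin =>
    have hnP := hmin (m + 1) (by omega)
    simp only [P] at hnP
    push Not at hnP
    obtain ⟨g, n, hgn, htg, hyg, hg1, hg2⟩ := hnP
    obtain ⟨⟨A, hA⟩, -⟩ := S.exists_gl h3 htg hgn
    -- conjugates of `l` and `k`
    have hgl : g * l * g⁻¹ = φ (conjGL A (wm r hr)) := by rw [hl]; exact hA _
    have hgk : ∀ z, g * k * g⁻¹ * φ z = φ z * (g * k * g⁻¹) := by
      intro z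
      obtain ⟨z', hz'⟩ := S.normalises (g := g⁻¹) (by
        calc t * g⁻¹ = g⁻¹ * (g * t) * g⁻¹ := by group
          _ = g⁻¹ * t := by rw [← htg]; group) z
      calc g * k * g⁻¹ * φ z = g * (k * (g⁻¹ * φ z * g⁻¹⁻¹)) * g⁻¹ := by group
        _ = g * ((g⁻¹ * φ z * g⁻¹⁻¹) * k) * g⁻¹ := by rw [hz', hcen]
        _ = φ z * (g * k * g⁻¹) := by group
    have hprod : g * l * g⁻¹ * (g * k * g⁻¹) = l * k := by
      calc g * l * g⁻¹ * (g * k * g⁻¹) = g * (l * k) * g⁻¹ := by group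
        _ = g * y * g⁻¹ := by rw [hyk]
        _ = y * g * g⁻¹ := by rw [hyg]
        _ = l * k := by rw [mul_inv_cancel_right, hyk]
    have hgl' : g * l * g⁻¹ = l * (k * (g * k * g⁻¹)⁻¹) := by
      rw [← mul_assoc, ← hprod]; group
    have hcase : k * (g * k * g⁻¹)⁻¹ = 1 ∨ k * (g * k * g⁻¹)⁻¹ = t := by
      have h1 : k * (g * k * g⁻¹)⁻¹ = φ ((wm r hr)⁻¹ * conjGL A (wm r hr)) := by
        rw [map_mul, map_inv, ← hl, ← hgl, hgl']; group
      rw [h1]
      apply S.eq_of_cen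
      intro z
      rw [← h1]
      have h2 := hgk z
      calc k * (g * k * g⁻¹)⁻¹ * φ z = k * ((g * k * g⁻¹)⁻¹ * (φ z * (g * k * g⁻¹)) * (g * k * g⁻¹)⁻¹) := by
            group
        _ = k * ((g * k * g⁻¹)⁻¹ * (g * k * g⁻¹ * φ z) * (g * k * g⁻¹)⁻¹) := by rw [h2]
        _ = (k * φ z) * (g * k * g⁻¹)⁻¹ := by group
        _ = φ z * (k * (g * k * g⁻¹)⁻¹) := by rw [hcen]; group
    rcases hcase with hc | hc
    · -- `g` commutes with `l` and `k`
      have hgk1 : g * k = k * g := by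
        have h1 : g * k * g⁻¹ = k := (mul_inv_eq_one.1 hc).symm
        calc g * k = g * k * g⁻¹ * g := by group
          _ = k * g := by rw [h1]
      have hgl1 : g * l = l * g := by
        rw [hc, mul_one] at hgl'
        calc g * l = g * l * g⁻¹ * g := by group
          _ = l * g := by rw [hgl']
      obtain ⟨x₁, hx₁⟩ := hno g n hgn htg hgk1
      obtain ⟨k₁, hk₁⟩ : ∃ k₁, k₁ = (φ x₁)⁻¹ * g := ⟨_, rfl⟩
      have hg : g = φ x₁ * k₁ := by rw [hk₁]; group
      have hcen₁ : ∀ z, k₁ * φ z = φ z * k₁ := by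
        intro z
        have h1 := hx₁ z
        rw [map_mul, map_mul, map_inv] at h1
        calc k₁ * φ z = (φ x₁)⁻¹ * (g * φ z * g⁻¹) * g := by rw [hk₁]; group
          _ = φ z * k₁ := by rw [h1, hk₁]; group
      have hcomm : Commute (φ x₁) k₁ := (hcen₁ x₁).symm
      have hx₁l : y * φ x₁ = φ x₁ * y := by
        have h1 : φ x₁ * l = l * φ x₁ := by
          have h2 := hcen₁ (wm r hr)
          rw [← hl] at h2
          calc φ x₁ * l = g * k₁⁻¹ * l := by rw [hg]; group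
            _ = g * (k₁⁻¹ * (l * k₁) * k₁⁻¹) := by group
            _ = (g * l) * k₁⁻¹ := by rw [← h2]; group
            _ = l * φ x₁ := by rw [hgl1, hg]; group
        calc y * φ x₁ = l * (k * φ x₁) := by rw [hyk]; group
          _ = (l * φ x₁) * k := by rw [hcen]; group
          _ = φ x₁ * y := by rw [← h1, hyk]; group
      have hx₁2 : (φ x₁) ^ 2 ^ (n + 1) = 1 := by
        have h1 : (φ x₁) ^ 2 ^ n * k₁ ^ 2 ^ n = 1 := by rw [← hcomm.mul_pow, ← hg, hgn]
        have h2 : φ (x₁ ^ 2 ^ n) = 1 ∨ φ (x₁ ^ 2 ^ n) = t := by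
          apply S.eq_of_cen
          intro z
          have h4 : φ (x₁ ^ 2 ^ n) = (k₁ ^ 2 ^ n)⁻¹ := by
            rw [map_pow]; exact eq_inv_of_mul_eq_one_left h1
          have h5 : Commute (k₁ ^ 2 ^ n)⁻¹ (φ z) :=
            ((show Commute k₁ (φ z) from hcen₁ z).pow_left _).inv_left
          rw [h4]
          exact h5
        rw [← pow_two_succ, ← map_pow]
        rcases h2 with h2 | h2
        · rw [h2, one_mul]
        · rw [h2, htt]
      -- `s = 2 ^ (m + 1)`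
      have hsplit : g ^ 2 ^ (m + 1) = φ x₁ ^ 2 ^ (m + 1) * k₁ ^ 2 ^ (m + 1) := by
        rw [← hcomm.mul_pow, ← hg]
      have hsq : g ^ 2 ^ (m + 2) = 1 := by
        rcases hPm g n hgn htg hyg with h1 | h1
        · exact h1
        · exact absurd h1 (hX _ hPm g n hgn htg hyg)
      have hsplit2 : φ x₁ ^ 2 ^ (m + 2) * k₁ ^ 2 ^ (m + 2) = 1 := by
        rw [← hcomm.mul_pow, ← hg, hsq]
      have h2 : φ (x₁ ^ 2 ^ (m + 2)) = 1 ∨ φ (x₁ ^ 2 ^ (m + 2)) = t := by
        apply S.eq_of_cen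
        intro z
        have h4 : φ (x₁ ^ 2 ^ (m + 2)) = (k₁ ^ 2 ^ (m + 2))⁻¹ := by
          rw [map_pow]; exact eq_inv_of_mul_eq_one_left hsplit2
        have h5 : Commute (k₁ ^ 2 ^ (m + 2))⁻¹ (φ z) :=
          ((show Commute k₁ (φ z) from hcen₁ z).pow_left _).inv_left
        rw [h4]
        exact h5
      rcases h2 with h2 | h2
      · rw [map_pow] at h2
        have h4 : φ (x₁ ^ 2 ^ (m + 1)) = 1 ∨ φ (x₁ ^ 2 ^ (m + 1)) = t := by
          apply S.mem_one_t_of_range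
          rw [map_pow, pow_two_succ, h2]
        have h5 : k₁ ^ 2 ^ (m + 1) = 1 ∨ k₁ ^ 2 ^ (m + 1) = t := by
          apply S.unique _ (pow_mem (S.cen_mem hcen₁) _)
          rw [pow_two_succ]
          rw [h2, one_mul] at hsplit2
          exact hsplit2
        rw [map_pow] at h4
        rw [hsplit] at hg1 hg2
        rcases h4 with h4 | h4 <;> rcases h5 with h5 | h5 <;> rw [h4, h5] at hg1 hg2
        · exact hg1 (one_mul 1)
        · exact hg2 (one_mul t)
        · exact hg2 (mul_one t)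
        · exact hg1 htt
      · rw [map_pow] at h2
        exact hX _ hPm (φ x₁) (n + 1) hx₁2 (S.comm_range x₁) hx₁l h2
    · -- `g` inverts `l` and `k`
      have hgk1 : g * k * g⁻¹ = t * k := by
        have h1 : g * k * g⁻¹ = t⁻¹ * k := by
          rw [← hc]; group
        rw [h1, S.t_inv]
      have hgl1 : conjGL A (wm r hr) = -1 * wm r hr := by
        apply S.inj
        rw [← hgl, hgl', hc, map_mul, S.neg, ← hl, htl]
      have hgg : ∀ z, g * g * φ z = φ z * (g * g) := by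
        intro z
        have h1 : g * (g * φ z * g⁻¹) * g⁻¹ = φ z := by
          rw [hA, hA, conjGL_sq_of_anti A r hr hgl1]
        calc g * g * φ z = g * (g * φ z * g⁻¹) * g⁻¹ * (g * g) := by group
          _ = _ := by rw [h1]
      have hggD : g * g ∈ Dab G a b := S.cen_mem hgg
      have hggn : (g * g) ^ 2 ^ n = 1 := by
        rw [pow_two_succ', ← pow_two_succ, hgn, one_mul]
      have hcasegg : g * g = 1 ∨ g * g = t := by
        by_contra hcon2
        push Not at hcon2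
        obtain ⟨i, hi⟩ := S.exists_pow_sq hggD hggn hcon2.1 hcon2.2
        obtain ⟨k₃, hk₃⟩ : ∃ k₃, k₃ = (g * g) ^ i := ⟨_, rfl⟩
        rw [← hk₃] at hi
        have hk₃g : Commute k₃ g := by
          rw [hk₃]
          exact ((Commute.refl g).mul_left (Commute.refl g)).pow_left i
        have hggk : Commute (g * g) k := by
          have h1 : g * (g * k * g⁻¹) * g⁻¹ = k := by
            rw [hgk1]
            calc g * (t * k) * g⁻¹ = (g * t) * k * g⁻¹ := by group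
              _ = t * (g * k * g⁻¹) := by rw [← htg]; group
              _ = k := by rw [hgk1, ← mul_assoc, htt, one_mul]
          change g * g * k = k * (g * g)
          calc g * g * k = g * (g * k * g⁻¹) * g⁻¹ * (g * g) := by group
            _ = _ := by rw [h1]
        have hk₃k : Commute k₃ k := by rw [hk₃]; exact hggk.pow_left i
        have hk₃D : k₃ ∈ Dab G a b := by rw [hk₃]; exact pow_mem hggD i
        have h1 : k₃ * k * (k₃ * k) = 1 := by
          calc k₃ * k * (k₃ * k) = k₃ * (k * k₃) * k := by group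
            _ = (k₃ * k₃) * (k * k) := by rw [← hk₃k.eq]; group
            _ = 1 := by rw [hi, hkk, htt]
        -- so `k₃ ∈ {k, k⁻¹}` commutes with `g`
        have h2 : k₃ = k ∨ k₃ = t * k := by
          rcases S.unique _ (mul_mem hk₃D hkD) h1 with h4 | h4
          · right
            rw [← hkinv]
            exact eq_inv_of_mul_eq_one_left h4
          · left
            have h5 : k₃ = t * k⁻¹ := by rw [← h4]; group
            rw [h5, hkinv, ← mul_assoc, htt, one_mul]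
        have h4 : g * k = k * g := by
          rcases h2 with h2 | h2
          · rw [← h2]; exact hk₃g.eq.symm
          · have h5 : k = t * k₃ := by rw [h2, ← mul_assoc, htt, one_mul]
            have h6 := hk₃g.eq
            calc g * k = (g * t) * k₃ := by rw [h5]; group
              _ = t * (g * k₃) := by rw [← htg]; group
              _ = t * k₃ * g := by rw [← h6]; group
              _ = k * g := by rw [h5]
        have h5 : t * k = k := by
          rw [← hgk1, h4]; group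
        exact S.t_ne (mul_eq_right.1 h5)
      have h1 : g ^ 2 ^ (m + 1) = (g * g) ^ 2 ^ m := (pow_two_succ' g m).symm
      rw [h1] at hg1 hg2
      rcases hcasegg with h2 | h2
      · rw [h2, one_pow] at hg1
        exact hg1 rfl
      · rw [h2] at hg1 hg2
        rcases Nat.eq_zero_or_pos m with h4 | h4
        · rw [h4, pow_zero, pow_one] at hg2
          exact hg2 rfl
        · apply hg1
          obtain ⟨j, rfl⟩ : ∃ j, m = j + 1 := ⟨m - 1, by omega⟩
          rw [← pow_two_succ', htt, one_pow]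

theorem dg_mul (r s : F) (hr : r ≠ 0) (hs : s ≠ 0) : dg r hr * dg s hs = dg (r * s) (mul_ne_zero hr hs) := by
  refine ext_ent ?_ ?_ ?_ ?_ <;> simp [ent_mul, mul_comm]

theorem dg_inv (r : F) (hr : r ≠ 0) : (dg r hr)⁻¹ = dg r⁻¹ (inv_ne_zero hr) := by
  refine inv_eq_of_mul_eq_one_right ?_
  rw [dg_mul]
  refine ext_ent ?_ ?_ ?_ ?_ <;> simp [hr]

theorem dg_inj {r s : F} {hr : r ≠ 0} {hs : s ≠ 0} (h : dg r hr = dg s hs) : r = s := by
  rw [← dg_00 r hr, h, dg_00]

theorem dg_conj_up (r z : F) (hr : r ≠ 0) : dg r hr * up z * (dg r hr)⁻¹ = up (r ^ 2 * z) := by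
  rw [dg_up, mul_inv_cancel_right]

theorem dg_conj_lo (r z : F) (hr : r ≠ 0) : dg r hr * lo z * (dg r hr)⁻¹ = lo (z / r ^ 2) := by
  rw [dg_lo, mul_inv_cancel_right]

/-- **`q ≡ 3 (mod 4)`: some `d ∈ D` commuting with `k₀` acts on `SL(2,F)` as `diag(-1,1)`.** -/
theorem exists_neg' [Finite G] [Finite F] (S : SLData U a b t φ) (h3 : ¬ IsSquare (-1 : F)) {y : G}
    (hy : y * y = 1) (hs : Swaps y a b) {r : F} (hr : r ≠ 0) {k : G} (hyk : y = φ (wm r hr) * k)
    (hcen : ∀ x, k * φ x = φ x * k) (hkk : k * k = t) :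
    ∃ d ∈ Dab G a b, d * k = k * d ∧ (∀ z, d * φ (up z) * d⁻¹ = φ (up (-z))) ∧
      ∀ z, d * φ (lo z) * d⁻¹ = φ (lo (-z)) := by
  obtain ⟨g, n, hgn, htg, hgk, hout⟩ := S.exists_outer h3 hy hs hr hyk hcen hkk
  obtain ⟨-, hR⟩ := S.exists_gl h3 htg hgn
  obtain ⟨x, d, hd, hg⟩ := S.exists_mul htg
  obtain ⟨l, σ, hl, hu, hlo⟩ := S.exists_param hd
  have hRd := S.trRel_of_param hd hl hu hlo
  have hσ : σ = 1 := by
    have h1 : TrRel φ g (1 * σ) := by rw [hg]; exact (TrRel.range x).mul hRd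
    rw [one_mul] at h1
    exact TrRel.unique S h1 hR
  subst hσ
  simp only [RingAut.one_apply] at hu hlo
  have hdk : d * k = k * d := by
    have h1 := hcen x
    calc d * k = (φ x)⁻¹ * (g * k) := by rw [hg]; group
      _ = (φ x)⁻¹ * (k * φ x) * d := by rw [hgk, hg]; group
      _ = k * d := by rw [h1]; group
  have hlsq : ¬ IsSquare l := by
    rintro ⟨s, hs'⟩
    have hs0 : s ≠ 0 := by
      rintro rfl
      rw [mul_zero] at hs'
      exact hl hs'
    apply hout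
    refine ⟨x * dg s hs0, fun z => ?_⟩
    have h1 : ∀ z, (φ (dg s hs0))⁻¹ * d * φ z = φ z * ((φ (dg s hs0))⁻¹ * d) := by
      refine cen_of_up_lo (fun z => ?_) (fun z => ?_)
      · have h2 : (φ (dg s hs0))⁻¹ * (d * φ (up z) * d⁻¹) * φ (dg s hs0) = φ (up z) := by
          have h4 := dg_conj_up s z hs0
          have h5 : φ (dg s hs0) * φ (up z) * (φ (dg s hs0))⁻¹ = d * φ (up z) * d⁻¹ := by
            rw [← map_inv, ← map_mul, ← map_mul, h4, hu, hs', pow_two]
          rw [← h5]; group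
        calc (φ (dg s hs0))⁻¹ * d * φ (up z) =
            (φ (dg s hs0))⁻¹ * (d * φ (up z) * d⁻¹) * φ (dg s hs0) * ((φ (dg s hs0))⁻¹ * d) := by group
          _ = _ := by rw [h2]
      · have h2 : (φ (dg s hs0))⁻¹ * (d * φ (lo z) * d⁻¹) * φ (dg s hs0) = φ (lo z) := by
          have h4 := dg_conj_lo s z hs0
          have h5 : φ (dg s hs0) * φ (lo z) * (φ (dg s hs0))⁻¹ = d * φ (lo z) * d⁻¹ := by
            rw [← map_inv, ← map_mul, ← map_mul, h4, hlo, hs', pow_two, div_eq_inv_mul]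
          rw [← h5]; group
        calc (φ (dg s hs0))⁻¹ * d * φ (lo z) =
            (φ (dg s hs0))⁻¹ * (d * φ (lo z) * d⁻¹) * φ (dg s hs0) * ((φ (dg s hs0))⁻¹ * d) := by group
          _ = _ := by rw [h2]
    have h2 := h1 z
    rw [map_mul, map_mul, map_inv, map_mul]
    calc g * φ z * g⁻¹ = φ x * φ (dg s hs0) * ((φ (dg s hs0))⁻¹ * d * φ z) * d⁻¹ * (φ x)⁻¹ := by
          rw [hg]; group
      _ = φ x * φ (dg s hs0) * φ z * (φ x * φ (dg s hs0))⁻¹ := by rw [h2]; group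
  obtain ⟨s, hs0, hls⟩ := isSquare_neg_of_not h3 hlsq
  have hls' : l = -s ^ 2 := by rw [← hls, neg_neg]
  refine ⟨(φ (dg s hs0))⁻¹ * d, mul_mem (inv_mem (S.dg_mem hs0)) hd, ?_, fun z => ?_, fun z => ?_⟩
  · have h1 := hcen (dg s hs0)⁻¹
    rw [map_inv] at h1
    calc (φ (dg s hs0))⁻¹ * d * k = (φ (dg s hs0))⁻¹ * (d * k) := by group
      _ = (φ (dg s hs0))⁻¹ * k * d := by rw [hdk]; group
      _ = k * ((φ (dg s hs0))⁻¹ * d) := by rw [← h1]; group
  · have h4 := dg_conj_up s (-z) hs0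
    have h5 : φ (dg s hs0) * φ (up (-z)) * (φ (dg s hs0))⁻¹ = d * φ (up z) * d⁻¹ := by
      rw [← map_inv, ← map_mul, ← map_mul, h4, hu, hls']
      congr 2
      ring
    calc (φ (dg s hs0))⁻¹ * d * φ (up z) * ((φ (dg s hs0))⁻¹ * d)⁻¹ =
        (φ (dg s hs0))⁻¹ * (d * φ (up z) * d⁻¹) * φ (dg s hs0) := by group
      _ = φ (up (-z)) := by rw [← h5]; group
  · have h4 := dg_conj_lo s (-z) hs0
    have h5 : φ (dg s hs0) * φ (lo (-z)) * (φ (dg s hs0))⁻¹ = d * φ (lo z) * d⁻¹ := by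
      rw [← map_inv, ← map_mul, ← map_mul, h4, hlo, hls']
      congr 2
      field_simp
    calc (φ (dg s hs0))⁻¹ * d * φ (lo z) * ((φ (dg s hs0))⁻¹ * d)⁻¹ =
        (φ (dg s hs0))⁻¹ * (d * φ (lo z) * d⁻¹) * φ (dg s hs0) := by group
      _ = φ (lo (-z)) := by rw [← h5]; group

/-- **`q ≡ 3 (mod 4)`: some `d ∈ D` acts on `SL(2,F)` as `diag(-1,1)`.** -/
theorem exists_neg [Finite G] [Finite F] (S : SLData U a b t φ) (h3 : ¬ IsSquare (-1 : F))
    (hex : ∃ y : G, y * y = 1 ∧ Swaps y a b) :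
    ∃ d ∈ Dab G a b, (∀ z, d * φ (up z) * d⁻¹ = φ (up (-z))) ∧
      ∀ z, d * φ (lo z) * d⁻¹ = φ (lo (-z)) := by
  obtain ⟨y, hy, hs⟩ := hex
  obtain ⟨r, hr, k, hyk, hcen, hkk⟩ := S.exists_wm_mul h3 hy hs
  obtain ⟨d, hd, -, h1, h2⟩ := S.exists_neg' h3 hy hs hr hyk hcen hkk
  exact ⟨d, hd, h1, h2⟩

/-- involutions interchanging `a` and `b` invert the torus -/
theorem swap_dg [Finite F] (S : SLData U a b t φ) {y : G} (hy : y * y = 1) (hs : Swaps y a b)
    (s : F) (hs0 : s ≠ 0) : y * φ (dg s hs0) * y⁻¹ = (φ (dg s hs0))⁻¹ := by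
  obtain ⟨c, hc, hu, hl⟩ := S.swap_act hy hs
  have hc0 : c ≠ 0 := by rintro rfl; exact hc IsSquare.zero
  have hw : ∀ v (hv : v ≠ 0), y * φ (wm v hv) * y⁻¹ = φ (wm (-c / v) (div_ne_zero (neg_ne_zero.2 hc0) hv)) := by
    intro v hv
    have h1 : y * φ (wm v hv) * y⁻¹ = φ (up (c * -v⁻¹) * lo (v / c) * up (c * -v⁻¹)) := by
      rw [wm_eq, map_mul, map_mul, map_mul, map_mul, ← hu, ← hl]
      group
    rw [h1]
    congr 1
    refine ext_ent ?_ ?_ ?_ ?_ <;>
      simp only [ent_mul, up_00, up_01, up_10, up_11, lo_00, lo_01, lo_10, lo_11, wm_00, wm_01, wm_10,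
        wm_11] <;> field_simp <;> ring
  have h1 : dg s hs0 = wm s hs0 * (wm 1 one_ne_zero)⁻¹ := by
    have h2 := wm_eq_dg_mul s 1 hs0 one_ne_zero
    rw [h2, mul_inv_cancel_right]
    refine ext_ent ?_ ?_ ?_ ?_ <;> simp
  have h4 : (dg s hs0)⁻¹ = wm (-c / s) (div_ne_zero (neg_ne_zero.2 hc0) hs0) *
      (wm (-c / 1) (div_ne_zero (neg_ne_zero.2 hc0) one_ne_zero))⁻¹ := by
    have h2 := wm_eq_dg_mul (-c / s) (-c / 1) (div_ne_zero (neg_ne_zero.2 hc0) hs0)
      (div_ne_zero (neg_ne_zero.2 hc0) one_ne_zero)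
    rw [h2, mul_inv_cancel_right, dg_inv]
    refine ext_ent ?_ ?_ ?_ ?_ <;> simp <;> field_simp
  calc y * φ (dg s hs0) * y⁻¹ = (y * φ (wm s hs0) * y⁻¹) * (y * φ (wm 1 one_ne_zero) * y⁻¹)⁻¹ := by
        rw [h1, map_mul, map_inv]; group
    _ = (φ (dg s hs0))⁻¹ := by
        rw [hw, hw, ← map_inv, ← map_inv, ← map_mul, h4]

theorem swap_mul_dg [Finite F] (S : SLData U a b t φ) {y : G} (hy : y * y = 1) (hs : Swaps y a b)
    (s : F) (hs0 : s ≠ 0) : y * φ (dg s hs0) * (y * φ (dg s hs0)) = 1 ∧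
      Swaps (y * φ (dg s hs0)) a b := by
  refine ⟨?_, hs.mul_D (S.dg_mem hs0)⟩
  calc y * φ (dg s hs0) * (y * φ (dg s hs0)) = (y * φ (dg s hs0) * y⁻¹) * (y * y) * φ (dg s hs0) := by
        group
    _ = 1 := by rw [S.swap_dg hy hs, hy]; group

/-- if there are only `q - 1` involutions interchanging `a` and `b`, they form a coset of the torus -/
theorem exists_dg [Finite G] [Finite F] (S : SLData U a b t φ)
    (hJ : Nat.card {y : G // y * y = 1 ∧ Swaps y a b} = Nat.card F - 1) {y y' : G}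
    (hy : y * y = 1) (hs : Swaps y a b) (hy' : y' * y' = 1) (hs' : Swaps y' a b) :
    ∃ (s : F) (hs0 : s ≠ 0), y' = y * φ (dg s hs0) := by
  classical
  let f : Fˣ → {y : G // y * y = 1 ∧ Swaps y a b} := fun s =>
    ⟨y * φ (dg s.1 s.ne_zero), S.swap_mul_dg hy hs s.1 s.ne_zero⟩
  have hf : Function.Injective f := by
    intro s s' h
    have h1 : y * φ (dg s.1 s.ne_zero) = y * φ (dg s'.1 s'.ne_zero) := congrArg Subtype.val h
    exact Units.ext (dg_inj (S.inj (mul_left_cancel h1)))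
  have hcard : Nat.card Fˣ = Nat.card {y : G // y * y = 1 ∧ Swaps y a b} := by
    rw [hJ, Nat.card_units]
  have hbij : Function.Bijective f :=
    (Nat.bijective_iff_injective_and_card f).2 ⟨hf, hcard⟩
  obtain ⟨s, hs1⟩ := hbij.2 ⟨y', hy', hs'⟩
  exact ⟨s.1, s.ne_zero, (congrArg Subtype.val hs1).symm⟩

/-- **`D` is transitive on the involutions interchanging `a` and `b`** if there are only
`q - 1` of them. -/
theorem trans_J [Finite G] [Finite F] (S : SLData U a b t φ)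
    (hJ : Nat.card {y : G // y * y = 1 ∧ Swaps y a b} = Nat.card F - 1) {y y' : G}
    (hy : y * y = 1) (hs : Swaps y a b) (hy' : y' * y' = 1) (hs' : Swaps y' a b) :
    ∃ d ∈ Dab G a b, d * y * d⁻¹ = y' := by
  -- conjugation by the torus
  have key : ∀ y₁ : G, y₁ * y₁ = 1 → Swaps y₁ a b → ∀ v (hv : v ≠ 0),
      φ (dg v hv) * y₁ * (φ (dg v hv))⁻¹ = y₁ * φ (dg (v⁻¹ * v⁻¹) (mul_ne_zero (inv_ne_zero hv) (inv_ne_zero hv))) := by
    intro y₁ h1 h2 v hv
    have h4 := S.swap_dg h1 h2 v hv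
    have h5 : y₁⁻¹ = y₁ := inv_eq_of_mul_eq_one_left h1
    have h6 : φ (dg v hv) * y₁ = y₁ * (φ (dg v hv))⁻¹ := by
      rw [← h4, h5]
      calc φ (dg v hv) * y₁ = (y₁ * y₁) * φ (dg v hv) * y₁ := by rw [h1, one_mul]
        _ = y₁ * (y₁ * φ (dg v hv) * y₁) := by group
    rw [h6, mul_assoc, ← map_inv, ← map_mul, dg_inv, dg_mul]
  -- one non-square
  obtain ⟨d₀, hd₀, s₀, hs₀, hs₀sq, hd₀y⟩ : ∃ d₀ ∈ Dab G a b, ∃ (s₀ : F) (hs₀ : s₀ ≠ 0),
      ¬ IsSquare s₀ ∧ d₀ * y * d₀⁻¹ = y * φ (dg s₀ hs₀) := by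
    by_cases h3 : IsSquare (-1 : F)
    · -- `q ≡ 1 (mod 4)`
      obtain ⟨c, hc, hu, hl⟩ := S.swap_act hy hs
      have hc0 : c ≠ 0 := by rintro rfl; exact hc IsSquare.zero
      obtain ⟨w, hw⟩ : ∃ w, w = φ (wm 1 one_ne_zero) := ⟨_, rfl⟩
      have hws : Swaps w a b := by rw [hw]; exact S.wm_swaps one_ne_zero
      have hd : y * w ∈ Dab G a b := hs.mul hws
      have hdu : ∀ z, y * w * φ (up z) * (y * w)⁻¹ = φ (up (-c * z)) := by
        intro z
        have h1 := wm_up' (1 : F) z one_ne_zero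
        have h2 : w * φ (up z) * w⁻¹ = φ (lo (-z)) := by
          rw [hw, ← map_inv, ← map_mul, ← map_mul, h1, one_pow, div_one]
        calc y * w * φ (up z) * (y * w)⁻¹ = y * (w * φ (up z) * w⁻¹) * y⁻¹ := by group
          _ = φ (up (-c * z)) := by rw [h2, hl]; congr 2; ring
      have hdl : ∀ z, y * w * φ (lo z) * (y * w)⁻¹ = φ (lo ((-c)⁻¹ * z)) := by
        intro z
        have h1 := wm_lo' (1 : F) z one_ne_zero
        have h2 : w * φ (lo z) * w⁻¹ = φ (up (-z)) := by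
          rw [hw, ← map_inv, ← map_mul, ← map_mul, h1, one_pow, mul_one]
        calc y * w * φ (lo z) * (y * w)⁻¹ = y * (w * φ (lo z) * w⁻¹) * y⁻¹ := by group
          _ = φ (lo ((-c)⁻¹ * z)) := by rw [h2, hu]; congr 2; field_simp
      obtain ⟨d, hdd⟩ : ∃ d, d = y * w := ⟨_, rfl⟩
      rw [← hdd] at hd hdu hdl
      have hJ1 : d * y * d⁻¹ * (d * y * d⁻¹) = 1 := by
        calc d * y * d⁻¹ * (d * y * d⁻¹) = d * (y * y) * d⁻¹ := by group
          _ = 1 := by rw [hy]; group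
      have hJ2 : Swaps (d * y * d⁻¹) a b := by
        have h1 := hs.conj d
        rwa [hd.1, hd.2] at h1
      obtain ⟨s, hs0, hse⟩ := S.exists_dg hJ hy hs hJ1 hJ2
      refine ⟨d, hd, s, hs0, ?_, hse⟩
      -- compare the actions on `up (-c)`
      have h1 : d * y * d⁻¹ * φ (up (-c)) * (d * y * d⁻¹)⁻¹ = φ (lo ((-c)⁻¹ * (1 / c))) := by
        have h2 : d⁻¹ * φ (up (-c)) * d = φ (up 1) := by
          have h4 := hdu 1
          rw [mul_one] at h4
          rw [← h4]; group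
        calc d * y * d⁻¹ * φ (up (-c)) * (d * y * d⁻¹)⁻¹ =
            d * (y * (d⁻¹ * φ (up (-c)) * d) * y⁻¹) * d⁻¹ := by group
          _ = _ := by rw [h2, hu, hdl]
      have h2 : y * φ (dg s hs0) * φ (up (-c)) * (y * φ (dg s hs0))⁻¹ = φ (lo (s ^ 2 * -c / c)) := by
        have h4 := dg_conj_up s (-c) hs0
        calc y * φ (dg s hs0) * φ (up (-c)) * (y * φ (dg s hs0))⁻¹ =
            y * (φ (dg s hs0 * up (-c) * (dg s hs0)⁻¹)) * y⁻¹ := by
              rw [map_mul, map_mul, map_inv]; group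
          _ = _ := by rw [h4, hu]
      rw [hse, h2] at h1
      have h4 := lo_inj (S.inj h1)
      have h5 : s ^ 2 * c ^ 2 = 1 := by
        field_simp at h4
        linear_combination -h4
      have h6 : (s * c - 1) * (s * c + 1) = 0 := by linear_combination h5
      intro hsq
      apply hc
      obtain ⟨u, hu'⟩ := hsq
      obtain ⟨i, hi⟩ := h3
      have hu0 : u ≠ 0 := by rintro rfl; exact hs0 (by rw [hu', mul_zero])
      rcases mul_eq_zero.1 h6 with h7 | h7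
      · refine ⟨u⁻¹, ?_⟩
        rw [hu'] at h7
        field_simp
        linear_combination h7
      · refine ⟨i * u⁻¹, ?_⟩
        rw [hu'] at h7
        field_simp
        linear_combination h7 + hi
    · obtain ⟨r, hr, k, hyk, hcen, hkk⟩ := S.exists_wm_mul h3 hy hs
      obtain ⟨d, hd, hdk, hdu, hdl⟩ := S.exists_neg' h3 hy hs hr hyk hcen hkk
      refine ⟨d, hd, -1, neg_ne_zero.2 one_ne_zero, h3, ?_⟩
      have h1 : d * φ (wm r hr) * d⁻¹ = φ (-1 * wm r hr) := by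
        have h2 : d * φ (wm r hr) * d⁻¹ = (d * φ (lo (-r⁻¹)) * d⁻¹) * (d * φ (up r) * d⁻¹) *
            (d * φ (lo (-r⁻¹)) * d⁻¹) := by
          rw [wm_eq, map_mul, map_mul]
          group
        rw [h2, hdu, hdl, ← map_mul, ← map_mul]
        congr 1
        have e : ∀ (z : Matrix.SpecialLinearGroup (Fin 2) F) i j, ent (-1 * z) i j = - ent z i j := by
          intro z i j
          rw [neg_mul, one_mul]
          rfl
        refine ext_ent ?_ ?_ ?_ ?_ <;>
          simp only [ent_mul, e, up_00, up_01, up_10, up_11, lo_00, lo_01, lo_10, lo_11, wm_00, wm_01,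
            wm_10, wm_11] <;> field_simp <;> ring
      have h2 : dg (-1 : F) (neg_ne_zero.2 one_ne_zero) = -1 := by
        have e : ∀ i j, ent (-1 : Matrix.SpecialLinearGroup (Fin 2) F) i j = - ent 1 i j := fun _ _ => rfl
        refine ext_ent ?_ ?_ ?_ ?_ <;> rw [e] <;> simp
      have h4 : d * y * d⁻¹ = (d * φ (wm r hr) * d⁻¹) * (d * k) * d⁻¹ := by rw [hyk]; group
      rw [h4, h1, hdk, h2, S.neg, map_mul, S.neg, mul_assoc _ (k * d), mul_inv_cancel_right,
        mul_assoc t, ← hyk, S.comm_swaps hs]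
  obtain ⟨s, hs0, hse⟩ := S.exists_dg hJ hy hs hy' hs'
  by_cases hsq : IsSquare s
  · obtain ⟨v, hv⟩ := hsq
    have hv0 : v ≠ 0 := by rintro rfl; exact hs0 (by rw [hv, mul_zero])
    refine ⟨φ (dg v⁻¹ (inv_ne_zero hv0)), S.dg_mem _, ?_⟩
    rw [key y hy hs, hse]
    congr 3
    rw [inv_inv, hv]
  · have h2 : ringChar F ≠ 2 := by
      intro h
      exact hsq (FiniteField.isSquare_of_char_two h _)
    have h4 : IsSquare (s / s₀) := by
      have := Fintype.ofFinite F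
      rw [FiniteField.isSquare_iff h2 (div_ne_zero hs0 hs₀)]
      rw [FiniteField.isSquare_iff h2 hs0] at hsq
      rw [FiniteField.isSquare_iff h2 hs₀] at hs₀sq
      have h5 := (FiniteField.pow_dichotomy h2 hs0).resolve_left hsq
      have h6 := (FiniteField.pow_dichotomy h2 hs₀).resolve_left hs₀sq
      rw [div_pow, h5, h6, div_self (neg_ne_zero.2 one_ne_zero)]
    obtain ⟨v, hv⟩ := h4
    have hv0 : v ≠ 0 := by
      rintro rfl
      rw [mul_zero] at hv
      exact div_ne_zero hs0 hs₀ hv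
    obtain ⟨h7, h8⟩ := S.swap_mul_dg hy hs s₀ hs₀
    refine ⟨φ (dg v⁻¹ (inv_ne_zero hv0)) * d₀, mul_mem (S.dg_mem _) hd₀, ?_⟩
    calc φ (dg v⁻¹ (inv_ne_zero hv0)) * d₀ * y * (φ (dg v⁻¹ (inv_ne_zero hv0)) * d₀)⁻¹ =
        φ (dg v⁻¹ (inv_ne_zero hv0)) * (d₀ * y * d₀⁻¹) * (φ (dg v⁻¹ (inv_ne_zero hv0)))⁻¹ := by group
      _ = y' := by
        rw [hd₀y, key _ h7 h8, hse, mul_assoc, ← map_mul, dg_mul]
        congr 3
        rw [inv_inv, ← hv]
        field_simp

end SLData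

end Cfsg.Agent.HKS
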