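import Mathlib
import Cfsg.Agent.HKS.Goals
import Cfsg.Agent.HKS.SLFrame
import Cfsg.Agent.HKS.CentralN

/-!
# Unitary type: `|U a| = q ^ 3` and `|J| = q - 1`

`CtxE U a b p k`, `SLData U a b t φ` over `F`, `q = |F|`; `J` = the involutions interchanging `a` and `b`.
If `q = 3 mod 4` we need an element of `D` inverting `C_{U a}(t)` (helper499's `SLData.exists_neg`).
-/

set_option autoImplicit false

namespace Cfsg.Agent.HKS.UniCube

open Subgroup MulAction
open Cfsg.Agent.Lib.SL2Mat Cfsg.Agent.HKS.CentralN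

variable {G Ω F : Type*} [Group G] [MulAction G Ω] [Field F] {U : Ω → Subgroup G} {a b : Ω}
  {t : G} {φ : Matrix.SpecialLinearGroup (Fin 2) F →* G} {p k : ℕ}

theorem cen (S : SLData U a b t φ) : Cen U a b t where
  h := S.split
  ab := S.ne
  zD := S.t_mem
  sq := S.t_sq
  cW := by
    intro g hg
    rcases mem_Wab.1 hg with h | h
    · exact S.comm_D h
    · exact S.comm_swaps h
  three := ⟨φ (up 1), S.up_mem 1, S.up_ne one_ne_zero, S.comm_range _⟩

/-- `|C_{U a}(t)| = |F|` -/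
theorem card_cent (S : SLData U a b t φ) :
    Nat.card (U a ⊓ centralizer (zpowers t : Set G) : Subgroup G) = Nat.card F := by
  refine Nat.card_congr (Equiv.ofBijective
    (fun z : F => (⟨φ (up z), S.up_mem z, mem_cen.2 (S.comm_range _)⟩ :
      (U a ⊓ centralizer (zpowers t : Set G) : Subgroup G))) ⟨?_, ?_⟩).symm
  · intro z z' h
    exact up_inj (S.inj (congrArg Subtype.val h))
  · rintro ⟨u, hu, hu2⟩
    obtain ⟨z, hz⟩ := S.up_surj u hu (mem_cen.1 hu2)
    exact ⟨z, Subtype.ext hz.symm⟩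

/-- the involutions interchanging `a` and `b` -/
theorem card_J (S : SLData U a b t φ) :
    Nat.card {m : G // IsConj t m ∧ Swaps m a b} = Nat.card {y : G // y * y = 1 ∧ Swaps y a b} := by
  refine Nat.card_congr (Equiv.subtypeEquivRight fun m => ?_)
  constructor
  · rintro ⟨h1, h2⟩
    exact ⟨(cen S).sq_of h1, h2⟩
  · rintro ⟨h1, h2⟩
    refine ⟨S.conj m h1 ?_, h2⟩
    rintro rfl
    have := h2.1
    rw [one_smul] at this
    exact S.ne this.symm

theorem moves [FaithfulSMul G Ω] (S : SLData U a b t φ) : ∃ c : Ω, t • c ≠ c := by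
  by_contra h
  push Not at h
  apply S.t_ne
  apply FaithfulSMul.eq_of_smul_eq_smul (α := Ω)
  intro c
  rw [h c, one_smul]

/-- **The theorem.** -/
theorem main [Finite G] [Finite Ω] [FaithfulSMul G Ω] [Finite F] (C : CtxE U a b p k)
    (S : SLData U a b t φ)
    (hneg : ¬ IsSquare (-1 : F) → ∃ d ∈ Dab G a b, ∀ z, d * φ (up z) * d⁻¹ = φ (up (-z))) :
    ∃ e : ℕ, 0 < e ∧ k = 3 * e ∧ Nat.card F = p ^ e ∧ Nat.card (U a) = Nat.card F ^ 3 ∧
      Nat.card {y : G // y * y = 1 ∧ Swaps y a b} = Nat.card F - 1 := by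
  have hc := cen S
  have hodd : Odd (Nat.card (U a)) := by
    rw [C.cardU]
    exact (C.prime.odd_of_ne_two C.p_ne_two).pow
  obtain ⟨c₀, hc₀⟩ := moves S
  have key : ∃ e : ℕ, 0 < e ∧ k = 3 * e ∧
      Nat.card (U a ⊓ centralizer (zpowers t : Set G) : Subgroup G) = p ^ e ∧
      Nat.card (U a) = (p ^ e) ^ 3 ∧
      Nat.card {m : G // IsConj t m ∧ Swaps m a b} = p ^ e - 1 := by
    by_cases h1 : IsSquare (-1 : F)
    · obtain ⟨m, hm, hms⟩ := S.split.exists_conj_swaps S.ne S.t_sq hc₀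
      have := Fintype.ofFinite F
      have h2 : Nat.card (U a ⊓ centralizer (zpowers t : Set G) : Subgroup G) % 4 = 1 := by
        have h3 := FiniteField.isSquare_neg_one_iff.1 h1
        rw [← Nat.card_eq_fintype_card] at h3
        have h4 : Odd (Nat.card (U a ⊓ centralizer (zpowers t : Set G) : Subgroup G)) :=
          hodd.of_dvd_nat (Subgroup.card_dvd_of_le inf_le_left)
        rw [card_cent S] at h4 ⊢
        obtain ⟨r, hr⟩ := h4
        omega
      obtain ⟨d, hd, hds⟩ := hc.exists_sgn_of_one_mod hodd hm hms h2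
      exact hc.cube C.gen C.prime C.p_ne_two C.cardU hc₀ hd hds
    · obtain ⟨d, hd, hds⟩ := hneg h1
      refine hc.cube' C.gen C.prime C.p_ne_two C.cardU hc₀ hd ?_
      intro u hu htu
      obtain ⟨z, rfl⟩ := S.up_surj u hu htu
      rw [hds, ← map_inv]
      congr 1
      rw [eq_inv_iff_mul_eq_one, up_mul, neg_add_cancel, up_zero]
  obtain ⟨e, he0, hk, he, hN, hJ⟩ := key
  rw [card_cent S] at he
  exact ⟨e, he0, hk, he, by rw [hN, he], by rw [← card_J S, hJ, he]⟩

end Cfsg.Agent.HKS.UniCube
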