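import Mathlib
import Cfsg.Agent.HKS.Head
import Cfsg.Agent.HKS.SLToData
import Cfsg.Agent.HKS.SLTrans
import Cfsg.Agent.HKS.UniCube
import Cfsg.Agent.HKS.UEndBase

/-!
# The configuration of the unitary end

`exists_uset` : from `CtxE`, `RankOneD`, `t ∈ genFix U (zpowers t)` central in `Dab G a b`: the setting
`USet U a b t φ`, and `Dab G a b` is transitive on the involutions interchanging `a` and `b`.
-/

set_option autoImplicit false

namespace Cfsg.Agent.HKS.UniSet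

open Subgroup MulAction Cfsg.Agent.HKS Cfsg.Agent.ONan.SL2Hom Cfsg.Agent.HKS.SLRel
  Cfsg.Agent.HKS.SLCoord Cfsg.Agent.HKS.UEnd

section Matrices

variable {F : Type*} [Field F]

theorem mem_clos (A : Matrix.SpecialLinearGroup (Fin 2) F) :
    A ∈ closure ({x | ∃ s, x = tM s} ∪ {x | ∃ s, x = lM s} :
      Set (Matrix.SpecialLinearGroup (Fin 2) F)) := by
  set K := closure ({x | ∃ s, x = tM s} ∪ {x | ∃ s, x = lM s} :
      Set (Matrix.SpecialLinearGroup (Fin 2) F)) with hK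
  have ht : ∀ s : F, tM s ∈ K := fun s => subset_closure (Or.inl ⟨s, rfl⟩)
  have hl : ∀ s : F, lM s ∈ K := fun s => subset_closure (Or.inr ⟨s, rfl⟩)
  have hm : ∀ (c : F) (hc : c ≠ 0), mM c hc ∈ K := by
    intro c hc
    have h1 : mM c hc = wS tM lM (-c) := by
      rw [wS_tM (neg_ne_zero.mpr hc)]
      congr 1
      rw [neg_neg]
    rw [h1]
    unfold wS
    exact mul_mem (mul_mem (ht _) (hl _)) (ht _)
  have hn : ∀ (c : F) (hc : c ≠ 0), nM c hc ∈ K := by
    intro c hc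
    rw [nM_eq]
    exact mul_mem (hm _ _) (hm _ _)
  rcases decomp (one_ne_zero (α := F)) A with ⟨r, hr, x, rfl⟩ | ⟨r, hr, x, y, rfl⟩
  · exact mul_mem (hn _ _) (ht _)
  · exact mul_mem (ht _) (mul_mem (hn _ _) (mul_mem (hm _ _) (ht _)))

/-- two homomorphisms agreeing on the transvections are equal -/
theorem hom_ext {G : Type*} [Group G] {f g : Matrix.SpecialLinearGroup (Fin 2) F →* G}
    (ht : ∀ s, f (tM s) = g (tM s)) (hl : ∀ s, f (lM s) = g (lM s)) : f = g := by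
  refine MonoidHom.eq_of_eqOn_dense (s := ({x | ∃ s, x = tM s} ∪ {x | ∃ s, x = lM s} :
      Set (Matrix.SpecialLinearGroup (Fin 2) F))) ?_ ?_
  · rw [eq_top_iff]
    intro A _
    exact mem_clos A
  · rintro _ (⟨s, rfl⟩ | ⟨s, rfl⟩)
    · exact ht s
    · exact hl s

theorem wconj_mul (ν : F) (hν : ν ≠ 0) (A B : Matrix.SpecialLinearGroup (Fin 2) F) :
    wconj ν hν (A * B) = wconj ν hν A * wconj ν hν B := by
  apply ext' <;> simp [wconj, mul_apply'] <;> field_simp <;> ring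

/-- `wconj` as a homomorphism -/
def wconjHom (ν : F) (hν : ν ≠ 0) :
    Matrix.SpecialLinearGroup (Fin 2) F →* Matrix.SpecialLinearGroup (Fin 2) F :=
  MonoidHom.mk' (wconj ν hν) (wconj_mul ν hν)

theorem wconj_tM (ν : F) (hν : ν ≠ 0) (s : F) : wconj ν hν (tM s) = lM (s / ν) := by
  apply ext' <;> simp [wconj, div_eq_inv_mul]

theorem wconj_lM (ν : F) (hν : ν ≠ 0) (s : F) : wconj ν hν (lM s) = tM (ν * s) := by
  apply ext' <;> simp [wconj]

end Matrices

variable {G Ω : Type*} [Group G] [MulAction G Ω] {U : Ω → Subgroup G} {a b : Ω} {p k : ℕ}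
  {t : G} {F : Type*} [Field F] {φ : Matrix.SpecialLinearGroup (Fin 2) F →* G}

theorem act [Finite F] (S : SLData U a b t φ) {y : G} (hy : y * y = 1) (hs : Swaps y a b) :
    ∃ (ν : F) (hν : ν ≠ 0), ¬ IsSquare ν ∧ ∀ A, y * φ A * y⁻¹ = φ (wconj ν hν A) := by
  obtain ⟨c, hc, h1, h2⟩ := S.swap_act hy hs
  have hc0 : c ≠ 0 := by
    rintro rfl
    exact hc ⟨0, by ring⟩
  refine ⟨c, hc0, hc, fun A => ?_⟩
  have h3 : (MulAut.conj y).toMonoidHom.comp φ = φ.comp (wconjHom c hc0) := by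
    apply hom_ext
    · intro s
      change y * φ (tM s) * y⁻¹ = φ (wconj c hc0 (tM s))
      rw [wconj_tM]
      exact h1 s
    · intro s
      change y * φ (lM s) * y⁻¹ = φ (wconj c hc0 (lM s))
      rw [wconj_lM]
      exact h2 s
  exact DFunLike.congr_fun h3 A

theorem unique_of_central (R : RankOneD G a b) (ht : t ∈ Dab G a b) (ht1 : t ≠ 1)
    (ht2 : t * t = 1) (hcent : ∀ d ∈ Dab G a b, t * d = d * t) :
    ∀ d ∈ Dab G a b, d * d = 1 → d = 1 ∨ d = t := by
  intro d hd hd2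
  by_cases hd1 : d = 1
  · exact Or.inl hd1
  · exact Or.inr (R d hd t ht hd1 ht1 hd2 ht2 (hcent d hd).symm)

theorem exists_fix_two (C : CtxE U a b p k) [Finite Ω] :
    ∀ s : G, s ≠ 1 → s * s = 1 → ∃ c e : Ω, e ≠ c ∧ s • c = c ∧ s • e = e := by
  intro s hs1 hs
  have h1 := C.fix s hs1 hs
  have h2 : 1 < Nat.card (fixedBy Ω s) := by omega
  have : Finite (fixedBy Ω s) := Subtype.finite
  have h3 : Nontrivial (fixedBy Ω s) := Finite.one_lt_card_iff_nontrivial.1 h2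
  obtain ⟨c, e, hce⟩ := h3
  exact ⟨c, e, fun he => hce (Subtype.ext he.symm), c.2, e.2⟩

/-- **The configuration.** -/
theorem exists_uset [Finite G] [Finite Ω] [FaithfulSMul G Ω] (C : CtxE U a b p k)
    (R : RankOneD G a b) (ht : t ∈ Dab G a b) (ht1 : t ≠ 1) (ht2 : t * t = 1)
    (htM : t ∈ genFix U (zpowers t)) (hcent : ∀ d ∈ Dab G a b, t * d = d * t) :
    ∃ (F : Type) (_ : Field F) (_ : Fintype F) (φ : Matrix.SpecialLinearGroup (Fin 2) F →* G),
      USet U a b t φ ∧ (∃ e : ℕ, 0 < e ∧ k = 3 * e ∧ Nat.card F = p ^ e) ∧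
      ∀ y y' : G, y * y = 1 → Swaps y a b → y' * y' = 1 → Swaps y' a b →
        ∃ d ∈ Dab G a b, d * y * d⁻¹ = y' := by
  obtain ⟨F, i1, i2, hodd, φ, S⟩ := Head.exists_slx C R ht ht1 ht2
  have hu := unique_of_central R ht ht1 ht2 hcent
  have hfix := exists_fix_two C
  have D : SLData U a b t φ := S.toData C.split ht ht1 htM (two_ne_zero_of_odd hodd) hu hfix
  obtain ⟨e, he0, hk, hFe, hU3, hJ⟩ := UniCube.main C D (fun h3 => by
    obtain ⟨c₀, hc₀⟩ := UniCube.moves D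
    obtain ⟨m, hm, hms⟩ := C.split.exists_conj_swaps C.ne ht2 hc₀
    have hm2 : m * m = 1 := (UniCube.cen D).sq_of hm
    obtain ⟨d, hd, h1, -⟩ := D.exists_neg h3 ⟨m, hm2, hms⟩
    exact ⟨d, hd, h1⟩)
  refine ⟨F, i1, i2, φ, ?_, ⟨e, he0, hk, hFe⟩, fun y y' h1 h2 h3 h4 => D.trans_J hJ h1 h2 h3 h4⟩
  exact
    { h := C.split
      S := S
      inj := D.inj
      tD := ht
      neg := D.neg
      cen := fun d hd => (hcent d hd).symm
      uniq := fun s hs hs1 hs2 => (hu s hs hs2).resolve_left hs1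
      fix := fun s hs1 hs2 => by
        obtain ⟨c, -, -, hc, -⟩ := hfix s hs1 hs2
        exact ⟨c, hc⟩
      odd := by rw [Nat.card_eq_fintype_card]; exact hodd
      card := hU3
      act := fun y hy hs => act D hy hs
      cardJ := hJ }

end Cfsg.Agent.HKS.UniSet
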