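import Mathlib
import Cfsg.Agent.HKS.UniSet
import Cfsg.Agent.HKS.EndU

/-!
# Goal 7 from centrality and the unitary end
-/

set_option autoImplicit false

namespace Cfsg.Agent.HKS

open Subgroup MulAction

/-- `t` is central in `G_ab`. -/
def CentralStmt.{v} : Prop := ∀ (G Ω : Type v) [Group G] [Finite G] [MulAction G Ω]
  [FaithfulSMul G Ω] [Finite Ω] (U : Ω → Subgroup G) (a b : Ω) (p k : ℕ), CtxE U a b p k →
  RankOneD G a b → ∀ t ∈ Dab G a b, t ≠ 1 → t * t = 1 → ∀ d ∈ Dab G a b, t * d = d * t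

/-- The unitary end. -/
def UniEnd.{v} : Prop := ∀ (G Ω : Type v) [Group G] [Finite G] [MulAction G Ω]
  [FaithfulSMul G Ω] [Finite Ω] (U : Ω → Subgroup G) (a b : Ω) (t : G) (F : Type) [Field F]
  [Fintype F] (φ : Matrix.SpecialLinearGroup (Fin 2) F →* G), UEnd.USet U a b t φ →
  (⨆ c, U c) = ⊤ →
  (∀ y y' : G, y * y = 1 → Swaps y a b → y' * y' = 1 → Swaps y' a b →
    ∃ d ∈ Dab G a b, d * y * d⁻¹ = y') →
  ∃ (L : Type) (_ : Field L) (_ : Fintype L), Fintype.card L = Nat.card F ^ 2 ∧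
    Nonempty (G ≃* Cfsg.PSU 3 L (Nat.card F))

theorem card_Dab_lt {G Ω : Type*} [Group G] [Finite G] [MulAction G Ω] [Finite Ω]
    {U : Ω → Subgroup G} {a b : Ω} (h : SSplit U) (hab : b ≠ a) {q : ℕ} (hq : 1 < q)
    (hU : Nat.card (U a) = q ^ 3) {L : Type} [Field L] [Fintype L] (hL : Fintype.card L = q ^ 2)
    (e : G ≃* Cfsg.PSU 3 L q) : Nat.card (Dab G a b) < Nat.card (U a) := by
  obtain ⟨t, rfl⟩ : ∃ t, q = t + 1 := ⟨q - 1, by omega⟩
  have h1 := EndOrd.card_psu_three (F := L) hL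
  rw [← Nat.card_congr e.toEquiv, h.card_G hab, h.card a, hU, Nat.add_sub_cancel] at h1
  set g := Nat.gcd 3 (t + 2) with hg
  set d := Nat.card (Dab G a b) with hd
  have hgpos : 0 < g := Nat.gcd_pos_of_pos_left _ (by norm_num)
  have h2 : ((t + 1) ^ 3 * ((t + 1) ^ 3 + 1)) * (g * d) =
      ((t + 1) ^ 3 * ((t + 1) ^ 3 + 1)) * (t * (t + 2)) := by
    calc ((t + 1) ^ 3 * ((t + 1) ^ 3 + 1)) * (g * d) =
        g * (((t + 1) ^ 3 + 1) * (t + 1) ^ 3 * d) := by ring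
      _ = (t + 1) ^ 3 * (t * ((t + 2) ^ 2 * (t ^ 2 + t + 1))) := h1
      _ = _ := by ring
  have h3 : g * d = t * (t + 2) := Nat.eq_of_mul_eq_mul_left (by positivity) h2
  have h4 : d ≤ t * (t + 2) := by
    rw [← h3]
    exact Nat.le_mul_of_pos_left d hgpos
  rw [hU]
  calc d ≤ t * (t + 2) := h4
    _ < (t + 1) ^ 3 := by
      have : (t + 1) ^ 3 = t * (t + 2) + (t ^ 3 + 2 * t ^ 2 + t + 1) := by ring
      omega

/-- **Goal 7** from the two statements. -/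
theorem goalUni_of.{v} (hc : CentralStmt.{v}) (hu : UniEnd.{v}) : GoalUni.{v} := by
  intro G Ω _ _ _ _ _ U a b p k C R t ht ht1 ht2 htM
  have hcent := hc G Ω U a b p k C R t ht ht1 ht2
  obtain ⟨F, i1, i2, φ, D, ⟨e, he0, hk, hFe⟩, hJ⟩ := UniSet.exists_uset C R ht ht1 ht2 htM hcent
  obtain ⟨L, i3, i4, hL, ⟨f⟩⟩ := hu G Ω U a b t F φ D C.gen hJ
  have hq : 1 < Nat.card F := by rw [Nat.card_eq_fintype_card]; exact Fintype.one_lt_card
  have hlt := card_Dab_lt C.split C.ne hq D.card hL f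
  have hd := C.split.not_dvd_Dab C.gen C.ne C.prime C.p_ne_two C.cardU
  exact Or.inr (Or.inr (Or.inl ⟨Nat.card F, EndU.tu_of_iso C.split C.ne hL D.odd f C.prime
    C.p_ne_two (by omega) C.cardU hd hlt⟩))

end Cfsg.Agent.HKS
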