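import Mathlib
import Cfsg.Agent.HKS.UEndAct
import Cfsg.Agent.HKS.UEndReg
import Cfsg.Agent.HKS.UniGoalOf

/-!
# The unitary end
-/

set_option autoImplicit false

namespace Cfsg.Agent.HKS

open Subgroup MulAction Cfsg.Agent.HKS.UEnd

/-- **The unitary end.** -/
theorem uniEnd.{v} : UniEnd.{v} := by
  intro G Ω _ _ _ _ _ U a b t F _ _ φ D hgen hJ
  obtain ⟨s, -, n, hs, hn⟩ := FiniteField.card' F
  have hFn : Fintype.card F = Nat.card F := Nat.card_eq_fintype_card.symm
  have hs' : Fact s.Prime := ⟨hs⟩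
  have hLc : Nat.card (GaloisField s (2 * (n : ℕ))) = Nat.card F ^ 2 := by
    rw [GaloisField.card s (2 * (n : ℕ)) (by have := n.pos; omega), ← hFn, hn, ← pow_mul, mul_comm]
  have hLfin : Finite (GaloisField s (2 * (n : ℕ))) := Nat.finite_of_card_ne_zero (by
    rw [hLc]
    have := D.three_le
    positivity)
  have := Fintype.ofFinite (GaloisField s (2 * (n : ℕ)))
  rw [Nat.card_eq_fintype_card] at hLc
  exact ⟨_, inferInstance, inferInstance, hLc,
    D.psu hJ (fun c hc A hA => D.regular hc hA) (fun c c' hc hc' => D.trans hc hc') hgen hFn hLc⟩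

end Cfsg.Agent.HKS
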