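import Mathlib
import Cfsg.Prelude.Def_Blocks
import Cfsg.Agent.S0923
import Cfsg.Agent.Blocks.ReynoldsAux
import Cfsg.Agent.Blocks.SecondMain
import Cfsg.Agent.Blocks.ExistsModular
import Cfsg.Agent.Blocks.PrincipalKernel

/-!
# A consequence of Brauer's second main theorem

Let `s` be a `p`-element of `G`, `C = C_G(s)`, `R` a normal `p'`-subgroup of `C`, and let `Z` be a
normal subset of `G` with `Z ∩ C = R`. Then an irreducible character `χ` of `G` either satisfies
`χ(s v) = χ(s)` for all `v ∈ R`, or `∑_{v ∈ R} χ(s v) = 0`, and the alternative is decided by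
`∑_{z ∈ Z} χ(z) / χ(1)` modulo `p`.
-/

set_option autoImplicit false

open Cfsg
open scoped ComplexConjugate

namespace Cfsg.Agent.HKS.BlockDicho

open Cfsg.Agent.Blocks Cfsg.Agent.Blocks.SecondMain Cfsg.Agent.Blocks.GroupAlg
  Cfsg.Agent.Characters.Core

variable {G : Type*} [Group G]

theorem blockPart_eq_zero [Finite G] (p : ℕ) [Fact p.Prime] {M : Ideal AlgInt}
    (hM : IsPModular p M) {s : G} (hs : ∃ k : ℕ, orderOf s = p ^ k) (χ : IrrCharacter G)
    {C : Subgroup G} (hC : C = Subgroup.centralizer ({s} : Set G)) (ψ : IrrCharacter C)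
    (hn : ¬ IsInducedBlock M C (blockOf M (ψ : C → ℂ)) (blockOf M (χ : G → ℂ)))
    (y : C) (hy : ¬ p ∣ orderOf y) :
    blockPart (blockOf M (ψ : C → ℂ)) (fun c : C => (χ : G → ℂ) (s * c)) y = 0 := by
  subst hC
  have hMp : M.IsPrime := hM.2.1.isPrime
  have hb : IsPBlock M (blockOf M (ψ : (Subgroup.centralizer ({s} : Set G)) → ℂ)) := ⟨ψ, rfl⟩
  have hB : IsPBlock M (blockOf M (χ : G → ℂ)) := ⟨χ, rfl⟩
  exact S0923.result p M hM s hs _ hB χ (Basic.mem_blockOf_self χ) _ hb hn y hy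

theorem blockPart_eq_finsum [Finite G] (b : Set (IrrCharacter G)) [Fintype G] (θ : G → ℂ)
    (y : G) : blockPart b θ y = ∑ᶠ φ ∈ b, classInner θ (φ : G → ℂ) * (φ : G → ℂ) y := by
  unfold blockPart
  refine finsum_mem_congr rfl fun φ _ => ?_
  congr 1
  convert rfl

/-- Same block, as an equivalence relation. -/
def blockSetoid (G : Type*) [Group G] (M : Ideal AlgInt) (hM : M.IsPrime) :
    Setoid (IrrCharacter G) where
  r := fun ψ φ => SameBlock M (ψ : G → ℂ) (φ : G → ℂ)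
  iseqv :=
    { refl := fun ψ g => by
        rw [sub_self]
        exact Local.memLocalIdeal_zero
      symm := fun {ψ φ} h g => Local.memLocalIdeal_sub_comm (h g)
      trans := fun {ψ φ χ} h h' g => Local.memLocalIdeal_sub_trans (h g) (h' g) }

open Classical in
/-- The generalised decomposition of `χ(s y)` along the blocks inducing the block of `χ`. -/
theorem expansion [Finite G] (p : ℕ) [Fact p.Prime] {M : Ideal AlgInt} (hM : IsPModular p M)
    {s : G} (hs : ∃ k : ℕ, orderOf s = p ^ k) (χ : IrrCharacter G) {C : Subgroup G}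
    (hC : C = Subgroup.centralizer ({s} : Set G)) [Fintype C] [Fintype (IrrCharacter C)]
    (y : C) (hy : ¬ p ∣ orderOf y) :
    (χ : G → ℂ) (s * y) = ∑ ψ ∈ Finset.univ.filter (fun ψ : IrrCharacter C =>
        IsInducedBlock M C (blockOf M (ψ : C → ℂ)) (blockOf M (χ : G → ℂ))),
      classInner (fun c : C => (χ : G → ℂ) (s * c)) (ψ : C → ℂ) * (ψ : C → ℂ) y := by
  have hMp : M.IsPrime := hM.2.1.isPrime
  have hθcl : IsClassFunction C (fun c : C => (χ : G → ℂ) (s * c)) := by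
    intro c a
    have ha : (a : G) * s = s * a := Subgroup.mem_centralizer_singleton_iff.1 (hC.le a.2)
    have : s * ((a * c * a⁻¹ : C) : G) = (a : G) * (s * (c : G)) * (a : G)⁻¹ := by
      push_cast
      rw [← mul_assoc, ← mul_assoc, ← mul_assoc, ← ha]
    simp only [this]
    exact Basic.irr_conj χ.2 _ _
  have h1 := congrFun (classFunction_eq_sum hθcl) y
  rw [Finset.sum_apply] at h1
  simp only [Pi.smul_apply, smul_eq_mul] at h1
  rw [h1, ← Finset.sum_filter_add_sum_filter_not Finset.univ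
    (fun ψ : IrrCharacter C => IsInducedBlock M C (blockOf M (ψ : _ → ℂ))
          (blockOf M (χ : G → ℂ)))]
  rw [add_eq_left]
  refine Finset.sum_cancels_of_partition_cancels (blockSetoid C M hMp) fun ψ hψ => ?_
  have hψn := (Finset.mem_filter.1 hψ).2
  have h3 := blockPart_eq_zero p hM hs χ hC ψ hψn y hy
  rw [blockPart_eq_finsum, finsum_mem_eq_finite_toFinset_sum _ (Set.toFinite _)] at h3
  rw [← h3]
  refine Finset.sum_congr ?_ fun _ _ => rfl
  ext φ
  simp only [Finset.mem_filter, Finset.mem_univ, true_and, Set.Finite.mem_toFinset]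
  constructor
  · rintro ⟨-, h5⟩
    exact Basic.sameBlock_symm h5
  · intro h5
    refine ⟨?_, Basic.sameBlock_symm h5⟩
    rw [Basic.blockOf_eq_of_sameBlock (Basic.sameBlock_symm h5)]
    exact hψn

/-- The sum of the elements of a finite set. -/
noncomputable def setSum [Finite G] (Z : Set G) : MonoidAlgebra ℂ G :=
  ∑ z ∈ (Set.toFinite Z).toFinset, MonoidAlgebra.single z 1

omit [Group G] in
open Classical in
theorem coeff_setSum [Finite G] (Z : Set G) (g : G) :
    (setSum Z).coeff g = if g ∈ Z then 1 else 0 := by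
  rw [setSum, MonoidAlgebra.coeff_sum, Finsupp.finsetSum_apply]
  simp only [MonoidAlgebra.coeff_single, Finsupp.single_apply]
  rw [Finset.sum_ite_eq']
  simp

theorem setSum_mem_center [Finite G] {Z : Set G} (hZ : ∀ z ∈ Z, ∀ g, g * z * g⁻¹ ∈ Z) :
    setSum Z ∈ Subalgebra.center ℂ (MonoidAlgebra ℂ G) := by
  classical
  rw [mem_center_iff]
  intro z g
  simp only [coeff_setSum]
  have h1 : g * z * g⁻¹ ∈ Z ↔ z ∈ Z := by
    refine ⟨fun h => ?_, fun h => hZ z h g⟩
    have := hZ _ h g⁻¹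
    have h2 : g⁻¹ * (g * z * g⁻¹) * g⁻¹⁻¹ = z := by group
    rwa [h2] at this
  simp only [h1]

omit [Group G] in
theorem memR_setSum [Finite G] {p : ℕ} {M : Ideal AlgInt} (hM : IsPModular p M) (Z : Set G) :
    Cfsg.Agent.Blocks.Twist.MemR M (setSum Z) := by
  classical
  have hMp : M.IsPrime := hM.2.1.isPrime
  intro g
  rw [coeff_setSum]
  split_ifs
  · exact Local.memLocalRing_one
  · exact Local.memLocalRing_zero

/-- The status of `χ`. -/
def Status (M : Ideal AlgInt) [Finite G] (Z : Set G) (χ : G → ℂ) : Prop :=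
  ¬ MemLocalIdeal M (omega χ (setSum Z))

/-- A block `b` of `C` inducing the block of `χ` consists of characters with `R` in the kernel if
`χ` has status, and of characters without `R` in the kernel otherwise. -/
theorem sum_R [Finite G] {p : ℕ} {M : Ideal AlgInt} (hM : IsPModular p M)
    (χ : IrrCharacter G) {C : Subgroup G} (R : Subgroup G) [Fintype R] (hRC : R ≤ C)
    (hRn : ∀ c ∈ C, ∀ v ∈ R, c * v * c⁻¹ ∈ R) (hRp : ¬ p ∣ Nat.card R) (Z : Set G)
    (hZn : ∀ z ∈ Z, ∀ g, g * z * g⁻¹ ∈ Z) (hZC : ∀ z ∈ C, (z ∈ Z ↔ z ∈ R))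
    (ψ : IrrCharacter C)
    (hind : IsInducedBlock M C (blockOf M (ψ : C → ℂ)) (blockOf M (χ : G → ℂ))) :
    (Status M Z (χ : G → ℂ) → ∀ v (hv : v ∈ R), (ψ : C → ℂ) ⟨v, hRC hv⟩ = (ψ : C → ℂ) 1) ∧
    (¬ Status M Z (χ : G → ℂ) → ∑ v : R, (ψ : C → ℂ) ⟨v, hRC v.2⟩ = 0) := by
  classical
  have hMp : M.IsPrime := hM.2.1.isPrime
  have := Fintype.ofFinite C
  have hR' : (R.subgroupOf C).Normal := by
    refine ⟨fun x hx g => ?_⟩
    rw [Subgroup.mem_subgroupOf] at hx ⊢
    exact hRn g g.2 x hx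
  have := Fintype.ofFinite (R.subgroupOf C)
  have hψb : ψ ∈ blockOf M (ψ : C → ℂ) := Basic.mem_blockOf_self ψ
  have hχB : χ ∈ blockOf M (χ : G → ℂ) := Basic.mem_blockOf_self χ
  have h1 := omega_res_sub_omega hM hind hψb hχB (setSum_mem_center hZn) (memR_setSum hM Z)
  have h2 := Local.memLocalIdeal_iff_of_sub h1
  have e := Subgroup.subgroupOfEquivOfLe hRC
  have hcard : Nat.card (R.subgroupOf C) = Nat.card R := Nat.card_congr e.toEquiv
  have hsum : ∑ x : R.subgroupOf C, (ψ : C → ℂ) x = ∑ v : R, (ψ : C → ℂ) ⟨v, hRC v.2⟩ := by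
    refine Fintype.sum_equiv (Subgroup.subgroupOfEquivOfLe hRC).toEquiv _ _ fun x => ?_
    rfl
  have hψ1 : (ψ : C → ℂ) 1 ≠ 0 := Basic.irr_one_ne_zero ψ.2
  have h3 : omega (ψ : C → ℂ) (res C (setSum Z)) =
      (∑ v : R, (ψ : C → ℂ) ⟨v, hRC v.2⟩) / (ψ : C → ℂ) 1 := by
    rw [omega_def, lin_apply]
    congr 1
    rw [← hsum]
    symm
    refine Fintype.sum_of_injective (fun x : R.subgroupOf C => (x : C)) Subtype.val_injective
      (fun x : R.subgroupOf C => (ψ : C → ℂ) x) _ ?_ ?_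
    · intro k hk
      rw [coeff_res, coeff_setSum, if_neg, zero_mul]
      intro hkZ
      exact hk ⟨⟨k, Subgroup.mem_subgroupOf.2 ((hZC k k.2).1 hkZ)⟩, rfl⟩
    · intro x
      rw [coeff_res, coeff_setSum, if_pos, one_mul]
      exact (hZC _ (x : C).2).2 (Subgroup.mem_subgroupOf.1 x.2)
  rw [h3] at h2
  rcases ReynoldsAux.sum_normal_eq_zero_or ψ.2 (R.subgroupOf C) with h4 | h4
  · rw [hsum] at h4
    refine ⟨fun hst => ?_, fun _ => h4⟩
    exfalso
    apply hst
    rw [← h2, h4, zero_div]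
    exact Local.memLocalIdeal_zero
  · refine ⟨fun _ v hv => ?_, fun hst => ?_⟩
    · have h5 : ∑ x ∈ Finset.univ.filter (fun x : C => x ∈ R.subgroupOf C), (ψ : C → ℂ) x =
          ((Finset.univ.filter (fun x : C => x ∈ R.subgroupOf C)).card : ℂ) * (ψ : C → ℂ) 1 := by
        have h6 : ∑ x ∈ Finset.univ.filter (fun x : C => x ∈ R.subgroupOf C), (ψ : C → ℂ) x =
            ∑ x : R.subgroupOf C, (ψ : C → ℂ) x :=
          Finset.sum_subtype _ (by simp) _
        have h7 : (Finset.univ.filter (fun x : C => x ∈ R.subgroupOf C)).card =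
            Nat.card (R.subgroupOf C) := by
          rw [Nat.card_eq_fintype_card, Fintype.card_subtype]
        rw [h6, h7, h4]
      exact PrincipalKernel.apply_eq_of_sum_eq (isIrr_isCharacter ψ.2) h5
        (Finset.mem_filter.2 ⟨Finset.mem_univ _, Subgroup.mem_subgroupOf.2 hv⟩)
    · exfalso
      apply hst
      intro hc
      rw [← h2, ← hsum, h4, mul_div_assoc, div_self hψ1, mul_one, hcard,
        Local.memLocalIdeal_natCast_iff hM] at hc
      exact hRp hc

/-- **The dichotomy.** -/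
theorem dichotomy [Finite G] {p : ℕ} [Fact p.Prime] {M : Ideal AlgInt} (hM : IsPModular p M)
    {s : G} (hs : ∃ k : ℕ, orderOf s = p ^ k) (χ : IrrCharacter G) (R : Subgroup G) [Fintype R]
    (hRs : ∀ v ∈ R, v * s = s * v) (hRn : ∀ c, c * s = s * c → ∀ v ∈ R, c * v * c⁻¹ ∈ R)
    (hRp : ¬ p ∣ Nat.card R) (Z : Set G) (hZn : ∀ z ∈ Z, ∀ g, g * z * g⁻¹ ∈ Z)
    (hZC : ∀ z, z * s = s * z → (z ∈ Z ↔ z ∈ R)) :
    (Status M Z (χ : G → ℂ) → ∀ v ∈ R, (χ : G → ℂ) (s * v) = (χ : G → ℂ) s) ∧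
    (¬ Status M Z (χ : G → ℂ) → ∑ v : R, (χ : G → ℂ) (s * v) = 0) := by
  classical
  obtain ⟨C, hC⟩ : ∃ C : Subgroup G, C = Subgroup.centralizer ({s} : Set G) := ⟨_, rfl⟩
  have := Fintype.ofFinite C
  have := finite_irr (G := C)
  have := Fintype.ofFinite (IrrCharacter C)
  have hmem : ∀ c, c ∈ C ↔ c * s = s * c := by
    intro c
    rw [hC]
    exact Subgroup.mem_centralizer_singleton_iff
  have hRC : R ≤ C := fun v hv => (hmem v).2 (hRs v hv)
  have key : ∀ (v : G) (hv : v ∈ R), (χ : G → ℂ) (s * v) = ∑ ψ ∈ Finset.univ.filter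
      (fun ψ : IrrCharacter C =>
        IsInducedBlock M C (blockOf M (ψ : C → ℂ)) (blockOf M (χ : G → ℂ))),
      classInner (fun c : C => (χ : G → ℂ) (s * c)) (ψ : C → ℂ) *
        (ψ : C → ℂ) ⟨v, hRC hv⟩ := by
    intro v hv
    refine expansion p hM hs χ hC ⟨v, hRC hv⟩ ?_
    intro hp
    apply hRp
    refine hp.trans ?_
    rw [← Subgroup.orderOf_coe]
    change orderOf v ∣ _
    have : orderOf (⟨v, hv⟩ : R) = orderOf v := (Subgroup.orderOf_coe (⟨v, hv⟩ : R)).symm
    rw [← this]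
    exact orderOf_dvd_natCard _
  have hR : ∀ ψ : IrrCharacter C,
      IsInducedBlock M C (blockOf M (ψ : C → ℂ)) (blockOf M (χ : G → ℂ)) →
      (Status M Z (χ : G → ℂ) → ∀ v (hv : v ∈ R), (ψ : C → ℂ) ⟨v, hRC hv⟩ = (ψ : C → ℂ) 1) ∧
      (¬ Status M Z (χ : G → ℂ) → ∑ v : R, (ψ : C → ℂ) ⟨v, hRC v.2⟩ = 0) := fun ψ hψ =>
    sum_R hM χ R hRC (fun c hc => hRn c ((hmem c).1 hc)) hRp Z hZn
      (fun z hz => hZC z ((hmem z).1 hz)) ψ hψ
  constructor
  · intro hst v hv
    have h1 := key 1 R.one_mem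
    rw [mul_one] at h1
    rw [key v hv, h1]
    refine Finset.sum_congr rfl fun ψ hψ => ?_
    rw [(hR ψ (Finset.mem_filter.1 hψ).2).1 hst v hv,
      (hR ψ (Finset.mem_filter.1 hψ).2).1 hst 1 R.one_mem]
  · intro hst
    rw [Finset.sum_congr rfl fun (v : R) _ => key v v.2, Finset.sum_comm]
    refine Finset.sum_eq_zero fun ψ hψ => ?_
    rw [← Finset.mul_sum, (hR ψ (Finset.mem_filter.1 hψ).2).2 hst, mul_zero]

end Cfsg.Agent.HKS.BlockDicho
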