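import Mathlib
import Cfsg.Agent.HKS.BlockDicho
import Cfsg.Agent.HKS.Pair
import Cfsg.Agent.HKS.OddNum
import Cfsg.Agent.Blocks.PPart
import Cfsg.Agent.SuzukiRankOne.M1Mackey
import Cfsg.Agent.OddOrderLocal.NilpotentCores
import Cfsg.Agent.OddOrderCharacters.InnerLite

/-!
# Rank one groups, `|Q|` not a prime power: characters with `Q`-fixed vectors

`RankOne.const_of_not_primePow`: every irreducible character `χ` of `G` with nonzero `Q`-fixed
vectors is constant on `Q ∖ {1}`.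
-/

set_option autoImplicit false

open Cfsg
open scoped ComplexConjugate

namespace Cfsg.Agent.HKS

open Characters.Core OddOrderLocal.NilpotentCores SuzukiRankOne

namespace RankOne

variable {G : Type*} [Group G] {B Q D W : Subgroup G} {w : G}

theorem normal_Q (h : RankOne B Q D W w) : (Q.subgroupOf B).Normal := by
  refine ⟨fun x hx g => ?_⟩
  rw [Subgroup.mem_subgroupOf] at hx ⊢
  exact h.Qn g g.2 x hx

theorem frattini (h : RankOne B Q D W w) : M1Mackey.Frattini B Q := by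
  intro x hx y hy
  obtain ⟨u, hu, b, hb, rfl⟩ := h.bruhat x hx
  obtain ⟨q, hq, d, hd, rfl⟩ := h.Bmul y hy
  refine ⟨u * d * u⁻¹, B.mul_mem (B.mul_mem (h.QB hu) (h.DB hd)) (B.inv_mem (h.QB hu)), ?_, ?_⟩
  · have h1 : (u * w * b)⁻¹ * (u * d * u⁻¹) * (u * w * b) = b⁻¹ * (w⁻¹ * d * w) * b := by group
    rw [h1]
    exact B.mul_mem (B.mul_mem (B.inv_mem hb) (h.DB (h.winv_conj hd))) hb
  · have h1 : (u * d * u⁻¹)⁻¹ * (q * d) = u * (d⁻¹ * (u⁻¹ * q) * d) := by group
    rw [h1]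
    exact Q.mul_mem hu (h.Qn' (h.DB hd) (Q.mul_mem (Q.inv_mem hu) hq))

theorem card_dsub_le (h : RankOne B Q D W w) [Finite G] {x : G} (hx : x ∉ B) :
    Nat.card (OddOrderCharacters.Clifford.dsub B x) ≤ Nat.card D := by
  obtain ⟨u, hu, b, hb, rfl⟩ := h.bruhat x hx
  have key : ∀ t : OddOrderCharacters.Clifford.dsub B (u * w * b),
      u⁻¹ * ((t : B) : G) * u ∈ D := by
    intro t
    have h1 := (OddOrderCharacters.Clifford.mem_dsub B _ (t : B)).1 t.2
    refine h.conjD _ (B.mul_mem (B.mul_mem (B.inv_mem (h.QB hu)) (t : B).2) (h.QB hu)) ?_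
    have h2 : w⁻¹ * (u⁻¹ * ((t : B) : G) * u) * w =
        b * ((u * w * b)⁻¹ * ((t : B) : G) * (u * w * b)) * b⁻¹ := by group
    rw [h2]
    exact B.mul_mem (B.mul_mem hb h1) (B.inv_mem hb)
  refine Nat.card_le_card_of_injective (fun t => (⟨_, key t⟩ : D)) fun s t hst => ?_
  have h1 : u⁻¹ * ((s : B) : G) * u = u⁻¹ * ((t : B) : G) * u := congrArg Subtype.val hst
  exact Subtype.ext (Subtype.ext (mul_left_cancel (mul_right_cancel h1)))

theorem not_mem_conj (h : RankOne B Q D W w) {v x : G} (hv : v ∈ Q) (hv1 : v ≠ 1) (hx : x ∉ B) :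
    x⁻¹ * v * x ∉ B := by
  obtain ⟨u, hu, b, hb, rfl⟩ := h.bruhat x hx
  intro hc
  have h1 : u⁻¹ * v * u ∈ Q := Q.mul_mem (Q.mul_mem (Q.inv_mem hu) hv) hu
  apply h.not_mem_of_Q h1
  · intro h2
    apply hv1
    calc v = u * (u⁻¹ * v * u) * u⁻¹ := by group
      _ = 1 := by rw [h2]; group
  · have h2 : w⁻¹ * (u⁻¹ * v * u) * w = b * ((u * w * b)⁻¹ * v * (u * w * b)) * b⁻¹ := by group
    rw [h2]
    exact B.mul_mem (B.mul_mem hb hc) (B.inv_mem hb)

/-- An irreducible character with `Q`-fixed vectors is, or is one of two constituents of, a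
character that is constant on `Q ∖ {1}` (with nonzero value). -/
theorem exists_compl (h : RankOne B Q D W w) [Fintype G] [Fintype Q] {χ : G → ℂ}
    (hχ : IsIrrCharacter G χ) (hs : ∑ u : Q, χ u ≠ 0) :
    ∃ c : ℂ, c ≠ 0 ∧ ((∀ u ∈ Q, u ≠ 1 → χ u = c) ∨
      ∃ χ' : G → ℂ, IsIrrCharacter G χ' ∧ ∀ u ∈ Q, u ≠ 1 → χ u + χ' u = c) := by
  classical
  have := Fintype.ofFinite B
  have := h.normal_Q
  have := Fintype.ofFinite (Q.subgroupOf B)
  have hsum : ∑ z : Q.subgroupOf B, χ ((z : B) : G) ≠ 0 := by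
    have h1 : ∑ z : Q.subgroupOf B, χ ((z : B) : G) = ∑ u : Q, χ u :=
      Fintype.sum_equiv (Subgroup.subgroupOfEquivOfLe h.QB).toEquiv _ _ fun x => rfl
    rwa [h1]
  obtain ⟨μ, hμ⟩ := M1Mackey.exists_constituent B Q hχ hsum
  set Λ : G → ℂ := indFun B ((μ : B ⧸ Q.subgroupOf B → ℂ) ∘ QuotientGroup.mk' (Q.subgroupOf B))
    with hΛ
  have hΛc : IsCharacter G Λ := S0148.result B _
    (isIrr_isCharacter (isIrr_comp _ (QuotientGroup.mk'_surjective _) μ.2))
  have hΛQ : ∀ u ∈ Q, u ≠ 1 → Λ u = (μ : B ⧸ Q.subgroupOf B → ℂ) 1 := by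
    intro u hu hu1
    exact M1Mackey.indFun_eq B Q h.QB _ u hu fun x hx => h.not_mem_conj hu hu1 hx
  have hμ1 : (μ : B ⧸ Q.subgroupOf B → ℂ) 1 ≠ 0 := isIrr_apply_one_ne_zero μ.2
  have hnorm := M1Mackey.norm_le_two B Q h.frattini (Nat.card D)
    (fun x hx => h.card_dsub_le hx) (by
      rw [h.card_eq, sq, h.card_B]
      apply le_of_eq
      ring) (μ : B ⧸ Q.subgroupOf B → ℂ) μ.2
  rw [← hΛ] at hnorm
  obtain ⟨k, hk⟩ := classInner_isNat hΛc hΛc
  rw [hk, Complex.natCast_re] at hnorm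
  have hk2 : k ≤ 2 := by exact_mod_cast hnorm
  refine ⟨(μ : B ⧸ Q.subgroupOf B → ℂ) 1, hμ1, ?_⟩
  interval_cases k
  · exfalso
    apply hμ
    have h1 : Λ = 0 := OddOrderCharacters.InnerLite.eq_zero_of_ci_self (by rw [hk]; simp)
    rw [h1]
    exact classInner_zero_left _
  · left
    have h1 : IsIrrCharacter G Λ := isIrr_of_classInner_self hΛc (by rw [hk]; simp)
    have h2 : Λ = χ := by
      by_contra hne
      exact hμ (classInner_irr_ne h1 hχ hne)
    intro u hu hu1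
    rw [← h2]
    exact hΛQ u hu hu1
  · right
    obtain ⟨α, β, hα, hβ, hαβ, hsum'⟩ := exists_add_of_norm_two hΛc (by rw [hk]; simp)
    rw [hsum', classInner_add_left] at hμ
    by_cases h1 : α = χ
    · subst h1
      refine ⟨β, hβ, fun u hu hu1 => ?_⟩
      rw [← hΛQ u hu hu1, hsum']
      rfl
    · by_cases h2 : β = χ
      · subst h2
        refine ⟨α, hα, fun u hu hu1 => ?_⟩
        rw [← hΛQ u hu hu1, hsum', add_comm]
        rfl
      · exfalso
        apply hμ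
        rw [classInner_irr_ne hα hχ h1, classInner_irr_ne hβ hχ h2, add_zero]

theorem mem_oppOf [Finite G] (hQ : Group.IsNilpotent Q) {p : ℕ} [hp : Fact p.Prime] {x : G}
    (hx : x ∈ Q) (hxp : ¬ p ∣ orderOf x) : x ∈ oppOf p Q := by
  have h1 : Subgroup.zpowers x ≤ oppOf p Q := by
    refine le_oppOf hQ (by rwa [Subgroup.zpowers_le]) ?_
    rw [Nat.card_zpowers]
    exact ((Nat.Prime.coprime_iff_not_dvd hp.out).2 hxp).symm
  exact h1 (Subgroup.mem_zpowers x)

theorem not_dvd_of_mem_oppOf [Finite G] {p : ℕ} [hp : Fact p.Prime] {x : G}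
    (hx : x ∈ oppOf p Q) : ¬ p ∣ orderOf x := by
  intro hc
  have h1 := hc.trans ((oppOf p Q).orderOf_dvd_natCard hx)
  have h2 := coprime_oppOf (H := Q) p
  have h3 := Nat.dvd_gcd h1 (dvd_refl p)
  rw [Nat.coprime_iff_gcd_eq_one.1 h2] at h3
  exact hp.out.one_lt.ne' (Nat.dvd_one.1 h3)

/-- `χ(s v) = χ(s)` for a `p`-element `s ≠ 1` and a `p'`-element `v` of `Q`. -/
theorem apply_mul (h : RankOne B Q D W w) [Fintype G] [Fintype Q] (hQ : Group.IsNilpotent Q)
    {χ : G → ℂ} (hχ : IsIrrCharacter G χ) (hsum : ∑ u : Q, χ u ≠ 0) {p : ℕ} [hp : Fact p.Prime]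
    {s : G} (hsQ : s ∈ Q) (hs1 : s ≠ 1) (hs : ∃ k : ℕ, orderOf s = p ^ k) {v : G} (hvQ : v ∈ Q)
    (hv : ¬ p ∣ orderOf v) : χ (s * v) = χ s := by
  classical
  obtain ⟨M, hM⟩ := Blocks.ExistsModular.exists_isPModular hp.out
  have := Fintype.ofFinite (oppOf p Q)
  have hcopr : ∀ v ∈ oppOf p Q, (orderOf v).Coprime (orderOf s) := by
    intro v hv
    obtain ⟨k, hk⟩ := hs
    rw [hk]
    exact Nat.Coprime.pow_right k
      ((Nat.Prime.coprime_iff_not_dvd hp.out).2 (not_dvd_of_mem_oppOf hv)).symm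
  have hRs : ∀ v ∈ oppOf p Q, v * s = s * v := fun v hv =>
    (OddOrderLocal.FittingHall.commute_of_mem_of_coprime_orderOf hQ (oppOf_le hv) hsQ
      (hcopr v hv)).eq
  have hRB : ∀ c ∈ B, ∀ v ∈ oppOf p Q, c * v * c⁻¹ ∈ oppOf p Q := by
    intro c hc v hv
    refine mem_oppOf hQ (h.Qn c hc v (oppOf_le hv)) ?_
    have : orderOf (c * v * c⁻¹) = orderOf v := by
      have := orderOf_injective (MulAut.conj c).toMonoidHom (MulAut.conj c).injective v
      simpa using this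
    rw [this]
    exact not_dvd_of_mem_oppOf hv
  have hsB : ∀ c, c * s = s * c → c ∈ B := fun c hc => h.mem_B_of_commute hsQ hs1 hc
  set Z : Set G := {g | ∃ x : G, x⁻¹ * g * x ∈ oppOf p Q} with hZ
  have hZn : ∀ z ∈ Z, ∀ g, g * z * g⁻¹ ∈ Z := by
    rintro z ⟨x, hx⟩ g
    refine ⟨g * x, ?_⟩
    have : (g * x)⁻¹ * (g * z * g⁻¹) * (g * x) = x⁻¹ * z * x := by group
    rw [this]
    exact hx
  have hZC : ∀ z, z * s = s * z → (z ∈ Z ↔ z ∈ oppOf p Q) := by
    intro z hz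
    constructor
    · rintro ⟨x, hx⟩
      by_cases hxB : x ∈ B
      · have h1 := hRB x hxB _ hx
        have h2 : x * (x⁻¹ * z * x) * x⁻¹ = z := by group
        rwa [h2] at h1
      · by_cases h1 : x⁻¹ * z * x = 1
        · have h2 : z = 1 := by
            calc z = x * (x⁻¹ * z * x) * x⁻¹ := by group
              _ = 1 := by rw [h1]; group
          rw [h2]
          exact Subgroup.one_mem _
        · exfalso
          have h2 := h.not_mem_conj (x := x⁻¹) (oppOf_le hx) h1 (fun hc => hxB (by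
            simpa using B.inv_mem hc))
          apply h2
          have h3 : x⁻¹⁻¹ * (x⁻¹ * z * x) * x⁻¹ = z := by group
          rw [h3]
          exact hsB z hz
    · intro hz'
      exact ⟨1, by simpa using hz'⟩
  have hdich : ∀ ψ : G → ℂ, IsIrrCharacter G ψ →
      (BlockDicho.Status M Z ψ → ∀ v ∈ oppOf p Q, ψ (s * v) = ψ s) ∧
      (¬ BlockDicho.Status M Z ψ → ∑ v : oppOf p Q, ψ (s * v) = 0) := fun ψ hψ =>
    BlockDicho.dichotomy hM hs ⟨ψ, hψ⟩ (oppOf p Q) hRs (fun c hc => hRB c (hsB c hc))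
      (by
        intro hc
        have h2 := coprime_oppOf (H := Q) p
        have h3 := Nat.dvd_gcd hc (dvd_refl p)
        rw [Nat.coprime_iff_gcd_eq_one.1 h2] at h3
        exact hp.out.one_lt.ne' (Nat.dvd_one.1 h3)) Z hZn hZC
  have hvR := mem_oppOf hQ hvQ hv
  have hsv : ∀ v ∈ oppOf p Q, s * v ∈ Q ∧ s * v ≠ 1 := by
    intro v hv
    refine ⟨Q.mul_mem hsQ (oppOf_le hv), fun hc => hs1 ?_⟩
    have h1 : v = s⁻¹ := (inv_eq_of_mul_eq_one_right hc).symm
    have h2 := hcopr v hv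
    rw [h1, orderOf_inv, Nat.coprime_self] at h2
    exact orderOf_eq_one_iff.1 h2
  obtain ⟨c, hc0, hc⟩ := h.exists_compl hχ hsum
  rcases hc with hc | ⟨χ', hχ', hc⟩
  · rw [hc _ (hsv v hvR).1 (hsv v hvR).2, hc s hsQ hs1]
  · by_cases hst : BlockDicho.Status M Z χ
    · exact (hdich χ hχ).1 hst v hvR
    · by_cases hst' : BlockDicho.Status M Z χ'
      · have h1 := (hdich χ' hχ').1 hst' v hvR
        have h2 := hc _ (hsv v hvR).1 (hsv v hvR).2
        have h3 := hc s hsQ hs1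
        rw [h1] at h2
        linear_combination h2 - h3
      · exfalso
        have h1 := (hdich χ hχ).2 hst
        have h2 := (hdich χ' hχ').2 hst'
        have h3 : ∑ v : oppOf p Q, (χ (s * v) + χ' (s * v)) = (Nat.card (oppOf p Q) : ℂ) * c := by
          rw [Finset.sum_congr rfl fun (v : oppOf p Q) _ => hc _ (hsv v v.2).1 (hsv v v.2).2,
            Finset.sum_const, Finset.card_univ, nsmul_eq_mul, Nat.card_eq_fintype_card]
        rw [Finset.sum_add_distrib, h1, h2, add_zero] at h3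
        exact mul_ne_zero card_ne_zero_complex hc0 h3.symm

/-- **Corollary 1.** If `|Q|` is not a prime power, an irreducible character of `G` with nonzero
`Q`-fixed vectors is constant on `Q ∖ {1}`. -/
theorem const_of_not_primePow (h : RankOne B Q D W w) [Finite G] [Fintype Q]
    (hQ : Group.IsNilpotent Q) (hN : ¬ IsPrimePow (Nat.card Q)) {χ : G → ℂ}
    (hχ : IsIrrCharacter G χ) (hsum : ∑ u : Q, χ u ≠ 0) :
    ∀ u ∈ Q, u ≠ 1 → ∀ v ∈ Q, v ≠ 1 → χ u = χ v := by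
  classical
  have := Fintype.ofFinite G
  have hcomm : ∀ x y : G, χ (x * y) = χ (y * x) := Blocks.Basic.irr_mul_comm hχ
  -- reduction to elements of prime power order
  have hred : ∀ u ∈ Q, u ≠ 1 → ∃ p : ℕ, p.Prime ∧ ∃ s ∈ Q, s ≠ 1 ∧
      (∃ k : ℕ, orderOf s = p ^ k) ∧ χ u = χ s := by
    intro u hu hu1
    obtain ⟨p, hp, hpu⟩ := Nat.exists_prime_and_dvd (fun hc => hu1 (orderOf_eq_one_iff.1 hc))
    have := Fact.mk hp
    obtain ⟨s, hs⟩ := Blocks.SecondMain.exists_isPPart hp u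
    obtain ⟨n, hn⟩ := Blocks.PPart.exists_pow_eq (G := G) p
    have hsQ : s ∈ Q := by
      rw [← hn u s hs]
      exact Q.pow_mem hu n
    obtain ⟨v, hsv, -, hsk, hv⟩ := hs
    have hvQ : v ∈ Q := by
      have h1 : v = s⁻¹ * u := by rw [← hsv]; group
      rw [h1]
      exact Q.mul_mem (Q.inv_mem hsQ) hu
    have hs1 : s ≠ 1 := by
      rintro rfl
      rw [one_mul] at hsv
      rw [hsv] at hv
      exact hv hpu
    refine ⟨p, hp, s, hsQ, hs1, hsk, ?_⟩
    rw [← hsv]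
    exact h.apply_mul hQ hχ hsum hsQ hs1 hsk hvQ hv
  -- elements of coprime prime power order
  have hpq : ∀ p q : ℕ, p.Prime → q.Prime → p ≠ q → ∀ s ∈ Q, s ≠ 1 → (∃ k : ℕ, orderOf s = p ^ k) →
      ∀ r ∈ Q, r ≠ 1 → (∃ k : ℕ, orderOf r = q ^ k) → χ s = χ r := by
    intro p q hp hq hne s hs hs1 hsk r hr hr1 hrk
    have := Fact.mk hp
    have := Fact.mk hq
    have hps : ¬ p ∣ orderOf r := by
      obtain ⟨k, hk⟩ := hrk
      rw [hk]
      intro hc
      exact hne ((Nat.prime_dvd_prime_iff_eq hp hq).1 (hp.dvd_of_dvd_pow hc))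
    have hqs : ¬ q ∣ orderOf s := by
      obtain ⟨k, hk⟩ := hsk
      rw [hk]
      intro hc
      exact hne ((Nat.prime_dvd_prime_iff_eq hq hp).1 (hq.dvd_of_dvd_pow hc)).symm
    rw [← h.apply_mul hQ hχ hsum hs hs1 hsk hr hps, ← h.apply_mul hQ hχ hsum hr hr1 hrk hs hqs,
      hcomm]
  -- for each prime there is an element of another prime order
  have hex : ∀ p : ℕ, p.Prime → Nat.card Q ≠ 1 → ∃ q : ℕ, q.Prime ∧ q ≠ p ∧ ∃ r ∈ Q, r ≠ 1 ∧
      ∃ k : ℕ, orderOf r = q ^ k := by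
    intro p hp hQ1
    have h1 : ∃ q : ℕ, q.Prime ∧ q ∣ Nat.card Q ∧ q ≠ p := by
      by_contra hc
      push Not at hc
      have h2 := Nat.eq_prime_pow_of_unique_prime_dvd (Nat.card_pos (α := Q)).ne'
        (fun {d} hd hdQ => hc d hd hdQ)
      apply hN
      rw [h2]
      refine hp.isPrimePow.pow ?_
      intro hc
      rw [hc, pow_zero] at h2
      exact hQ1 h2
    obtain ⟨q, hq, hqQ, hqp⟩ := h1
    have := Fact.mk hq
    obtain ⟨r, hr⟩ := exists_prime_orderOf_dvd_card' q hqQ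
    refine ⟨q, hq, hqp, r, r.2, ?_, 1, ?_⟩
    · intro hc
      have : r = 1 := Subtype.ext hc
      rw [this, orderOf_one] at hr
      exact hq.one_lt.ne hr
    · rw [Subgroup.orderOf_coe, hr, pow_one]
  intro u hu hu1 v hv hv1
  have hQ1 : Nat.card Q ≠ 1 := by
    intro hc
    rw [Subgroup.card_eq_one] at hc
    rw [hc, Subgroup.mem_bot] at hu
    exact hu1 hu
  obtain ⟨p, hp, s, hs, hs1, hsk, hus⟩ := hred u hu hu1
  obtain ⟨q, hq, r, hr, hr1, hrk, hvr⟩ := hred v hv hv1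
  rw [hus, hvr]
  by_cases hne : p = q
  · subst hne
    obtain ⟨q, hq, hqp, t, ht, ht1, htk⟩ := hex p hp hQ1
    rw [hpq p q hp hq hqp.symm s hs hs1 hsk t ht ht1 htk,
      hpq p q hp hq hqp.symm r hr hr1 hrk t ht ht1 htk]
  · exact hpq p q hp hq hne s hs hs1 hsk r hr hr1 hrk

end RankOne

end Cfsg.Agent.HKS
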