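import Mathlib
import Cfsg.Agent.HKS.ModPMain

/-!
# `|D| · cnt g ≡ -1 (mod p)` for every `g ∈ W ∖ D` and every prime `p`, also `p = 2`

As in `ModPMain`, pairing the irreducible characters `χ` and `χ · sgn` of `W`.
-/

set_option autoImplicit false
set_option linter.unusedSectionVars false

open Cfsg ComplexConjugate

namespace Cfsg.Agent.HKS.ModPTwo

open ModPOp ModPNum ModPMu ModPDich ModPMain

theorem sum_pairs {X : Type*} [Fintype X] (i : X → X) (hi : ∀ x, i (i x) = x) (f : X → ℂ)
    (hf : ∀ x, f (i x) = f x) (hfix : ∀ x, i x = x → f x = 0) :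
    ∃ s : Finset X, ∑ x, f x = 2 * ∑ x ∈ s, f x := by
  classical
  let e := Fintype.equivFin X
  refine ⟨Finset.univ.filter fun x => e x < e (i x), ?_⟩
  rw [← Finset.sum_filter_add_sum_filter_not Finset.univ (fun x => e x < e (i x)), two_mul]
  congr 1
  have h1 : ∑ x ∈ Finset.univ.filter (fun x => ¬ e x < e (i x)), f x =
      ∑ x ∈ Finset.univ.filter (fun x => e (i x) < e x), f x := by
    symm
    refine Finset.sum_subset ?_ ?_
    · intro x hx
      simp only [Finset.mem_filter, Finset.mem_univ, true_and, not_lt] at hx ⊢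
      exact hx.le
    · intro x hx hx'
      simp only [Finset.mem_filter, Finset.mem_univ, true_and, not_lt] at hx hx'
      exact hfix x (e.injective (le_antisymm hx hx'))
  rw [h1]
  refine Finset.sum_bij (fun x _ => i x) ?_ ?_ ?_ ?_
  · intro x hx
    simp only [Finset.mem_filter, Finset.mem_univ, true_and, hi] at hx ⊢
    exact hx
  · intro x _ y _ hxy
    rw [← hi x, hxy, hi]
  · intro x hx
    refine ⟨i x, ?_, hi x⟩
    simp only [Finset.mem_filter, Finset.mem_univ, true_and, hi] at hx ⊢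
    exact hx
  · intro x _
    exact (hf x).symm

variable {G : Type*} [Group G] {B Q D W : Subgroup G} {w : G}

theorem sg_mul_self (h : RankOne B Q D W w) (g : W) : sg h g * sg h g = 1 := by
  by_cases hg : (g : G) ∈ D
  · rw [sg, sgn_of_mem h hg]; simp
  · rw [sg_of_notMem h hg]; norm_num

theorem conj_sg (h : RankOne B Q D W w) (g : W) : conj (sg h g) = sg h g := by
  by_cases hg : (g : G) ∈ D
  · rw [sg, sgn_of_mem h hg]; simp
  · rw [sg_of_notMem h hg]; simp

theorem isIrr_mul_sg (h : RankOne B Q D W w) [Finite G] {χ : W → ℂ} (hχ : IsIrrCharacter W χ) :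
    IsIrrCharacter W (χ * sg h) := by
  classical
  have := Fintype.ofFinite W
  have h1 : IsCharacter W (χ * sg h) := Characters.Core.isCharacter_mul
    (Characters.Core.isIrr_isCharacter hχ) (Characters.Core.isIrr_isCharacter (isIrr_sg h))
  rw [Characters.Core.isIrr_iff_classInner_self h1, ← Characters.Core.classInner_irr_self hχ,
    Characters.Core.classInner_def, Characters.Core.classInner_def]
  congr 1
  refine Finset.sum_congr rfl fun g _ => ?_
  rw [Pi.mul_apply, map_mul, conj_sg]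
  linear_combination (χ g * conj (χ g)) * sg_mul_self h g

/-- Abstract mod `p` orthogonality, strong form. -/
theorem orth (h : RankOne B Q D W w) [Finite G] [Fintype W] {p : ℕ} (F : W → ℂ)
    (hF : IsClassFunction W F)
    (hF0 : ∀ g : W, (g : G) ∈ D → F g = 0) (s : ℂ) (hs : ∑ g, F g = s)
    (hPI : ∀ χ : W → ℂ, IsIrrCharacter W χ → χ ≠ 1 → χ ≠ sg h → PI p (∑ g, F g * conj (χ g)))
    (g : W) (hg : (g : G) ∉ D) : PI p (Nat.card D * F g - s) := by
  classical
  have := Characters.Core.finite_irr (G := W)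
  have := Fintype.ofFinite (IrrCharacter W)
  have hW0 : (Nat.card W : ℂ) ≠ 0 := by exact_mod_cast Nat.card_pos.ne'
  have h1 := congrFun (Characters.Core.classFunction_eq_sum hF) g
  rw [Finset.sum_apply] at h1
  have h2 : Nat.card W * F g =
      ∑ χ : IrrCharacter W, (∑ x, F x * conj ((χ : W → ℂ) x)) * (χ : W → ℂ) g := by
    rw [h1, Finset.mul_sum]
    refine Finset.sum_congr rfl fun χ _ => ?_
    rw [Pi.smul_apply, smul_eq_mul, Characters.Core.classInner_def]
    field_simp
  let χ₁ : IrrCharacter W := ⟨1, Characters.Core.isIrr_one⟩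
  let χ₂ : IrrCharacter W := ⟨sg h, isIrr_sg h⟩
  have h12 : χ₂ ≠ χ₁ := fun hc => sg_ne_one h (congrArg Subtype.val hc)
  have h3 : Nat.card W * F g - 2 * s = ∑ χ ∈ (Finset.univ.erase χ₁).erase χ₂,
      (∑ x, F x * conj ((χ : W → ℂ) x)) * (χ : W → ℂ) g := by
    rw [h2, ← Finset.add_sum_erase _ _ (Finset.mem_univ χ₁),
      ← Finset.add_sum_erase (Finset.univ.erase χ₁) _ (Finset.mem_erase.2 ⟨h12, Finset.mem_univ χ₂⟩)]
    have h4 : (∑ x, F x * conj ((χ₁ : W → ℂ) x)) * (χ₁ : W → ℂ) g = s := by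
      rw [← hs]
      simp [χ₁]
    have h5 : (∑ x, F x * conj ((χ₂ : W → ℂ) x)) * (χ₂ : W → ℂ) g = s := by
      have h6 : ∀ x ∈ (Finset.univ : Finset W), F x * conj ((χ₂ : W → ℂ) x) = -F x := by
        intro x _
        by_cases hx : (x : G) ∈ D
        · rw [hF0 x hx]; simp
        · change F x * conj (sg h x) = -F x
          rw [sg_of_notMem h hx]; simp
      rw [Finset.sum_congr rfl h6, Finset.sum_neg_distrib]
      change (-∑ x, F x) * sg h g = s
      rw [sg_of_notMem h hg, ← hs]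
      ring
    rw [h4, h5]
    ring
  -- the pairing
  let i : IrrCharacter W → IrrCharacter W := fun χ => ⟨(χ : W → ℂ) * sg h, isIrr_mul_sg h χ.2⟩
  let f : IrrCharacter W → ℂ := fun χ => if χ = χ₁ ∨ χ = χ₂ then 0 else
    (∑ x, F x * conj ((χ : W → ℂ) x)) * (χ : W → ℂ) g
  have hii : ∀ χ, i (i χ) = χ := by
    intro χ
    apply Subtype.ext
    funext x
    change (χ : W → ℂ) x * sg h x * sg h x = (χ : W → ℂ) x
    rw [mul_assoc, sg_mul_self, mul_one]
  have hi1 : i χ₁ = χ₂ := Subtype.ext (one_mul _)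
  have hi2 : i χ₂ = χ₁ := by rw [← hi1, hii]
  have hcase : ∀ χ, (i χ = χ₁ ∨ i χ = χ₂) ↔ (χ = χ₁ ∨ χ = χ₂) := by
    intro χ
    constructor
    · rintro (hc | hc)
      · right; rw [← hii χ, hc, hi1]
      · left; rw [← hii χ, hc, hi2]
    · rintro (hc | hc)
      · right; rw [hc, hi1]
      · left; rw [hc, hi2]
  have hsum : ∑ χ, f χ = ∑ χ ∈ (Finset.univ.erase χ₁).erase χ₂,
      (∑ x, F x * conj ((χ : W → ℂ) x)) * (χ : W → ℂ) g := by
    symm
    rw [← Finset.sum_subset (Finset.subset_univ ((Finset.univ.erase χ₁).erase χ₂))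
      (f := f) ?_]
    · refine Finset.sum_congr rfl fun χ hχ => ?_
      have hχ₂ : χ ≠ χ₂ := (Finset.mem_erase.1 hχ).1
      have hχ₁ : χ ≠ χ₁ := (Finset.mem_erase.1 (Finset.mem_erase.1 hχ).2).1
      simp only [f]
      rw [if_neg (by rintro (hc | hc); exacts [hχ₁ hc, hχ₂ hc])]
    · intro χ _ hχ
      simp only [Finset.mem_erase, Finset.mem_univ, and_true, not_and, not_not] at hχ
      simp only [f]
      rw [if_pos]
      by_cases hc : χ = χ₂
      · exact Or.inr hc
      · exact Or.inl (hχ hc)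
  have hFi : ∀ χ : IrrCharacter W, ∑ x, F x * conj ((i χ : W → ℂ) x) =
      -∑ x, F x * conj ((χ : W → ℂ) x) := by
    intro χ
    rw [← Finset.sum_neg_distrib]
    refine Finset.sum_congr rfl fun x _ => ?_
    by_cases hx : (x : G) ∈ D
    · rw [hF0 x hx]; simp
    · change F x * conj ((χ : W → ℂ) x * sg h x) = _
      rw [map_mul, conj_sg, sg_of_notMem h hx]
      ring
  have hgi : ∀ χ : IrrCharacter W, (i χ : W → ℂ) g = -(χ : W → ℂ) g := by
    intro χ
    change (χ : W → ℂ) g * sg h g = _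
    rw [sg_of_notMem h hg]
    ring
  obtain ⟨S, hS⟩ := sum_pairs i hii f (by
    intro χ
    by_cases hc : χ = χ₁ ∨ χ = χ₂
    · simp only [f]
      rw [if_pos hc, if_pos ((hcase χ).2 hc)]
    · simp only [f]
      rw [if_neg hc, if_neg (fun h' => hc ((hcase χ).1 h')), hFi, hgi]
      ring) (by
    intro χ hχ
    by_cases hc : χ = χ₁ ∨ χ = χ₂
    · simp only [f]
      rw [if_pos hc]
    · simp only [f]
      rw [if_neg hc]
      have h6 := hgi χ
      rw [hχ] at h6
      rw [self_eq_neg.1 h6, mul_zero])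
  have h7 : Nat.card D * F g - s = ∑ χ ∈ S, f χ := by
    have h8 : (Nat.card W : ℂ) = 2 * Nat.card D := by
      rw [card_W h]; push_cast; ring
    rw [← hsum, hS, h8] at h3
    linear_combination h3 / 2
  rw [h7]
  refine PI.sum fun χ _ => ?_
  simp only [f]
  split_ifs with hc
  · exact PI.zero
  · push Not at hc
    refine (hPI χ χ.2 (fun h' => hc.1 (Subtype.ext h')) (fun h' => hc.2 (Subtype.ext h'))).mul_right ?_
    obtain ⟨n, ρ, hρ, he⟩ := χ.2
    rw [← he]
    exact Characters.AverageRoots.isIntegral_character ρ g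

section final

variable (h : RankOne B Q D W w) [Finite G] [Fintype Q] [DecidableEq Q] [DecidableEq W]
  (hgen : Subgroup.closure (Set.range fun u => (mu h u : G)) = W)
  {p k : ℕ} (hp : p.Prime) (hk : 0 < k) (hN : Nat.card Q = p ^ k)

include hgen hp hk hN

/-- **Main congruence**: `|D| · cnt g ≡ -1 (mod p)`, any prime `p`. -/
theorem cnt_mod (g : W) (hg : (g : G) ∉ D) : p ∣ Nat.card D * cnt h g + 1 := by
  classical
  have := Fintype.ofFinite W
  have hconj : ∀ χ : W → ℂ, IsIrrCharacter W χ →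
      ∑ x, (cnt h x : ℂ) * conj (χ x) = ∑ u, χ (mu h u) := by
    intro χ hχ
    have h1 : ∑ x, (cnt h x : ℂ) * conj (χ x) = ∑ u, χ ((mu h u)⁻¹) := by
      have h2 := sum_mu h (fun x => χ x⁻¹)
      rw [h2]
      refine Finset.sum_congr rfl fun x _ => ?_
      rw [nsmul_eq_mul, Characters.Core.isCharacter_apply_inv (Characters.Core.isIrr_isCharacter hχ)]
    rw [h1]
    refine Fintype.sum_equiv (invQ (Q := Q)) _ _ fun u => ?_
    rw [mu_inv]
  have hF : IsClassFunction W (fun x => (cnt h x : ℂ)) := fun a b => by simp only [cnt_conj]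
  have h1 := orth h (p := p) (fun x => (cnt h x : ℂ)) hF
    (fun x hx => by simp only [cnt_of_mem h x hx, Nat.cast_zero]) (Nat.card Q - 1)
    (by
      have h2 := hconj 1 Characters.Core.isIrr_one
      simp only [Pi.one_apply, map_one, mul_one, Finset.sum_const, Finset.card_univ,
        nsmul_eq_mul] at h2
      rw [h2, card_index])
    (fun χ hχ h1 h2 => by
      rw [hconj χ hχ]
      convert PI_sum h hgen hp hN hχ h1 h2) g hg
  have h2 : (Nat.card D * (cnt h g : ℂ)) - ((Nat.card Q : ℂ) - 1) =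
      (((Nat.card D * cnt h g + 1) - p ^ k : ℤ) : ℂ) := by
    rw [hN]
    push_cast
    ring
  rw [h2] at h1
  have h3 := PI.dvd hp h1
  have h4 : (p : ℤ) ∣ (Nat.card D * cnt h g + 1) := by
    have h5 : (p : ℤ) ∣ p ^ k := dvd_pow_self _ hk.ne'
    have := dvd_add h3 h5
    simpa using this
  exact_mod_cast h4

/-- `p` does not divide `|D|`. -/
theorem not_dvd_card_D : ¬ p ∣ Nat.card D := by
  intro hd
  have h1 := cnt_mod h hgen hp hk hN ⟨w, h.wW⟩ h.wD
  have h2 : p ∣ 1 := (Nat.dvd_add_right (Dvd.dvd.mul_right hd _)).1 h1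
  exact hp.one_lt.ne' (Nat.dvd_one.1 h2)

/-- `μ` is onto `W ∖ D`. -/
theorem exists_mu_eq (g : W) (hg : (g : G) ∉ D) : ∃ u, mu h u = g := by
  by_contra hc
  push Not at hc
  have h0 : cnt h g = 0 := by
    rw [cnt, Finset.card_eq_zero, Finset.filter_eq_empty_iff]
    intro u _ hu
    exact hc u hu
  have h1 := cnt_mod h hgen hp hk hN g hg
  rw [h0, mul_zero, zero_add] at h1
  exact hp.one_lt.ne' (Nat.dvd_one.1 h1)

end final

end Cfsg.Agent.HKS.ModPTwo
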