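import Mathlib
import Cfsg.Agent.HKS.ModPSplit
import Cfsg.Agent.HKS.ModPTwo
import Cfsg.Agent.HKS.Glauberman
import Cfsg.Agent.HKS.Pair
import Cfsg.Agent.HKS.PP1

/-!
# All `μ_u` are conjugate

If every irreducible character of `G` with `Q`-fixed vectors is constant on `Q ∖ {1}` and `Q` has a
nontrivial central element then all `μ(u)`, `u ∈ Q ∖ {1}`, are conjugate under `D`.
-/

set_option autoImplicit false

open Cfsg Representation ComplexConjugate

namespace Cfsg.Agent.HKS

variable {G : Type*} [Group G] {B Q D W : Subgroup G} {w : G}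

namespace OneCl

open ModPMain ModPMu

/-- An irreducible character of `W` vanishes outside `D` or is irreducible on `D`. -/
theorem irr_dich (h : RankOne B Q D W w) [Finite G] {χ : W → ℂ} (hχ : IsIrrCharacter W χ) :
    (∀ g : W, (g : G) ∉ D → χ g = 0) ∨
      IsIrrCharacter D (fun d => χ (Subgroup.inclusion h.DW d)) := by
  classical
  have := Fintype.ofFinite W
  have := Fintype.ofFinite D
  by_cases hs : χ * sg h = χ
  · left
    intro g hg
    have h1 := congrFun hs g
    rw [Pi.mul_apply, sg_of_notMem h hg, mul_neg, mul_one] at h1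
    exact self_eq_neg.1 h1.symm
  · right
    have h0 : IsCharacter D (fun d => χ (Subgroup.inclusion h.DW d)) :=
      Characters.Core.isCharacter_comp (Subgroup.inclusion h.DW) (Characters.Core.isIrr_isCharacter hχ)
    rw [Characters.Core.isIrr_iff_classInner_self h0, Characters.Core.classInner_def]
    have h1 := Characters.Core.classInner_irr_self hχ
    have h2 := Characters.Core.classInner_irr_ne hχ (ModPTwo.isIrr_mul_sg h hχ) (fun hc => hs hc.symm)
    rw [Characters.Core.classInner_def] at h1 h2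
    have hW0 : (Nat.card W : ℂ) ≠ 0 := by exact_mod_cast Nat.card_pos.ne'
    have hD0 : (Nat.card D : ℂ) ≠ 0 := by exact_mod_cast Nat.card_pos.ne'
    rw [inv_mul_eq_iff_eq_mul₀ hW0] at h1 h2
    have h3 : ∑ g : W, χ g * conj (χ g) + ∑ g : W, χ g * conj ((χ * sg h) g) =
        2 * ∑ d : D, χ (Subgroup.inclusion h.DW d) * conj (χ (Subgroup.inclusion h.DW d)) := by
      rw [← Finset.sum_add_distrib, ← Finset.sum_filter_add_sum_filter_not Finset.univ
        (fun g : W => (g : G) ∈ D)]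
      have h4 : ∑ g ∈ Finset.univ.filter (fun g : W => (g : G) ∉ D),
          (χ g * conj (χ g) + χ g * conj ((χ * sg h) g)) = 0 := by
        refine Finset.sum_eq_zero fun g hg => ?_
        rw [Finset.mem_filter] at hg
        rw [Pi.mul_apply, map_mul, ModPTwo.conj_sg, sg_of_notMem h hg.2]
        ring
      rw [h4, add_zero, Finset.mul_sum]
      symm
      refine Finset.sum_bij (fun d _ => Subgroup.inclusion h.DW d) (fun d _ => ?_)
        (fun a _ b _ hab => Subgroup.inclusion_injective h.DW hab) (fun g hg => ?_) (fun d _ => ?_)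
      · rw [Finset.mem_filter]
        exact ⟨Finset.mem_univ _, d.2⟩
      · rw [Finset.mem_filter] at hg
        exact ⟨⟨g, hg.2⟩, Finset.mem_univ _, rfl⟩
      · have h5 : sg h (Subgroup.inclusion h.DW d) = 1 := by
          rw [sg, sgn_of_mem h (g := Subgroup.inclusion h.DW d) d.2]
          rfl
        rw [Pi.mul_apply, h5, mul_one]
        ring
    rw [h1, h2, card_W h] at h3
    push_cast at h3
    rw [inv_mul_eq_iff_eq_mul₀ hD0]
    linear_combination -h3 / 2

/-- Conjugation by `B` on `Q^#`. -/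
def conjB (h : RankOne B Q D W w) (b : B) (u : {u : Q // u ≠ 1}) : {u : Q // u ≠ 1} :=
  ⟨⟨b * u.1 * (b : G)⁻¹, h.Qn b b.2 u.1 u.1.2⟩, fun hc => u.2 (by
    have h1 : (b : G) * u.1 * (b : G)⁻¹ = 1 := congrArg Subtype.val hc
    apply Subtype.ext
    rw [OneMemClass.coe_one]
    exact conj_eq_one_iff.1 h1)⟩

/-- The averaging identity for a character of `W`. -/
theorem sum_eq (h : RankOne B Q D W w) [Finite G] [Fintype Q] [Fintype B]
    (hconst : ∀ χ : G → ℂ, IsIrrCharacter G χ → (∑ u : Q, χ u) ≠ 0 →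
      ∀ u ∈ Q, u ≠ 1 → ∀ v ∈ Q, v ≠ 1 → χ u = χ v)
    {χ : W → ℂ} (hχ : IsIrrCharacter W χ) (u v : {u : Q // u ≠ 1}) :
    ∑ b : B, χ (mu h (conjB h b u)) = ∑ b : B, χ (mu h (conjB h b v)) := by
  classical
  have := Fintype.ofFinite G
  rcases irr_dich h hχ with h0 | h0
  · rw [Finset.sum_congr rfl fun b _ => h0 _ (mu_notin h (conjB h b u)),
      Finset.sum_congr rfl fun b _ => h0 _ (mu_notin h (conjB h b v))]
  · obtain ⟨n, σ, hσ, rfl⟩ := hχ
    have hσ' : IsIrreducible (σ.comp (Subgroup.inclusion h.DW)) :=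
      Glauberman.isIrreducible_of_isIrr _ h0
    have hσ1 : σ.character 1 ≠ 0 := Characters.Core.isIrr_apply_one_ne_zero
      (Characters.Core.isIrrCharacter_of_rep σ hσ)
    obtain ⟨n₁, n₂, ρ, ρ₂, φ, φ₂, hρ, -, -, H, -, -⟩ := h.exists_pair σ hσ'
    obtain ⟨x, hx⟩ := H.exists_scalar
    obtain ⟨hx0, -, -⟩ := H.integral hx hσ1
    have hirr : IsIrrCharacter G ρ.character := Characters.Core.isIrrCharacter_of_rep ρ hρ
    have hcl : IsClassFunction G ρ.character := Characters.Core.isIrr_isClassFunction hirr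
    have hne : (∑ u : Q, ρ.character u) ≠ 0 := by
      have h4 := H.Fq_one
      rw [Fq, inv_mul_eq_iff_eq_mul₀ card_ne] at h4
      simp only [one_mul] at h4
      rw [h4]
      exact mul_ne_zero card_ne hσ1
    have key : ∀ u : {u : Q // u ≠ 1}, ∑ b : B, Fq ρ.character Q (w * (b * u.1 * (b : G)⁻¹) * w⁻¹) =
        x * ∑ b : B, σ.character (mu h (conjB h b u)) := by
      intro u
      rw [Finset.mul_sum]
      refine Finset.sum_congr rfl fun b _ => ?_
      obtain ⟨u₁, hu₁, u₂, hu₂, he⟩ := mu_spec h (conjB h b u)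
      change w * (b * u.1 * (b : G)⁻¹) * w⁻¹ = _ at he
      rw [he, Fq_mul_right _ hu₂, Fq_mul_left h hcl hu₁,
        H.Fq_W hx _ (mu h (conjB h b u)).2 (mu_notin h (conjB h b u))]
    have h1 := average h hirr (u.1 : G)
    have h2 := average h hirr (v.1 : G)
    have h3 : ∀ u : {u : Q // u ≠ 1}, Fq ρ.character Q (u.1 : G) = Fq ρ.character Q 1 := by
      intro u
      have := Fq_mul_right (χ := ρ.character) (u.1 : G) u.1.2 1
      rwa [one_mul] at this
    have h4 : ρ.character (u.1 : G) = ρ.character (v.1 : G) :=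
      hconst _ hirr hne _ u.1.2 (fun hc => u.2 (Subtype.ext hc)) _ v.1.2
        (fun hc => v.2 (Subtype.ext hc))
    rw [key, h3] at h1 h2
    rw [h4] at h1
    have hN : (Nat.card Q : ℂ) ≠ 0 := card_ne
    apply mul_left_cancel₀ (mul_ne_zero hN hx0)
    linear_combination h1 - h2

/-- **One class.** -/
theorem isConj_mu (h : RankOne B Q D W w) [Finite G] [Fintype Q]
    (hconst : ∀ χ : G → ℂ, IsIrrCharacter G χ → (∑ u : Q, χ u) ≠ 0 →
      ∀ u ∈ Q, u ≠ 1 → ∀ v ∈ Q, v ≠ 1 → χ u = χ v)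
    (s : {u : Q // u ≠ 1}) (hs : ∀ v ∈ Q, v * (s.1 : G) = s.1 * v) (u : {u : Q // u ≠ 1}) :
    IsConj (mu h s) (mu h u) := by
  classical
  have := Fintype.ofFinite G
  have := Fintype.ofFinite B
  have := Fintype.ofFinite W
  have := Characters.Core.finite_irr (G := W)
  have := Fintype.ofFinite (IrrCharacter W)
  let F : W → ℂ := fun g => if IsConj (mu h s) g then 1 else 0
  have hF : IsClassFunction W F := by
    intro g x
    have h1 : IsConj (mu h s) (x * g * x⁻¹) ↔ IsConj (mu h s) g := by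
      constructor
      · intro h2
        exact h2.trans (isConj_iff.2 ⟨x⁻¹, by group⟩)
      · intro h2
        exact h2.trans (isConj_iff.2 ⟨x, rfl⟩)
    simp only [F, h1]
  have hexp := Characters.Core.classFunction_eq_sum hF
  have hsum : ∀ v : {u : Q // u ≠ 1}, ∑ b : B, F (mu h (conjB h b v)) =
      ∑ χ : IrrCharacter W, classInner F (χ : W → ℂ) *
        ∑ b : B, (χ : W → ℂ) (mu h (conjB h b v)) := by
    intro v
    simp only [Finset.mul_sum]
    rw [Finset.sum_comm]
    refine Finset.sum_congr rfl fun b _ => ?_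
    have h1 := congrFun hexp (mu h (conjB h b v))
    rw [h1, Finset.sum_apply]
    rfl
  have h1 : ∑ b : B, F (mu h (conjB h b u)) = ∑ b : B, F (mu h (conjB h b s)) := by
    rw [hsum, hsum]
    refine Finset.sum_congr rfl fun χ _ => ?_
    rw [sum_eq h hconst χ.2 u s]
  have h2 : ∀ b ∈ (Finset.univ : Finset B), F (mu h (conjB h b s)) = 1 := by
    intro b _
    obtain ⟨d, hd, v, hv, hb⟩ := h.Bmul' b.2
    have h3 : (b : G) * (s.1 : G) * (b : G)⁻¹ = d * s.1 * d⁻¹ := by
      rw [hb]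
      calc d * v * (s.1 : G) * (d * v)⁻¹ = d * (v * s.1) * v⁻¹ * d⁻¹ := by group
        _ = d * s.1 * d⁻¹ := by rw [hs v hv]; group
    obtain ⟨u₁, hu₁, u₂, hu₂, he⟩ := mu_spec h s
    have h4 := h.w_conj hd
    have h5 : w * ((conjB h b s).1 : G) * w⁻¹ = (w * d * w⁻¹) * u₁ * (w * d * w⁻¹)⁻¹ *
        ((w * d * w⁻¹) * mu h s * (w * d * w⁻¹)⁻¹) * ((w * d * w⁻¹) * u₂ * (w * d * w⁻¹)⁻¹) := by
      change w * ((b : G) * (s.1 : G) * (b : G)⁻¹) * w⁻¹ = _
      rw [h3]
      calc w * (d * (s.1 : G) * d⁻¹) * w⁻¹ = (w * d * w⁻¹) * (w * s.1 * w⁻¹) * (w * d * w⁻¹)⁻¹ := by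
            group
        _ = (w * d * w⁻¹) * (u₁ * mu h s * u₂) * (w * d * w⁻¹)⁻¹ := by rw [he]
        _ = _ := by group
    have h6 : mu h (conjB h b s) =
        ⟨w * d * w⁻¹, h.DW h4⟩ * mu h s * ⟨w * d * w⁻¹, h.DW h4⟩⁻¹ := by
      refine mu_eq h _ ?_ (h.Qn _ (h.DB h4) _ hu₁) (h.Qn _ (h.DB h4) _ hu₂) h5
      intro hc
      apply mu_notin h s
      have h7 := h.Wn _ (W.inv_mem (h.DW h4)) _ hc
      have h8 : (w * d * w⁻¹)⁻¹ * ((⟨w * d * w⁻¹, h.DW h4⟩ * mu h s *
          ⟨w * d * w⁻¹, h.DW h4⟩⁻¹ : W) : G) * (w * d * w⁻¹)⁻¹⁻¹ = mu h s := by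
        simp only [Subgroup.coe_mul, Subgroup.coe_inv]
        group
      rwa [h8] at h7
    simp only [F]
    rw [if_pos]
    rw [h6]
    exact isConj_iff.2 ⟨_, rfl⟩
  rw [Finset.sum_congr rfl h2, Finset.sum_const, Finset.card_univ, nsmul_eq_mul, mul_one] at h1
  by_contra hcon
  have h3 : F (mu h (conjB h 1 u)) = 0 := by
    have h4 : conjB h 1 u = u := by
      apply Subtype.ext
      apply Subtype.ext
      change ((1 : B) : G) * (u.1 : G) * ((1 : B) : G)⁻¹ = u.1
      simp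
    rw [h4]
    exact if_neg hcon
  have h4 : ∑ b : B, F (mu h (conjB h b u)) =
      ((Finset.univ.filter fun b : B => IsConj (mu h s) (mu h (conjB h b u))).card : ℂ) := by
    simp only [F]
    rw [Finset.sum_ite, Finset.sum_const_zero, add_zero, Finset.sum_const, nsmul_eq_mul, mul_one]
  rw [h4] at h1
  have h5 : (Finset.univ.filter fun b : B => IsConj (mu h s) (mu h (conjB h b u))).card =
      Fintype.card B := by exact_mod_cast h1
  have h6 := Finset.card_lt_univ_of_notMem (s := Finset.univ.filter fun b : B =>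
    IsConj (mu h s) (mu h (conjB h b u))) (x := 1) (by
    intro h7
    rw [Finset.mem_filter] at h7
    simp only [F] at h3
    rw [if_pos h7.2] at h3
    exact one_ne_zero h3)
  omega

/-- `W`-conjugate elements of `W ∖ D` are conjugate under `D`. -/
theorem exists_D_conj (h : RankOne B Q D W w) {m m' : W} (hm : (m : G) ∉ D) (hc : IsConj m m') :
    ∃ d ∈ D, (m' : G) = d * m * d⁻¹ := by
  obtain ⟨g, hg⟩ := isConj_iff.1 hc
  have hg' : (m' : G) = g * m * (g : G)⁻¹ := by rw [← hg]; rfl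
  by_cases hgD : (g : G) ∈ D
  · exact ⟨g, hgD, hg'⟩
  · refine ⟨g * m, (mul_mem_iff h g.2 m.2).2 (by tauto), ?_⟩
    rw [hg']
    group

end OneCl

namespace SSplit

open Subgroup MulAction

variable {G Ω : Type*} [Group G] [MulAction G Ω] {U : Ω → Subgroup G}

/-- **One class** in permutation form. -/
theorem oneClass (h : SSplit U) [Finite G] [Finite Ω] {a b : Ω} [Fintype (U a)] (hab : b ≠ a)
    (hconst : ∀ χ : G → ℂ, IsIrrCharacter G χ → (∑ u : U a, χ u) ≠ 0 →
      ∀ u ∈ U a, u ≠ 1 → ∀ v ∈ U a, v ≠ 1 → χ u = χ v) : PP1.OneClass U a b := by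
  classical
  obtain ⟨w, hw⟩ := h.exists_swaps hab
  have hR := h.rankOne hab hw
  have := h.nil a
  have hnt : Nontrivial (U a) := by
    have h1 := h.one_lt_card a
    exact (Finite.one_lt_card_iff_nontrivial).1 h1
  have hZ : Nontrivial (Subgroup.center (U a)) := by
    rw [Subgroup.nontrivial_iff_ne_bot]
    exact Group.IsNilpotent.center_ne_bot (U a)
  obtain ⟨s, hs⟩ := _root_.exists_ne (1 : Subgroup.center (U a))
  have hs1 : (s : U a) ≠ 1 := fun hc => hs (Subtype.ext hc)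
  have hcen : ∀ v ∈ U a, v * ((s : U a) : G) = (s : U a) * v := fun v hv =>
    congrArg Subtype.val ((Subgroup.mem_center_iff.1 s.2) ⟨v, hv⟩)
  have key : ∀ x ∈ U b, x ≠ 1 → ∃ d ∈ Dab G a b,
      mu U a b x = d * (ModPMu.mu hR ⟨s, hs1⟩ : G) * d⁻¹ := by
    intro x hx hx1
    have h3 : w⁻¹ * x * w ∈ U a := h.conj_of_eq' hw.1 hx
    have h4 : (⟨w⁻¹ * x * w, h3⟩ : U a) ≠ 1 := by
      intro hc
      apply hx1
      have h5 : w⁻¹ * x * w = 1 := congrArg Subtype.val hc
      calc x = w * (w⁻¹ * x * w) * w⁻¹ := by group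
        _ = 1 := by rw [h5]; group
    have h5 : w * (w⁻¹ * x * w) * w⁻¹ = x := by group
    have h6 := OneCl.isConj_mu hR hconst ⟨s, hs1⟩ hcen ⟨⟨w⁻¹ * x * w, h3⟩, h4⟩
    obtain ⟨d, hd, he⟩ := OneCl.exists_D_conj hR (ModPMu.mu_notin hR _) h6
    refine ⟨d, hd, ?_⟩
    rw [← he, ← h.mu_rankOne hab hw]
    change mu U a b x = mu U a b (w * (w⁻¹ * x * w) * w⁻¹)
    rw [h5]
  intro x hx hx1 y hy hy1
  obtain ⟨d, hd, he⟩ := key x hx hx1
  obtain ⟨d', hd', he'⟩ := key y hy hy1
  refine ⟨d' * d⁻¹, mul_mem hd' (inv_mem hd), ?_⟩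
  rw [he, he']
  group

end SSplit

end Cfsg.Agent.HKS
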