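import Mathlib
import Cfsg.Agent.HKS.PP1
import Cfsg.Agent.HKS.Induct
import Cfsg.Agent.HKS.Affine

/-!
# Prime power degree, III: involutions acting on affine fixed structures
-/

set_option autoImplicit false

namespace Cfsg.Agent.HKS.PP3

open Subgroup MulAction SSplit PP1

/-- A regular elementary abelian `2`-group of permutations normalised by an involution with
exactly two fixed points has order at most `4`. -/
theorem perm_four {Δ : Type*} [Finite Δ] (E : Subgroup (Equiv.Perm Δ))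
    (hc : ∀ x ∈ E, ∀ y ∈ E, x * y = y * x) (h2 : ∀ x ∈ E, x * x = 1)
    (ht : ∀ c d : Δ, ∃ x ∈ E, x c = d) (hf : ∀ x ∈ E, ∀ c, x c = c → x = 1)
    (σ : Equiv.Perm Δ) (hσσ : σ * σ = 1) (hσ : ∀ x ∈ E, σ * x * σ⁻¹ ∈ E) {a b : Δ}
    (ha : σ a = a) (hfix : ∀ c, σ c = c → c = a ∨ c = b) :
    Nat.card Δ ≤ 4 := by
  classical
  have huniq : ∀ x ∈ E, ∀ y ∈ E, x a = y a → x = y := by
    intro x hx y hy hxy
    have h1 : (y⁻¹ * x) a = a := by
      rw [Equiv.Perm.mul_apply, hxy]; exact Equiv.symm_apply_apply y a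
    exact (inv_mul_eq_one.1 (hf _ (mul_mem (inv_mem hy) hx) a h1)).symm
  choose e he hea using fun c => ht a c
  have heq : ∀ x ∈ E, x = e (x a) := fun x hx => huniq _ hx _ (he _) (hea _).symm
  have hσe : ∀ c, σ * e c * σ⁻¹ = e (σ c) := by
    intro c
    rw [heq _ (hσ _ (he c))]
    congr 1
    rw [Equiv.Perm.mul_apply, Equiv.Perm.mul_apply]
    have : σ⁻¹ a = a := by rw [Equiv.Perm.inv_eq_iff_eq]; exact ha.symm
    rw [this, hea]
  have hσσ' : ∀ c, σ (σ c) = c := fun c => by
    rw [← Equiv.Perm.mul_apply, hσσ, Equiv.Perm.one_apply]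
  -- elements fixed by `σ`
  have hfixE : ∀ x ∈ E, σ * x * σ⁻¹ = x → x = 1 ∨ x = e b := by
    intro x hx hxx
    have h1 : σ (x a) = x a := by
      conv_rhs => rw [← hxx]
      rw [Equiv.Perm.mul_apply, Equiv.Perm.mul_apply]
      have : σ⁻¹ a = a := by rw [Equiv.Perm.inv_eq_iff_eq]; exact ha.symm
      rw [this]
    rcases hfix _ h1 with h3 | h3
    · left; exact hf x hx a h3
    · right
      rw [heq x hx, h3]
  have hmove : ∀ c, c ≠ a → c ≠ b → e (σ c) = e c * e b := by
    intro c hca hcb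
    have h1 : σ * (e c * e (σ c)) * σ⁻¹ = e c * e (σ c) := by
      calc σ * (e c * e (σ c)) * σ⁻¹ = (σ * e c * σ⁻¹) * (σ * e (σ c) * σ⁻¹) := by group
        _ = e (σ c) * e c := by rw [hσe, hσe, hσσ']
        _ = _ := hc _ (he _) _ (he _)
    have hinv : (e c)⁻¹ = e c := inv_eq_of_mul_eq_one_left (h2 _ (he c))
    rcases hfixE _ (mul_mem (he c) (he _)) h1 with h3 | h3
    · exfalso
      have h4 : e (σ c) = e c := by
        rw [← hinv]; exact (inv_eq_of_mul_eq_one_right h3).symm
      have h5 : σ c = c := by rw [← hea (σ c), h4, hea]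
      rcases hfix c h5 with h6 | h6
      · exact hca h6
      · exact hcb h6
    · calc e (σ c) = (e c)⁻¹ * (e c * e (σ c)) := by group
        _ = e c * e b := by rw [h3, hinv]
  by_cases hex : ∃ c, c ≠ a ∧ c ≠ b
  · obtain ⟨c, hca, hcb⟩ := hex
    have hall : ∀ d : Δ, d ∈ ({a, b, c, (e c * e b) a} : Finset Δ) := by
      intro d
      by_cases hda : d = a
      · simp [hda]
      by_cases hdb : d = b
      · simp [hdb]
      have h1 : σ * (e c * e d) * σ⁻¹ = e c * e d := by
        calc σ * (e c * e d) * σ⁻¹ = (σ * e c * σ⁻¹) * (σ * e d * σ⁻¹) := by group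
          _ = (e c * e b) * (e d * e b) := by rw [hσe, hσe, hmove c hca hcb, hmove d hda hdb]
          _ = e c * (e b * e d) * e b := by group
          _ = e c * (e d * e b) * e b := by rw [hc _ (he b) _ (he d)]
          _ = e c * e d * (e b * e b) := by group
          _ = e c * e d := by rw [h2 _ (he b), mul_one]
      have hinv : (e c)⁻¹ = e c := inv_eq_of_mul_eq_one_left (h2 _ (he c))
      rcases hfixE _ (mul_mem (he c) (he d)) h1 with h3 | h3
      · have h4 : e d = e c := by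
          rw [← hinv]; exact (inv_eq_of_mul_eq_one_right h3).symm
        have h5 : d = c := by rw [← hea d, h4, hea]
        simp [h5]
      · have h4 : e d = e c * e b := by
          calc e d = (e c)⁻¹ * (e c * e d) := by group
            _ = _ := by rw [h3, hinv]
        have h5 : d = (e c * e b) a := by rw [← h4, hea]
        simp only [Finset.mem_insert, Finset.mem_singleton]
        exact Or.inr (Or.inr (Or.inr h5))
    have := Fintype.ofFinite Δ
    rw [Nat.card_eq_fintype_card, ← Finset.card_univ]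
    refine (Finset.card_le_card fun d _ => hall d).trans ?_
    exact Finset.card_le_four
  · push Not at hex
    have := Fintype.ofFinite Δ
    rw [Nat.card_eq_fintype_card, ← Finset.card_univ]
    have hall : ∀ d : Δ, d ∈ ({a, b} : Finset Δ) := by
      intro d
      by_cases hda : d = a
      · simp [hda]
      · simp [hex d hda]
    refine (Finset.card_le_card fun d _ => hall d).trans ?_
    exact Finset.card_le_two.trans (by norm_num)

universe v

variable {G Ω : Type v} [Group G] [MulAction G Ω] {U : Ω → Subgroup G}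

/-- An involution of `Dab` normalising `X`, where the structure on `Fix X` is affine, with only
the fixed points `a, b` on `Fix X`: then `|Fix X| ≤ 4`. -/
theorem aff_four (h : SSplit U) [Finite Ω] (hev : Even (Nat.card Ω)) {a b : Ω} (hab : b ≠ a)
    {X : Subgroup G} (hXD : X ≤ Dab G a b) (hU : U a ⊓ centralizer (X : Set G) ≠ ⊥)
    (hA : Dab G a b ⊓ genFix U X ≤ kerFix Ω X) {s : G} (hs : s ∈ Dab G a b) (hss : s * s = 1)
    (hsX : ∀ x ∈ X, s * x * s⁻¹ ∈ X)
    (hfix : ∀ c : Ω, (∀ x ∈ X, x • c = c) → s • c = c → c = a ∨ c = b) :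
    Nat.card (fixSub Ω X) ≤ 4 := by
  have ha : ∀ x ∈ X, x • a = a := fun x hx => (hXD hx).1
  have hb : ∀ x ∈ X, x • b = b := fun x hx => (hXD hx).2
  obtain ⟨-, hev', h3⟩ := h.fix_card hev ha hb hab hU
  have h4 := SSplit.three_of_card h3
  have hS := h.permFix X h4
  have hab' : (⟨b, hb⟩ : fixSub Ω X) ≠ ⟨a, ha⟩ := fun e => hab (congrArg Subtype.val e)
  have hL := h.lift X ha hb hab h4
  have hD : Dab (permFix U X) (⟨a, ha⟩ : fixSub Ω X) ⟨b, hb⟩ = ⊥ := by
    rw [eq_bot_iff]
    intro y hy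
    obtain ⟨x, hx, rfl⟩ := hL.lift_E hy
    exact mem_bot.2 ((hL.K_iff x).1 (hA hx))
  obtain ⟨E, -, hEc, hE2, hEt, hEf, hE, -, -⟩ := hS.sharp_normal hev' hab' hD
  have hsi : s⁻¹ = s := inv_eq_of_mul_eq_one_left hss
  have hmem : ∀ c : Ω, (∀ x ∈ X, x • c = c) → ∀ x ∈ X, x • s • c = s • c := by
    intro c hc x hx
    have h1 := hc _ (hsX x hx)
    rw [mul_smul, mul_smul, hsi] at h1
    calc x • s • c = s • s • x • s • c := by rw [← mul_smul s s, hss, one_smul]
      _ = s • c := by rw [h1]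
  -- the permutation induced by `s`
  let σ : Equiv.Perm (fixSub Ω X) :=
    { toFun := fun c => ⟨s • (c : Ω), hmem c c.2⟩
      invFun := fun c => ⟨s • (c : Ω), hmem c c.2⟩
      left_inv := fun c => Subtype.ext (by
        change s • s • (c : Ω) = c
        rw [← mul_smul, hss, one_smul])
      right_inv := fun c => Subtype.ext (by
        change s • s • (c : Ω) = c
        rw [← mul_smul, hss, one_smul]) }
  have hσσ : σ * σ = 1 := by
    apply Equiv.ext
    intro c
    exact σ.left_inv c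
  have hσ' : ∀ c : fixSub Ω X, ((σ⁻¹ c : fixSub Ω X) : Ω) = s • (c : Ω) := fun c => rfl
  have hnorm : ∀ x : Equiv.Perm (fixSub Ω X), x ∈ permFix U X → σ * x * σ⁻¹ ∈ permFix U X := by
    rintro _ ⟨y, rfl⟩
    have h5 : embFix U X y ∈ genFix U X := by rw [← hL.rangeM]; exact ⟨y, rfl⟩
    have h6 : s * embFix U X y * s⁻¹ ∈ genFix U X := conj_genFix h (fun x hx => by
      have := hsX x hx
      rwa [hsi] at this ⊢) h5
    rw [← hL.rangeM] at h6
    obtain ⟨y', hy'⟩ := h6
    refine ⟨y', ?_⟩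
    apply Equiv.ext
    intro c
    apply Subtype.ext
    change embFix U X y' • (c : Ω) = s • (embFix U X y • (s • (c : Ω)))
    rw [hy', mul_smul, mul_smul, hsi]
  refine perm_four (E.map (permFix U X).subtype) ?_ ?_ ?_ ?_ σ hσσ ?_
    (a := (⟨a, ha⟩ : fixSub Ω X)) (b := (⟨b, hb⟩ : fixSub Ω X)) ?_ ?_
  · rintro _ ⟨x, hx, rfl⟩ _ ⟨y, hy, rfl⟩
    exact congrArg Subtype.val (hEc x hx y hy)
  · rintro _ ⟨x, hx, rfl⟩
    exact congrArg Subtype.val (hE2 x hx)
  · intro c d
    obtain ⟨x, hx, hxc⟩ := hEt c d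
    exact ⟨x, ⟨x, hx, rfl⟩, hxc⟩
  · rintro _ ⟨x, hx, rfl⟩ c hxc
    exact congrArg Subtype.val (hEf c x hx hxc)
  · rintro _ ⟨x, hx, rfl⟩
    refine ⟨⟨σ * (x : Equiv.Perm (fixSub Ω X)) * σ⁻¹, hnorm _ x.2⟩, ?_, rfl⟩
    rw [SetLike.mem_coe, hE]
    rcases (hE x).1 hx with h5 | h5
    · left
      subst h5
      apply Subtype.ext
      change σ * 1 * σ⁻¹ = 1
      group
    · right
      intro c hc
      have h6 : (σ * (x : Equiv.Perm (fixSub Ω X)) * σ⁻¹) c = c := hc
      apply h5 (σ⁻¹ c)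
      have h7 : (x : Equiv.Perm (fixSub Ω X)) (σ⁻¹ c) = σ⁻¹ c := by
        rw [Equiv.Perm.eq_inv_iff_eq]
        exact h6
      exact h7
  · exact Subtype.ext hs.1
  · rintro ⟨c, hc⟩ hcc
    rcases hfix c hc (congrArg Subtype.val hcc) with h5 | h5
    · left; exact Subtype.ext h5
    · right; exact Subtype.ext h5

end Cfsg.Agent.HKS.PP3
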