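import Mathlib

/-!
# Prime power degree, IV: determinants
-/

set_option autoImplicit false

namespace Cfsg.Agent.HKS.PP4

open Subgroup

theorem det_eq {p : ℕ} [Fact p.Prime] (hp2 : p ≠ 2) {A : Type*} [AddCommGroup A]
    [Module (ZMod p) A] [Finite A] (hcard : Nat.card A = p ^ 2) (f : A →ₗ[ZMod p] A) {v w : A}
    (hv : v ≠ 0) (hw : w ≠ 0) (hfv : f v = v) (hfw : f w = -w) : LinearMap.det f = -1 := by
  classical
  have hp := Fact.out (p := p.Prime)
  have hfin : Module.Finite (ZMod p) A := Module.Finite.of_finite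
  have hrank : Module.finrank (ZMod p) A = 2 := by
    have h1 := Module.natCard_eq_pow_finrank (K := ZMod p) (V := A)
    rw [hcard, Nat.card_eq_fintype_card, ZMod.card] at h1
    exact (Nat.pow_right_injective hp.two_le h1).symm
  have h2 : (2 : ZMod p) ≠ 0 := by
    intro hc
    have h3 : ((2 : ℕ) : ZMod p) = 0 := by exact_mod_cast hc
    rw [ZMod.natCast_eq_zero_iff] at h3
    exact hp2 ((Nat.prime_dvd_prime_iff_eq hp Nat.prime_two).1 h3)
  have hli : LinearIndependent (ZMod p) ![v, w] := by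
    rw [LinearIndependent.pair_iff]
    intro s t hst
    have h3 : s • v + -(t • w) = 0 := by
      have := congrArg f hst
      rw [map_add, map_smul, map_smul, hfv, hfw, map_zero, smul_neg] at this
      exact this
    have h4 : (2 * s) • v = 0 := by
      have h5 : (2 * s) • v = (s • v + t • w) + (s • v + -(t • w)) := by
        rw [two_mul, add_smul]; abel
      rw [h5, hst, h3, add_zero]
    have hs : s = 0 := by
      rcases smul_eq_zero.1 h4 with h5 | h5
      · rcases mul_eq_zero.1 h5 with h6 | h6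
        · exact absurd h6 h2
        · exact h6
      · exact absurd h5 hv
    rw [hs, zero_smul, zero_add] at hst
    rcases smul_eq_zero.1 hst with h5 | h5
    · exact ⟨hs, h5⟩
    · exact absurd h5 hw
  let b := basisOfLinearIndependentOfCardEqFinrank hli (by rw [hrank]; rfl)
  have hb0 : b 0 = v := by
    simp [b]
  have hb1 : b 1 = w := by
    simp [b]
  rw [← LinearMap.det_toMatrix b f, Matrix.det_fin_two]
  simp only [LinearMap.toMatrix_apply]
  have e0 : f (b 0) = b 0 := by rw [hb0, hfv]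
  have e1 : f (b 1) = -b 1 := by rw [hb1, hfw]
  rw [e0, e1]
  simp

/-- An action by automorphisms on a `ZMod p`-module as a linear representation. -/
def linRep {p : ℕ} {D A : Type*} [Group D] [AddCommGroup A] [Module (ZMod p) A]
    (c : D → A →+ A) (h1 : ∀ x, c 1 x = x) (hm : ∀ d e x, c (d * e) x = c d (c e x)) :
    D →* Module.End (ZMod p) A where
  toFun d := AddMonoidHom.toZModLinearMap p (c d)
  map_one' := LinearMap.ext fun x => h1 x
  map_mul' d e := LinearMap.ext fun x => hm d e x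

theorem exists_det_aux' {p : ℕ} [Fact p.Prime] (hp2 : p ≠ 2) {D A : Type*} [Group D]
    [AddCommGroup A] [Finite A] [Module (ZMod p) A] (hcard : Nat.card A = p ^ 2)
    (c : D → A →+ A) (h1 : ∀ x, c 1 x = x) (hm : ∀ d e x, c (d * e) x = c d (c e x)) :
    ∃ φ : D →* (ZMod p)ˣ, ∀ (z : D) (v w : A), v ≠ 0 → w ≠ 0 → c z v = v → c z w = -w →
      φ z = -1 := by
  refine ⟨(LinearMap.det.comp (linRep c h1 hm)).toHomUnits, fun z v w hv hw hzv hzw => ?_⟩
  apply Units.ext
  change LinearMap.det (linRep c h1 hm z) = _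
  rw [det_eq hp2 hcard (linRep c h1 hm z) hv hw hzv hzw]
  simp

theorem exists_det_aux {p : ℕ} [Fact p.Prime] (hp2 : p ≠ 2) {D A : Type*} [Group D]
    [AddCommGroup A] [Finite A] (hA : ∀ x : A, p • x = 0) (hcard : Nat.card A = p ^ 2)
    (c : D → A →+ A) (h1 : ∀ x, c 1 x = x) (hm : ∀ d e x, c (d * e) x = c d (c e x)) :
    ∃ φ : D →* (ZMod p)ˣ, ∀ (z : D) (v w : A), v ≠ 0 → w ≠ 0 → c z v = v → c z w = -w →
      φ z = -1 :=
  @exists_det_aux' p _ hp2 D A _ _ _ (AddCommGroup.zmodModule hA) hcard c h1 hm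

/-- A determinant homomorphism on an elementary abelian group of order `p²`. -/
theorem exists_det {G : Type*} [Group G] (D V : Subgroup G) {p : ℕ} [Fact p.Prime] (hp2 : p ≠ 2)
    (hpp : ∀ v ∈ V, v ^ p = 1) (hcomm : ∀ v ∈ V, ∀ w ∈ V, v * w = w * v)
    (hn : ∀ d ∈ D, ∀ v ∈ V, d * v * d⁻¹ ∈ V) (hcard : Nat.card V = p ^ 2) :
    ∃ φ : D →* (ZMod p)ˣ, ∀ z : D, ∀ v ∈ V, ∀ w ∈ V, v ≠ 1 → w ≠ 1 → z * v * (z : G)⁻¹ = v →
      z * w * (z : G)⁻¹ = w⁻¹ → φ z = -1 := by
  classical
  have hp := Fact.out (p := p.Prime)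
  let _ : CommGroup V :=
    { (inferInstance : Group V) with mul_comm := fun x y => Subtype.ext (hcomm x x.2 y y.2) }
  have hfinV : Finite V := Nat.finite_of_card_ne_zero (by rw [hcard]; exact (pow_pos hp.pos 2).ne')
  have hfinA : Finite (Additive V) := hfinV
  let c : D → (Additive V →+ Additive V) := fun d =>
    AddMonoidHom.mk' (fun v => Additive.ofMul ⟨d * (v.toMul : G) * (d : G)⁻¹, hn d d.2 _ v.toMul.2⟩)
      (fun x y => congrArg Additive.ofMul (Subtype.ext (by
        change (d : G) * ((x.toMul : G) * (y.toMul : G)) * (d : G)⁻¹ =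
          (d * (x.toMul : G) * (d : G)⁻¹) * (d * (y.toMul : G) * (d : G)⁻¹)
        group)))
  have hc : ∀ (d : D) (x : V), c d (Additive.ofMul x) =
      Additive.ofMul ⟨d * (x : G) * (d : G)⁻¹, hn d d.2 _ x.2⟩ := fun d x => rfl
  obtain ⟨φ, hφ⟩ := exists_det_aux hp2 (D := D) (A := Additive V)
    (fun x => by
      obtain ⟨x, rfl⟩ := Additive.ofMul.surjective x
      rw [← ofMul_pow]
      have : x ^ p = 1 := Subtype.ext (hpp _ x.2)
      rw [this]; rfl)
    hcard c
    (fun x => by
      obtain ⟨x, rfl⟩ := Additive.ofMul.surjective x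
      rw [hc]
      congr 1
      apply Subtype.ext
      change ((1 : G) * (x : G) * (1 : G)⁻¹ : G) = (x : G)
      rw [one_mul, inv_one, mul_one])
    (fun d e x => by
      obtain ⟨x, rfl⟩ := Additive.ofMul.surjective x
      rw [hc, hc, hc]
      congr 1
      apply Subtype.ext
      change (((d * e : D) : G) * (x : G) * ((d * e : D) : G)⁻¹ : G) =
          (d : G) * ((e : G) * (x : G) * (e : G)⁻¹) * (d : G)⁻¹
      rw [coe_mul]; group)
  refine ⟨φ, fun z v hv w hw hv1 hw1 hzv hzw => ?_⟩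
  refine hφ z (Additive.ofMul ⟨v, hv⟩) (Additive.ofMul ⟨w, hw⟩) ?_ ?_ ?_ ?_
  · intro hc
    apply hv1
    have : (⟨v, hv⟩ : V) = 1 := hc
    exact congrArg Subtype.val this
  · intro hc
    apply hw1
    have : (⟨w, hw⟩ : V) = 1 := hc
    exact congrArg Subtype.val this
  · rw [hc]
    congr 1
    exact Subtype.ext hzv
  · rw [hc, ← ofMul_inv]
    congr 1
    exact Subtype.ext hzw

end Cfsg.Agent.HKS.PP4
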