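import Mathlib
import Cfsg.Agent.HKS.PP2
import Cfsg.Agent.HKS.PP3
import Cfsg.Agent.HKS.PP4
import Cfsg.Agent.Lib.NormalAbelian

/-!
# Prime power degree, V: the even case

`prime_pow_of_even`: if `G` is generated by the `U a`, `|Dab|` is even, all `μ`-elements are
conjugate under `Dab` and the list holds for the fixed structures, then `|U a|` is a prime power.
-/

set_option autoImplicit false

namespace Cfsg.Agent.HKS.PP5

open Subgroup MulAction SSplit PP1 PP2 PP3 PP4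

universe v

variable {G Ω : Type v} [Group G] [MulAction G Ω] {U : Ω → Subgroup G}

/-- The central elements of `U a` of order dividing `p`. -/
def VV (U : Ω → Subgroup G) (a : Ω) (p : ℕ) : Subgroup G where
  carrier := {x | x ∈ U a ∧ x ^ p = 1 ∧ ∀ y ∈ U a, x * y = y * x}
  one_mem' := ⟨one_mem _, one_pow _, fun y _ => by rw [one_mul, mul_one]⟩
  mul_mem' := by
    rintro x y ⟨hx, hx1, hx2⟩ ⟨hy, hy1, hy2⟩
    refine ⟨mul_mem hx hy, ?_, ?_⟩
    · have : Commute x y := hx2 y hy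
      rw [this.mul_pow, hx1, hy1, one_mul]
    · intro z hz
      calc x * y * z = x * (y * z) := by group
        _ = x * (z * y) := by rw [hy2 z hz]
        _ = (x * z) * y := by group
        _ = (z * x) * y := by rw [hx2 z hz]
        _ = z * (x * y) := by group
  inv_mem' := by
    rintro x ⟨hx, hx1, hx2⟩
    refine ⟨inv_mem hx, by rw [inv_pow, hx1, inv_one], ?_⟩
    intro z hz
    calc x⁻¹ * z = x⁻¹ * (z * x) * x⁻¹ := by group
      _ = x⁻¹ * (x * z) * x⁻¹ := by rw [hx2 z hz]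
      _ = z * x⁻¹ := by group

omit [MulAction G Ω] in
theorem VV_le (a : Ω) (p : ℕ) : VV U a p ≤ U a := fun _ hx => hx.1

omit [MulAction G Ω] in
theorem VV_pow {a : Ω} {p : ℕ} {x : G} (hx : x ∈ VV U a p) : x ^ p = 1 := hx.2.1

omit [MulAction G Ω] in
theorem VV_comm {a : Ω} {p : ℕ} : ∀ v ∈ VV U a p, ∀ w ∈ VV U a p, v * w = w * v :=
  fun _ hv _ hw => hv.2.2 _ hw.1

omit [MulAction G Ω] in
theorem VV_order {a : Ω} {p : ℕ} (hp : p.Prime) {x : G} (hx : x ∈ VV U a p) (hx1 : x ≠ 1) :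
    orderOf x = p := by
  rcases (Nat.dvd_prime hp).1 (orderOf_dvd_of_pow_eq_one hx.2.1) with h | h
  · exact absurd (orderOf_eq_one_iff.1 h) hx1
  · exact h

/-- Hypotheses. -/
structure Ctx (U : Ω → Subgroup G) (a b : Ω) : Prop where
  h : SSplit U
  gen : (⨆ c, U c) = ⊤
  ev : Even (Nat.card Ω)
  ab : b ≠ a
  evD : Even (Nat.card (Dab G a b))
  one : OneClass U a b
  X : ∀ X : Subgroup G, X ≤ Dab G a b → X ≠ ⊥ → U a ⊓ centralizer (X : Set G) ≠ ⊥ →
    XType U X a b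

namespace Ctx

variable {a b : Ω} [FaithfulSMul G Ω] [Finite Ω]

omit [FaithfulSMul G Ω] in
theorem odd_U (C : Ctx U a b) : Odd (Nat.card (U a)) := by
  have hev := C.ev
  rw [C.h.card a] at hev
  rcases Nat.even_or_odd (Nat.card (U a)) with h2 | h2
  · exfalso
    exact (Nat.not_even_iff_odd.2 h2.add_one) hev
  · exact h2

theorem finG (_C : Ctx U a b) : Finite G :=
  Finite.of_injective (toPermHom G Ω) (toPerm_injective)

omit [FaithfulSMul G Ω] [Finite Ω] in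
theorem VV_normal (C : Ctx U a b) {p : ℕ} {d : G} (hd : d ∈ Dab G a b) {x : G}
    (hx : x ∈ VV U a p) : d * x * d⁻¹ ∈ VV U a p := by
  refine ⟨C.h.conj_of_fix hd.1 hx.1, ?_, ?_⟩
  · rw [conj_pow, hx.2.1]; group
  · intro y hy
    have h1 := hx.2.2 _ (C.h.conj_of_fix' hd.1 hy)
    calc d * x * d⁻¹ * y = d * (x * (d⁻¹ * y * d)) * d⁻¹ := by group
      _ = d * ((d⁻¹ * y * d) * x) * d⁻¹ := by rw [h1]
      _ = _ := by group

/-- `Dab` acts faithfully on its nontrivial invariant subgroups of `U a`. -/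
theorem faithful (C : Ctx U a b) {Y : Subgroup G} (hY : Y ≤ U a) (hY1 : ∃ y ∈ Y, y ≠ 1)
    (hn : ∀ d ∈ Dab G a b, ∀ y ∈ Y, d * y * d⁻¹ ∈ Y) {d : G} (hd : d ∈ Dab G a b)
    (hc : ∀ y ∈ Y, d * y = y * d) : d = 1 := by
  have := C.finG
  by_contra hd1
  obtain ⟨y, hy, hy1⟩ := hY1
  set X : Subgroup G := Dab G a b ⊓ centralizer (Y : Set G) with hX
  have hXb : X ≠ ⊥ := by
    intro hb
    apply hd1
    rw [← mem_bot, ← hb]
    exact ⟨hd, mem_centralizer_iff.2 fun y hy => (hc y hy).symm⟩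
  have hyX : y ∈ centralizer (X : Set G) := by
    rw [mem_centralizer_iff]
    intro x hx
    exact (mem_centralizer_iff.1 hx.2 y hy).symm
  refine hy1 (normal_fixed' C.h C.gen C.ab C.one C.evD (X := X) inf_le_left ?_
    (fun hne => C.X X inf_le_left hXb hne) (hY hy) hyX)
  intro d hd x hx
  refine mem_inf.2 ⟨mul_mem (mul_mem hd hx.1) (inv_mem hd), ?_⟩
  rw [mem_centralizer_iff]
  intro z hz
  have h1 : d⁻¹ * z * d ∈ Y := by
    have := hn d⁻¹ (inv_mem hd) z hz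
    rwa [inv_inv] at this
  have h2 := mem_centralizer_iff.1 hx.2 _ h1
  calc z * (d * x * d⁻¹) = d * ((d⁻¹ * z * d) * x) * d⁻¹ := by group
    _ = d * (x * (d⁻¹ * z * d)) * d⁻¹ := by rw [h2]
    _ = _ := by group

omit [FaithfulSMul G Ω] in
theorem VV_ne (C : Ctx U a b) {p : ℕ} (hp : p.Prime) (hpU : p ∣ Nat.card (U a)) :
    ∃ v ∈ VV U a p, v ≠ 1 := by
  have := C.h.finite_U a
  have : Fact p.Prime := ⟨hp⟩
  have := C.h.nil a
  obtain ⟨P⟩ : Nonempty (Sylow p (U a)) := inferInstance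
  have hPn : (P : Subgroup (U a)).Normal :=
    Sylow.normal_of_normalizerCondition Group.normalizerCondition_of_isNilpotent P
  have hPb : (P : Subgroup (U a)) ≠ ⊥ := P.ne_bot_of_dvd_card hpU
  have h1 := Cfsg.Agent.Lib.NormalAbelian.normal_inf_center_ne_bot (P : Subgroup (U a)) hPb
  have h2 : IsPGroup p ((P : Subgroup (U a)) ⊓ center (U a) : Subgroup (U a)) :=
    P.isPGroup'.to_le inf_le_left
  have h3 : p ∣ Nat.card ((P : Subgroup (U a)) ⊓ center (U a) : Subgroup (U a)) := by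
    obtain ⟨k, hk⟩ := IsPGroup.iff_card.1 h2
    have hk0 : k ≠ 0 := by
      rintro rfl
      rw [pow_zero] at hk
      exact h1 (Subgroup.eq_bot_of_card_eq _ hk)
    rw [hk]
    exact dvd_pow_self p hk0
  obtain ⟨⟨x, hx⟩, hxp⟩ := exists_prime_orderOf_dvd_card' p h3
  rw [← Subgroup.orderOf_coe] at hxp
  change orderOf x = p at hxp
  rw [← Subgroup.orderOf_coe] at hxp
  refine ⟨(x : G), ⟨x.2, ?_, ?_⟩, ?_⟩
  · rw [← hxp, pow_orderOf_eq_one]
  · intro y hy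
    have h4 := mem_center_iff.1 hx.2 ⟨y, hy⟩
    exact (congrArg Subtype.val h4).symm
  · intro hc
    rw [hc, orderOf_one] at hxp
    exact hp.one_lt.ne hxp

/-- Every involution of `Dab` centralises a nontrivial element of `VV U a p`. -/
theorem exists_fixed (C : Ctx U a b) {p r : ℕ} (hp : p.Prime) (hr : r.Prime) (hpr : p ≠ r)
    (hpU : p ∣ Nat.card (U a)) (hrU : r ∣ Nat.card (U a)) {z : G} (hz : z ∈ Dab G a b)
    (hz1 : z ≠ 1) (hzz : z * z = 1) : ∃ v ∈ VV U a p, v ≠ 1 ∧ z * v = v * z := by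
  have := C.finG
  by_contra hcon
  push Not at hcon
  have hf : ∀ v ∈ VV U a p, z * v = v * z → v = 1 := by
    intro v hv hzv
    by_contra hv1
    exact hcon v hv hv1 hzv
  have hinv : ∀ v ∈ VV U a p, z * v * z⁻¹ = v⁻¹ := fun v hv =>
    inverts_of_fpf (fun x hx => C.VV_normal hz hx) hzz hf hv
  have hzi : z⁻¹ = z := inv_eq_of_mul_eq_one_left hzz
  have hcent : ∀ d ∈ Dab G a b, d * z * d⁻¹ = z := by
    intro d hd
    have hk : z * (d * z * d⁻¹) ∈ Dab G a b := mul_mem hz (mul_mem (mul_mem hd hz) (inv_mem hd))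
    have h1 : z * (d * z * d⁻¹) = 1 := by
      refine C.faithful (VV_le a p) (C.VV_ne hp hpU) (fun d hd y hy => C.VV_normal hd hy) hk ?_
      intro y hy
      have h2 : d⁻¹ * y * d ∈ VV U a p := by
        have := C.VV_normal (inv_mem hd) hy
        rwa [inv_inv] at this
      have h3 := hinv _ h2
      have h4 := hinv _ (inv_mem hy)
      calc z * (d * z * d⁻¹) * y = z * (d * (z * (d⁻¹ * y * d) * z⁻¹) * d⁻¹) * z⁻¹ *
            (z * (d * z * d⁻¹)) := by group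
        _ = z * (d * (d⁻¹ * y * d)⁻¹ * d⁻¹) * z⁻¹ * (z * (d * z * d⁻¹)) := by rw [h3]
        _ = (z * y⁻¹ * z⁻¹) * (z * (d * z * d⁻¹)) := by group
        _ = _ := by rw [h4, inv_inv]
    rw [← inv_eq_of_mul_eq_one_right h1, hzi]
  -- `C_{U a}(z) = 1`
  have hXD : zpowers z ≤ Dab G a b := by rw [zpowers_le]; exact hz
  have hXb : zpowers z ≠ ⊥ := fun hc => hz1 (zpowers_eq_bot.1 hc)
  have hfa : ∀ u ∈ U a, z * u = u * z → u = 1 := by
    intro u hu hzu
    refine normal_fixed' C.h C.gen C.ab C.one C.evD (X := zpowers z) hXD ?_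
      (fun hne => C.X _ hXD hXb hne) hu ?_
    · intro d hd x hx
      obtain ⟨i, rfl⟩ := mem_zpowers_iff.1 hx
      rw [← conj_zpow, hcent d hd]
      exact zpow_mem_zpowers z i
    · rw [mem_centralizer_iff]
      rintro x hx
      obtain ⟨i, rfl⟩ := mem_zpowers_iff.1 hx
      have : Commute z u := hzu
      exact this.zpow_left i
  have hfb : ∀ u ∈ U b, z * u = u * z → u = 1 := fun u hu hzu =>
    fpf_symm C.h C.ab.symm (by rw [Dab_symm]; exact hz) hfa hu hzu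
  have hcard : Nat.card (U b) = Nat.card (U a) := by
    have h1 := C.h.card a
    have h2 := C.h.card b
    omega
  exact no_central C.h C.ab C.one hp hr hpr (by rw [hcard]; exact hpU) (by rw [hcard]; exact hrU)
    hz hzz hfb

omit [FaithfulSMul G Ω] in
/-- Two different primes: the structure on `Fix X` is affine. -/
theorem affine (C : Ctx U a b) {p r : ℕ} (hp : p.Prime) (hr : r.Prime) (hpr : p ≠ r)
    {X : Subgroup G} (hX : X ≤ Dab G a b) (hXb : X ≠ ⊥) {v w : G} (hv : v ∈ VV U a p)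
    (hv1 : v ≠ 1) (hvX : v ∈ centralizer (X : Set G)) (hw : w ∈ VV U a r) (hw1 : w ≠ 1)
    (hwX : w ∈ centralizer (X : Set G)) :
    DA (U a ⊓ centralizer (X : Set G)) (Dab G a b ⊓ genFix U X) (kerFix Ω X)
      (fun w => w ∈ genFix U X ∧ Swaps w a b) := by
  have hfin := C.h.finite_U a
  have hvm : v ∈ U a ⊓ centralizer (X : Set G) := ⟨hv.1, hvX⟩
  have hwm : w ∈ U a ⊓ centralizer (X : Set G) := ⟨hw.1, hwX⟩
  have hne : U a ⊓ centralizer (X : Set G) ≠ ⊥ := by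
    intro hc
    rw [hc, mem_bot] at hvm
    exact hv1 hvm
  rcases xtype_primePow (C.X X hX hXb hne) with h1 | h1
  · exact h1
  · exfalso
    obtain ⟨q, k, hq, -, hqk⟩ := h1
    have hq' : q.Prime := hq.nat_prime
    have h2 : p ∣ Nat.card (U a ⊓ centralizer (X : Set G) : Subgroup G) := by
      rw [← VV_order hp hv hv1]
      exact Subgroup.orderOf_dvd_natCard _ hvm
    have h3 : r ∣ Nat.card (U a ⊓ centralizer (X : Set G) : Subgroup G) := by
      rw [← VV_order hr hw hw1]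
      exact Subgroup.orderOf_dvd_natCard _ hwm
    rw [← hqk] at h2 h3
    have h4 := (Nat.prime_dvd_prime_iff_eq hp hq').1 (hp.dvd_of_dvd_pow h2)
    have h5 := (Nat.prime_dvd_prime_iff_eq hr hq').1 (hr.dvd_of_dvd_pow h3)
    exact hpr (h4.trans h5.symm)

end Ctx

/-- In a cyclic group, the elements of order dividing `p` lie in every subgroup of order `p`. -/
theorem mem_zpowers_of_cyclic {G : Type*} [Group G] {C : Subgroup G} [Finite C] (hC : IsCyclic C)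
    {p : ℕ} (hp : p.Prime) {v w : G} (hv : v ∈ C) (hvp : orderOf v = p) (hw : w ∈ C)
    (hwp : w ^ p = 1) : w ∈ zpowers v := by
  classical
  have := Fintype.ofFinite C
  set S : Finset C := Finset.univ.filter fun x : C => x ^ p = 1 with hS
  have h1 : S.card ≤ p := IsCyclic.card_pow_eq_one_le hp.pos
  set v' : C := ⟨v, hv⟩ with hv'
  have h2 : orderOf v' = p := by rw [← Subgroup.orderOf_coe]; exact hvp
  set T : Finset C := (zpowers v' : Set C).toFinset with hT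
  have h3 : T.card = p := by
    rw [hT, Set.toFinset_card, ← Nat.card_eq_fintype_card]
    change Nat.card (zpowers v') = p
    rw [Nat.card_zpowers, h2]
  have h4 : T ⊆ S := by
    intro x hx
    rw [hT, Set.mem_toFinset] at hx
    obtain ⟨i, rfl⟩ := mem_zpowers_iff.1 hx
    rw [hS, Finset.mem_filter]
    refine ⟨Finset.mem_univ _, ?_⟩
    have h5 : v' ^ p = 1 := by rw [← h2, pow_orderOf_eq_one]
    calc (v' ^ i) ^ p = (v' ^ p) ^ i := by rw [← zpow_natCast, ← zpow_natCast, ← zpow_mul,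
          ← zpow_mul, mul_comm]
      _ = 1 := by rw [h5, one_zpow]
  have h5 : T = S := Finset.eq_of_subset_of_card_le h4 (by rw [h3]; exact h1)
  have h6 : (⟨w, hw⟩ : C) ∈ S := by
    rw [hS, Finset.mem_filter]
    exact ⟨Finset.mem_univ _, Subtype.ext hwp⟩
  rw [← h5, hT, Set.mem_toFinset] at h6
  obtain ⟨i, hi⟩ := mem_zpowers_iff.1 h6
  exact mem_zpowers_iff.2 ⟨i, congrArg Subtype.val hi⟩

namespace Ctx

variable {a b : Ω} [FaithfulSMul G Ω] [Finite Ω]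

omit [FaithfulSMul G Ω] in
theorem ne_two (C : Ctx U a b) {p : ℕ} (hpU : p ∣ Nat.card (U a)) : p ≠ 2 := by
  rintro rfl
  exact Nat.not_even_iff_odd.2 C.odd_U (even_iff_two_dvd.2 hpU)

theorem fixed_zpowers (C : Ctx U a b) {p r : ℕ} (hp : p.Prime) (hr : r.Prime) (hpr : p ≠ r)
    (hpU : p ∣ Nat.card (U a)) (hrU : r ∣ Nat.card (U a)) {z : G} (hz : z ∈ Dab G a b)
    (hz1 : z ≠ 1) (hzz : z * z = 1) {v : G} (hv : v ∈ VV U a p) (hv1 : v ≠ 1)
    (hzv : z * v = v * z) {x : G} (hx : x ∈ VV U a p) (hzx : z * x = x * z) : x ∈ zpowers v := by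
  have hfin := C.h.finite_U a
  have := C.finG
  obtain ⟨w, hw, hw1, hzw⟩ := C.exists_fixed hr hp hpr.symm hrU hpU hz hz1 hzz
  have hXD : zpowers z ≤ Dab G a b := by rw [zpowers_le]; exact hz
  have hXb : zpowers z ≠ ⊥ := fun hc => hz1 (zpowers_eq_bot.1 hc)
  have hcen : ∀ u : G, z * u = u * z → u ∈ centralizer ((zpowers z : Subgroup G) : Set G) := by
    intro u hzu
    rw [mem_centralizer_iff]
    rintro x hx
    obtain ⟨i, rfl⟩ := mem_zpowers_iff.1 hx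
    have : Commute z u := hzu
    exact this.zpow_left i
  have hA := C.affine hp hr hpr hXD hXb hv hv1 (hcen v hzv) hw hw1 (hcen w hzw)
  exact mem_zpowers_of_cyclic hA.cyc hp (C := U a ⊓ centralizer ((zpowers z : Subgroup G) : Set G))
    ⟨hv.1, hcen v hzv⟩ (VV_order hp hv hv1) ⟨hx.1, hcen x hzx⟩ hx.2.1

/-- Two involutions of `Dab` invert a common nontrivial element of `VV U a p`. -/
theorem exists_inverted (C : Ctx U a b) {p r : ℕ} (hp : p.Prime) (hr : r.Prime) (hpr : p ≠ r)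
    (hpU : p ∣ Nat.card (U a)) (hrU : r ∣ Nat.card (U a)) {z₁ z₂ : G} (hz₁ : z₁ ∈ Dab G a b)
    (hz₁1 : z₁ ≠ 1) (hzz₁ : z₁ * z₁ = 1) (hz₂ : z₂ ∈ Dab G a b) (hz₂1 : z₂ ≠ 1)
    (hzz₂ : z₂ * z₂ = 1) :
    ∃ v ∈ VV U a p, v ≠ 1 ∧ z₁ * v * z₁⁻¹ = v⁻¹ ∧ z₂ * v * z₂⁻¹ = v⁻¹ := by
  classical
  have := C.finG
  have : Fact p.Prime := ⟨hp⟩
  by_contra hcon
  push Not at hcon
  set V := VV U a p with hV
  have hVc : ∀ v ∈ V, ∀ w ∈ V, v * w = w * v := VV_comm
  obtain ⟨v₁, hv₁, hv₁1, hzv₁⟩ := C.exists_fixed hp hr hpr hpU hrU hz₁ hz₁1 hzz₁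
  obtain ⟨v₂, hv₂, hv₂1, hzv₂⟩ := C.exists_fixed hp hr hpr hpU hrU hz₂ hz₂1 hzz₂
  have hfixed : ∀ z ∈ Dab G a b, z * z = 1 → ∀ x ∈ V,
      z * (x * (z * x * z⁻¹)) = (x * (z * x * z⁻¹)) * z := by
    intro z hz hzz x hx
    have hzi : z⁻¹ = z := inv_eq_of_mul_eq_one_left hzz
    have h1 : z * x * z⁻¹ ∈ V := C.VV_normal hz hx
    calc z * (x * (z * x * z⁻¹)) = (z * x * z⁻¹) * (z * z) * x * z⁻¹ := by group
      _ = (z * x * z⁻¹) * x * z⁻¹ := by rw [hzz, mul_one]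
      _ = x * (z * x * z⁻¹) * z := by rw [hVc _ h1 _ hx, hzi]
  have hm₁ : ∀ x : V, (x : G) * (z₁ * x * z₁⁻¹) ∈ zpowers v₁ := fun x =>
    C.fixed_zpowers hp hr hpr hpU hrU hz₁ hz₁1 hzz₁ hv₁ hv₁1 hzv₁
      (mul_mem x.2 (C.VV_normal hz₁ x.2)) (hfixed z₁ hz₁ hzz₁ x x.2)
  have hm₂ : ∀ x : V, (x : G) * (z₂ * x * z₂⁻¹) ∈ zpowers v₂ := fun x =>
    C.fixed_zpowers hp hr hpr hpU hrU hz₂ hz₂1 hzz₂ hv₂ hv₂1 hzv₂
      (mul_mem x.2 (C.VV_normal hz₂ x.2)) (hfixed z₂ hz₂ hzz₂ x x.2)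
  let f : V → zpowers v₁ × zpowers v₂ := fun x => (⟨_, hm₁ x⟩, ⟨_, hm₂ x⟩)
  have key : ∀ z ∈ Dab G a b, ∀ x ∈ V, ∀ y ∈ V, x * (z * x * z⁻¹) = y * (z * y * z⁻¹) →
      z * (x * y⁻¹) * z⁻¹ = (x * y⁻¹)⁻¹ := by
    intro z hz x hx y hy he
    have h1 : z * y * z⁻¹ ∈ V := C.VV_normal hz hy
    have h2 : z * x * z⁻¹ = x⁻¹ * y * (z * y * z⁻¹) := by
      calc z * x * z⁻¹ = x⁻¹ * (x * (z * x * z⁻¹)) := by group
        _ = x⁻¹ * (y * (z * y * z⁻¹)) := by rw [he]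
        _ = _ := by group
    calc z * (x * y⁻¹) * z⁻¹ = (z * x * z⁻¹) * (z * y * z⁻¹)⁻¹ := by group
      _ = x⁻¹ * y * (z * y * z⁻¹) * (z * y * z⁻¹)⁻¹ := by rw [h2]
      _ = x⁻¹ * y := by group
      _ = y * x⁻¹ := hVc _ (inv_mem hx) _ hy
      _ = (x * y⁻¹)⁻¹ := by group
  have hinj : Function.Injective f := by
    intro x y hxy
    have h1 : (x : G) * (z₁ * x * z₁⁻¹) = y * (z₁ * y * z₁⁻¹) :=
      congrArg (fun t : zpowers v₁ × zpowers v₂ => (t.1 : G)) hxy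
    have h2 : (x : G) * (z₂ * x * z₂⁻¹) = y * (z₂ * y * z₂⁻¹) :=
      congrArg (fun t : zpowers v₁ × zpowers v₂ => (t.2 : G)) hxy
    by_contra hne
    have h3 : (x : G) * (y : G)⁻¹ ≠ 1 := fun hc => hne (Subtype.ext (mul_inv_eq_one.1 hc))
    exact hcon _ (mul_mem x.2 (inv_mem y.2)) h3 (key z₁ hz₁ x x.2 y y.2 h1)
      (key z₂ hz₂ x x.2 y y.2 h2)
  have hcard : Nat.card V ≤ p ^ 2 := by
    have h1 := Nat.card_le_card_of_injective f hinj
    rw [Nat.card_prod, Nat.card_zpowers, Nat.card_zpowers, VV_order hp hv₁ hv₁1,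
      VV_order hp hv₂ hv₂1] at h1
    rwa [pow_two]
  have hpg : IsPGroup p V := fun x => ⟨1, by
    rw [pow_one]
    exact Subtype.ext x.2.2.1⟩
  obtain ⟨k, hk⟩ := IsPGroup.iff_card.1 hpg
  have hk2 : k ≤ 2 := by
    rw [hk] at hcard
    exact (Nat.pow_le_pow_iff_right hp.one_lt).1 hcard
  have hk0 : k ≠ 0 := by
    rintro rfl
    rw [pow_zero] at hk
    have h1 := Subgroup.eq_bot_of_card_eq _ hk
    have h2 : v₁ ∈ V := hv₁
    rw [h1] at h2
    exact hv₁1 (mem_bot.1 h2)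
  have hle : zpowers v₁ ≤ V := by rw [zpowers_le]; exact hv₁
  interval_cases k
  · exact hk0 rfl
  · -- `|V| = p`
    have h1 : zpowers v₁ = V := by
      apply Subgroup.eq_of_le_of_card_ge hle
      rw [hk, Nat.card_zpowers, VV_order hp hv₁ hv₁1, pow_one]
    apply hz₁1
    refine C.faithful (VV_le a p) (C.VV_ne hp hpU) (fun d hd y hy => C.VV_normal hd hy) hz₁ ?_
    intro y hy
    rw [← hV, ← h1] at hy
    obtain ⟨i, rfl⟩ := mem_zpowers_iff.1 hy
    have : Commute z₁ v₁ := hzv₁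
    exact this.zpow_right i
  · -- `|V| = p²`
    obtain ⟨φ, hφ⟩ := exists_det (Dab G a b) V (C.ne_two hpU) (fun v hv => hv.2.1) hVc
      (fun d hd v hv => C.VV_normal hd hv) hk
    have h1 : ∃ x ∈ V, x ∉ zpowers v₁ := by
      by_contra hc
      push Not at hc
      have h2 : V ≤ zpowers v₁ := hc
      have h3 := Subgroup.card_le_of_le h2
      rw [hk, Nat.card_zpowers, VV_order hp hv₁ hv₁1] at h3
      have h4 := hp.two_le
      nlinarith
    obtain ⟨x, hx, hx'⟩ := h1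
    have h2 : z₁ * x * z₁⁻¹ ∈ V := C.VV_normal hz₁ hx
    have hzi : z₁⁻¹ = z₁ := inv_eq_of_mul_eq_one_left hzz₁
    have h3 : z₁ * (x⁻¹ * (z₁ * x * z₁⁻¹)) * z₁⁻¹ = (x⁻¹ * (z₁ * x * z₁⁻¹))⁻¹ := by
      calc z₁ * (x⁻¹ * (z₁ * x * z₁⁻¹)) * z₁⁻¹ =
            (z₁ * x * z₁⁻¹)⁻¹ * ((z₁ * z₁) * x * (z₁ * z₁)⁻¹) := by group
        _ = (z₁ * x * z₁⁻¹)⁻¹ * x := by rw [hzz₁]; group
        _ = _ := by group
    have h4 : x⁻¹ * (z₁ * x * z₁⁻¹) ≠ 1 := by
      intro hc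
      apply hx'
      refine C.fixed_zpowers hp hr hpr hpU hrU hz₁ hz₁1 hzz₁ hv₁ hv₁1 hzv₁ hx ?_
      have h5 : x = z₁ * x * z₁⁻¹ := inv_mul_eq_one.1 hc
      calc z₁ * x = z₁ * x * z₁⁻¹ * z₁ := by group
        _ = x * z₁ := by rw [← h5]
    have h5 := hφ ⟨z₁, hz₁⟩ v₁ hv₁ _ (mul_mem (inv_mem hx) h2) hv₁1 h4
      (by change z₁ * v₁ * z₁⁻¹ = v₁; rw [hzv₁]; group) h3
    have h6 := hom_invol C.h C.gen C.ab C.one φ ⟨z₁, hz₁⟩ (Subtype.ext hzz₁)
    rw [h6] at h5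
    have h7 : ((1 : (ZMod p)ˣ) : ZMod p) = ((-1 : (ZMod p)ˣ) : ZMod p) := congrArg _ h5
    rw [Units.val_neg, Units.val_one] at h7
    have h8 : ((2 : ℕ) : ZMod p) = 0 := by
      push_cast
      have : (2 : ZMod p) = 1 + 1 := by norm_num
      rw [this]
      nth_rewrite 1 [h7]
      ring
    rw [ZMod.natCast_eq_zero_iff] at h8
    exact C.ne_two hpU ((Nat.prime_dvd_prime_iff_eq hp Nat.prime_two).1 h8)

/-- **Prime power degree**, even case. -/
theorem isPrimePow (C : Ctx U a b) : IsPrimePow (Nat.card (U a)) := by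
  classical
  by_contra hnp
  have hfin := C.h.finite_U a
  have hfG := C.finG
  have h2 : Fact (Nat.Prime 2) := ⟨Nat.prime_two⟩
  -- two primes
  have hN1 : Nat.card (U a) ≠ 1 := by
    have h1 := C.h.two_lt_card a
    rw [C.h.card a] at h1
    omega
  obtain ⟨p, r, hp, hr, hpr, hpU, hrU⟩ : ∃ p r : ℕ, p.Prime ∧ r.Prime ∧ p ≠ r ∧
      p ∣ Nat.card (U a) ∧ r ∣ Nat.card (U a) := by
    rw [isPrimePow_iff_unique_prime_dvd] at hnp
    have h1 := Nat.minFac_prime hN1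
    have h3 : ¬ ∀ q : ℕ, q.Prime ∧ q ∣ Nat.card (U a) → q = (Nat.card (U a)).minFac := fun hc =>
      hnp ⟨_, ⟨h1, Nat.minFac_dvd _⟩, hc⟩
    push Not at h3
    obtain ⟨q, ⟨hq, hq'⟩, hne⟩ := h3
    exact ⟨_, q, h1, hq, fun hc => hne hc.symm, Nat.minFac_dvd _, hq'⟩
  -- an involution
  obtain ⟨⟨z, hz⟩, hzo⟩ := exists_prime_orderOf_dvd_card' 2 (even_iff_two_dvd.1 C.evD)
  rw [← Subgroup.orderOf_coe] at hzo
  change orderOf z = 2 at hzo
  have hz1 : z ≠ 1 := by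
    rintro rfl
    rw [orderOf_one] at hzo
    exact absurd hzo (by decide)
  have hzz : z * z = 1 := by rw [← pow_two, ← hzo, pow_orderOf_eq_one]
  have hcen : ∀ y u : G, y * u = u * y → u ∈ centralizer ((zpowers y : Subgroup G) : Set G) := by
    intro y u hzu
    rw [mem_centralizer_iff]
    rintro x hx
    obtain ⟨i, rfl⟩ := mem_zpowers_iff.1 hx
    have : Commute y u := hzu
    exact this.zpow_left i
  -- it is not central
  have hnc : ∃ d ∈ Dab G a b, d * z * d⁻¹ ≠ z := by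
    by_contra hcent
    push Not at hcent
    obtain ⟨v, hv, hv1, hzv⟩ := C.exists_fixed hp hr hpr hpU hrU hz hz1 hzz
    have hXD : zpowers z ≤ Dab G a b := by rw [zpowers_le]; exact hz
    have hXb : zpowers z ≠ ⊥ := fun hc => hz1 (zpowers_eq_bot.1 hc)
    refine hv1 (normal_fixed' C.h C.gen C.ab C.one C.evD (X := zpowers z) hXD ?_
      (fun hne => C.X _ hXD hXb hne) hv.1 (hcen z v hzv))
    intro d hd x hx
    obtain ⟨i, rfl⟩ := mem_zpowers_iff.1 hx
    rw [← conj_zpow, hcent d hd]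
    exact zpow_mem_zpowers z i
  obtain ⟨d, hd, hdz⟩ := hnc
  set z₂ := d * z * d⁻¹ with hz₂
  have hz₂D : z₂ ∈ Dab G a b := mul_mem (mul_mem hd hz) (inv_mem hd)
  have hz₂1 : z₂ ≠ 1 := by
    intro hc
    apply hz1
    calc z = d⁻¹ * z₂ * d := by rw [hz₂]; group
      _ = 1 := by rw [hc]; group
  have hzz₂ : z₂ * z₂ = 1 := by
    calc z₂ * z₂ = d * (z * z) * d⁻¹ := by rw [hz₂]; group
      _ = 1 := by rw [hzz]; group
  set y := z * z₂ with hy
  have hyD : y ∈ Dab G a b := mul_mem hz hz₂D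
  have hzi : z⁻¹ = z := inv_eq_of_mul_eq_one_left hzz
  have hy1 : y ≠ 1 := by
    intro hc
    apply hdz
    rw [← inv_eq_of_mul_eq_one_right hc, hzi]
  have hXD : zpowers y ≤ Dab G a b := by rw [zpowers_le]; exact hyD
  have hXb : zpowers y ≠ ⊥ := fun hc => hy1 (zpowers_eq_bot.1 hc)
  -- inverted elements commute with `y`
  have hcomm : ∀ v : G, z * v * z⁻¹ = v⁻¹ → z₂ * v * z₂⁻¹ = v⁻¹ → y * v = v * y := by
    intro v h1 h3
    have h4 : z * v⁻¹ * z⁻¹ = v := by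
      calc z * v⁻¹ * z⁻¹ = (z * v * z⁻¹)⁻¹ := by group
        _ = v := by rw [h1, inv_inv]
    calc y * v = z * (z₂ * v * z₂⁻¹) * z⁻¹ * (z * z₂) := by rw [hy]; group
      _ = (z * v⁻¹ * z⁻¹) * (z * z₂) := by rw [h3]
      _ = v * y := by rw [h4]
  obtain ⟨v, hv, hv1, hzv, hz₂v⟩ := C.exists_inverted hp hr hpr hpU hrU hz hz1 hzz hz₂D hz₂1 hzz₂
  obtain ⟨w, hw, hw1, hzw, hz₂w⟩ :=
    C.exists_inverted hr hp hpr.symm hrU hpU hz hz1 hzz hz₂D hz₂1 hzz₂
  have hvX := hcen y v (hcomm v hzv hz₂v)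
  have hwX := hcen y w (hcomm w hzw hz₂w)
  have hA := C.affine hp hr hpr hXD hXb hv hv1 hvX hw hw1 hwX
  have hvm : v ∈ U a ⊓ centralizer ((zpowers y : Subgroup G) : Set G) := ⟨hv.1, hvX⟩
  have hwm : w ∈ U a ⊓ centralizer ((zpowers y : Subgroup G) : Set G) := ⟨hw.1, hwX⟩
  have hU : U a ⊓ centralizer ((zpowers y : Subgroup G) : Set G) ≠ ⊥ := by
    intro hc
    rw [hc, mem_bot] at hvm
    exact hv1 hvm
  have hfix : ∀ c : Ω, (∀ x ∈ zpowers y, x • c = c) → z • c = c → c = a ∨ c = b := by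
    intro c hc hzc
    by_contra hcon
    push Not at hcon
    obtain ⟨hca, hcb⟩ := hcon
    obtain ⟨u, hu, hub⟩ := C.h.trans C.ab hca
    have hu1 : u ≠ 1 := by
      rintro rfl
      rw [one_smul] at hub
      exact hcb hub.symm
    have hcomm' : ∀ k ∈ Dab G a b, k • c = c → k * u = u * k := by
      intro k hk hkc
      have h1 : k * u * k⁻¹ = u := C.h.eq_of_smul_eq C.ab (C.h.conj_of_fix hk.1 hu) hu (by
        rw [mul_smul, mul_smul, inv_smul_eq_iff.2 (show b = k • b from hk.2.symm), hub, hkc])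
      calc k * u = k * u * k⁻¹ * k := by group
        _ = u * k := by rw [h1]
    have hyu := hcomm' y hyD (hc y (mem_zpowers y))
    have hzu := hcomm' z hz hzc
    -- a power of prime order
    have huo : orderOf u ≠ 1 := fun hc => hu1 (orderOf_eq_one_iff.1 hc)
    obtain ⟨q, hq, hqu⟩ := Nat.exists_prime_and_dvd huo
    have hqU : q ∣ Nat.card (U a) := hqu.trans (Subgroup.orderOf_dvd_natCard _ hu)
    obtain ⟨s, hs, hqs, hsU⟩ : ∃ s : ℕ, s.Prime ∧ q ≠ s ∧ s ∣ Nat.card (U a) := by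
      by_cases hqp : q = p
      · exact ⟨r, hr, by rw [hqp]; exact hpr, hrU⟩
      · exact ⟨p, hp, hqp, hpU⟩
    obtain ⟨x, hx, hx1, hzx, hz₂x⟩ :=
      C.exists_inverted hq hs hqs hqU hsU hz hz1 hzz hz₂D hz₂1 hzz₂
    set u' := u ^ (orderOf u / q) with hu'
    have hu'q : u' ^ q = 1 := by
      rw [hu', ← pow_mul, Nat.div_mul_cancel hqu, pow_orderOf_eq_one]
    have hu'1 : u' ≠ 1 := by
      intro hc
      have h1 := orderOf_dvd_of_pow_eq_one hc
      have h3 : 0 < orderOf u := orderOf_pos u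
      have h4 : orderOf u / q < orderOf u := Nat.div_lt_self h3 hq.one_lt
      have h5 : 0 < orderOf u / q := Nat.div_pos (Nat.le_of_dvd h3 hqu) hq.pos
      exact absurd (Nat.le_of_dvd h5 h1) (not_le.2 h4)
    have hyu' : y * u' = u' * y := by
      have : Commute y u := hyu
      exact this.pow_right _
    have hzu' : z * u' = u' * z := by
      have : Commute z u := hzu
      exact this.pow_right _
    have h1 : u' ∈ zpowers x := mem_zpowers_of_cyclic hA.cyc hq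
      (C := U a ⊓ centralizer ((zpowers y : Subgroup G) : Set G))
      ⟨hx.1, hcen y x (hcomm x hzx hz₂x)⟩ (VV_order hq hx hx1) ⟨pow_mem hu _, hcen y u' hyu'⟩ hu'q
    obtain ⟨i, hi⟩ := mem_zpowers_iff.1 h1
    have h3 : z * u' * z⁻¹ = u'⁻¹ := by
      rw [← hi, ← conj_zpow, hzx, inv_zpow]
    have h4 : u'⁻¹ = u' := by
      rw [← h3, hzu']; group
    have h5 : u' ^ 2 = 1 := by
      rw [pow_two]; nth_rewrite 1 [← h4]; group
    have h6 := orderOf_dvd_of_pow_eq_one h5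
    have h7 := orderOf_dvd_of_pow_eq_one hu'q
    rcases (Nat.dvd_prime hq).1 h7 with h8 | h8
    · exact hu'1 (orderOf_eq_one_iff.1 h8)
    · rw [h8] at h6
      exact C.ne_two hqU ((Nat.prime_dvd_prime_iff_eq hq Nat.prime_two).1 h6)
  have h4 := aff_four C.h C.ev C.ab hXD hU hA.triv hz hzz (fun x hx => by
    obtain ⟨i, rfl⟩ := mem_zpowers_iff.1 hx
    rw [← conj_zpow]
    have h5 : z * y * z⁻¹ = y⁻¹ := by
      have h6 : z₂⁻¹ = z₂ := inv_eq_of_mul_eq_one_left hzz₂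
      rw [hy, mul_inv_rev, h6, hzi]
      calc z * (z * z₂) * z = (z * z) * z₂ * z := by group
        _ = z₂ * z := by rw [hzz, one_mul]
    rw [h5, inv_zpow]
    exact inv_mem (zpow_mem_zpowers y i)) hfix
  have h5 := C.h.card_fixSub C.ab (X := zpowers y) (fun x hx => (hXD hx).1)
    (fun x hx => (hXD hx).2)
  have h6 : p ∣ Nat.card (U a ⊓ centralizer ((zpowers y : Subgroup G) : Set G) : Subgroup G) := by
    rw [← VV_order hp hv hv1]
    exact Subgroup.orderOf_dvd_natCard _ hvm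
  have h7 : r ∣ Nat.card (U a ⊓ centralizer ((zpowers y : Subgroup G) : Set G) : Subgroup G) := by
    rw [← VV_order hr hw hw1]
    exact Subgroup.orderOf_dvd_natCard _ hwm
  have h8 : p * r ∣ Nat.card (U a ⊓ centralizer ((zpowers y : Subgroup G) : Set G) : Subgroup G) :=
    Nat.Coprime.mul_dvd_of_dvd_of_dvd ((Nat.coprime_primes hp hr).2 hpr) h6 h7
  have h9 := Nat.le_of_dvd Nat.card_pos h8
  have hp2 := hp.two_le
  have hr2 := hr.two_le
  nlinarith

end Ctx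

end Cfsg.Agent.HKS.PP5
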