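import Mathlib
import Cfsg.Agent.HKS.PP5
import Cfsg.Agent.HKS.OneClass
import Cfsg.Agent.HKS.Dichotomy
import Cfsg.Agent.HKS.Induct
import Cfsg.Agent.HKS.Goals

/-!
# Prime power degree, final form

* `oneClass_of_not_primePow` (any parity): if `|U a|` is not a prime power, all `μ`-elements are
  conjugate under `Dab`;
* `isPrimePow_even`: in even degree, `|Dab|` even, given the list in smaller degrees, `|U a|` is a
  prime power.
-/

set_option autoImplicit false

namespace Cfsg.Agent.HKS.PPMain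

open Subgroup MulAction SSplit

/-- If `|U a|` is not a prime power, all `μ`-elements are conjugate under `Dab`. -/
theorem oneClass_of_not_primePow {G Ω : Type*} [Group G] [MulAction G Ω] {U : Ω → Subgroup G}
    (h : SSplit U) [Finite G] [Finite Ω] {a b : Ω} (hab : b ≠ a)
    (hN : ¬ IsPrimePow (Nat.card (U a))) : PP1.OneClass U a b := by
  classical
  have := Fintype.ofFinite (U a)
  obtain ⟨w, hw⟩ := h.exists_swaps hab
  exact h.oneClass hab fun χ hχ hs =>
    RankOne.const_of_not_primePow (h.rankOne hab hw) (h.nil a) hN hχ hs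

/-- **(P) for `|Dab|` even**, with the list for the fixed structures as hypothesis. -/
theorem isPrimePow_of_xtype.{v} {G Ω : Type v} [Group G] [MulAction G Ω] [FaithfulSMul G Ω]
    [Finite Ω] {U : Ω → Subgroup G} (h : SSplit U) (hgen : (⨆ c, U c) = ⊤)
    (hev : Even (Nat.card Ω)) {a b : Ω} (hab : b ≠ a) (hevD : Even (Nat.card (Dab G a b)))
    (hX : ∀ X : Subgroup G, X ≤ Dab G a b → X ≠ ⊥ → U a ⊓ centralizer (X : Set G) ≠ ⊥ →
      XType U X a b) : IsPrimePow (Nat.card (U a)) := by
  by_contra hN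
  have : Finite G := Finite.of_injective (toPermHom G Ω) (toPerm_injective)
  exact hN (PP5.Ctx.isPrimePow ⟨h, hgen, hev, hab, hevD, oneClass_of_not_primePow h hab hN, hX⟩)

/-- **(P) for `|Dab|` even**, given the list in smaller degrees. -/
theorem isPrimePow_even.{v} {G Ω : Type v} [Group G] [MulAction G Ω] [FaithfulSMul G Ω]
    [Finite Ω] (IH : HKSBelow.{v} (Nat.card Ω)) {U : Ω → Subgroup G}
    (h : SSplit U) (hgen : (⨆ c, U c) = ⊤) (hev : Even (Nat.card Ω)) {a b : Ω} (hab : b ≠ a)
    (hevD : Even (Nat.card (Dab G a b))) : IsPrimePow (Nat.card (U a)) :=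
  isPrimePow_of_xtype h hgen hev hab hevD fun _ hXD hXb hU =>
    IH.xtype' h hev hab hXD hXb hU

end Cfsg.Agent.HKS.PPMain

namespace Cfsg.Agent.HKS

/-- **Goal 2.** -/
theorem goalPow.{v} : GoalPow.{v} := by
  intro G Ω _ _ _ _ _ U a b C h2
  obtain ⟨p, k, hp, -, hk⟩ := PPMain.isPrimePow_of_xtype C.split C.gen C.even C.ne
    (even_iff_two_dvd.2 h2) C.IH
  exact ⟨p, k, hp.nat_prime, hk.symm⟩

end Cfsg.Agent.HKS
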