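import Mathlib
import Cfsg.Agent.HKS.ReeOver
import Cfsg.Agent.HKS.Affine
import Cfsg.Agent.KantorSeitz.Iface
import Cfsg.Agent.KantorSeitz.Lines
import Cfsg.Agent.KantorSeitz.Dilat
import Cfsg.Agent.S0283
import Cfsg.Agent.TwoFusion.SLTwoFacts

/-!
# From the list to the interface of the Kantor–Seitz theorem

`hksEven_of` : `HKSEven` follows from `∀ n, HKSBelow n`.
-/

set_option autoImplicit false

namespace Cfsg.Agent.HKS.ToIface

open Subgroup MulAction
open ReeAux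

/-! ### Counting -/

/-- semiregular conjugation action on a set of elements -/
theorem semireg_pred {G : Type*} [Group G] (D : Subgroup G) [Finite D] (P : G → Prop)
    [Finite {v // P v}] (hinv : ∀ d ∈ D, ∀ v, P v → P (d * v * d⁻¹))
    (hfree : ∀ d ∈ D, ∀ v, P v → d * v = v * d → d = 1) : Nat.card D ∣ Nat.card {v // P v} := by
  let _ : MulAction D {v // P v} :=
    { smul := fun r v => ⟨(r : G) * v.1 * (r : G)⁻¹, hinv r r.2 v.1 v.2⟩
      one_smul := fun v => Subtype.ext (by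
        change (1 : G) * v.1 * (1 : G)⁻¹ = v.1
        group)
      mul_smul := fun r r' v => Subtype.ext (by
        change ((r : G) * r') * v.1 * ((r : G) * r')⁻¹ = r * (r' * v.1 * (r' : G)⁻¹) * (r : G)⁻¹
        group) }
  have h1 := card_dvd_mul (R := D) (X := {v // P v}) (k := 1) (by
    rintro ⟨v, hv⟩
    rw [Nat.dvd_one, Subgroup.card_eq_one, eq_bot_iff]
    intro r hr
    have hr' : r • (⟨v, hv⟩ : {v // P v}) = ⟨v, hv⟩ := hr
    have hr2 : (r : G) * v * (r : G)⁻¹ = v := congrArg Subtype.val hr'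
    exact mem_bot.2 (Subtype.ext (hfree r r.2 v hv (mul_inv_eq_iff_eq_mul.1 hr2))))
  rwa [one_mul] at h1

theorem card_sdiff {G : Type*} [Group G] {Z C : Subgroup G} [Finite C] (hZC : Z ≤ C) :
    Nat.card {v : G // v ∈ C ∧ v ∉ Z} + Nat.card Z = Nat.card C := by
  classical
  have : Finite Z := Finite.of_injective _ (Subgroup.inclusion_injective hZC)
  have h1 : Nat.card {v : G // v ∈ C ∧ v ∉ Z} = ((C : Set G) \ (Z : Set G)).ncard := rfl
  have h2 : Nat.card Z = (Z : Set G).ncard := rfl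
  have h3 : Nat.card C = (C : Set G).ncard := rfl
  rw [h1, h2, h3]
  exact Set.ncard_sdiff_add_ncard_of_subset hZC (Set.toFinite _)

theorem dvd_card_sub {G : Type*} [Group G] {D V Z : Subgroup G} [Finite D] [Finite V] (hZV : Z ≤ V)
    (hDV : ∀ d ∈ D, ∀ v ∈ V, d * v * d⁻¹ ∈ V) (hDZ : ∀ d ∈ D, ∀ v ∈ Z, d * v * d⁻¹ ∈ Z)
    (hfree : ∀ d ∈ D, ∀ v ∈ V, v ∉ Z → d * v = v * d → d = 1) :
    Nat.card D ∣ Nat.card V - Nat.card Z := by
  have hfin : Finite {v : G // v ∈ V ∧ v ∉ Z} :=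
    Finite.of_injective (fun v => (⟨v.1, v.2.1⟩ : V)) fun v w h =>
      Subtype.ext (congrArg (fun x : V => (x : G)) h)
  have h1 := semireg_pred D (fun v => v ∈ V ∧ v ∉ Z) (by
    rintro d hd v ⟨hv, hvZ⟩
    refine ⟨hDV d hd v hv, fun hc => hvZ ?_⟩
    have h2 := hDZ d⁻¹ (inv_mem hd) _ hc
    have h3 : d⁻¹ * (d * v * d⁻¹) * d⁻¹⁻¹ = v := by group
    rwa [h3] at h2) (fun d hd v hv => hfree d hd v hv.1 hv.2)
  have h2 := card_sdiff hZV
  have h3 : Nat.card {v : G // v ∈ V ∧ v ∉ Z} = Nat.card V - Nat.card Z := by omega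
  rwa [h3] at h1

/-! ### Normal subgroups -/

section

variable {G Ω : Type*} [Group G] [MulAction G Ω] {U : Ω → Subgroup G}

theorem exists_U_ne_one (h : SSplit U) (c : Ω) : ∃ u ∈ U c, u ≠ 1 := by
  obtain ⟨b, hb, -⟩ := h.three c c
  obtain ⟨d, hdc, hdb⟩ := h.three c b
  obtain ⟨x, hx, hxb⟩ := h.trans hb hdc
  refine ⟨x, hx, ?_⟩
  rintro rfl
  rw [one_smul] at hxb
  exact hdb hxb.symm

/-- an element of `G_ab` centralising `U a` is trivial -/
theorem eq_one_of_comm (h : SSplit U) [FaithfulSMul G Ω] {a b : Ω} (hab : b ≠ a) {g : G}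
    (hga : g • a = a) (hgb : g • b = b) (hc : ∀ v ∈ U a, g * v = v * g) : g = 1 := by
  refine eq_of_smul_eq_smul (α := Ω) fun c => ?_
  rw [one_smul]
  by_cases hca : c = a
  · rw [hca]; exact hga
  · obtain ⟨v, hv, hvb⟩ := h.trans hab hca
    rw [← hvb, ← mul_smul, hc v hv, mul_smul, hgb]

theorem inf_ne_bot (h : SSplit U) [FaithfulSMul G Ω] {M N : Subgroup G} (hM : M.Normal)
    (hU : ∀ c, U c ≤ M) (hN : N.Normal) (hN1 : N ≠ ⊥) : N ⊓ M ≠ ⊥ := by
  intro hc
  apply hN1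
  rw [eq_bot_iff]
  intro x hx
  rw [mem_bot]
  have hcomm : ∀ m ∈ M, x * m = m * x := by
    intro m hm
    have h1 : x * m * x⁻¹ * m⁻¹ ∈ N ⊓ M := by
      refine mem_inf.2 ⟨?_, mul_mem (hM.conj_mem m hm x) (inv_mem hm)⟩
      have : x * m * x⁻¹ * m⁻¹ = x * (m * x⁻¹ * m⁻¹) := by group
      rw [this]
      exact mul_mem hx (hN.conj_mem _ (inv_mem hx) m)
    rw [hc, mem_bot] at h1
    exact mul_inv_eq_iff_eq_mul.1 (mul_inv_eq_one.1 h1)
  refine eq_of_smul_eq_smul (α := Ω) fun c => ?_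
  rw [one_smul]
  by_contra hxc
  obtain ⟨u, hu, hu1⟩ := exists_U_ne_one h c
  have h1 : x * u * x⁻¹ ∈ U (x • c) := h.conj x hu
  have h2 : x * u * x⁻¹ = u := mul_inv_eq_iff_eq_mul.2 (hcomm u (hU c hu))
  rw [h2] at h1
  exact hu1 (h.inf_eq_bot hxc hu h1)

theorem le_of_simple (h : SSplit U) [FaithfulSMul G Ω] {M N : Subgroup G} (hM : M.Normal)
    (hs : IsSimpleGroup M) (hU : ∀ c, U c ≤ M) (hN : N.Normal) (hN1 : N ≠ ⊥) : M ≤ N := by
  have h1 := inf_ne_bot h hM hU hN hN1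
  have h2 : (N.subgroupOf M).Normal := inferInstance
  rcases h2.eq_bot_or_eq_top with h3 | h3
  · exfalso
    apply h1
    rw [eq_bot_iff]
    intro x hx
    have h4 : (⟨x, hx.2⟩ : M) ∈ N.subgroupOf M := mem_subgroupOf.2 hx.1
    rw [h3, mem_bot] at h4
    exact mem_bot.2 (congrArg Subtype.val h4)
  · intro x hx
    have h4 : (⟨x, hx⟩ : M) ∈ N.subgroupOf M := by rw [h3]; exact mem_top _
    exact mem_subgroupOf.1 h4

theorem conj_mem_centralizer {R : Subgroup G} {d v : G} (hd : ∀ r ∈ R, r * d = d * r)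
    (hv : v ∈ centralizer (R : Set G)) : d * v * d⁻¹ ∈ centralizer (R : Set G) := by
  rw [mem_centralizer_iff] at hv ⊢
  intro r hr
  have h1 : Commute r v := hv r hr
  have h2 : Commute r d := hd r hr
  exact (h2.mul_right h1).mul_right h2.inv_right

/-- a normal `p`-subgroup of `G_ab` centralises `G_ab ∩ M` if the latter has order prime to `p` -/
theorem comm_of_coprime {M : Subgroup G} (hM : M.Normal) {a b : Ω} [Finite G] {p : ℕ}
    (hp : p.Prime) (hcop : (Nat.card (Dab G a b ⊓ M : Subgroup G)).Coprime p) {R : Subgroup G}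
    (hR : IsPGroup p R) (hRD : R ≤ Dab G a b)
    (hRn : ∀ d ∈ Dab G a b, ∀ r ∈ R, d * r * d⁻¹ ∈ R) :
    ∀ r ∈ R, ∀ d ∈ Dab G a b ⊓ M, r * d = d * r := by
  have hp' : Fact p.Prime := ⟨hp⟩
  intro r hr d hd
  have h1 : r * d * r⁻¹ * d⁻¹ ∈ R := by
    have : r * d * r⁻¹ * d⁻¹ = r * (d * r⁻¹ * d⁻¹) := by group
    rw [this]
    exact mul_mem hr (hRn d hd.1 _ (inv_mem hr))
  have h2 : r * d * r⁻¹ * d⁻¹ ∈ Dab G a b ⊓ M :=
    mem_inf.2 ⟨mul_mem (mul_mem (mul_mem (hRD hr) hd.1) (inv_mem (hRD hr))) (inv_mem hd.1),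
      mul_mem (hM.conj_mem d hd.2 r) (inv_mem hd.2)⟩
  have h3 : r * d * r⁻¹ * d⁻¹ = 1 := by
    obtain ⟨k, hk⟩ := hR ⟨_, h1⟩
    have hk' : (r * d * r⁻¹ * d⁻¹) ^ p ^ k = 1 := congrArg Subtype.val hk
    have h4 : orderOf (r * d * r⁻¹ * d⁻¹) ∣ p ^ k := orderOf_dvd_of_pow_eq_one hk'
    have h5 : orderOf (r * d * r⁻¹ * d⁻¹) ∣ Nat.card (Dab G a b ⊓ M : Subgroup G) :=
      Subgroup.orderOf_dvd_natCard _ h2
    have h6 : orderOf (r * d * r⁻¹ * d⁻¹) ∣ 1 := by
      have h7 := Nat.dvd_gcd h5 h4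
      rwa [(hcop.pow_right k).gcd_eq_one] at h7
    exact orderOf_eq_one_iff.1 (Nat.dvd_one.1 h6)
  exact mul_inv_eq_iff_eq_mul.1 (mul_inv_eq_one.1 h3)

end

/-! ### The data in the big group -/

section

variable {G Ω : Type*} [Group G] [MulAction G Ω] {U : Ω → Subgroup G}

theorem card_subgroupOf_eq {A M : Subgroup G} (h : A ≤ M) :
    Nat.card (A.subgroupOf M) = Nat.card A :=
  Nat.card_congr (Subgroup.subgroupOfEquivOfLe h).toEquiv

theorem card_Dab_sub (M : Subgroup G) (a b : Ω) :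
    Nat.card (Dab M a b) = Nat.card (Dab G a b ⊓ M : Subgroup G) :=
  Nat.card_congr ⟨fun x => ⟨x.1.1, x.2, x.1.2⟩, fun x => ⟨⟨x.1, x.2.2⟩, x.2.1⟩, fun _ => rfl,
    fun _ => rfl⟩

theorem pow_facts {q p k : ℕ} (hp : p.Prime) (hk : 0 < k) (hpk : p ^ k = q) (ho : Odd q) :
    3 ≤ p ∧ ∀ d : ℕ, (∃ m, d * m = q - 1) → d.Coprime p := by
  have hpq : p ∣ q := by rw [← hpk]; exact dvd_pow_self p hk.ne'
  refine ⟨?_, ?_⟩
  · have h2 := hp.two_le
    rcases Nat.lt_or_ge 2 p with h | h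
    · exact h
    · exfalso
      have : p = 2 := le_antisymm h h2
      rw [this] at hpq
      exact (Nat.not_even_iff_odd.2 ho) (even_iff_two_dvd.2 hpq)
  · rintro d ⟨m, hm⟩
    rw [Nat.coprime_comm, Nat.Prime.coprime_iff_not_dvd hp]
    intro hd
    have h1 : p ∣ q - 1 := by rw [← hm]; exact hd.mul_right m
    have hq : 0 < q := ho.pos
    have h2 : p ∣ 1 := by
      have h3 := Nat.dvd_sub hpq h1
      rwa [show q - (q - 1) = 1 by omega] at h3
    exact hp.one_lt.ne' (Nat.dvd_one.1 h2)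

open KantorSeitz in
/-- the interface for type `PSL(2,q)` -/
theorem of_TL (h : SSplit U) [Finite Ω] [FaithfulSMul G Ω] {a b : Ω} (hab : b ≠ a) {q : ℕ}
    (hT : TL (fun c => (U c).subgroupOf (⨆ c, U c)) a b q) :
    ∃ p : ℕ, p.Prime ∧ IsPGroup p (U a) ∧
      (∀ R : Subgroup G, IsPGroup p R → (∀ r ∈ R, r • a = a ∧ r • b = b) →
        (∀ d : G, d • a = a → d • b = b → ∀ r ∈ R, d * r * d⁻¹ ∈ R) → R = ⊥) ∧ ITor U p a b := by
  classical
  have hfin : Finite G := Finite.of_injective (MulAction.toPermHom G Ω) MulAction.toPerm_injective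
  set M : Subgroup G := ⨆ c, U c with hM
  have hUM : ∀ c, U c ≤ M := fun c => by rw [hM]; exact le_iSup U c
  have hMn : M.Normal := h.iSup_normal
  set D : Subgroup G := Dab G a b ⊓ M with hD
  obtain ⟨p, k, hp, hk, hpk⟩ := hT.pow
  have hp := hp.nat_prime
  have hpf : Fact p.Prime := ⟨hp⟩
  have hq3 := hT.three
  have ho := hT.odd
  have hcardU : Nat.card (U a) = q := by rw [← card_subgroupOf_eq (hUM a)]; exact hT.card
  have hcardD : 2 * Nat.card D = q - 1 := by
    have h1 := hT.cardE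
    rw [Subgroup.relIndex_bot_left, card_Dab_sub] at h1
    exact h1
  obtain ⟨hp3, hcopr⟩ := pow_facts hp hk hpk ho
  have hcop : (Nat.card D).Coprime p := hcopr _ ⟨2, by rw [mul_comm]; exact hcardD⟩
  have hUp : IsPGroup p (U a) := IsPGroup.iff_card.2 ⟨k, by rw [hcardU, hpk]⟩
  have hcomm : ∀ u ∈ U a, ∀ v ∈ U a, u * v = v * u := by
    intro u hu v hv
    exact congrArg Subtype.val (hT.comm ⟨u, hUM a hu⟩ (mem_subgroupOf.2 hu) ⟨v, hUM a hv⟩
      (mem_subgroupOf.2 hv))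
  have hfree : ∀ d ∈ D, ∀ u ∈ U a, d * u = u * d → d = 1 ∨ u = 1 := by
    intro d hd u hu hdu
    rcases hT.free ⟨d, hd.2⟩ hd.1 ⟨u, hUM a hu⟩ (mem_subgroupOf.2 hu) (Subtype.ext hdu) with h1 | h1
    · exact Or.inl (congrArg Subtype.val (mem_bot.1 h1))
    · exact Or.inr (congrArg Subtype.val h1)
  have hDU : ∀ d ∈ D, ∀ v ∈ U a, d * v * d⁻¹ ∈ U a := fun d hd v hv => h.conj_of_fix hd.1.1 hv
  have hDn : ∀ g ∈ Dab G a b, ∀ d ∈ D, g * d * g⁻¹ ∈ D := fun g hg d hd =>
    mem_inf.2 ⟨mul_mem (mul_mem hg hd.1) (inv_mem hg), hMn.conj_mem d hd.2 g⟩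
  -- irreducibility
  have hirr : ∀ V : Subgroup G, V ≤ U a → (∀ d ∈ D, ∀ v ∈ V, d * v * d⁻¹ ∈ V) → V ≠ ⊥ →
      V = U a := by
    intro V hV hDV hV1
    apply Subgroup.eq_of_le_of_card_ge hV
    have h1 := dvd_card_sub (D := D) (V := V) (Z := ⊥) bot_le hDV
      (by
        intro d _ v hv
        rw [mem_bot] at hv ⊢
        rw [hv]; group)
      (by
        intro d hd v hv hvZ hdv
        rcases hfree d hd v (hV hv) hdv with h1 | h1
        · exact h1
        · exact absurd (mem_bot.2 h1) hvZ)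
    rw [Subgroup.card_bot] at h1
    have h2 : Nat.card V ∣ p ^ k := by
      rw [hpk, ← hcardU]
      exact Subgroup.card_dvd_of_le hV
    obtain ⟨j, hj, hje⟩ := (Nat.dvd_prime_pow hp).1 h2
    rw [hcardU, hje]
    by_contra hlt
    push Not at hlt
    have hjk : j < k := by
      rcases Nat.lt_or_ge j k with h3 | h3
      · exact h3
      · exfalso
        have : j = k := le_antisymm hj h3
        rw [this, hpk] at hlt
        exact lt_irrefl _ hlt
    have h3 : p ^ j * 3 ≤ q := by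
      calc p ^ j * 3 ≤ p ^ j * p := Nat.mul_le_mul_left _ hp3
        _ = p ^ (j + 1) := (pow_succ _ _).symm
        _ ≤ p ^ k := Nat.pow_le_pow_right hp.pos hjk
        _ = q := hpk
    have h4 : 1 < p ^ j := by
      rw [← hje]
      exact (Subgroup.one_lt_card_iff_ne_bot _).2 hV1
    rw [hje] at h1
    have h5 := Nat.le_of_dvd (by omega) h1
    omega
  -- simplicity
  have hsimple : IsSimpleGroup M := by
    obtain ⟨F, _, _, hF, f, hf, hfk⟩ := hT.iso
    have hs := TwoFusion.SLTwoFacts.isSimpleGroup_psl (F := F) (by rw [hF]; exact hq3)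
    have hinj : Function.Injective (f.comp (Subgroup.topEquiv (G := M)).symm.toMonoidHom) := by
      rw [injective_iff_map_eq_one]
      intro x hx
      have h1 := (hfk ((Subgroup.topEquiv (G := M)).symm x)).1 hx
      exact mem_bot.1 h1
    have hsurj : Function.Surjective (f.comp (Subgroup.topEquiv (G := M)).symm.toMonoidHom) :=
      hf.comp (Subgroup.topEquiv (G := M)).symm.surjective
    exact (MulEquiv.isSimpleGroup_congr (MulEquiv.ofBijective _ ⟨hinj, hsurj⟩)).2 hs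
  refine ⟨p, hp, hUp, ?_, D, hcop, fun t ht => ht.1, ?_, ?_, ?_, ?_, Or.inl hcomm⟩
  · intro R hR hRfix hRn
    have hRD : R ≤ Dab G a b := fun r hr => hRfix r hr
    have hRD' := comm_of_coprime (a := a) (b := b) hMn hp hcop hR hRD
      (fun d hd r hr => hRn d hd.1 hd.2 r hr)
    have hRU : ∀ r ∈ R, ∀ v ∈ U a, r * v * r⁻¹ ∈ U a := fun r hr v hv =>
      h.conj_of_fix (hRD hr).1 hv
    have hU1 : U a ≠ ⊥ := by
      obtain ⟨u, hu, hu1⟩ := exists_U_ne_one h a
      intro hc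
      rw [hc, mem_bot] at hu
      exact hu1 hu
    obtain ⟨v, hv, hv1, hRv⟩ := exists_fixed_of_pgroup p R (U a) hR hUp hU1 hRU
    have h1 := hirr (U a ⊓ centralizer (R : Set G)) inf_le_left (by
      intro d hd v hv
      exact mem_inf.2 ⟨hDU d hd v hv.1, conj_mem_centralizer (fun r hr => hRD' r hr d hd)
        (mem_inf.1 hv).2⟩) (by
      intro hc
      have : v ∈ U a ⊓ centralizer (R : Set G) :=
        mem_inf.2 ⟨hv, mem_centralizer_iff.2 fun r hr => hRv r hr⟩
      rw [hc, mem_bot] at this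
      exact hv1 this)
    rw [eq_bot_iff]
    intro r hr
    rw [mem_bot]
    refine eq_one_of_comm h hab (hRD hr).1 (hRD hr).2 fun v hv => ?_
    rw [← h1] at hv
    exact mem_centralizer_iff.1 (mem_inf.1 hv).2 r hr
  · intro d hda hdb t ht
    exact hDn d ⟨hda, hdb⟩ t ht
  · intro N hN hN1
    exact inf_le_right.trans (le_of_simple h hMn hsimple hUM hN hN1)
  · intro R hR _ hRT hR1 v hv _
    rw [hirr R hR hRT hR1]
    exact hv
  · have h1 : 1 < Nat.card D := by
      obtain ⟨m, hm⟩ := ho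
      omega
    have : Nontrivial D := Finite.one_lt_card_iff_nontrivial.1 h1
    obtain ⟨⟨t, ht⟩, ht1⟩ := exists_ne (1 : D)
    obtain ⟨v, hv, hv1⟩ := exists_U_ne_one h a
    refine ⟨t, ht, v, hv, fun w hw => hcomm v hv w hw, fun hc => ?_⟩
    rcases hfree t ht v hv hc with h2 | h2
    · exact ht1 (Subtype.ext h2)
    · exact hv1 h2

omit [MulAction G Ω] in
/-- a `p`-group acting on a `p`-group fixes a nontrivial coset of an invariant subgroup -/
theorem exists_fixed_coset {p : ℕ} [hp : Fact p.Prime] {R V Z : Subgroup G} [Finite V]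
    (hR : IsPGroup p R) (hV : IsPGroup p V) (hZV : Z ≤ V) (hne : Z ≠ V)
    (hRV : ∀ r ∈ R, ∀ v ∈ V, r * v * r⁻¹ ∈ V) (hRZ : ∀ r ∈ R, ∀ v ∈ Z, r * v * r⁻¹ ∈ Z) :
    ∃ v ∈ V, v ∉ Z ∧ ∀ r ∈ R, v⁻¹ * (r * v * r⁻¹) ∈ Z := by
  classical
  let Z' : Subgroup V := Z.subgroupOf V
  let sm : R → V ⧸ Z' → V ⧸ Z' := fun r => Quotient.map' (fun v : V => (⟨r * v * (r : G)⁻¹,
    hRV r r.2 v v.2⟩ : V)) (by
      intro v w hvw
      rw [QuotientGroup.leftRel_apply] at hvw ⊢
      change ((⟨r * v * (r : G)⁻¹, hRV r r.2 v v.2⟩ : V)⁻¹ * (⟨r * w * (r : G)⁻¹, hRV r r.2 w w.2⟩ : V))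
        ∈ Z.subgroupOf V
      rw [mem_subgroupOf]
      have h1 : ((v⁻¹ * w : V) : G) ∈ Z := mem_subgroupOf.1 hvw
      have h2 := hRZ r r.2 _ h1
      have h3 : (r : G) * ((v⁻¹ * w : V) : G) * (r : G)⁻¹ =
          ((r : G) * (v : G) * (r : G)⁻¹)⁻¹ * ((r : G) * (w : G) * (r : G)⁻¹) := by
        change (r : G) * ((v : G)⁻¹ * w) * (r : G)⁻¹ = _
        group
      rw [h3] at h2
      exact h2)
  let _ : MulAction R (V ⧸ Z') :=
    { smul := sm
      one_smul := by
        intro x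
        induction x using Quotient.inductionOn' with
        | h v =>
          change Quotient.mk'' _ = Quotient.mk'' _
          congr 1
          apply Subtype.ext
          change (1 : G) * v * (1 : G)⁻¹ = v
          group
      mul_smul := by
        intro r r' x
        induction x using Quotient.inductionOn' with
        | h v =>
          change Quotient.mk'' _ = Quotient.mk'' _
          congr 1
          apply Subtype.ext
          change ((r : G) * r') * v * ((r : G) * r')⁻¹ = r * (r' * v * (r' : G)⁻¹) * (r : G)⁻¹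
          group }
  have hfin : Finite (V ⧸ Z') := Quotient.finite _
  have h1 := hR.card_modEq_card_fixedPoints (V ⧸ Z')
  have h2 : p ∣ Nat.card (V ⧸ Z') := by
    have h3 : Nat.card (V ⧸ Z') ∣ Nat.card V := ⟨_, Subgroup.card_eq_card_quotient_mul_card_subgroup Z'⟩
    obtain ⟨n, hn⟩ := IsPGroup.iff_card.1 hV
    rw [hn] at h3
    obtain ⟨j, -, hj⟩ := (Nat.dvd_prime_pow hp.out).1 h3
    rw [hj]
    refine dvd_pow_self p ?_
    rintro rfl
    apply hne
    apply le_antisymm hZV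
    intro v hv
    have h4 : Z'.index = 1 := by rw [Subgroup.index, hj, pow_zero]
    rw [Subgroup.index_eq_one] at h4
    have h5 : (⟨v, hv⟩ : V) ∈ Z' := by rw [h4]; exact mem_top _
    exact mem_subgroupOf.1 h5
  have h1' : p ∣ Nat.card (fixedPoints R (V ⧸ Z')) :=
    (Nat.modEq_zero_iff_dvd.1 (h1.symm.trans (Nat.modEq_zero_iff_dvd.2 h2)))
  have hone : (QuotientGroup.mk (1 : V) : V ⧸ Z') ∈ fixedPoints R (V ⧸ Z') := by
    intro r
    change Quotient.mk'' _ = Quotient.mk'' _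
    congr 1
    apply Subtype.ext
    change (r : G) * 1 * (r : G)⁻¹ = 1
    group
  have h3 : 1 < Nat.card (fixedPoints R (V ⧸ Z')) := by
    have h4 : 0 < Nat.card (fixedPoints R (V ⧸ Z')) := by
      have : Nonempty (fixedPoints R (V ⧸ Z')) := ⟨⟨_, hone⟩⟩
      exact Nat.card_pos
    exact hp.out.one_lt.trans_le (Nat.le_of_dvd h4 h1')
  have : Nontrivial (fixedPoints R (V ⧸ Z')) := Finite.one_lt_card_iff_nontrivial.1 h3
  obtain ⟨⟨x, hx⟩, hx1⟩ := exists_ne (⟨_, hone⟩ : fixedPoints R (V ⧸ Z'))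
  obtain ⟨v, rfl⟩ := QuotientGroup.mk_surjective x
  refine ⟨v, v.2, ?_, ?_⟩
  · intro hvZ
    apply hx1
    apply Subtype.ext
    change (QuotientGroup.mk v : V ⧸ Z') = QuotientGroup.mk 1
    rw [eq_comm, QuotientGroup.eq, inv_one, one_mul]
    exact mem_subgroupOf.2 hvZ
  · intro r hr
    have h5 := hx ⟨r, hr⟩
    have h6 : (QuotientGroup.mk (⟨r * v * r⁻¹, hRV r hr v v.2⟩ : V) : V ⧸ Z') = QuotientGroup.mk v := h5
    have h7 := QuotientGroup.eq.1 h6.symm
    exact mem_subgroupOf.1 h7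

open KantorSeitz in
/-- the interface for type `PSU(3,q)` -/
theorem of_TU (h : SSplit U) [Finite Ω] [FaithfulSMul G Ω] {a b : Ω} (hab : b ≠ a) {q : ℕ}
    (hT : TU (fun c => (U c).subgroupOf (⨆ c, U c)) a b q) :
    ∃ p : ℕ, p.Prime ∧ IsPGroup p (U a) ∧
      (∀ R : Subgroup G, IsPGroup p R → (∀ r ∈ R, r • a = a ∧ r • b = b) →
        (∀ d : G, d • a = a → d • b = b → ∀ r ∈ R, d * r * d⁻¹ ∈ R) → R = ⊥) ∧ ITor U p a b := by
  classical
  have hfin : Finite G := Finite.of_injective (MulAction.toPermHom G Ω) MulAction.toPerm_injective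
  set M : Subgroup G := ⨆ c, U c with hM
  have hUM : ∀ c, U c ≤ M := fun c => by rw [hM]; exact le_iSup U c
  have hMn : M.Normal := h.iSup_normal
  set D : Subgroup G := Dab G a b ⊓ M with hD
  obtain ⟨p, k, hp, hk, hpk⟩ := hT.pow
  have hp := hp.nat_prime
  have hpf : Fact p.Prime := ⟨hp⟩
  have ho := hT.odd
  have hcardU : Nat.card (U a) = q ^ 3 := by rw [← card_subgroupOf_eq (hUM a)]; exact hT.card
  have hcardD : Nat.gcd 3 (q + 1) * Nat.card D = q ^ 2 - 1 := by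
    have h1 := hT.cardE
    rw [Subgroup.relIndex_bot_left, card_Dab_sub] at h1
    exact h1
  obtain ⟨hp3, hcopr⟩ := pow_facts (q := q ^ 2) (k := k * 2) hp (by omega)
    (by rw [pow_mul, hpk]) (ho.pow)
  have hcop : (Nat.card D).Coprime p := hcopr _ ⟨_, by rw [mul_comm]; exact hcardD⟩
  have hUp : IsPGroup p (U a) := IsPGroup.iff_card.2 ⟨k * 3, by rw [hcardU, pow_mul, hpk]⟩
  have hUodd : Odd (Nat.card (U a)) := by rw [hcardU]; exact ho.pow
  have hq3 : 3 ≤ q := by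
    rw [← hpk]
    calc 3 ≤ p := hp3
      _ = p ^ 1 := (pow_one p).symm
      _ ≤ p ^ k := Nat.pow_le_pow_right hp.pos hk
  -- the centre of `U a`
  set Z : Subgroup G := U a ⊓ centralizer (U a : Set G) with hZ
  have hmemZ : ∀ u, u ∈ Z ↔ u ∈ U a ∧ ∀ v ∈ U a, u * v = v * u := by
    intro u
    rw [hZ, mem_inf, mem_centralizer_iff]
    exact ⟨fun h => ⟨h.1, fun v hv => (h.2 v hv).symm⟩, fun h => ⟨h.1, fun v hv => (h.2 v hv).symm⟩⟩
  have hZU : Z ≤ U a := inf_le_left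
  have hcardZ : Nat.card Z = q := by
    rw [← hT.cardZ]
    refine Nat.card_congr ⟨fun x => ⟨⟨x.1, hUM a x.2.1⟩, mem_subgroupOf.2 x.2.1, ?_⟩,
      fun x => ⟨x.1.1, mem_subgroupOf.1 x.2.1, ?_⟩, fun _ => rfl, fun _ => rfl⟩
    · refine mem_centralizer_iff.2 fun v hv => Subtype.ext ?_
      exact (((hmemZ _).1 x.2).2 v (mem_subgroupOf.1 hv)).symm
    · refine mem_centralizer_iff.2 fun v hv => ?_
      have := mem_centralizer_iff.1 x.2.2 (⟨v, hUM a hv⟩ : M) (mem_subgroupOf.2 hv)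
      exact congrArg Subtype.val this
  have hfree : ∀ d ∈ D, ∀ u ∈ U a, d * u = u * d → d = 1 ∨ u ∈ Z := by
    intro d hd u hu hdu
    rcases hT.free ⟨d, hd.2⟩ hd.1 ⟨u, hUM a hu⟩ (mem_subgroupOf.2 hu) (Subtype.ext hdu) with h1 | h1
    · exact Or.inl (congrArg Subtype.val (mem_bot.1 h1))
    · right
      rw [hmemZ]
      exact ⟨hu, fun v hv => congrArg Subtype.val (h1 ⟨v, hUM a hv⟩ (mem_subgroupOf.2 hv))⟩
  have htransZ : ∀ u ∈ Z, ∀ u' ∈ Z, u ≠ 1 → u' ≠ 1 → ∃ d ∈ D, d * u * d⁻¹ = u' := by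
    intro u hu u' hu' hu1 hu1'
    have hu2 := (hmemZ u).1 hu
    have hu2' := (hmemZ u').1 hu'
    obtain ⟨d, hd, hdu⟩ := hT.transZ ⟨u, hUM a hu2.1⟩ (mem_subgroupOf.2 hu2.1)
      ⟨u', hUM a hu2'.1⟩ (mem_subgroupOf.2 hu2'.1)
      (fun v hv => Subtype.ext (hu2.2 v (mem_subgroupOf.1 hv)))
      (fun v hv => Subtype.ext (hu2'.2 v (mem_subgroupOf.1 hv)))
      (fun hc => hu1 (congrArg Subtype.val hc)) (fun hc => hu1' (congrArg Subtype.val hc))
    exact ⟨d, ⟨hd, d.2⟩, congrArg Subtype.val hdu⟩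
  have hDU : ∀ d ∈ D, ∀ v ∈ U a, d * v * d⁻¹ ∈ U a := fun d hd v hv => h.conj_of_fix hd.1.1 hv
  have hDn : ∀ g ∈ Dab G a b, ∀ d ∈ D, g * d * g⁻¹ ∈ D := fun g hg d hd =>
    mem_inf.2 ⟨mul_mem (mul_mem hg hd.1) (inv_mem hg), hMn.conj_mem d hd.2 g⟩
  have hconjZ : ∀ g : G, g • a = a → ∀ v ∈ Z, g * v * g⁻¹ ∈ Z := by
    intro g hg v hv
    rw [hmemZ] at hv ⊢
    refine ⟨h.conj_of_fix hg hv.1, fun w hw => ?_⟩
    have h1 := hv.2 _ (h.conj_of_fix' hg hw)
    calc g * v * g⁻¹ * w = g * (v * (g⁻¹ * w * g)) * g⁻¹ := by group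
      _ = g * ((g⁻¹ * w * g) * v) * g⁻¹ := by rw [h1]
      _ = w * (g * v * g⁻¹) := by group
  -- the `D`-invariant subgroups between `Z` and `U a`
  have hirr : ∀ C : Subgroup G, Z ≤ C → C ≤ U a → (∀ d ∈ D, ∀ v ∈ C, d * v * d⁻¹ ∈ C) → Z ≠ C →
      C = U a := by
    intro C hZC hC hDC hne
    apply Subgroup.eq_of_le_of_card_ge hC
    have h1 := dvd_card_sub (D := D) (V := C) (Z := Z) hZC hDC
      (fun d hd v hv => hconjZ d hd.1.1 v hv)
      (by
        intro d hd v hv hvZ hdv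
        rcases hfree d hd v (hC hv) hdv with h1 | h1
        · exact h1
        · exact absurd h1 hvZ)
    have h2 : Nat.card C ∣ p ^ (k * 3) := by
      rw [pow_mul, hpk, ← hcardU]
      exact Subgroup.card_dvd_of_le hC
    obtain ⟨j, hj, hje⟩ := (Nat.dvd_prime_pow hp).1 h2
    have h3 : p ^ k ∣ p ^ j := by
      rw [hpk, ← hcardZ, ← hje]
      exact Subgroup.card_dvd_of_le hZC
    have hkj : k ≤ j := (Nat.pow_dvd_pow_iff_le_right hp.one_lt).1 h3
    obtain ⟨i, rfl⟩ := Nat.exists_eq_add_of_le hkj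
    rw [hcardZ, hje, ← hpk] at h1
    have h4 : p ^ (k + i) - p ^ k = p ^ k * (p ^ i - 1) := by
      rw [pow_add, Nat.mul_sub, mul_one]
    rw [h4] at h1
    have h5 : Nat.card D ∣ p ^ i - 1 := Nat.Coprime.dvd_of_dvd_mul_left (hcop.pow_right k) h1
    have hi0 : i ≠ 0 := by
      rintro rfl
      apply hne
      apply Subgroup.eq_of_le_of_card_ge hZC
      rw [hje, hcardZ, add_zero, hpk]
    have h6 : 1 < p ^ i := Nat.one_lt_pow hi0 hp.one_lt
    have h7 := Nat.le_of_dvd (by omega) h5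
    have hg3 : Nat.gcd 3 (q + 1) ≤ 3 := Nat.gcd_le_left _ (by norm_num)
    have h8 : q ^ 2 - 1 ≤ 3 * (p ^ i - 1) := by
      rw [← hcardD]
      exact Nat.mul_le_mul hg3 h7
    rw [hcardU, hje]
    by_contra hlt
    push Not at hlt
    have hik : i < k * 2 := by
      by_contra hc
      push Not at hc
      have : k * 3 ≤ k + i := by omega
      have h9 : q ^ 3 ≤ p ^ (k + i) := by
        rw [← hpk, ← pow_mul]
        exact Nat.pow_le_pow_right hp.pos this
      omega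
    have h9 : p ^ i * 3 ≤ q ^ 2 := by
      calc p ^ i * 3 ≤ p ^ i * p := Nat.mul_le_mul_left _ hp3
        _ = p ^ (i + 1) := (pow_succ _ _).symm
        _ ≤ p ^ (k * 2) := Nat.pow_le_pow_right hp.pos hik
        _ = q ^ 2 := by rw [pow_mul, hpk]
    omega
  -- the involution
  obtain ⟨e, heD, he⟩ := hT.cyc
  obtain ⟨z, hzD, hz1, hz2, hzc⟩ := hT.invol
  have hz2' : z * z = 1 := by simpa using hz2
  have hz1' : z ≠ 1 := by simpa using hz1
  have hgen : ∀ d ∈ D, d ∈ zpowers (e : G) := by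
    intro d hd
    obtain ⟨j, hj⟩ := he ⟨d, hd.2⟩ hd.1
    have h1 : (⟨d, hd.2⟩ : M) * e ^ j = 1 := by simpa using hj
    have h2 : d * (e : G) ^ j = 1 := congrArg Subtype.val h1
    rw [eq_inv_of_mul_eq_one_left h2]
    exact inv_mem (pow_mem (mem_zpowers _) j)
  have hzD' : (z : G) ∈ D := ⟨hzD, z.2⟩
  have hzz : (z : G) * z = 1 := congrArg Subtype.val hz2'
  have hzne : (z : G) ≠ 1 := fun hc => hz1' (Subtype.ext hc)
  have huniq : ∀ t ∈ D, t * t = 1 → t ≠ 1 → t = z := by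
    intro t ht ht2 ht1
    have h1 : orderOf (z : G) = 2 := by
      rw [orderOf_eq_prime_iff]
      exact ⟨by rw [pow_two]; exact hzz, hzne⟩
    have h2 : 2 ∣ orderOf (e : G) := by
      rw [← h1]
      exact orderOf_dvd_of_mem_zpowers (hgen _ hzD')
    obtain ⟨m, hm⟩ := h2
    rcases sq_cyclic hm (hgen t ht) ht2 with h3 | h3
    · exact absurd h3 ht1
    · rcases sq_cyclic hm (hgen _ hzD') hzz with h4 | h4
      · exact absurd h4 hzne
      · exact h3.trans h4.symm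
  -- simplicity
  have hsimple : IsSimpleGroup M := by
    obtain ⟨F, _, _, hF, f, hf, hfk⟩ := hT.iso
    have hs := S0283.result (F := F) hF 3 le_rfl (by
      rintro ⟨-, rfl⟩
      exact absurd ho (by decide))
    have hinj : Function.Injective (f.comp (Subgroup.topEquiv (G := M)).symm.toMonoidHom) := by
      rw [injective_iff_map_eq_one]
      intro x hx
      have h1 := (hfk ((Subgroup.topEquiv (G := M)).symm x)).1 hx
      exact mem_bot.1 h1
    have hsurj : Function.Surjective (f.comp (Subgroup.topEquiv (G := M)).symm.toMonoidHom) :=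
      hf.comp (Subgroup.topEquiv (G := M)).symm.surjective
    exact (MulEquiv.isSimpleGroup_congr (MulEquiv.ofBijective _ ⟨hinj, hsurj⟩)).2 hs
  refine ⟨p, hp, hUp, ?_, D, hcop, fun t ht => ht.1, ?_, ?_, ?_, ?_, Or.inr ⟨z, hzD', hzne, hzz,
    ?_, ?_⟩⟩
  · intro R hR hRfix hRn
    have hRD : R ≤ Dab G a b := fun r hr => hRfix r hr
    have hRD' := comm_of_coprime (a := a) (b := b) hMn hp hcop hR hRD
      (fun d hd r hr => hRn d hd.1 hd.2 r hr)
    have hRU : ∀ r ∈ R, ∀ v ∈ U a, r * v * r⁻¹ ∈ U a := fun r hr v hv =>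
      h.conj_of_fix (hRD hr).1 hv
    have hRZ : ∀ r ∈ R, ∀ v ∈ Z, r * v * r⁻¹ ∈ Z := fun r hr v hv => hconjZ r (hRD hr).1 v hv
    have hZ1 : Z ≠ ⊥ := by
      intro hc
      rw [hc, Subgroup.card_bot] at hcardZ
      omega
    -- `R` centralises `Z`
    obtain ⟨u, hu, hu1, hRu⟩ := exists_fixed_of_pgroup p R Z hR (hUp.to_le hZU) hZ1 hRZ
    have hRZc : ∀ r ∈ R, ∀ v ∈ Z, r * v = v * r := by
      intro r hr v hv
      by_cases hv1 : v = 1
      · rw [hv1, mul_one, one_mul]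
      obtain ⟨d, hd, rfl⟩ := htransZ u hu v hv hu1 hv1
      have h1 : Commute r u := hRu r hr
      have h2 : Commute r d := hRD' r hr d hd
      exact (h2.mul_right h1).mul_right h2.inv_right
    have hZneU : Z ≠ U a := by
      intro hc
      have h1 := hcardZ
      rw [hc, hcardU] at h1
      have h2 : q ^ 1 < q ^ 3 := Nat.pow_lt_pow_right (by omega) (by norm_num)
      rw [pow_one] at h2
      omega
    -- `[U a, R] ≤ Z`
    let C2 : Subgroup G :=
      { carrier := {v | v ∈ U a ∧ ∀ r ∈ R, v⁻¹ * (r * v * r⁻¹) ∈ Z}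
        mul_mem' := by
          rintro v w ⟨hv, hv'⟩ ⟨hw, hw'⟩
          refine ⟨mul_mem hv hw, fun r hr => ?_⟩
          have h1 := ((hmemZ _).1 (hv' r hr)).2 w⁻¹ (inv_mem hw)
          have h2 : (v * w)⁻¹ * (r * (v * w) * r⁻¹) =
              (v⁻¹ * (r * v * r⁻¹)) * (w⁻¹ * (r * w * r⁻¹)) := by
            calc (v * w)⁻¹ * (r * (v * w) * r⁻¹)
                = w⁻¹ * (v⁻¹ * (r * v * r⁻¹)) * (r * w * r⁻¹) := by group
              _ = (v⁻¹ * (r * v * r⁻¹)) * w⁻¹ * (r * w * r⁻¹) := by rw [h1]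
              _ = _ := by group
          rw [h2]
          exact mul_mem (hv' r hr) (hw' r hr)
        one_mem' := ⟨one_mem _, fun r _ => by
          have : (1 : G)⁻¹ * (r * 1 * r⁻¹) = 1 := by group
          rw [this]; exact one_mem _⟩
        inv_mem' := by
          rintro v ⟨hv, hv'⟩
          refine ⟨inv_mem hv, fun r hr => ?_⟩
          have h1 := ((hmemZ _).1 (inv_mem (hv' r hr))).2 v⁻¹ (inv_mem hv)
          have h2 : v⁻¹⁻¹ * (r * v⁻¹ * r⁻¹) = (v⁻¹ * (r * v * r⁻¹))⁻¹ := by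
            calc v⁻¹⁻¹ * (r * v⁻¹ * r⁻¹) = v * ((v⁻¹ * (r * v * r⁻¹))⁻¹ * v⁻¹) := by group
              _ = v * (v⁻¹ * (v⁻¹ * (r * v * r⁻¹))⁻¹) := by rw [h1]
              _ = _ := by group
          rw [h2]
          exact inv_mem (hv' r hr) }
    have hC2 : ∀ v, v ∈ C2 ↔ v ∈ U a ∧ ∀ r ∈ R, v⁻¹ * (r * v * r⁻¹) ∈ Z := fun v => Iff.rfl
    have hC2U : C2 = U a := by
      apply hirr
      · intro v hv
        refine ⟨hZU hv, fun r hr => ?_⟩
        exact mul_mem (inv_mem hv) (hRZ r hr v hv)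
      · intro v hv
        exact hv.1
      · intro d hd v hv
        refine ⟨hDU d hd v hv.1, fun r hr => ?_⟩
        have h1 := hconjZ d hd.1.1 _ (hv.2 r hr)
        have h2 : Commute r d := hRD' r hr d hd
        have h3 : (d * v * d⁻¹)⁻¹ * (r * (d * v * d⁻¹) * r⁻¹) = d * (v⁻¹ * (r * v * r⁻¹)) * d⁻¹ := by
          have h4 : r * d = d * r := h2
          have h5 : d⁻¹ * r⁻¹ = r⁻¹ * d⁻¹ := h2.inv_inv.symm
          calc (d * v * d⁻¹)⁻¹ * (r * (d * v * d⁻¹) * r⁻¹)
              = d * v⁻¹ * d⁻¹ * (r * d) * v * (d⁻¹ * r⁻¹) := by group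
            _ = d * v⁻¹ * d⁻¹ * (d * r) * v * (r⁻¹ * d⁻¹) := by rw [h4, h5]
            _ = d * (v⁻¹ * (r * v * r⁻¹)) * d⁻¹ := by group
        rw [h3]
        exact h1
      · intro hc
        obtain ⟨v, hv, hvZ, hv'⟩ := exists_fixed_coset hR hUp hZU hZneU hRU hRZ
        exact hvZ (by rw [hc]; exact ⟨hv, hv'⟩)
    rw [eq_bot_iff]
    intro r hr
    rw [mem_bot]
    have hrU : ∀ v ∈ U a, v⁻¹ * (r * v * r⁻¹) ∈ Z := fun v hv => by
      rw [← hC2U] at hv
      exact hv.2 r hr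
    -- the homomorphism `v ↦ v⁻¹ (r v r⁻¹)`
    let φ : U a →* Z :=
      { toFun := fun v => ⟨(v : G)⁻¹ * (r * v * r⁻¹), hrU v v.2⟩
        map_one' := Subtype.ext (by
          change (1 : G)⁻¹ * (r * 1 * r⁻¹) = 1
          group)
        map_mul' := fun v w => Subtype.ext (by
          change ((v : G) * w)⁻¹ * (r * (v * w) * r⁻¹) =
            ((v : G)⁻¹ * (r * v * r⁻¹)) * ((w : G)⁻¹ * (r * w * r⁻¹))
          have h1 := ((hmemZ _).1 (hrU v v.2)).2 (w : G)⁻¹ (inv_mem w.2)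
          calc ((v : G) * w)⁻¹ * (r * (v * w) * r⁻¹)
              = (w : G)⁻¹ * ((v : G)⁻¹ * (r * v * r⁻¹)) * (r * w * r⁻¹) := by group
            _ = ((v : G)⁻¹ * (r * v * r⁻¹)) * (w : G)⁻¹ * (r * w * r⁻¹) := by rw [h1]
            _ = _ := by group) }
    have hφ : ∀ v : U a, ((φ v : Z) : G) = (v : G)⁻¹ * (r * v * r⁻¹) := fun _ => rfl
    have hker : Nat.card φ.ker * Nat.card φ.range = q ^ 3 := by
      rw [← hcardU, ← Subgroup.index_ker, Subgroup.card_mul_index]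
    have hrange : Nat.card φ.range ≤ q := by
      rw [← hcardZ]
      exact Nat.card_le_card_of_injective _ φ.range.subtype_injective
    have hkerC : Nat.card φ.ker = Nat.card (U a ⊓ centralizer ({r} : Set G) : Subgroup G) := by
      refine Nat.card_congr ⟨fun x => ⟨x.1.1, x.1.2, ?_⟩, fun x => ⟨⟨x.1, x.2.1⟩, ?_⟩, fun _ => rfl,
        fun _ => rfl⟩
      · have h1 : φ x.1 = 1 := x.2
        have h2 : ((x.1 : U a) : G)⁻¹ * (r * x.1 * r⁻¹) = 1 := by
          rw [← hφ, h1]; rfl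
        refine mem_centralizer_singleton_iff.2 ?_
        have h3 := inv_mul_eq_one.1 h2
        exact (mul_inv_eq_iff_eq_mul.1 h3.symm).symm
      · rw [MonoidHom.mem_ker]
        apply Subtype.ext
        rw [hφ]
        have h3 := mem_centralizer_singleton_iff.1 x.2.2
        change (x.1 : G)⁻¹ * (r * x.1 * r⁻¹) = 1
        rw [inv_mul_eq_one, eq_mul_inv_iff_mul_eq]
        exact h3
    have hCU : U a ⊓ centralizer ({r} : Set G) = U a := by
      apply hirr
      · intro v hv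
        refine mem_inf.2 ⟨hZU hv, mem_centralizer_singleton_iff.2 (hRZc r hr v hv).symm⟩
      · exact inf_le_left
      · intro d hd v hv
        have h1 : Commute r v := (mem_centralizer_singleton_iff.1 (mem_inf.1 hv).2).symm
        have h2 : Commute r d := hRD' r hr d hd
        refine mem_inf.2 ⟨hDU d hd v (mem_inf.1 hv).1, mem_centralizer_singleton_iff.2 ?_⟩
        exact ((h2.mul_right h1).mul_right h2.inv_right).symm
      · intro hc
        rw [← hc, hcardZ] at hkerC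
        rw [hkerC] at hker
        have h1 : q * q < q ^ 3 := by
          have h2 : q ^ 2 < q ^ 3 := Nat.pow_lt_pow_right (by omega) (by norm_num)
          rwa [pow_two] at h2
        have h3 : q * Nat.card φ.range ≤ q * q := Nat.mul_le_mul_left q hrange
        omega
    refine eq_one_of_comm h hab (hRD hr).1 (hRD hr).2 fun v hv => ?_
    rw [← hCU] at hv
    exact (mem_centralizer_singleton_iff.1 (mem_inf.1 hv).2).symm
  · intro d hda hdb t ht
    exact hDn d ⟨hda, hdb⟩ t ht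
  · intro N hN hN1
    exact inf_le_right.trans (le_of_simple h hMn hsimple hUM hN hN1)
  · intro R hR hRc hRT hR1 v hv hvc
    obtain ⟨⟨u, hu⟩, hu1⟩ := Subgroup.ne_bot_iff_exists_ne_one.1 hR1
    have hu1' : u ≠ 1 := fun hc => hu1 (Subtype.ext hc)
    by_cases hv1 : v = 1
    · rw [hv1]; exact one_mem _
    obtain ⟨d, hd, rfl⟩ := htransZ u ((hmemZ u).2 ⟨hR hu, hRc u hu⟩) v ((hmemZ v).2 ⟨hv, hvc⟩)
      hu1' hv1
    exact hRT d hd u hu
  · have hZ1 : Z ≠ ⊥ := by
      intro hc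
      rw [hc, Subgroup.card_bot] at hcardZ
      omega
    obtain ⟨⟨u, hu⟩, hu1⟩ := Subgroup.ne_bot_iff_exists_ne_one.1 hZ1
    have hu1' : u ≠ 1 := fun hc => hu1 (Subtype.ext hc)
    obtain ⟨d, hd, hdu⟩ := htransZ u hu u⁻¹ (inv_mem hu) hu1' (fun hc => hu1' (inv_eq_one.1 hc))
    refine ⟨d, hd, u, hZU hu, ((hmemZ u).1 hu).2, fun hc => hu1' ?_⟩
    have h1 : u = u⁻¹ := by rw [← hdu, hc]; group
    have h2 : u * u = 1 := by
      nth_rw 2 [h1]
      exact mul_inv_cancel u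
    exact Lib.KleinGen.eq_of_mul_self_eq hUodd (hZU hu) (one_mem _) (by rw [h2, one_mul])
  · intro d hda hdb
    have hd : d ∈ Dab G a b := ⟨hda, hdb⟩
    have h1 := huniq (d * z * d⁻¹) (hDn d hd z hzD') (by
      calc d * z * d⁻¹ * (d * z * d⁻¹) = d * (z * z) * d⁻¹ := by group
        _ = 1 := by rw [hzz]; group) (fun hc => hzne (by
      calc (z : G) = d⁻¹ * (d * z * d⁻¹) * d := by group
        _ = 1 := by rw [hc]; group))
    exact mul_inv_eq_iff_eq_mul.1 h1
  · intro v hv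
    have h1 := hzc ⟨v, hUM a hv⟩ (mem_subgroupOf.2 hv)
    constructor
    · intro h2 w hw
      exact congrArg Subtype.val (h1.1 (Subtype.ext h2) ⟨w, hUM a hw⟩ (mem_subgroupOf.2 hw))
    · intro h2
      exact congrArg Subtype.val (h1.2 fun w hw => Subtype.ext (h2 w (mem_subgroupOf.1 hw)))

open KantorSeitz in
/-- the interface for the groups of Ree type -/
theorem of_TR (h : SSplit U) [Finite Ω] [FaithfulSMul G Ω] (hev : Even (Nat.card Ω)) {a b : Ω}
    (hab : b ≠ a) {n : ℕ} (hT : TR (fun c => (U c).subgroupOf (⨆ c, U c)) a b n) :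
    ∃ p : ℕ, p.Prime ∧ IsPGroup p (U a) ∧
      (∀ R : Subgroup G, IsPGroup p R → (∀ r ∈ R, r • a = a ∧ r • b = b) →
        (∀ d : G, d • a = a → d • b = b → ∀ r ∈ R, d * r * d⁻¹ ∈ R) → R = ⊥) ∧
      IRee (H := G) a b := by
  classical
  have hfin : Finite G := Finite.of_injective (MulAction.toPermHom G Ω) MulAction.toPerm_injective
  have hp3 : Fact (Nat.Prime 3) := ⟨Nat.prime_three⟩
  have hover := h.ree_over hev hab hT
  obtain ⟨e, z, hR⟩ := h.ro hab hT
  set M : Subgroup G := ⨆ c, U c with hM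
  have hUp : IsPGroup 3 (U a) := IsPGroup.iff_card.2 ⟨n * 3, by rw [hR.card, pow_mul]⟩
  have hUodd : Odd (Nat.card (U a)) := by
    rw [hR.card]
    exact (Odd.pow (by decide : Odd 3)).pow
  have hn0 : n ≠ 0 := fun hc => by have := hR.odd; rw [hc] at this; exact absurd this (by decide)
  have hq3 := hR.three_le
  refine ⟨3, Nat.prime_three, hUp, ?_, hover⟩
  intro R hR3 hRfix hRn
  have hRD : R ≤ Dab G a b := fun r hr => hRfix r hr
  -- the group `D`
  have hD : Dab G a b ⊓ M = zpowers e :=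
    le_antisymm (fun d hd => hR.gen d hd.2 hd.1) (zpowers_le.2 ⟨hR.eD, hR.eM⟩)
  have hcop : (Nat.card (Dab G a b ⊓ M : Subgroup G)).Coprime 3 := by
    rw [hD, Nat.card_zpowers, hR.ord, Nat.coprime_comm, Nat.Prime.coprime_iff_not_dvd Nat.prime_three]
    intro hd
    have h1 : 3 ∣ 3 ^ n := dvd_pow_self 3 hn0
    have h2 := Nat.dvd_sub h1 hd
    rw [show 3 ^ n - (3 ^ n - 1) = 1 by omega] at h2
    omega
  have hcomm := comm_of_coprime (a := a) (b := b) hR.hM Nat.prime_three hcop hR3 hRD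
    (fun d hd r hr => hRn d hd.1 hd.2 r hr)
  have hz : z ∈ Dab G a b ⊓ M := ⟨hR.zD, hR.zM⟩
  obtain ⟨hfo, hf2⟩ := hR.ord_f
  set f := e * e with hf
  have hfM : f ∈ M := mul_mem hR.eM hR.eM
  have hfD : f ∈ Dab G a b := mul_mem hR.eD hR.eD
  have hfDM : f ∈ Dab G a b ⊓ M := ⟨hfD, hfM⟩
  have hRU : ∀ r ∈ R, ∀ v ∈ U a, r * v * r⁻¹ ∈ U a := fun r hr v hv =>
    h.conj_of_fix (hRD hr).1 hv
  by_contra hR1
  -- orders of invariant subgroups
  have key : ∀ V : Subgroup G, V ≤ U a → (∀ v ∈ V, f * v * f⁻¹ ∈ V) →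
      ∃ j, j ≤ 3 ∧ Nat.card V = (3 ^ n) ^ j := by
    intro V hV hfV
    have h1 : Nat.card V ∣ 3 ^ (n * 3) := by
      rw [pow_mul, ← hR.card]
      exact Subgroup.card_dvd_of_le hV
    obtain ⟨i, hi, hie⟩ := (Nat.dvd_prime_pow Nat.prime_three).1 h1
    have h2 := hR.semireg hfM hfD hfo hV hfV
    rw [hie] at h2
    obtain ⟨j, rfl⟩ := dvd_of_half hn0 hf2 h2
    refine ⟨j, ?_, by rw [hie, pow_mul]⟩
    exact Nat.le_of_mul_le_mul_left hi (Nat.pos_of_ne_zero hn0)
  have hfix : ∀ v ∈ centralizer (R : Set G), f * v * f⁻¹ ∈ centralizer (R : Set G) := fun v hv =>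
    conj_mem_centralizer (fun r hr => hcomm r hr f hfDM) hv
  -- `W = C(z)` is centralised by `R`
  set W : Subgroup G := U a ⊓ centralizer ({z} : Set G) with hW
  have hRW : ∀ r ∈ R, ∀ v ∈ W, r * v * r⁻¹ ∈ W := by
    intro r hr v hv
    refine mem_inf.2 ⟨hRU r hr v hv.1, mem_centralizer_singleton_iff.2 ?_⟩
    have h1 : Commute z v := (mem_centralizer_singleton_iff.1 (mem_inf.1 hv).2).symm
    have h2 : Commute z r := (show Commute r z from hcomm r hr z hz).symm
    exact ((h2.mul_right h1).mul_right h2.inv_right).symm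
  have hWp : IsPGroup 3 W := hUp.to_le inf_le_left
  have hW1 : W ≠ ⊥ := by
    intro hc
    have h1 := hR.cardz
    rw [← hW, hc, Subgroup.card_bot] at h1
    omega
  obtain ⟨w, hw, hw1, hRw⟩ := exists_fixed_of_pgroup 3 R W hR3 hWp hW1 hRW
  have hWR : W ≤ centralizer (R : Set G) := by
    obtain ⟨j, -, hj⟩ := key (W ⊓ centralizer (R : Set G)) (inf_le_left.trans inf_le_left) (by
      intro v hv
      refine mem_inf.2 ⟨mem_inf.2 ⟨hR.conj_U hfD hv.1.1, mem_centralizer_singleton_iff.2 ?_⟩,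
        hfix v hv.2⟩
      have h1 : Commute z v := (mem_centralizer_singleton_iff.1 (mem_inf.1 hv.1).2).symm
      have h2 : Commute z f := (show Commute f z from hR.comm_z hfD).symm
      exact ((h2.mul_right h1).mul_right h2.inv_right).symm)
    have hj0 : j ≠ 0 := by
      rintro rfl
      rw [pow_zero, Subgroup.card_eq_one] at hj
      have h1 : w ∈ W ⊓ centralizer (R : Set G) :=
        mem_inf.2 ⟨hw, mem_centralizer_iff.2 fun r hr => hRw r hr⟩
      rw [hj, mem_bot] at h1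
      exact hw1 h1
    have h1 : W ⊓ centralizer (R : Set G) = W := by
      apply Subgroup.eq_of_le_of_card_ge inf_le_left
      rw [hj, hR.cardz]
      calc 3 ^ n = (3 ^ n) ^ 1 := (pow_one _).symm
        _ ≤ (3 ^ n) ^ j := Nat.pow_le_pow_right (by omega) (by omega)
    rw [← h1]
    exact inf_le_right
  -- the order of `P`
  set P : Subgroup G := U a ⊓ centralizer (R : Set G) with hP
  have hWP : W ≤ P := le_inf inf_le_left hWR
  obtain ⟨j, hj3, hj⟩ := key P inf_le_left (fun v hv => mem_inf.2 ⟨hR.conj_U hfD hv.1, hfix v hv.2⟩)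
  have hj3' : j ≠ 3 := by
    rintro rfl
    have h1 : P = U a := Subgroup.eq_of_le_of_card_ge inf_le_left (by rw [hj, hR.card])
    apply hR1
    rw [eq_bot_iff]
    intro r hr
    rw [mem_bot]
    refine eq_one_of_comm h hab (hRD hr).1 (hRD hr).2 fun v hv => ?_
    rw [← h1] at hv
    exact mem_centralizer_iff.1 (mem_inf.1 hv).2 r hr
  have hj0 : j ≠ 0 := by
    rintro rfl
    rw [pow_zero, Subgroup.card_eq_one] at hj
    exact hW1 (eq_bot_iff.2 (hj ▸ hWP))
  have hj1 : j ≠ 1 := by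
    rintro rfl
    have hWPe : W = P := Subgroup.eq_of_le_of_card_ge hWP (by rw [hj, pow_one, hR.cardz])
    have hWU : W ≠ U a := by
      intro hc
      have h1 := hR.cardz
      rw [← hW, hc, hR.card] at h1
      have h2 : (3 ^ n) ^ 1 < (3 ^ n) ^ 3 := Nat.pow_lt_pow_right (by omega) (by norm_num)
      rw [pow_one] at h2
      omega
    obtain ⟨v, hv, hvW, hRv⟩ := exists_fixed_coset hR3 hUp (inf_le_left : W ≤ U a) hWU hRU hRW
    -- `[z, v]` is centralised by `R` and not by `z`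
    have hzi : z⁻¹ = z := inv_eq_of_mul_eq_one_left hR.z2
    set x := z * v * z⁻¹ * v⁻¹ with hx
    have hxU : x ∈ U a := mul_mem (hR.conj_U hR.zD hv) (inv_mem hv)
    have hxR : ∀ r ∈ R, r * x = x * r := by
      intro r hr
      set w := v⁻¹ * (r * v * r⁻¹) with hw
      have hwz : z * w * z⁻¹ = w := by
        rw [mul_inv_eq_iff_eq_mul]
        exact (mem_centralizer_singleton_iff.1 (mem_inf.1 (hRv r hr)).2).symm
      have h1 : r * v * r⁻¹ = v * w := by rw [hw]; group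
      have h2 : r * z = z * r := hcomm r hr z hz
      have h3 : r * x * r⁻¹ = x := by
        calc r * x * r⁻¹ = (r * z) * v * z⁻¹ * v⁻¹ * r⁻¹ := by rw [hx]; group
          _ = (z * r) * v * z⁻¹ * v⁻¹ * r⁻¹ := by rw [h2]
          _ = z * (r * v * r⁻¹) * (r * z⁻¹ * r⁻¹) * (r * v * r⁻¹)⁻¹ := by group
          _ = z * (r * v * r⁻¹) * z⁻¹ * (r * v * r⁻¹)⁻¹ := by
            have : r * z⁻¹ * r⁻¹ = z⁻¹ := by
              rw [hzi, mul_inv_eq_iff_eq_mul]; exact h2
            rw [this]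
          _ = z * (v * w) * z⁻¹ * (v * w)⁻¹ := by rw [h1]
          _ = z * v * z⁻¹ * (z * w * z⁻¹) * w⁻¹ * v⁻¹ := by group
          _ = x := by rw [hwz, hx]; group
      exact mul_inv_eq_iff_eq_mul.1 h3
    have hxP : x ∈ P := mem_inf.2 ⟨hxU, mem_centralizer_iff.2 fun r hr => hxR r hr⟩
    rw [← hWPe] at hxP
    have h1 := mem_centralizer_singleton_iff.1 (mem_inf.1 hxP).2
    have h2 : z * x * z⁻¹ = x⁻¹ := by
      calc z * x * z⁻¹ = (z * z) * v * z⁻¹ * v⁻¹ * z⁻¹ := by rw [hx]; group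
        _ = v * z * v⁻¹ * z⁻¹ := by rw [hR.z2, one_mul, hzi]
        _ = x⁻¹ := by rw [hx]; group
    have h3 : z * x * z⁻¹ = x := by rw [mul_inv_eq_iff_eq_mul]; exact h1.symm
    have h4 : x * x = 1 := by
      rw [h3] at h2
      nth_rw 2 [h2]
      exact mul_inv_cancel x
    have h5 : x = 1 := Lib.KleinGen.eq_of_mul_self_eq hUodd hxU (one_mem _) (by rw [h4, one_mul])
    apply hvW
    refine mem_inf.2 ⟨hv, mem_centralizer_singleton_iff.2 ?_⟩
    exact (mul_inv_eq_iff_eq_mul.1 (mul_inv_eq_one.1 h5)).symm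
  have hj2 : j = 2 := by omega
  subst hj2
  -- `C_M(R)` is transitive on the `q² + 1` fixed points
  have hcardF := h.card_fixSub (X := R) hab (fun x hx => (hRD hx).1) (fun x hx => (hRD hx).2)
  rw [← hP, hj] at hcardF
  have hF2 : 2 < Nat.card (fixSub Ω R) := by
    rw [hcardF]
    have : 3 ^ 2 ≤ (3 ^ n) ^ 2 := Nat.pow_le_pow_left hq3 2
    omega
  have hfinF : Finite (fixSub Ω R) := Subtype.finite
  have hthree := SSplit.three_of_card hF2
  let K : Subgroup G := M ⊓ centralizer (R : Set G)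
  have horb : orbit K a = {c : Ω | ∀ x ∈ R, x • c = c} := by
    ext c
    constructor
    · rintro ⟨⟨k, hk⟩, rfl⟩ x hx
      change x • k • a = k • a
      rw [← mul_smul, mem_centralizer_iff.1 hk.2 x hx, mul_smul, (hRD hx).1]
    · intro hc
      obtain ⟨⟨d, hd⟩, hda, hdc⟩ := hthree ⟨a, fun x hx => (hRD hx).1⟩ ⟨c, hc⟩
      have hda' : a ≠ d := fun hc => hda (Subtype.ext hc.symm)
      have hdc' : c ≠ d := fun hc => hdc (Subtype.ext hc.symm)
      obtain ⟨u, hu, huc⟩ := h.trans hda' hdc'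
      have h1 := h.comm_of_fixSub (X := R) hd (fun x hx => (hRD hx).1) hda' hu
        (by rw [huc]; exact hc)
      exact ⟨⟨u, hR.le d hu, h1⟩, huc⟩
  have hdvd : (3 ^ n) ^ 2 + 1 ∣ Nat.card K := by
    have h1 := Nat.card_congr (MulAction.orbitEquivQuotientStabilizer K a)
    have h2 : Nat.card (orbit K a) = (3 ^ n) ^ 2 + 1 := by
      rw [← hcardF, horb]
      rfl
    rw [h2] at h1
    have h3 := Subgroup.card_eq_card_quotient_mul_card_subgroup (stabilizer K a)
    rw [← h1] at h3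
    exact ⟨_, h3⟩
  have hdvd2 : Nat.card K ∣ Nat.card M := Subgroup.card_dvd_of_le inf_le_left
  have hcardM : Nat.card M = ((3 ^ n) ^ 3 + 1) * (3 ^ n) ^ 3 * (3 ^ n - 1) := by
    have h1 := (h.gen_of_le M hR.le).card_G hab
    rw [h.card a, hR.card, Nat.add_sub_cancel, card_Dab_sub, hD, Nat.card_zpowers, hR.ord] at h1
    exact h1
  obtain ⟨c, hc⟩ := hdvd.trans hdvd2
  rw [hcardM] at hc
  generalize 3 ^ n = x at hc hq3
  have hx : ((x - 1 : ℕ) : ℤ) = (x : ℤ) - 1 := by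
    rw [Nat.cast_sub (by omega)]; rfl
  have hc' : (((x : ℤ) ^ 3 + 1) * (x : ℤ) ^ 3 * ((x : ℤ) - 1)) = ((x : ℤ) ^ 2 + 1) * c := by
    rw [← hx]
    exact_mod_cast hc
  have h2 : ((x : ℤ) ^ 2 + 1) ∣ 2 :=
    ⟨c - ((x : ℤ) ^ 5 - x ^ 4 - x ^ 3 + 2 * x ^ 2 - 2), by linear_combination hc'⟩
  have h3 := Int.le_of_dvd (by norm_num) h2
  have h4 : (3 : ℤ) ≤ x := by exact_mod_cast hq3
  nlinarith

end

/-- **The interface of the Kantor–Seitz theorem from the Hering–Kantor–Seitz list.** -/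
theorem hksEven_of.{v} (H : ∀ n, HKSBelow.{v} n) : KantorSeitz.HKSEven.{v} := by
  intro G Ω _ _ _ _ _ V hKS hfree hev a b hab
  by_cases h3 : 2 < Nat.card Ω
  · have hS : SSplit V :=
      { fix := hKS.fix
        conj := hKS.conj
        trans := hKS.trans
        free := fun {a b x} hab hx hxb => hfree a b hab.symm x hx hxb
        nil := hKS.nil
        three := SSplit.three_of_card h3 }
    have hT := H (Nat.card Ω + 1) (⨆ c, V c : Subgroup G) Ω
      (fun c => (V c).subgroupOf (⨆ c, V c)) hS.gen (SSplit.gen_iSup _ rfl) hev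
      (Nat.lt_succ_self _) a b hab.symm
    rcases hT with hT | ⟨q, hT⟩ | ⟨q, hT⟩ | ⟨n, hT⟩
    · left
      obtain ⟨E, hE, -, hE2, hEt, -, hEm, -, -⟩ := hS.gen.sharp_normal hev hab.symm hT
      refine ⟨E.map (⨆ c, V c : Subgroup G).subtype, ⟨?_⟩, ?_, ?_⟩
      · rintro _ ⟨x, hx, rfl⟩ g
        have hMn := hS.iSup_normal
        refine ⟨⟨g * x * g⁻¹, hMn.conj_mem x x.2 g⟩, ?_, rfl⟩
        have hx' := (hEm x).1 hx
        refine (hEm _).2 ?_
        rcases hx' with hx' | hx'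
        · left
          apply Subtype.ext
          change g * (x : G) * g⁻¹ = 1
          rw [hx']
          change g * 1 * g⁻¹ = 1
          group
        · right
          intro c hc
          have h1 : (g * (x : G) * g⁻¹) • c = c := hc
          apply hx' (g⁻¹ • c)
          change (x : G) • g⁻¹ • c = g⁻¹ • c
          rw [eq_inv_smul_iff, ← mul_smul, ← mul_smul]
          exact h1
      · rintro _ ⟨x, hx, rfl⟩
        exact congrArg Subtype.val (hE2 x hx)
      · intro c d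
        obtain ⟨x, hx, hxc⟩ := hEt c d
        exact ⟨x, ⟨x, hx, rfl⟩, hxc⟩
    · right
      obtain ⟨p, hp, h1, h2, h3⟩ := of_TL hS hab.symm hT
      exact ⟨p, hp, h1, h2, Or.inl h3⟩
    · right
      obtain ⟨p, hp, h1, h2, h3⟩ := of_TU hS hab.symm hT
      exact ⟨p, hp, h1, h2, Or.inl h3⟩
    · right
      obtain ⟨p, hp, h1, h2, h3⟩ := of_TR hS hev hab.symm hT
      exact ⟨p, hp, h1, h2, Or.inr h3⟩
  · left
    have hpts : ∀ c : Ω, c = a ∨ c = b := by
      intro c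
      by_contra hc
      push Not at hc
      classical
      have := Fintype.ofFinite Ω
      apply h3
      rw [Nat.card_eq_fintype_card]
      have h1 : ({a, b, c} : Finset Ω).card = 3 := by
        rw [Finset.card_insert_of_notMem, Finset.card_insert_of_notMem, Finset.card_singleton]
        · simpa using hc.2.symm
        · simp only [Finset.mem_insert, Finset.mem_singleton, not_or]
          exact ⟨hab, hc.1.symm⟩
      have h2 := Finset.card_le_univ ({a, b, c} : Finset Ω)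
      omega
    refine ⟨⊤, inferInstance, ?_, ?_⟩
    · intro x _
      refine eq_of_smul_eq_smul (α := Ω) fun c => ?_
      rw [one_smul, mul_smul]
      have hinj : ∀ c d : Ω, x • c = x • d → c = d := fun c d h => MulAction.injective x h
      have key : ∀ c d : Ω, c ≠ d → (∀ e : Ω, e = c ∨ e = d) → x • x • c = c := by
        intro c d hcd hall
        rcases hall (x • c) with h1 | h1
        · rw [h1, h1]
        · rcases hall (x • d) with h2 | h2
          · rw [h1, h2]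
          · exact absurd (hinj c d (h1.trans h2.symm)) hcd
      rcases hpts c with rfl | rfl
      · exact key c b hab hpts
      · exact key c a hab.symm fun e => (hpts e).symm
    · intro c d
      obtain ⟨g, hg⟩ := hKS.tr c d
      exact ⟨g, mem_top g, hg⟩

end Cfsg.Agent.HKS.ToIface
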