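import Cfsg.Agent.HKS.Final
import Cfsg.Agent.HKS.GoalOdd
import Cfsg.Agent.HKS.PPMain
import Cfsg.Agent.HKS.GoalFour
import Cfsg.Agent.HKS.GoalRank
import Cfsg.Agent.HKS.GoalUni
import Cfsg.Agent.HKS.ToIface

/-!
# The Hering–Kantor–Seitz theorem from Goal 6
-/

set_option autoImplicit false

namespace Cfsg.Agent.HKS

/-- the Hering–Kantor–Seitz theorem in even degree, from Goal 6 -/
theorem all_of.{v} (h : GoalRee.{v}) : ∀ n, HKSBelow.{v} n :=
  HKSBelow.all goalOdd goalPow ZassEnd.goalZass goalFour goalRank h goalUni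

theorem hksEven_of_ree.{v} (h : GoalRee.{v}) : KantorSeitz.HKSEven.{v} :=
  ToIface.hksEven_of (all_of h)

end Cfsg.Agent.HKS
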