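import Mathlib
import Cfsg.Agent.HKS.LinSplit

/-!
# A central involution of `W`: `|U a| = q ^ 3`

`SSplit U`, `G = ⟨U c⟩`, `|U a| = p ^ k`, `p` odd; `z ∈ D` an involution, central in `W`, moving a
point, the only conjugate of `z` in `D`; `q = p ^ e`, `e > 0`, and `z` has `q + 1` fixed points.

* `card_J`: `(q + 1) |J| = p ^ (k - e) - 1`, `J = z^G ∩ (W ∖ D)`; `exists_odd`: `k = e (2 l + 1)`;
* `J_fpf`: the elements of `J` have no fixed points on `Fix z`;
* `sg`: the sign of the permutation on `Fix z`; `sg_J`: it is `(-1)^((q+1)/2)` on `J`;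
* `cube`: if some `d ∈ D` has sign `-1` on `Fix z` then `k = 3 e`, `|J| = q - 1`;
* `exists_neg`: such `d` exists if `q ≡ 1 (mod 4)`; `sg_two`: an involution with exactly two fixed
  points on `Fix z` has sign `(-1)^((q-1)/2)`.
-/

set_option autoImplicit false
set_option linter.unusedSectionVars false

open Cfsg

namespace Cfsg.Agent.HKS.CentralCube

open Subgroup MulAction LinSplit SSplit

/-! ### Arithmetic -/

/-- `p ^ e + 1 ∣ p ^ m - 1` implies `2 e ∣ m`. -/
theorem two_dvd {p e m : ℕ} (hp : 1 < p) (he : 0 < e) (h : p ^ e + 1 ∣ p ^ m - 1) :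
    ∃ l, m = e * (2 * l) := by
  obtain ⟨q, r, hr, rfl⟩ : ∃ q r, r < e ∧ m = e * q + r :=
    ⟨m / e, m % e, Nat.mod_lt _ he, (Nat.div_add_mod m e).symm⟩
  have h1 : ((p ^ e + 1 : ℕ) : ℤ) ∣ (p : ℤ) ^ (e * q + r) - 1 := by
    have h2 := Int.natCast_dvd_natCast.2 h
    rw [Nat.cast_sub (Nat.one_le_pow _ _ (by omega))] at h2
    push_cast at h2 ⊢
    exact h2
  have h2 : ((p ^ e + 1 : ℕ) : ℤ) ∣ ((p : ℤ) ^ e) ^ q - (-1) ^ q := by
    have h3 := sub_dvd_pow_sub_pow ((p : ℤ) ^ e) (-1) q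
    have h4 : (p : ℤ) ^ e - (-1) = ((p ^ e + 1 : ℕ) : ℤ) := by push_cast; ring
    rwa [h4] at h3
  have h3 : ((p ^ e + 1 : ℕ) : ℤ) ∣ (-1) ^ q * (p : ℤ) ^ r - 1 := by
    have h4 : (-1) ^ q * (p : ℤ) ^ r - 1 = ((p : ℤ) ^ (e * q + r) - 1) -
        (p : ℤ) ^ r * (((p : ℤ) ^ e) ^ q - (-1) ^ q) := by
      rw [pow_add, pow_mul]; ring
    rw [h4]
    exact dvd_sub h1 (Dvd.dvd.mul_left h2 _)
  have hlt : p ^ r < p ^ e := Nat.pow_lt_pow_right hp hr
  have hpos : 0 < p ^ r := pow_pos (by omega) r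
  rcases Nat.even_or_odd q with hq | hq
  · rw [hq.neg_one_pow, one_mul] at h3
    have h4 : p ^ e + 1 ∣ p ^ r - 1 := by
      have h5 : ((p ^ e + 1 : ℕ) : ℤ) ∣ ((p ^ r - 1 : ℕ) : ℤ) := by
        rw [Nat.cast_sub hpos]
        push_cast at h3 ⊢
        exact h3
      exact Int.natCast_dvd_natCast.1 h5
    have h5 : p ^ r - 1 = 0 := Nat.eq_zero_of_dvd_of_lt h4 (by omega)
    have h6 : p ^ r = 1 := by omega
    have h7 : r = 0 := by
      rcases Nat.eq_zero_or_pos r with hr0 | hr0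
      · exact hr0
      · exact absurd h6 (Nat.one_lt_pow hr0.ne' hp).ne'
    obtain ⟨l, hl⟩ := hq
    exact ⟨l, by rw [h7, hl, add_zero]; ring⟩
  · exfalso
    rw [hq.neg_one_pow] at h3
    have h4 : p ^ e + 1 ∣ p ^ r + 1 := by
      have h5 : ((p ^ e + 1 : ℕ) : ℤ) ∣ ((p ^ r + 1 : ℕ) : ℤ) := by
        push_cast at h3 ⊢
        have h6 := dvd_neg.2 h3
        have h7 : -(-1 * (p : ℤ) ^ r - 1) = (p : ℤ) ^ r + 1 := by ring
        rwa [h7] at h6
      exact Int.natCast_dvd_natCast.1 h5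
    have := Nat.le_of_dvd (by omega) h4
    omega

/-! ### Signs of involutions -/

/-- The sign of an involution is `(-1)^c`, `2 c` the number of moved points. -/
theorem sign_of_sq {α : Type*} [Fintype α] [DecidableEq α] {σ : Equiv.Perm α} (h2 : σ ^ 2 = 1)
    {c f : ℕ} (hc : Fintype.card α = 2 * c + f) (hf : Fintype.card (Function.fixedPoints σ) = f) :
    Equiv.Perm.sign σ = (-1) ^ c := by
  have : Fact (Nat.Prime 2) := ⟨Nat.prime_two⟩
  have h3 := Equiv.Perm.cycleType_of_pow_prime_eq_one h2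
  have h4 := σ.sum_cycleType
  have h4' : σ.cycleType.sum = σ.cycleType.card * 2 := by
    conv_lhs => rw [h3]
    rw [Multiset.sum_replicate, smul_eq_mul]
  have h5 := Equiv.Perm.card_fixedPoints σ
  have h6 := σ.support.card_le_univ
  have h7 : σ.cycleType.card = c := by omega
  rw [Equiv.Perm.sign_of_cycleType, h4', h7]
  have h8 : c * 2 + c = 2 * c + c := by ring
  rw [h8, pow_add, pow_mul]
  simp

/-! ### The sign on `Fix z` -/

section sg

variable {G Ω : Type*} [Group G] [MulAction G Ω] {U : Ω → Subgroup G}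

open scoped Classical in
/-- The sign of the permutation induced on the fixed points of `z`. -/
noncomputable def sg (Ω : Type*) [MulAction G Ω] [Finite Ω] (z : G) :
    centralizer (zpowers z : Set G) →* ℤˣ :=
  have := Fintype.ofFinite Ω
  have : Finite (fixSub Ω (zpowers z)) := Subtype.finite
  have := Fintype.ofFinite (fixSub Ω (zpowers z))
  Equiv.Perm.sign.comp (toPermHom (centralizer (zpowers z : Set G)) (fixSub Ω (zpowers z)))

theorem mem_fixSub_zpowers {z : G} {c : Ω} : c ∈ fixSub Ω (zpowers z) ↔ z • c = c := by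
  constructor
  · exact fun h => h z (mem_zpowers z)
  · intro h x hx
    have h1 : zpowers z ≤ stabilizer G c := zpowers_le.2 h
    exact h1 hx

theorem mem_cent {z g : G} (h : g * z = z * g) : g ∈ centralizer (zpowers z : Set G) := by
  rw [mem_centralizer_iff]
  intro x hx
  obtain ⟨n, rfl⟩ := mem_zpowers_iff.1 hx
  exact ((Commute.zpow_right h n).eq).symm

theorem comm_of_cent {z g : G} (h : g ∈ centralizer (zpowers z : Set G)) : g * z = z * g :=
  (mem_centralizer_iff.1 h z (mem_zpowers z)).symm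

theorem sg_eq_one_of_odd [Finite Ω] (z : G) {g : centralizer (zpowers z : Set G)} {n : ℕ}
    (hn : Odd n) (hg : g ^ n = 1) : sg Ω z g = 1 := by
  have h3 : sg Ω z g ^ n = 1 := by rw [← map_pow, hg, map_one]
  rcases Int.units_eq_one_or (sg Ω z g) with h4 | h4
  · exact h4
  · rw [h4, hn.neg_one_pow] at h3
    exact absurd h3 (by decide)

/-- The sign of an involution of the centraliser. -/
theorem sg_of_sq [Finite Ω] (z : G) {g : centralizer (zpowers z : Set G)} (hg : g * g = 1)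
    {c f : ℕ} (hc : Nat.card (fixSub Ω (zpowers z)) = 2 * c + f)
    (hf : Nat.card {x : fixSub Ω (zpowers z) // g • x = x} = f) : sg Ω z g = (-1) ^ c := by
  classical
  have := Fintype.ofFinite Ω
  have : Finite (fixSub Ω (zpowers z)) := Subtype.finite
  have := Fintype.ofFinite (fixSub Ω (zpowers z))
  have h1 : sg Ω z g = Equiv.Perm.sign
      (toPermHom (centralizer (zpowers z : Set G)) (fixSub Ω (zpowers z)) g) := by
    rw [sg, MonoidHom.comp_apply]
    congr!
  rw [h1]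
  refine sign_of_sq (f := f) ?_ ?_ ?_
  · rw [← map_pow, sq, hg, map_one]
  · rw [← Nat.card_eq_fintype_card, hc]
  · rw [← Nat.card_eq_fintype_card, ← hf]
    rfl

/-- The sign of a `μ`-element centralising `z`. -/
theorem sg_mu [Finite Ω] (h : SSplit U) {a b : Ω} (hab : b ≠ a)
    (hodd : ∀ c, Odd (Nat.card (U c))) {z : G} (hz : z ∈ Dab G a b)
    {u : G} (hu : u ∈ U b) (hu1 : u ≠ 1) (huz : u * z = z * u)
    (hm : mu U a b u * z = z * mu U a b u) : sg Ω z ⟨mu U a b u, mem_cent hm⟩ = 1 := by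
  obtain ⟨hs, x, hx, y, hy, -, -, he⟩ := h.mu_spec hab hu hu1
  have h1 : z * x * z⁻¹ * (z * mu U a b u * z⁻¹) * (z * y * z⁻¹) = x * mu U a b u * y := by
    calc z * x * z⁻¹ * (z * mu U a b u * z⁻¹) * (z * y * z⁻¹) =
        z * (x * mu U a b u * y) * z⁻¹ := by group
      _ = z * u * z⁻¹ := by rw [← he]
      _ = u * z * z⁻¹ := by rw [huz]
      _ = u := by group
      _ = _ := he
  have hs' : Swaps (z * mu U a b u * z⁻¹) a b := by
    have := hs.conj z
    rwa [show z • a = a from hz.1, show z • b = b from hz.2] at this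
  obtain ⟨h2, -, h3⟩ := h.mid_unique hab hs' hs (h.conj_of_fix hz.1 hx) hx
    (h.conj_of_fix hz.1 hy) hy h1
  have hxz : x * z = z * x := by
    calc x * z = z * x * z⁻¹ * z := by rw [h2]
      _ = z * x := by group
  have hyz : y * z = z * y := by
    calc y * z = z * y * z⁻¹ * z := by rw [h3]
      _ = z * y := by group
  have hpow : ∀ c, ∀ v ∈ U c, v ^ Nat.card (U c) = 1 := by
    intro c v hv
    have := pow_card_eq_one' (x := (⟨v, hv⟩ : U c))
    exact congrArg Subtype.val this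
  have hsx : sg Ω z ⟨x, mem_cent hxz⟩ = 1 :=
    sg_eq_one_of_odd z (hodd a) (Subtype.ext (hpow a x hx))
  have hsy : sg Ω z ⟨y, mem_cent hyz⟩ = 1 :=
    sg_eq_one_of_odd z (hodd a) (Subtype.ext (hpow a y hy))
  have hsu : sg Ω z ⟨u, mem_cent huz⟩ = 1 :=
    sg_eq_one_of_odd z (hodd b) (Subtype.ext (hpow b u hu))
  have h4 : (⟨u, mem_cent huz⟩ : centralizer (zpowers z : Set G)) =
      ⟨x, mem_cent hxz⟩ * ⟨mu U a b u, mem_cent hm⟩ * ⟨y, mem_cent hyz⟩ := Subtype.ext he
  rw [h4, map_mul, map_mul, hsx, hsy, one_mul, mul_one] at hsu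
  exact hsu

end sg

/-! ### The theorem -/

/-- The hypotheses. -/
structure Ctx {G Ω : Type*} [Group G] [MulAction G Ω] (U : Ω → Subgroup G) (a b : Ω) (z : G)
    (p k e : ℕ) : Prop where
  h : SSplit U
  gen : (⨆ c, U c) = ⊤
  ab : b ≠ a
  hp : p.Prime
  hp2 : p ≠ 2
  hN : Nat.card (U a) = p ^ k
  hz : z ∈ Dab G a b
  hz2 : z * z = 1
  move : ∃ c : Ω, z • c ≠ c
  hW : ∀ w ∈ Wab G a b, w * z = z * w
  hD : ∀ s ∈ Dab G a b, IsConj z s → s = z
  he : 0 < e
  hF : Nat.card (fixedBy Ω z) = p ^ e + 1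

/-- If `z` is central in `W` and has at least three fixed points, it is its only conjugate in
`D`. -/
theorem eq_of_conj {G Ω : Type*} [Group G] [MulAction G Ω] [Finite Ω] {U : Ω → Subgroup G}
    (h : SSplit U) {a b : Ω} (hab : b ≠ a) {z : G} (hz : z ∈ Dab G a b)
    (hD : ∀ w ∈ Dab G a b, w * z = z * w) (h3 : 2 < Nat.card (fixedBy Ω z)) {s : G}
    (hs : s ∈ Dab G a b) (hzs : IsConj z s) : s = z := by
  obtain ⟨g, rfl⟩ := isConj_iff.1 hzs
  -- `z` fixes `g⁻¹ a` and `g⁻¹ b`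
  have h1 : ∀ c : Ω, (g * z * g⁻¹) • c = c → z • (g⁻¹ • c) = g⁻¹ • c := by
    intro c hc
    rw [mul_smul, mul_smul] at hc
    rw [eq_inv_smul_iff, hc]
  have h1a := h1 a hs.1
  have h1b := h1 b hs.2
  have hcard : 2 < Nat.card (fixSub Ω (zpowers z)) := by
    have : Nat.card (fixSub Ω (zpowers z)) = Nat.card (fixedBy Ω z) :=
      Nat.card_congr (Equiv.subtypeEquivRight fun c => mem_fixSub_zpowers)
    rw [this]
    exact h3
  have : Finite (fixSub Ω (zpowers z)) := Subtype.finite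
  have hS := h.fixed (zpowers z) (three_of_card hcard)
  obtain ⟨x, hx1, hx2⟩ := hS.two (a := ⟨a, mem_fixSub_zpowers.2 hz.1⟩)
    (b := ⟨b, mem_fixSub_zpowers.2 hz.2⟩) (c := ⟨g⁻¹ • a, mem_fixSub_zpowers.2 h1a⟩)
    (d := ⟨g⁻¹ • b, mem_fixSub_zpowers.2 h1b⟩) (fun hc => hab (congrArg Subtype.val hc).symm)
    (fun hc => hab (MulAction.injective g⁻¹ (congrArg Subtype.val hc)).symm)
  have hx1' : (x : G) • a = g⁻¹ • a := congrArg Subtype.val hx1
  have hx2' : (x : G) • b = g⁻¹ • b := congrArg Subtype.val hx2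
  have hgx : g * x ∈ Dab G a b := by
    refine ⟨?_, ?_⟩
    · change (g * x) • a = a
      rw [mul_smul, hx1', smul_inv_smul]
    · change (g * x) • b = b
      rw [mul_smul, hx2', smul_inv_smul]
  have hxz : (x : G) * z = z * x := comm_of_cent x.2
  have h2 := hD _ hgx
  calc g * z * g⁻¹ = g * z * (x : G) * (g * x)⁻¹ := by group
    _ = g * (x * z) * (g * x)⁻¹ := by rw [hxz]; group
    _ = (g * x * z) * (g * x)⁻¹ := by group
    _ = (z * (g * x)) * (g * x)⁻¹ := by rw [h2]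
    _ = z := by group

namespace Ctx

variable {G Ω : Type*} [Group G] [MulAction G Ω] [Finite G] [Finite Ω] {U : Ω → Subgroup G}
  {a b : Ω} {z : G} {p k e : ℕ}

/-- The hypothesis on conjugates follows from the others. -/
theorem mk' (h : SSplit U) (gen : (⨆ c, U c) = ⊤) (ab : b ≠ a) (hp : p.Prime) (hp2 : p ≠ 2)
    (hN : Nat.card (U a) = p ^ k) (hz : z ∈ Dab G a b) (hz2 : z * z = 1)
    (move : ∃ c : Ω, z • c ≠ c) (hW : ∀ w ∈ Wab G a b, w * z = z * w) (he : 0 < e)
    (hF : Nat.card (fixedBy Ω z) = p ^ e + 1) : Ctx U a b z p k e where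
  h := h
  gen := gen
  ab := ab
  hp := hp
  hp2 := hp2
  hN := hN
  hz := hz
  hz2 := hz2
  move := move
  hW := hW
  hD := fun s hs hzs => by
    refine eq_of_conj h ab hz (fun w hw => hW w (Dab_le_Wab a b hw)) ?_ hs hzs
    rw [hF]
    have := Nat.one_lt_pow he.ne' hp.one_lt
    omega
  he := he
  hF := hF

theorem card_fixSub (C : Ctx U a b z p k e) : Nat.card (fixSub Ω (zpowers z)) = p ^ e + 1 := by
  rw [← C.hF]
  exact Nat.card_congr (Equiv.subtypeEquivRight fun c => mem_fixSub_zpowers)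

theorem card_conjD (C : Ctx U a b z p k e) :
    Nat.card {s : G // IsConj z s ∧ s ∈ Dab G a b} = 1 := by
  rw [Nat.card_eq_one_iff_unique]
  refine ⟨⟨fun x y => Subtype.ext ?_⟩, ⟨⟨z, IsConj.refl z, C.hz⟩⟩⟩
  rw [C.hD x.1 x.2.2 x.2.1, C.hD y.1 y.2.2 y.2.1]

theorem lt (C : Ctx U a b z p k e) : e < k := by
  have h1 : Nat.card (fixedBy Ω z) < Nat.card Ω := by
    classical
    have := Fintype.ofFinite Ω
    obtain ⟨c, hc⟩ := C.move
    rw [Nat.card_eq_fintype_card, Nat.card_eq_fintype_card]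
    exact Fintype.card_subtype_lt (p := fun c => z • c = c) hc
  rw [C.hF, C.h.card a, C.hN] at h1
  exact (Nat.pow_lt_pow_iff_right C.hp.one_lt).1 (by omega)

/-- `(q + 1) |J| = p ^ (k - e) - 1`. -/
theorem card_J (C : Ctx U a b z p k e) :
    (p ^ e + 1) * Nat.card {s : G // IsConj z s ∧ Swaps s a b} = p ^ (k - e) - 1 := by
  have h1 := C.h.card_fix_pairs C.ab z
  have h2 := C.h.card_swap_pairs C.ab C.hz2
  rw [C.card_conjD, mul_one] at h1
  rw [← h1] at h2
  have hpos : 0 < Nat.card {s : G // IsConj z s} :=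
    Nat.card_pos_iff.2 ⟨⟨⟨z, IsConj.refl z⟩⟩, inferInstance⟩
  rw [mul_assoc] at h2
  have h3 := Nat.eq_of_mul_eq_mul_left hpos h2
  rw [C.hF, C.h.card a, C.hN] at h3
  have hlt := C.lt
  have h4 : p ^ k = p ^ e * p ^ (k - e) := by rw [← pow_add]; congr 1; omega
  have h5 : p ^ k + 1 - (p ^ e + 1) = p ^ e * (p ^ (k - e) - 1) := by
    rw [Nat.mul_sub, ← h4, mul_one]
    omega
  rw [h5, Nat.add_sub_cancel] at h3
  have h6 : p ^ e * (p ^ (k - e) - 1) =
      p ^ e * ((p ^ e + 1) * Nat.card {s : G // IsConj z s ∧ Swaps s a b}) := by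
    rw [h3]; ring
  exact (Nat.eq_of_mul_eq_mul_left (pow_pos C.hp.pos e) h6).symm

theorem exists_odd (C : Ctx U a b z p k e) : ∃ l, 0 < l ∧ k = e * (2 * l + 1) := by
  obtain ⟨l, hl⟩ := two_dvd C.hp.one_lt C.he ⟨_, C.card_J.symm⟩
  have hlt := C.lt
  refine ⟨l, Nat.pos_of_ne_zero fun hc => ?_, ?_⟩
  · rw [hc] at hl
    omega
  · rw [mul_add, mul_one, ← hl]
    omega

/-- The elements of `J` have no fixed points on `Fix z`. -/
theorem J_fpf (C : Ctx U a b z p k e) {y : G} (hy : Swaps y a b) (hyz : IsConj z y) {c : Ω}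
    (hc : z • c = c) : y • c ≠ c := by
  intro hyc
  have hcomm : y * z = z * y := C.hW y hy.mem_W
  have hy2 : y * y = 1 := by
    obtain ⟨g, rfl⟩ := isConj_iff.1 hyz
    calc g * z * g⁻¹ * (g * z * g⁻¹) = g * (z * z) * g⁻¹ := by group
      _ = 1 := by rw [C.hz2]; group
  -- a second fixed point
  have h1 : ∃ c', c' ≠ c ∧ z • c' = c' ∧ y • c' = c' := by
    by_contra hcon
    push Not at hcon
    -- `y` acts on `Fix z` as an involution with exactly one fixed point
    classical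
    have hfin := Fintype.ofFinite Ω
    let F : Finset Ω := Finset.univ.filter fun d => z • d = d
    have hFcard : F.card = p ^ e + 1 := by
      rw [← C.hF, Nat.card_eq_fintype_card, ← Fintype.card_subtype]
      rfl
    have hmap : ∀ d : Ω, z • d = d → z • (y • d) = y • d := by
      intro d hd
      rw [← mul_smul, ← hcomm, mul_smul, hd]
    have heven : Even (F.erase c).card := by
      have h0 : ∑ d ∈ F.erase c, (1 : ZMod 2) = 0 := by
        refine Finset.sum_involution (fun d _ => y • d) ?_ ?_ ?_ ?_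
        · intro d _
          decide
        · intro d hd _ hd'
          have hd1 := Finset.mem_erase.1 hd
          exact hcon d hd1.1 (Finset.mem_filter.1 hd1.2).2 hd'
        · intro d hd
          have hd1 := Finset.mem_erase.1 hd
          refine Finset.mem_erase.2 ⟨fun hc' => hd1.1 ?_, Finset.mem_filter.2
            ⟨Finset.mem_univ _, hmap d (Finset.mem_filter.1 hd1.2).2⟩⟩
          exact MulAction.injective y (hc'.trans hyc.symm)
        · intro d _
          change y • y • d = d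
          rw [← mul_smul, hy2, one_smul]
      rw [Finset.sum_const, nsmul_eq_mul, mul_one] at h0
      exact (ZMod.natCast_eq_zero_iff_even).1 h0
    have hcF : c ∈ F := Finset.mem_filter.2 ⟨Finset.mem_univ _, hc⟩
    rw [Finset.card_erase_of_mem hcF, hFcard, Nat.add_sub_cancel] at heven
    exact (Nat.not_even_iff_odd.2 (C.hp.odd_of_ne_two C.hp2).pow) heven
  obtain ⟨c', hcc, hzc', hyc'⟩ := h1
  obtain ⟨g, hg1, hg2⟩ := C.h.two (a := c) (b := c') (c := a) (d := b) hcc.symm C.ab.symm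
  have hconj : ∀ s : G, s • c = c → s • c' = c' → g * s * g⁻¹ ∈ Dab G a b := by
    intro s h1 h2
    refine ⟨?_, ?_⟩
    · change (g * s * g⁻¹) • a = a
      rw [mul_smul, mul_smul, inv_smul_eq_iff.2 hg1.symm, h1, hg1]
    · change (g * s * g⁻¹) • b = b
      rw [mul_smul, mul_smul, inv_smul_eq_iff.2 hg2.symm, h2, hg2]
  have h2 := C.hD _ (hconj z hc hzc') (isConj_iff.2 ⟨g, rfl⟩)
  have h3 := C.hD _ (hconj y hyc hyc') (hyz.trans (isConj_iff.2 ⟨g, rfl⟩))
  have h4 : y = z := by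
    have h5 : g * y * g⁻¹ = g * z * g⁻¹ := by rw [h2, h3]
    exact mul_left_cancel (mul_right_cancel h5)
  have h5 : z • a = b := by rw [← h4]; exact hy.1
  exact C.ab (h5.symm.trans C.hz.1)

/-- The elements of `J` have sign `(-1)^((q+1)/2)` on `Fix z`. -/
theorem sg_J (C : Ctx U a b z p k e) {y : G} (hy : Swaps y a b) (hyz : IsConj z y) :
    sg Ω z ⟨y, mem_cent (C.hW y hy.mem_W)⟩ = (-1) ^ ((p ^ e + 1) / 2) := by
  have hy2 : y * y = 1 := by
    obtain ⟨g, rfl⟩ := isConj_iff.1 hyz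
    calc g * z * g⁻¹ * (g * z * g⁻¹) = g * (z * z) * g⁻¹ := by group
      _ = 1 := by rw [C.hz2]; group
  refine sg_of_sq z (Subtype.ext hy2) (f := 0) ?_ ?_
  · rw [C.card_fixSub]
    obtain ⟨r, hr⟩ : Odd (p ^ e) := (C.hp.odd_of_ne_two C.hp2).pow
    omega
  · have : IsEmpty {x : fixSub Ω (zpowers z) //
        (⟨y, mem_cent (C.hW y hy.mem_W)⟩ : centralizer (zpowers z : Set G)) • x = x} := by
      refine ⟨fun x => C.J_fpf hy hyz (mem_fixSub_zpowers.1 x.1.2) ?_⟩
      exact congrArg Subtype.val x.2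
    exact Nat.card_of_isEmpty

/-- An involution of the centraliser of `z` with exactly two fixed points on `Fix z`. -/
theorem sg_two (C : Ctx U a b z p k e) {s : G} (hs : s * z = z * s) (hs2 : s * s = 1)
    (hf : Nat.card {x : fixSub Ω (zpowers z) //
        (⟨s, mem_cent hs⟩ : centralizer (zpowers z : Set G)) • x = x} = 2) :
    sg Ω z ⟨s, mem_cent hs⟩ = (-1) ^ ((p ^ e - 1) / 2) := by
  refine sg_of_sq z (Subtype.ext hs2) (f := 2) ?_ hf
  rw [C.card_fixSub]
  have h1 : 1 < p ^ e := Nat.one_lt_pow C.he.ne' C.hp.one_lt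
  obtain ⟨r, hr⟩ : Odd (p ^ e) := (C.hp.odd_of_ne_two C.hp2).pow
  omega

/-- If `q ≡ 1 (mod 4)`, some `d ∈ D` has sign `-1`. -/
theorem exists_neg (C : Ctx U a b z p k e) (hq : p ^ e % 4 = 1) :
    ∃ (d : G) (hd : d ∈ Dab G a b),
      sg Ω z ⟨d, mem_cent (C.hW d (Dab_le_Wab a b hd))⟩ = -1 := by
  obtain ⟨c, hc⟩ := C.move
  obtain ⟨y, hyz, hy⟩ := C.h.exists_conj_swaps C.ab C.hz2 hc
  -- `u ∈ U b` commuting with `z`
  have h3 : 2 < Nat.card (fixSub Ω (zpowers z)) := by
    rw [C.card_fixSub]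
    have h1 : 1 < p ^ e := Nat.one_lt_pow C.he.ne' C.hp.one_lt
    omega
  have hza : z • a = a := C.hz.1
  have hzb : z • b = b := C.hz.2
  have : Finite (fixSub Ω (zpowers z)) := Subtype.finite
  have hS := C.h.fixed (zpowers z) (three_of_card h3)
  obtain ⟨c', hca', hcb'⟩ := three_of_card h3 (⟨a, mem_fixSub_zpowers.2 hza⟩ :
    fixSub Ω (zpowers z)) ⟨b, mem_fixSub_zpowers.2 hzb⟩
  obtain ⟨u, hu, huc⟩ := hS.trans (a := ⟨b, mem_fixSub_zpowers.2 hzb⟩)
    (b := ⟨a, mem_fixSub_zpowers.2 hza⟩) (c := c')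
    (fun hc => C.ab (congrArg Subtype.val hc).symm) hcb'
  have huU : (u : G) ∈ U b := hu
  have hu1 : (u : G) ≠ 1 := by
    intro hc1
    apply hca'
    rw [← huc, show u = 1 from Subtype.ext hc1, one_smul]
  have huz : (u : G) * z = z * u := comm_of_cent u.2
  have hms := C.h.mu_swaps C.ab huU hu1
  have hm : mu U a b (u : G) * z = z * mu U a b u := C.hW _ hms.mem_W
  have hodd : ∀ c, Odd (Nat.card (U c)) := by
    intro c
    have h1 := C.h.card a
    have h2 := C.h.card c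
    have h4 : Nat.card (U c) = p ^ k := by rw [← C.hN]; omega
    rw [h4]
    exact (C.hp.odd_of_ne_two C.hp2).pow
  have h5 := sg_mu C.h C.ab hodd C.hz huU hu1 huz hm
  have h6 := C.sg_J hy hyz
  have h7 : (-1 : ℤˣ) ^ ((p ^ e + 1) / 2) = -1 := by
    have : Odd ((p ^ e + 1) / 2) := ⟨(p ^ e + 1) / 2 / 2, by omega⟩
    exact this.neg_one_pow
  rw [h7] at h6
  refine ⟨y * (mu U a b (u : G))⁻¹, hy.mul hms.inv, ?_⟩
  have h8 : (⟨y * (mu U a b (u : G))⁻¹, mem_cent (C.hW _ (Dab_le_Wab a b (hy.mul hms.inv)))⟩ :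
      centralizer (zpowers z : Set G)) =
      ⟨y, mem_cent (C.hW y hy.mem_W)⟩ * ⟨mu U a b (u : G), mem_cent hm⟩⁻¹ := rfl
  rw [h8, map_mul, map_inv, h5, h6]
  simp

/-- **The theorem.** -/
theorem cube (C : Ctx U a b z p k e) {d : G} (hd : d ∈ Dab G a b)
    (hsd : sg Ω z ⟨d, mem_cent (C.hW d (Dab_le_Wab a b hd))⟩ = -1) :
    k = 3 * e ∧ Nat.card {s : G // IsConj z s ∧ Swaps s a b} = p ^ e - 1 := by
  have hk : k = 3 * e := by
    obtain ⟨c, hc⟩ := C.move
    obtain ⟨l, hl, hkl⟩ := C.exists_odd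
    let j : Wab G a b →* centralizer (zpowers z : Set G) :=
      Subgroup.inclusion fun w hw => mem_cent (C.hW w hw)
    let lamW : Wab G a b →* ℂˣ :=
      (Units.map (Int.castRingHom ℂ).toMonoidHom).comp ((sg Ω z).comp j)
    let lam : Dab G a b →* ℂˣ := lamW.comp (Subgroup.inclusion (Dab_le_Wab a b))
    have hval : ∀ w : Wab G a b, lamW w = Units.map (Int.castRingHom ℂ).toMonoidHom
        (sg Ω z ⟨(w : G), mem_cent (C.hW w w.2)⟩) := fun w => rfl
    have hlam : lam ≠ 1 := by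
      intro hc1
      have h1 : lam ⟨d, hd⟩ = 1 := by rw [hc1]; rfl
      have h2 : lam ⟨d, hd⟩ = Units.map (Int.castRingHom ℂ).toMonoidHom (-1 : ℤˣ) := by
        change lamW ⟨d, _⟩ = _
        rw [hval]
        change Units.map _ (sg Ω z ⟨d, _⟩) = _
        rw [hsd]
      rw [h1] at h2
      have h3 := congrArg (fun x : ℂˣ => (x : ℂ)) h2
      revert h3
      norm_num
    have ha : ∀ (m : G), Swaps m a b → IsConj z m → ∀ x y : Dab G a b, (y : G) = m * x * m⁻¹ →
        lam y = lam x := by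
      intro m hm _ x y hxy
      have h3 : (Subgroup.inclusion (Dab_le_Wab a b) y : Wab G a b) =
          ⟨m, hm.mem_W⟩ * Subgroup.inclusion (Dab_le_Wab a b) x * ⟨m, hm.mem_W⟩⁻¹ :=
        Subtype.ext hxy
      change lamW _ = lamW _
      rw [h3, map_mul, map_mul, map_inv, mul_comm (lamW _), mul_inv_cancel_right]
    have hb : ∀ x : Dab G a b, IsConj z (x : G) → lam x = 1 := by
      intro x hx
      have h3 : (x : G) = z := C.hD x x.2 hx
      change lamW _ = 1
      rw [hval]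
      have h4 : sg Ω z ⟨(x : G), mem_cent (C.hW _ (Dab_le_Wab a b x.2))⟩ = 1 := by
        classical
        rw [sg, MonoidHom.comp_apply]
        have h5 : toPermHom (centralizer (zpowers z : Set G)) (fixSub Ω (zpowers z))
            ⟨(x : G), mem_cent (C.hW _ (Dab_le_Wab a b x.2))⟩ = 1 := by
          ext c
          change (x : G) • (c : Ω) = c
          rw [h3]
          exact mem_fixSub_zpowers.1 c.2
        rw [h5, map_one]
      change Units.map _ (sg Ω z ⟨(x : G), _⟩) = 1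
      rw [h4, map_one]
    have hc' : ∀ (m m' : G), Swaps m a b → Swaps m' a b → IsConj z m → IsConj z m' →
        ∀ x : Dab G a b, (x : G) = m' * m⁻¹ → lam x = 1 := by
      intro m m' hm hm' hmz hmz' x hx
      have h3 : (Subgroup.inclusion (Dab_le_Wab a b) x : Wab G a b) =
          ⟨m', hm'.mem_W⟩ * ⟨m, hm.mem_W⟩⁻¹ := Subtype.ext hx
      change lamW _ = 1
      rw [h3, map_mul, map_inv, hval, hval]
      change Units.map _ (sg Ω z ⟨m', _⟩) * (Units.map _ (sg Ω z ⟨m, _⟩))⁻¹ = 1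
      rw [C.sg_J hm' hmz', C.sg_J hm hmz, mul_inv_cancel]
    obtain ⟨X, Y, hXY, hX, hY, ψ, hψ, h1, h2⟩ := lin_char' C.h C.gen C.ab C.hp C.hp2 C.hN lam hlam
      C.hz2 hc ha hb hc'
    exact (arith_cube C.h C.hp C.hN C.hz2 C.hF hXY hX hY hψ h1 h2 C.he hkl hl).1
  refine ⟨hk, ?_⟩
  have h1 := C.card_J
  have h2 : k - e = e + e := by omega
  rw [h2, pow_add] at h1
  have h3 : 1 ≤ p ^ e := Nat.one_le_pow _ _ C.hp.pos
  have h4 : p ^ e * p ^ e - 1 = (p ^ e + 1) * (p ^ e - 1) := by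
    obtain ⟨r, hr⟩ := Nat.exists_eq_add_of_le h3
    rw [hr, Nat.add_sub_cancel_left]
    have : (1 + r) * (1 + r) = (1 + r + 1) * r + 1 := by ring
    omega
  rw [h4] at h1
  exact Nat.eq_of_mul_eq_mul_left (by omega) h1

end Ctx

end Cfsg.Agent.HKS.CentralCube
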