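import Mathlib
import Cfsg.Agent.HKS.UniGoalOf

/-!
# Goal 6 from centrality, the Sylow 2-subgroup and the Ree end
-/

set_option autoImplicit false

namespace Cfsg.Agent.HKS

open Subgroup MulAction SLCoord

/-- The Sylow 2-subgroups of `G` are elementary abelian of order 8. -/
def ReeSylowStmt.{v} : Prop := ∀ (G Ω : Type v) [Group G] [Finite G] [MulAction G Ω]
  [FaithfulSMul G Ω] [Finite Ω] (U : Ω → Subgroup G) (a b : Ω) (p k : ℕ), CtxE U a b p k →
  RankOneD G a b → ∀ t ∈ Dab G a b, t ≠ 1 → t * t = 1 → ∀ (F : Type) [Field F] [Fintype F]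
  (φ : Matrix.SpecialLinearGroup (Fin 2) F →* G), SLX U (zpowers t) a b φ →
  Odd (Fintype.card F) → φ (-1) = 1 →
  ∃ P : Sylow 2 G, Nat.card P = 8 ∧ ∀ x ∈ P, x * x = 1

/-- The Ree end. -/
def ReeEndStmt.{v} : Prop := ∀ (G Ω : Type v) [Group G] [Finite G] [MulAction G Ω]
  [FaithfulSMul G Ω] [Finite Ω] (U : Ω → Subgroup G) (a b : Ω) (p k : ℕ), CtxE U a b p k →
  RankOneD G a b → ∀ t ∈ Dab G a b, t ≠ 1 → t * t = 1 → t ∉ genFix U (zpowers t) →
  (∀ d ∈ Dab G a b, t * d = d * t) → ∀ (F : Type) [Field F] [Fintype F]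
  (φ : Matrix.SpecialLinearGroup (Fin 2) F →* G), SLX U (zpowers t) a b φ →
  (∀ S : Sylow 2 G, Nat.card S = 8 ∧ ∀ x ∈ S, x * x = 1) → ∃ n, TR U a b n

theorem sylow_all {G : Type*} [Group G] [Finite G]
    (h : ∃ P : Sylow 2 G, Nat.card P = 8 ∧ ∀ x ∈ P, x * x = 1) (S : Sylow 2 G) :
    Nat.card S = 8 ∧ ∀ x ∈ S, x * x = 1 := by
  obtain ⟨P, hP, hPx⟩ := h
  obtain ⟨g, rfl⟩ := MulAction.exists_smul_eq G P S
  constructor
  · rw [← hP]
    exact (Nat.card_congr (P.equivSMul g).toEquiv).symm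
  · intro x hx
    have h1 : x ∈ ((g • P : Sylow 2 G) : Subgroup G) := hx
    rw [Sylow.smul_def, Sylow.pointwise_smul_def] at h1
    obtain ⟨y, hy, rfl⟩ := (mem_smul_pointwise_iff_exists x _ _).1 h1
    rw [← smul_mul', hPx y hy, smul_one]

/-- **Goal 6** from the three statements. -/
theorem goalRee_of.{v} (hc : CentralStmt.{v}) (hs : ReeSylowStmt.{v}) (he : ReeEndStmt.{v}) :
    GoalRee.{v} := by
  intro G Ω _ _ _ _ _ U a b p k C R t ht ht1 ht2 htM
  have hcent := hc G Ω U a b p k C R t ht ht1 ht2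
  obtain ⟨F, i1, i2, hodd, φ, S⟩ := Head.exists_slx C R ht ht1 ht2
  have hneg := Head.neg_eq_one C R ht ht1 ht2 S htM
  have hS := sylow_all (hs G Ω U a b p k C R t ht ht1 ht2 F φ S hodd hneg)
  exact Or.inr (Or.inr (Or.inr (he G Ω U a b p k C R t ht ht1 ht2 htM hcent F φ S hS)))

end Cfsg.Agent.HKS
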