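import Mathlib
import Cfsg.Agent.HKS.TwoOneCentral
import Cfsg.Agent.HKS.ReeGoalOf

/-!
# Goals 6 and 7 without the centrality hypothesis
-/

set_option autoImplicit false

namespace Cfsg.Agent.HKS

theorem centralStmt.{v} : CentralStmt.{v} := by
  intro G Ω _ _ _ _ _ U a b p k C R t ht ht1 ht2 d hd
  exact (TwoOne.central C R ht ht2 ht1 d hd).symm

theorem goalUni_of'.{v} (hu : UniEnd.{v}) : GoalUni.{v} := goalUni_of centralStmt hu

theorem goalRee_of'.{v} (hs : ReeSylowStmt.{v}) (he : ReeEndStmt.{v}) : GoalRee.{v} :=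
  goalRee_of centralStmt hs he

end Cfsg.Agent.HKS
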