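import Cfsg.Agent.HKS.EndList
import Cfsg.Agent.HKS.EndU

/-!
# The end of the even degree case: 2-rank two, without hypothesis
-/

set_option autoImplicit false

namespace Cfsg.Agent.HKS.EndFin

open Matrix Subgroup MulAction

variable {G Ω : Type*} [Group G] [MulAction G Ω] [Finite G] [Finite Ω] {U : Ω → Subgroup G}
  {a b : Ω} {p k : ℕ}

/-- **The end, 2-rank two** (the conclusion of S0482). -/
theorem htype_of_list_two (h : SSplit U) (hab : b ≠ a) (hp : p.Prime) (hp2 : p ≠ 2) (hk : k ≠ 0)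
    (hU : Nat.card (U a) = p ^ k) (hd : ¬ p ∣ Nat.card (Dab G a b))
    (hlt : Nat.card (Dab G a b) < Nat.card (U a))
    (hlist : (∃ (F : Type) (_ : Field F) (_ : Fintype F), Odd (Fintype.card F) ∧ 5 ≤ Fintype.card F ∧
        Nonempty (G ≃* Matrix.ProjectiveSpecialLinearGroup (Fin 2) F)) ∨
      (∃ (F : Type) (_ : Field F) (_ : Fintype F), Odd (Fintype.card F) ∧
        Nonempty (G ≃* Matrix.ProjectiveSpecialLinearGroup (Fin 3) F)) ∨
      (∃ (F : Type) (_ : Field F) (_ : Fintype F) (q : ℕ), Fintype.card F = q ^ 2 ∧ Odd q ∧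
        Nonempty (G ≃* Cfsg.PSU 3 F q)) ∨
      (∃ (F : Type) (_ : Field F) (_ : Fintype F), Fintype.card F = 16 ∧
        Nonempty (G ≃* Cfsg.PSU 3 F 4)) ∨
      Nonempty (G ≃* alternatingGroup (Fin 7)) ∨ Cfsg.IsM11 G) :
    (∃ q, TL U a b q) ∨ ∃ q, TU U a b q :=
  EndList.htype_of_list_two' h hab hp hp2 hk hU hd hlt
    (fun _ _ _ _ hF hq e => EndU.tu_of_iso h hab hF hq e hp hp2 hk hU hd hlt) hlist

end Cfsg.Agent.HKS.EndFin
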