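import Mathlib
import Cfsg.Agent.HKS.EndOrd

/-!
# The end of the even degree case: from the lists of simple groups to the types
-/

set_option autoImplicit false

namespace Cfsg.Agent.HKS.EndList

open Matrix Subgroup MulAction
open Cfsg.Agent.HKS.EndNum (Ord)

section List

variable {G Ω : Type*} [Group G] [MulAction G Ω] [Finite G] [Finite Ω] {U : Ω → Subgroup G}
  {a b : Ω} {p k : ℕ}

theorem not_psl_three (h : SSplit U) (hab : b ≠ a) (hp : p.Prime) (hp2 : p ≠ 2) (hk : k ≠ 0)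
    (hU : Nat.card (U a) = p ^ k) (hd : ¬ p ∣ Nat.card (Dab G a b))
    (hlt : Nat.card (Dab G a b) < Nat.card (U a)) {F : Type} [Field F] [Fintype F]
    (hodd : Odd (Fintype.card F)) (e : G ≃* ProjectiveSpecialLinearGroup (Fin 3) F) : False := by
  have hord := EndL.ord h hab hp hp2 hk hU hd hlt
  obtain ⟨v, hv⟩ := hodd
  have h1 := Fintype.one_lt_card (α := F)
  obtain ⟨s, -, f, hs, hf⟩ := FiniteField.card' F
  have hc := EndOrd.card_psl_three (F := F) (t := 2 * v) hv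
  rw [← Nat.card_congr e.toEquiv] at hc
  exact EndNum.psl_three hord hs (hv ▸ hf) (by omega) rfl hc

theorem not_psu_four (h : SSplit U) (hab : b ≠ a) (hp : p.Prime) (hp2 : p ≠ 2) (hk : k ≠ 0)
    (hU : Nat.card (U a) = p ^ k) (hd : ¬ p ∣ Nat.card (Dab G a b))
    (hlt : Nat.card (Dab G a b) < Nat.card (U a)) {F : Type} [Field F] [Fintype F]
    (hF : Fintype.card F = 16) (e : G ≃* Cfsg.PSU 3 F 4) : False := by
  have hord := EndL.ord h hab hp hp2 hk hU hd hlt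
  have hc := EndOrd.card_psu_three (F := F) (t := 3) (by rw [hF]; norm_num)
  rw [← Nat.card_congr e.toEquiv] at hc
  norm_num at hc
  rw [hc] at hord
  exact EndNum.not_62400 hord

theorem not_alt_seven (h : SSplit U) (hab : b ≠ a) (hp : p.Prime) (hp2 : p ≠ 2) (hk : k ≠ 0)
    (hU : Nat.card (U a) = p ^ k) (hd : ¬ p ∣ Nat.card (Dab G a b))
    (hlt : Nat.card (Dab G a b) < Nat.card (U a)) (e : G ≃* alternatingGroup (Fin 7)) : False := by
  have hord := EndL.ord h hab hp hp2 hk hU hd hlt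
  have hc : Nat.card G = 2520 := by
    rw [Nat.card_congr e.toEquiv, nat_card_alternatingGroup]
    simp [Nat.factorial]
  rw [hc] at hord
  exact EndNum.not_2520 hord

theorem not_card (h : SSplit U) (hab : b ≠ a) (hp : p.Prime) (hp2 : p ≠ 2) (hk : k ≠ 0)
    (hU : Nat.card (U a) = p ^ k) (hd : ¬ p ∣ Nat.card (Dab G a b))
    (hlt : Nat.card (Dab G a b) < Nat.card (U a)) {N : ℕ} (hN : Nat.card G = N)
    (hl : N = 504 ∨ N = 2520 ∨ N = 7920 ∨ N = 62400 ∨ N = 175560) : False := by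
  have hord := EndL.ord h hab hp hp2 hk hU hd hlt
  rw [hN] at hord
  rcases hl with rfl | rfl | rfl | rfl | rfl
  · exact EndOrd.not_504 hord
  · exact EndNum.not_2520 hord
  · exact EndNum.not_7920 hord
  · exact EndNum.not_62400 hord
  · exact EndNum.not_175560 hord

/-- **The end, 2-rank two** (the conclusion of S0482). -/
theorem htype_of_list_two' (h : SSplit U) (hab : b ≠ a) (hp : p.Prime) (hp2 : p ≠ 2) (hk : k ≠ 0)
    (hU : Nat.card (U a) = p ^ k) (hd : ¬ p ∣ Nat.card (Dab G a b))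
    (hlt : Nat.card (Dab G a b) < Nat.card (U a))
    (hTU : ∀ (F : Type) [Field F] [Fintype F] (q : ℕ), Fintype.card F = q ^ 2 → Odd q →
      (G ≃* Cfsg.PSU 3 F q) → TU U a b q)
    (hlist : (∃ (F : Type) (_ : Field F) (_ : Fintype F), Odd (Fintype.card F) ∧ 5 ≤ Fintype.card F ∧
        Nonempty (G ≃* Matrix.ProjectiveSpecialLinearGroup (Fin 2) F)) ∨
      (∃ (F : Type) (_ : Field F) (_ : Fintype F), Odd (Fintype.card F) ∧
        Nonempty (G ≃* Matrix.ProjectiveSpecialLinearGroup (Fin 3) F)) ∨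
      (∃ (F : Type) (_ : Field F) (_ : Fintype F) (q : ℕ), Fintype.card F = q ^ 2 ∧ Odd q ∧
        Nonempty (G ≃* Cfsg.PSU 3 F q)) ∨
      (∃ (F : Type) (_ : Field F) (_ : Fintype F), Fintype.card F = 16 ∧
        Nonempty (G ≃* Cfsg.PSU 3 F 4)) ∨
      Nonempty (G ≃* alternatingGroup (Fin 7)) ∨ Cfsg.IsM11 G) :
    (∃ q, TL U a b q) ∨ ∃ q, TU U a b q := by
  rcases hlist with ⟨F, _, _, ho, h5, ⟨e⟩⟩ | ⟨F, _, _, ho, ⟨e⟩⟩ | ⟨F, _, _, q, hF, ho, ⟨e⟩⟩ |
    ⟨F, _, _, hF, ⟨e⟩⟩ | he | ⟨-, hc⟩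
  · exact Or.inl ⟨_, EndL.tl_of_iso h hab e hp hp2 hk hU hd hlt ho (by omega)⟩
  · exact (not_psl_three h hab hp hp2 hk hU hd hlt ho e).elim
  · exact Or.inr ⟨q, hTU F q hF ho e⟩
  · exact (not_psu_four h hab hp hp2 hk hU hd hlt hF e).elim
  · obtain ⟨e⟩ := he
    exact (not_alt_seven h hab hp hp2 hk hU hd hlt e).elim
  · exact (not_card h hab hp hp2 hk hU hd hlt hc (by norm_num)).elim

/-- **The end, dihedral Sylow 2-subgroups** (the conclusion of S0483 for a group without core). -/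
theorem tl_of_list_dihedral (h : SSplit U) (hab : b ≠ a) (hp : p.Prime) (hp2 : p ≠ 2) (hk : k ≠ 0)
    (hU : Nat.card (U a) = p ^ k) (hd : ¬ p ∣ Nat.card (Dab G a b))
    (hlt : Nat.card (Dab G a b) < Nat.card (U a))
    (hlist : (∃ (F : Type) (_ : Field F) (_ : Fintype F), Odd (Fintype.card F) ∧ 3 < Fintype.card F ∧
        Nonempty (G ≃* Matrix.ProjectiveSpecialLinearGroup (Fin 2) F)) ∨
      Nonempty (G ≃* alternatingGroup (Fin 7))) :
    ∃ q, TL U a b q := by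
  rcases hlist with ⟨F, _, _, ho, h5, ⟨e⟩⟩ | he
  · exact ⟨_, EndL.tl_of_iso h hab e hp hp2 hk hU hd hlt ho h5⟩
  · obtain ⟨e⟩ := he
    exact (not_alt_seven h hab hp hp2 hk hU hd hlt e).elim

theorem not_psl_two_char_two (h : SSplit U) (hab : b ≠ a) (hp : p.Prime) (hp2 : p ≠ 2) (hk : k ≠ 0)
    (hU : Nat.card (U a) = p ^ k) (hd : ¬ p ∣ Nat.card (Dab G a b))
    (hlt : Nat.card (Dab G a b) < Nat.card (U a)) (h8 : 8 ∣ Nat.card G) (h16 : ¬ 16 ∣ Nat.card G)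
    {F : Type} [Field F] [Fintype F] {v : ℕ} (hF : Fintype.card F = 2 ^ v)
    (e : G ≃* Matrix.ProjectiveSpecialLinearGroup (Fin 2) F) : False := by
  have hc := Cfsg.Agent.S0243.result (F := F) hF 2 le_rfl
  rw [Fin.prod_univ_two, ← Nat.card_congr e.toEquiv] at hc
  have hv : v ≠ 0 := by
    rintro rfl
    have := Fintype.one_lt_card (α := F)
    omega
  have hp1 : 1 < 2 ^ v := Nat.one_lt_pow hv (by norm_num)
  have hg : Nat.gcd 2 (2 ^ v - 1) = 1 := by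
    rw [← Nat.coprime_iff_gcd_eq_one, Nat.Prime.coprime_iff_not_dvd Nat.prime_two]
    intro h2
    have : 2 ∣ 2 ^ v := dvd_pow_self 2 hv
    omega
  rw [hg, one_mul] at hc
  obtain ⟨t, ht⟩ : ∃ t, 2 ^ v = t + 1 := ⟨2 ^ v - 1, by omega⟩
  rw [ht, Nat.add_sub_cancel] at hc
  have e0 : (t + 1) ^ 2 - (t + 1) ^ ((0 : Fin 2) : ℕ) = t * (t + 2) := by
    apply Nat.sub_eq_of_eq_add
    change _ = _ + (t + 1) ^ 0
    ring
  have e1 : (t + 1) ^ 2 - (t + 1) ^ ((1 : Fin 2) : ℕ) = (t + 1) * t := by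
    apply Nat.sub_eq_of_eq_add
    change _ = _ + (t + 1) ^ 1
    ring
  rw [e0, e1] at hc
  have ht0 : 0 < t := by omega
  have hG : Nat.card G = 2 ^ v * (t * (t + 2)) := by
    apply Nat.eq_of_mul_eq_mul_left ht0
    rw [hc, ht]
    ring
  have ho : Nat.Coprime 8 (t * (t + 2)) := by
    have ho2 : ¬ 2 ∣ t := fun h2 => by
      have : 2 ∣ 2 ^ v := dvd_pow_self 2 hv
      omega
    have : Nat.Coprime 2 (t * (t + 2)) := by
      rw [Nat.Prime.coprime_iff_not_dvd Nat.prime_two, Nat.prime_two.dvd_mul]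
      rintro (h2 | h2)
      · exact ho2 h2
      · omega
    exact Nat.Coprime.pow_left 3 this
  have h8' : 2 ^ 3 ∣ 2 ^ v := by
    rw [hG] at h8
    exact ho.dvd_of_dvd_mul_right h8
  have hv3 : 3 ≤ v := (Nat.pow_dvd_pow_iff_le_right (by norm_num)).1 h8'
  have hv4 : ¬ 4 ≤ v := by
    intro hc4
    apply h16
    rw [hG]
    exact (pow_dvd_pow 2 hc4).mul_right _
  obtain rfl : v = 3 := by omega
  have ht7 : t = 7 := by omega
  subst ht7
  exact not_card h hab hp hp2 hk hU hd hlt hG (by norm_num)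

omit [Finite G] in
theorem not_psl_two_mod_eight {F : Type} [Field F] [Fintype F] (h8 : 8 ∣ Nat.card G)
    (hF : Fintype.card F % 8 = 3 ∨ Fintype.card F % 8 = 5)
    (e : G ≃* Matrix.ProjectiveSpecialLinearGroup (Fin 2) F) : False := by
  obtain ⟨v, hv⟩ : Odd (Fintype.card F) := Nat.odd_iff.2 (by omega)
  have hc := SmallSimple.PSLTwoPart.card_psl_two_odd (F := F) ⟨v, hv⟩
  rw [← Nat.card_congr e.toEquiv, hv] at hc
  have e1 : (2 * v + 1) ^ 2 - 1 = 4 * (v * (v + 1)) := by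
    apply Nat.sub_eq_of_eq_add
    ring
  rw [e1] at hc
  have e2 : Nat.card G = 2 * ((2 * v + 1) * (v * (v + 1))) := by
    apply Nat.eq_of_mul_eq_mul_left (Nat.succ_pos 1)
    change 2 * _ = 2 * _
    rw [hc]
    ring
  obtain ⟨m, hm⟩ := h8
  have h4 : (2 * v + 1) * (v * (v + 1)) = 4 * m := by
    apply Nat.eq_of_mul_eq_mul_left (Nat.succ_pos 1)
    change 2 * _ = 2 * _
    rw [← e2, hm]
    ring
  rw [hv] at hF
  have hv4 : v % 4 = 1 ∨ v % 4 = 2 := by omega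
  have h5 : ((2 * v + 1) * (v * (v + 1))) % 4 = 2 := by
    rcases hv4 with h | h <;> simp [Nat.mul_mod, Nat.add_mod, h]
  omega

/-- **The end, abelian Sylow 2-subgroups of order 8** (the conclusion of S0506). -/
theorem ree_of_list (h : SSplit U) (hab : b ≠ a) (hp : p.Prime) (hp2 : p ≠ 2) (hk : k ≠ 0)
    (hU : Nat.card (U a) = p ^ k) (hd : ¬ p ∣ Nat.card (Dab G a b))
    (hlt : Nat.card (Dab G a b) < Nat.card (U a)) (h8 : 8 ∣ Nat.card G) (h16 : ¬ 16 ∣ Nat.card G)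
    (hlist : (∃ v : ℕ, 2 ≤ v ∧ ∃ (F : Type) (_ : Field F) (_ : Fintype F), Fintype.card F = 2 ^ v ∧
        Nonempty (G ≃* Matrix.ProjectiveSpecialLinearGroup (Fin 2) F)) ∨
      (∃ (F : Type) (_ : Field F) (_ : Fintype F), (Fintype.card F % 8 = 3 ∨ Fintype.card F % 8 = 5) ∧
        Nonempty (G ≃* Matrix.ProjectiveSpecialLinearGroup (Fin 2) F)) ∨
      Cfsg.IsRee G ∨ Cfsg.IsJ1 G) :
    IsSimpleGroup G ∧ ∃ m : ℕ, 1 ≤ m ∧ Nat.card (U a) = (3 ^ (2 * m + 1)) ^ 3 ∧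
      Nat.card (Dab G a b) = 3 ^ (2 * m + 1) - 1 := by
  rcases hlist with ⟨v, -, F, _, _, hF, ⟨e⟩⟩ | ⟨F, _, _, hF, ⟨e⟩⟩ | ⟨hs, m, hm, hc⟩ | ⟨-, hc⟩
  · exact (not_psl_two_char_two h hab hp hp2 hk hU hd hlt h8 h16 hF e).elim
  · exact (not_psl_two_mod_eight h8 hF e).elim
  · have hord := EndL.ord h hab hp hp2 hk hU hd hlt
    have h1 : 9 ≤ 3 ^ (2 * m + 1) := by
      calc 9 = 3 ^ 2 := by norm_num
        _ ≤ 3 ^ (2 * m + 1) := Nat.pow_le_pow_right (by norm_num) (by omega)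
    obtain ⟨t, ht⟩ : ∃ t, 3 ^ (2 * m + 1) = t + 1 := ⟨3 ^ (2 * m + 1) - 1, by omega⟩
    have hN : Nat.card G = (t + 1) ^ 3 * (((t + 2) * (t ^ 2 + t + 1)) * t) := by
      rw [hc, ht, Nat.add_sub_cancel]
      ring
    obtain ⟨h2, h3⟩ := EndOrd.ree_num hord ht.symm (by omega) hN
    refine ⟨hs, m, hm, ?_, ?_⟩
    · rw [h2, ht]
    · rw [h3, ht, Nat.add_sub_cancel]
  · exact (not_card h hab hp hp2 hk hU hd hlt hc (by norm_num)).elim

end List

end Cfsg.Agent.HKS.EndList
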