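import Cfsg.Prelude.Def_LieExceptional
import Cfsg.Prelude.Def_LieRecognition
import Cfsg.Agent.KantorSeitz.Assembly
import Cfsg.Agent.HKS.Frame
import Cfsg.Agent.HKS.FrameSub

/-!
# From a split rank one BN-pair of a simple group to a split 2-transitive group
-/

set_option autoImplicit false

namespace Cfsg.Agent.HKS.FromBN

open Subgroup MulAction Cfsg.Agent.KantorSeitz

/-- A split `2`-transitive group with regular unipotent groups is strongly split. -/
theorem toSSplit {G Ω : Type*} [Group G] [MulAction G Ω] [Finite Ω] {U : Ω → Subgroup G}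
    (h : KS U) (hreg : ∀ a b : Ω, a ≠ b → ∀ x ∈ U a, x • b = b → x = 1)
    (h3 : 2 < Nat.card Ω) : SSplit U where
  fix := h.fix
  conj := h.conj
  trans := h.trans
  free := fun {a b x} hab hx hxb => hreg a b (Ne.symm hab) x hx hxb
  nil := h.nil
  three := SSplit.three_of_card h3

/-- The permutation group on the cosets of `B`. -/
theorem exists_KS {G : Type*} [Group G] [Finite G] [IsSimpleGroup G] (P : Cfsg.BNPair G)
    (h1 : P.rank = 1) (hsplit : P.IsSplit) :
    ∃ (N : Subgroup G) (b : G ⧸ P.B), b ≠ ((1 : G) : G ⧸ P.B) ∧ N ≤ P.B ∧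
      (∀ b ∈ P.B, ∀ u ∈ N, b * u * b⁻¹ ∈ N) ∧ Group.IsNilpotent N ∧ N ⊔ (P.B ⊓ P.N) = P.B ∧
      KS (ofBase N ((1 : G) : G ⧸ P.B)) ∧
      ofBase N ((1 : G) : G ⧸ P.B) ((1 : G) : G ⧸ P.B) = N ∧
      FaithfulSMul G (G ⧸ P.B) ∧ 2 < Nat.card (G ⧸ P.B) ∧
      (∀ g : G, g • ((1 : G) : G ⧸ P.B) = ((1 : G) : G ⧸ P.B) ↔ g ∈ P.B) ∧
      (∀ t ∈ P.B ⊓ P.N, t • b = b) := by
  obtain ⟨U, hUB, hUn, hUnil, hsplit⟩ := hsplit
  obtain ⟨s, hS⟩ := Cfsg.Agent.StrongEmb.SplitBN.exists_S_eq_singleton P h1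
  have hsS : s ∈ P.S := by rw [hS]; rfl
  have hsB : s ∉ P.B := Cfsg.Agent.LieExceptional.BNPairCore.not_mem_B hsS
  have hcore : P.B.normalCore = ⊥ := by
    rcases (inferInstance : P.B.normalCore.Normal).eq_bot_or_eq_top with h | h
    · exact h
    · exfalso
      apply hsB
      exact P.B.normalCore_le (by rw [h]; exact mem_top s)
  have hUn' : (U.subgroupOf P.B).Normal := by
    rw [Subgroup.normal_subgroupOf_iff hUB]
    intro u b hu hb
    exact hUn b hb u hu
  let a : G ⧸ P.B := ((1 : G) : G ⧸ P.B)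
  let b : G ⧸ P.B := (s : G ⧸ P.B)
  have hmk : ∀ g : G, g • a = (g : G ⧸ P.B) := by
    intro g
    change ((g * 1 : G) : G ⧸ P.B) = g
    rw [mul_one]
  have hsta : ∀ g : G, g • a = a ↔ g ∈ P.B := by
    intro g
    rw [hmk]
    change ((g : G ⧸ P.B) = ((1 : G) : G ⧸ P.B)) ↔ _
    rw [QuotientGroup.eq, mul_one, inv_mem_iff]
  have hab : a ≠ b := by
    intro e
    apply hsB
    rw [← hsta, hmk]
    exact e.symm
  have hf : FaithfulSMul G (G ⧸ P.B) := ⟨by
    intro x y hxy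
    have h2 : x⁻¹ * y ∈ P.B.normalCore := by
      rw [Subgroup.normalCore_eq_ker, MonoidHom.mem_ker]
      ext c
      change (x⁻¹ * y) • c = c
      rw [mul_smul, ← hxy c, inv_smul_smul]
    rw [hcore, mem_bot, inv_mul_eq_one] at h2
    exact h2⟩
  have hinv : ∀ g : G, g • a = a → ∀ x ∈ U, g * x * g⁻¹ ∈ U := fun g hg x hx =>
    hUn g ((hsta g).1 hg) x hx
  have hUb : ∀ c : G ⧸ P.B, c ≠ a → ∃ u ∈ U, u • b = c := by
    intro c hc
    obtain ⟨g, rfl⟩ := QuotientGroup.mk_surjective c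
    have hg : g ∉ P.B := fun e => hc (by rw [← hmk]; exact (hsta g).2 e)
    obtain ⟨u, hu, y, hy, rfl⟩ := Cfsg.Agent.StrongEmb.SplitBN.exists_eq_mul P hS hUB hUn' hsplit hg
    refine ⟨u, hu, ?_⟩
    change ((u * s : G) : G ⧸ P.B) = ((u * s * y : G) : G ⧸ P.B)
    rw [QuotientGroup.eq]
    have h2 : (u * s)⁻¹ * (u * s * y) = y := by group
    rwa [h2]
  have hKS : KS (ofBase U a) := by
    refine KS_of_base (fun x hx => (hsta x).2 (hUB hx)) hinv ?_ hUnil ?_
    · intro c d hc hd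
      obtain ⟨u, hu, rfl⟩ := hUb c hc
      obtain ⟨v, hv, rfl⟩ := hUb d hd
      exact ⟨v * u⁻¹, mul_mem hv (inv_mem hu), by rw [mul_smul, inv_smul_smul]⟩
    · intro c
      obtain ⟨g, rfl⟩ := QuotientGroup.mk_surjective c
      exact ⟨g, hmk g⟩
  have hHb : ∀ t ∈ P.B ⊓ P.N, t • b = b := by
    intro t ht
    change ((t * s : G) : G ⧸ P.B) = ((s : G) : G ⧸ P.B)
    rw [QuotientGroup.eq]
    have h2 : (t * s)⁻¹ * s = s⁻¹ * t⁻¹ * s := by group
    rw [h2]
    exact Cfsg.Agent.LieExceptional.BNPairCore.conj_mem_inv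
      (Cfsg.Agent.LieExceptional.BNPairCore.mem_N hsS) (inv_mem ht.1) (inv_mem ht.2)
  refine ⟨U, b, hab.symm, hUB, hUn, hUnil, hsplit, hKS, ofBase_self hinv, hf, ?_, hsta, hHb⟩
  -- at least three points: `s B s ≠ B`
  by_contra hcon
  have hne : (a : G ⧸ P.B) ≠ b := hab
  have hall : ∀ c : G ⧸ P.B, c = a ∨ c = b := by
    intro c
    by_contra hc
    push Not at hc
    apply hcon
    classical
    have := Fintype.ofFinite (G ⧸ P.B)
    rw [Nat.card_eq_fintype_card]
    have h4 : ({a, b, c} : Finset (G ⧸ P.B)).card = 3 := by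
      rw [Finset.card_insert_of_notMem, Finset.card_insert_of_notMem, Finset.card_singleton]
      · simpa using hc.2.symm
      · simp only [Finset.mem_insert, Finset.mem_singleton, not_or]
        exact ⟨hab, hc.1.symm⟩
    have h5 := Finset.card_le_univ ({a, b, c} : Finset (G ⧸ P.B))
    omega
  -- then `B` fixes `b`, so `B` is normal
  have hBb : ∀ g ∈ P.B, g • b = b := by
    intro g hg
    rcases hall (g • b) with h4 | h4
    · exfalso
      apply hab
      have h5 := (hsta g).2 hg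
      exact MulAction.injective g (h5.trans h4.symm)
    · exact h4
  have hBcore : P.B ≤ P.B.normalCore := by
    intro g hg
    rw [Subgroup.normalCore_eq_ker, MonoidHom.mem_ker]
    ext c
    change g • c = c
    rcases hall c with rfl | rfl
    · exact (hsta g).2 hg
    · exact hBb g hg
  rw [hcore] at hBcore
  have hB1 : P.B = ⊥ := le_bot_iff.1 hBcore
  apply P.conj_ne s hsS
  have hss : s * s = 1 := by
    have := P.sq_mem s hsS
    rw [hB1] at this
    exact mem_bot.1 this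
  rw [hB1]
  ext g
  constructor
  · rintro ⟨b, hb, rfl⟩
    have hb' : b = 1 := mem_bot.1 hb
    subst hb'
    change s * 1 * s ∈ (⊥ : Subgroup G)
    rw [mul_one, hss]
    exact one_mem _
  · intro hg
    have hg' : g = 1 := mem_bot.1 hg
    subst hg'
    exact ⟨1, one_mem _, by change s * 1 * s = 1; rw [mul_one, hss]⟩

end Cfsg.Agent.HKS.FromBN
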