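import Mathlib
import Cfsg.Agent.HKS.Goals
import Cfsg.Agent.HKS.FrameCount
import Cfsg.Agent.HKS.ModPSplit
import Cfsg.Agent.HKS.EndL
import Cfsg.Agent.S0742

/-!
# An involution with at most two fixed points: Zassenhaus groups
-/

set_option autoImplicit false

namespace Cfsg.Agent.HKS.ZassEnd

open Subgroup MulAction

variable {G Ω : Type*} [Group G] [MulAction G Ω] {U : Ω → Subgroup G}

/-- an involution fixing only `a` and `b` inverts `U a` -/
theorem inverts_of_two [Finite Ω] (h : SSplit U) {a b : Ω} (hab : b ≠ a) {z : G}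
    (hz : z ∈ Dab G a b) (hz2 : z * z = 1) (hfix : ∀ c : Ω, z • c = c → c = a ∨ c = b) :
    ∀ u ∈ U a, z * u * z⁻¹ = u⁻¹ := by
  have := h.finite_U a
  let φ : U a →* U a :=
    { toFun := fun u => ⟨z * u * z⁻¹, h.conj_of_fix hz.1 u.2⟩
      map_one' := Subtype.ext (by change z * 1 * z⁻¹ = 1; group)
      map_mul' := fun u v => Subtype.ext (by
        change z * (u.1 * v.1) * z⁻¹ = (z * u.1 * z⁻¹) * (z * v.1 * z⁻¹)
        group) }
  have hfpf : MonoidHom.FixedPointFree φ := by
    intro u hu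
    have h1 : z * u * z⁻¹ = u := congrArg Subtype.val hu
    have h2 : z • (u : G) • b = (u : G) • b := by
      rw [← mul_smul]
      have h3 : z * u = u * z := by
        calc z * u = z * u * z⁻¹ * z := by group
          _ = u * z := by rw [h1]
      rw [h3, mul_smul, show z • b = b from hz.2]
    rcases hfix _ h2 with h4 | h4
    · exact absurd h4 (h.smul_ne_center hab u.2)
    · exact Subtype.ext (h.free hab u.2 h4)
  have h5 := hfpf.coe_eq_inv_of_involutive (by
    intro u
    apply Subtype.ext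
    change z * (z * u * z⁻¹) * z⁻¹ = u
    calc z * (z * u * z⁻¹) * z⁻¹ = (z * z) * u * (z * z)⁻¹ := by group
      _ = u := by rw [hz2]; group)
  intro u hu
  have h6 := congrFun h5 ⟨u, hu⟩
  exact congrArg Subtype.val h6

theorem card_swaps [Finite Ω] [Finite G] (h : SSplit U) {a b : Ω} (hab : b ≠ a) :
    Nat.card {s : G // Swaps s a b} = Nat.card (Dab G a b) := by
  obtain ⟨w, hw⟩ := h.exists_swaps hab
  exact Nat.card_congr
    { toFun := fun s => ⟨w⁻¹ * s, hw.inv.mul s.2⟩
      invFun := fun d => ⟨w * d, hw.mul_D d.2⟩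
      left_inv := fun s => Subtype.ext (by change w * (w⁻¹ * s.1) = s.1; group)
      right_inv := fun d => Subtype.ext (by change w⁻¹ * (w * d.1) = d.1; group) }

/-- the main case: exactly two fixed points -/
theorem main [Finite Ω] [Finite G] [FaithfulSMul G Ω] (h : SSplit U) (hgen : (⨆ c, U c) = ⊤)
    (hev : Even (Nat.card Ω)) {a b : Ω} (hab : b ≠ a) {p k : ℕ} (hp : p.Prime) (hp2 : p ≠ 2)
    (hN : Nat.card (U a) = p ^ k) (h2 : 2 ∣ Nat.card (Dab G a b)) {t : G} (ht1 : t ≠ 1)
    (ht2 : t * t = 1) (hF : Nat.card (fixedBy Ω t) = 2) : ∃ q, TL U a b q := by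
  classical
  have := Fintype.ofFinite Ω
  have hN' : ∀ c, Nat.card (U c) = p ^ k := fun c => by
    have h3 := h.card c
    rw [h.card a, hN] at h3
    omega
  have hcard : Nat.card Ω = p ^ k + 1 := by rw [h.card a, hN]
  -- three points
  have h3 : ∀ g : G, ∀ x y z : Ω, x ≠ y → y ≠ z → x ≠ z → g • x = x → g • y = y → g • z = z →
      g = 1 := by
    intro g x y z hxy hyz hxz hx hy hz
    have h4 := (h.two_fix hgen (a := x) (b := y) hxy.symm hp hp2 (hN' x) ht2 hF).2.2 g ⟨hx, hy⟩ z
      hxz.symm hyz.symm hz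
    exact eq_of_smul_eq_smul (α := Ω) fun c => by rw [h4 c, one_smul]
  -- move `t` to `Dab a b`
  obtain ⟨c, d, hcd, hc, hd⟩ : ∃ c d : Ω, d ≠ c ∧ t • c = c ∧ t • d = d := by
    obtain ⟨⟨c, hc⟩, ⟨d, hd⟩, hcd, -⟩ := Nat.card_eq_two_iff.1 hF
    exact ⟨c, d, fun e => hcd (Subtype.ext e.symm), hc, hd⟩
  obtain ⟨g, hg1, hg2⟩ := h.two hcd.symm hab.symm
  obtain ⟨z, hz⟩ : ∃ z, z = g * t * g⁻¹ := ⟨_, rfl⟩
  have hza : z • a = a := by rw [hz, ← hg1, mul_smul, mul_smul, inv_smul_smul, hc]
  have hzb : z • b = b := by rw [hz, ← hg2, mul_smul, mul_smul, inv_smul_smul, hd]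
  have hzD : z ∈ Dab G a b := ⟨hza, hzb⟩
  have hz2 : z * z = 1 := by
    rw [hz]
    calc g * t * g⁻¹ * (g * t * g⁻¹) = g * (t * t) * g⁻¹ := by group
      _ = 1 := by rw [ht2]; group
  have hz1 : z ≠ 1 := by
    intro e
    apply ht1
    have : t = g⁻¹ * z * g := by rw [hz]; group
    rw [this, e]; group
  have hztc : IsConj z t := by
    rw [hz]
    exact (isConj_iff.2 ⟨g, rfl⟩).symm
  have hFz : Nat.card (fixedBy Ω z) = 2 := by rw [SSplit.card_fixedBy_isConj hztc, hF]
  have hfix : ∀ s : G, s ≠ 1 → s ∈ Dab G a b → ∀ c : Ω, s • c = c → c = a ∨ c = b := by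
    intro s hs1 hs c hc
    by_contra hcon
    push Not at hcon
    exact hs1 (h3 s a b c hab.symm hcon.2.symm hcon.1.symm hs.1 hs.2 hc)
  -- `z` is the only involution of `Dab`
  have huniq : ∀ s ∈ Dab G a b, s ≠ 1 → s * s = 1 → s = z := by
    intro s hs hs1 hs2
    have h4 := inverts_of_two h hab hs hs2 (hfix s hs1 hs)
    have h5 := inverts_of_two h hab hzD hz2 (hfix z hz1 hzD)
    by_contra hcon
    have h6 : s * z ≠ 1 := fun e => hcon (by
      rw [← inv_eq_of_mul_eq_one_left hz2]
      exact eq_inv_of_mul_eq_one_left e)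
    obtain ⟨c, hca, hcb⟩ := h.three a b
    obtain ⟨u, hu, huc⟩ := h.trans (a := a) (b := b) (c := c) hab hca
    have h7 : (s * z) • c = c := by
      have h8 : s * z * u * (s * z)⁻¹ = u := by
        calc s * z * u * (s * z)⁻¹ = s * (z * u * z⁻¹) * s⁻¹ := by group
          _ = s * u⁻¹ * s⁻¹ := by rw [h5 u hu]
          _ = (u⁻¹)⁻¹ := h4 _ ((U a).inv_mem hu)
          _ = u := inv_inv u
      have h9 : s * z * u = u * (s * z) := by
        calc s * z * u = s * z * u * (s * z)⁻¹ * (s * z) := by group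
          _ = u * (s * z) := by rw [h8]
      rw [← huc, ← mul_smul, h9, mul_smul, mul_smul s z, hzb, show s • b = b from hs.2]
    rcases hfix (s * z) h6 ((Dab G a b).mul_mem hs hzD) c h7 with h8 | h8
    · exact hca h8
    · exact hcb h8
  -- counting
  have hsw := (h.two_fix hgen hab hp hp2 hN hz2 hFz)
  have e1 := h.card_fix_pairs hab z
  have e2 := h.card_swap_pairs hab hz2
  have h4 : Nat.card {s : G // IsConj z s ∧ s ∈ Dab G a b} = 1 := by
    rw [Nat.card_eq_one_iff_unique]
    refine ⟨⟨fun s s' => Subtype.ext ?_⟩, ⟨⟨z, IsConj.refl z, hzD⟩⟩⟩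
    have h5 : ∀ s : {s : G // IsConj z s ∧ s ∈ Dab G a b}, s.1 = z := by
      rintro ⟨s, hs, hsD⟩
      obtain ⟨g, rfl⟩ := isConj_iff.1 hs
      refine huniq _ hsD ?_ ?_
      · intro e
        apply hz1
        change g * z * g⁻¹ = 1 at e
        have : z = g⁻¹ * (g * z * g⁻¹) * g := by group
        rw [this, e]; group
      · calc g * z * g⁻¹ * (g * z * g⁻¹) = g * (z * z) * g⁻¹ := by group
          _ = 1 := by rw [hz2]; group
    rw [h5 s, h5 s']
  have h5 : Nat.card {s : G // IsConj z s ∧ Swaps s a b} = Nat.card (Dab G a b) := by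
    rw [← card_swaps h hab]
    exact Nat.card_congr (Equiv.subtypeEquivRight fun s => ⟨fun hs => hs.2, fun hs =>
      ⟨hsw.1 s hs, hs⟩⟩)
  rw [h4, hFz, mul_one] at e1
  rw [h5, hFz] at e2
  have hn2 := h.two_lt_card a
  have h6 : Nat.card Ω - 2 = 2 * Nat.card (Dab G a b) := by
    have hpos : 0 < Nat.card {s : G // IsConj z s} := by
      have : Nonempty {s : G // IsConj z s} := ⟨⟨z, IsConj.refl z⟩⟩
      exact Nat.card_pos
    rw [← e1] at e2
    have h7 : Nat.card {s : G // IsConj z s} * (Nat.card Ω - 2) =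
        Nat.card {s : G // IsConj z s} * (2 * Nat.card (Dab G a b)) := by
      rw [e2]; ring
    exact Nat.eq_of_mul_eq_mul_left hpos h7
  -- Zassenhaus
  have hz : Cfsg.IsZassenhausGroup G Ω := by
    refine ⟨inferInstance, ?_, h3, ⟨z, hz1, a, b, hab.symm, hza, hzb⟩, ?_⟩
    · rw [is_two_pretransitive_iff]
      intro x y x' y' hxy hxy'
      exact h.two hxy hxy'
    · intro N hNn hNt
      refine ⟨a, fun hbot => ?_⟩
      -- `N` moves a point
      have hmove : ∃ x ∈ N, ∃ c : Ω, x • c ≠ c := by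
        obtain ⟨x, hx⟩ := hNt.exists_smul_eq a b
        exact ⟨x, x.2, a, by
          intro e
          exact hab (hx.symm.trans e)⟩
      have hsup := h.normal_sup hgen hNn hmove a
      have hzN : z ∈ N := by
        have h7 : z ∈ N ⊔ U a := by rw [hsup]; exact mem_top z
        obtain ⟨n, hn, u, hu, hnu⟩ := Subgroup.mem_sup_of_normal_left.1 h7
        have h8 : u * u ∈ N := by
          have h9 : u = n⁻¹ * z := by rw [← hnu]; group
          have h10 : u * u = n⁻¹ * (z * n⁻¹ * z⁻¹) * (z * z) := by rw [h9]; group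
          rw [h10, hz2, mul_one]
          exact N.mul_mem (N.inv_mem hn) (hNn.conj_mem _ (N.inv_mem hn) z)
        have h9 : u ∈ N := by
          have hodd : Odd (Nat.card (U a)) := by
            rw [hN]
            exact (hp.odd_of_ne_two hp2).pow
          have := h.finite_U a
          obtain ⟨m, hm⟩ := hodd
          have h10 : u ^ (2 * m + 1) = 1 := by
            rw [← hm]
            have := pow_card_eq_one' (x := (⟨u, hu⟩ : U a))
            exact congrArg Subtype.val this
          have h11 : u = (u * u) ^ (m + 1) := by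
            rw [← pow_two, ← pow_mul]
            have : 2 * (m + 1) = (2 * m + 1) + 1 := by ring
            rw [this, pow_succ, h10, one_mul]
          rw [h11]
          exact N.pow_mem h8 _
        rw [← hnu]
        exact N.mul_mem hn h9
      apply hz1
      have h8 : (⟨z, hzN⟩ : N) ∈ stabilizer N a := hza
      rw [hbot] at h8
      exact congrArg Subtype.val (mem_bot.1 h8)
  have hDeq : (stabilizer G a ⊓ stabilizer G b : Subgroup G) = Dab G a b := rfl
  obtain ⟨p', f, K, i1, i2, hp', hp2', hK, hΩ, ⟨e⟩⟩ := Cfsg.Agent.S0742.result hz hab.symm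
    (by rw [hDeq]; exact even_iff_two_dvd.2 h2)
    (by rw [hDeq, ← h6, Nat.card_eq_fintype_card])
  have hk : k ≠ 0 := by
    rintro rfl
    rw [hcard, pow_zero] at hn2
    omega
  have hDpos : 2 ≤ Nat.card (Dab G a b) := Nat.le_of_dvd Nat.card_pos h2
  have hKc : Fintype.card K = p ^ k := by
    rw [hK]
    rw [← Nat.card_eq_fintype_card, hcard] at hΩ
    omega
  refine ⟨_, EndL.tl_of_iso h hab e hp hp2 hk hN (h.not_dvd_Dab hgen hab hp hp2 hN) ?_ ?_ ?_⟩
  · rw [hN]
    omega
  · rw [hKc]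
    exact (hp.odd_of_ne_two hp2).pow
  · rw [hKc]
    omega

theorem goalZass.{v} : GoalZass.{v} := by
  intro G Ω _ _ _ _ _ U a b p k hC hp hp2 hN h2 t ht1 ht2 ht3
  classical
  have h := hC.split
  have hN' : ∀ c, Nat.card (U c) = p ^ k := fun c => by
    have h3 := h.card c
    rw [h.card a, hN] at h3
    omega
  have h4 := h.four_dvd hC.gen (fun c => by rw [hN' c]; exact (hp.odd_of_ne_two hp2).pow) ht2
  have hle : Nat.card (fixedBy Ω t) ≤ Nat.card Ω := Nat.card_le_card_of_injective _ Subtype.val_injective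
  have hev := hC.even
  obtain ⟨m, hm⟩ := hev
  obtain ⟨l, hl⟩ := h4
  have hcases : Nat.card (fixedBy Ω t) = 0 ∨ Nat.card (fixedBy Ω t) = 2 := by omega
  rcases hcases with h0 | h2'
  · exfalso
    obtain ⟨s, hs⟩ := exists_prime_orderOf_dvd_card' 2 h2
    have hs2 : (s : G) * s = 1 := by
      have := pow_orderOf_eq_one s
      rw [hs, pow_two] at this
      exact congrArg Subtype.val this
    have h5 := (h.fpf hC.gen hC.ne hp hp2 hN ht2 (fun c hc => by
      have : Nonempty (fixedBy Ω t) := ⟨⟨c, hc⟩⟩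
      have := Nat.card_pos (α := fixedBy Ω t)
      omega)).2.2 s s.2 hs2
    have h6 : (s : G) = 1 := eq_of_smul_eq_smul (α := Ω) fun c => by rw [h5 c, one_smul]
    have : s = 1 := Subtype.ext h6
    rw [this, orderOf_one] at hs
    omega
  · exact Or.inr (Or.inl (main h hC.gen hC.even hC.ne hp hp2 hN h2 ht1 ht2 h2'))

end Cfsg.Agent.HKS.ZassEnd
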