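import Cfsg.Prelude.Def_Classical
import Cfsg.Prelude.Def_Sz
import Cfsg.Prelude.Def_LieTwisted
import Cfsg.Agent.HKS.FromBN
import Cfsg.Agent.HKS.Goals
import Cfsg.Agent.HKS.ZassEnd
import Cfsg.Agent.HKS.Affine
import Cfsg.Agent.S1149

/-!
# S1146 from the goals
-/

set_option autoImplicit false

namespace Cfsg.Agent.HKS.Final

open Subgroup MulAction Cfsg.Agent.KantorSeitz

/-- the conclusion of S1146 -/
def Concl1146 (G : Type*) [Group G] : Prop :=
  (∃ (F : Type) (_ : Field F) (_ : Fintype F),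
      Nonempty (G ≃* Matrix.ProjectiveSpecialLinearGroup (Fin 2) F)) ∨
    (∃ (F : Type) (_ : Field F) (_ : Fintype F) (q : ℕ), Fintype.card F = q ^ 2 ∧
      Nonempty (G ≃* Cfsg.PSU 3 F q)) ∨
    Cfsg.Lie.IsoSuzuki G ∨ Cfsg.Lie.IsoRee G

/-- **Goal 8**: the form of the theorem used by the Kantor–Seitz theorem. -/
def GoalIface.{v} : Prop := (∀ n, HKSBelow.{v} n) → HKSEven.{v}

/-- **Goal 9**: S1146 in odd degree. -/
def GoalOddDegree.{u} : Prop := ∀ (G : Type u) [Group G] [Finite G] [IsSimpleGroup G]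
  (P : Cfsg.BNPair G), P.rank = 1 → P.IsSplit → Odd (Nat.card (G ⧸ P.B)) → Concl1146 G

theorem mulEquiv_of_top {G H : Type*} [Group G] [Group H]
    (h : ∃ f : (⊤ : Subgroup G) →* H, Function.Surjective f ∧
      ∀ x : (⊤ : Subgroup G), f x = 1 ↔ (x : G) ∈ (⊥ : Subgroup G)) : Nonempty (G ≃* H) := by
  obtain ⟨f, hf, hf1⟩ := h
  have hinj : Function.Injective f := by
    rw [injective_iff_map_eq_one]
    intro x hx
    exact Subtype.ext (mem_bot.1 ((hf1 x).1 hx))
  exact ⟨(topEquiv (G := G)).symm.trans (MulEquiv.ofBijective f ⟨hinj, hf⟩)⟩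

/-- the even degree case of S1146 -/
theorem even_case.{u} (hall : ∀ n, HKSBelow.{u} n) (hI : HKSEven.{u}) {G : Type u} [Group G]
    [Finite G] [IsSimpleGroup G] (P : Cfsg.BNPair G) (h1 : P.rank = 1) (hsplit : P.IsSplit)
    (hev : Even (Nat.card (G ⧸ P.B))) : Concl1146 G := by
  obtain ⟨N, b, hba, hNB, hNn, hNnil, hNs, hKS, hNa, hfaith, h3, hsta, hfb⟩ :=
    FromBN.exists_KS P h1 hsplit
  set a : G ⧸ P.B := ((1 : G) : G ⧸ P.B) with ha
  have hreg : ∀ c d : G ⧸ P.B, c ≠ d → ∀ x ∈ ofBase N a c, x • d = d → x = 1 := fun c d hcd =>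
    hKS.even_regular hI hev hcd
  have h : SSplit (ofBase N a) := FromBN.toSSplit hKS hreg h3
  have hgen : (⨆ c, ofBase N a c) = ⊤ := by
    rcases h.iSup_normal.eq_bot_or_eq_top with h4 | h4
    · exfalso
      obtain ⟨c, hca, hcb⟩ := h.three a b
      obtain ⟨x, hx, hxb⟩ := h.trans (a := a) (b := b) (c := c) hba hca
      have h5 : x ∈ (⨆ c, ofBase N a c) := mem_iSup_of_mem a hx
      rw [h4] at h5
      rw [mem_bot.1 h5, one_smul] at hxb
      exact hcb hxb.symm
    · exact h4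
  have hT := hall (Nat.card (G ⧸ P.B) + 1) G (G ⧸ P.B) (ofBase N a) h hgen hev
    (Nat.lt_succ_self _) a b hba
  rcases hT with hT | ⟨q, hT⟩ | ⟨q, hT⟩ | ⟨n, hT⟩
  · -- affine
    exfalso
    obtain ⟨E, hEn, -, -, hEt, hEf, -, hEc, -⟩ := h.sharp_normal hev hba hT
    rcases hEn.eq_bot_or_eq_top with h4 | h4
    · obtain ⟨x, hx, hxb⟩ := hEt a b
      rw [h4] at hx
      rw [mem_bot.1 hx, one_smul] at hxb
      exact hba hxb.symm
    · obtain ⟨c, hca, hcb⟩ := h.three a b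
      obtain ⟨x, hx, hxb⟩ := h.trans (a := a) (b := b) (c := c) hba hca
      have h5 : x = 1 := hEf a x (by rw [h4]; exact mem_top x) (h.fix hx)
      rw [h5, one_smul] at hxb
      exact hcb hxb.symm
  · left
    obtain ⟨F, i1, i2, -, hf⟩ := hT.iso
    exact ⟨F, i1, i2, mulEquiv_of_top hf⟩
  · right; left
    obtain ⟨F, i1, i2, hF, hf⟩ := hT.iso
    exact ⟨F, i1, i2, q, hF, mulEquiv_of_top hf⟩
  · right; right; right
    have hBN : P.B ⊓ P.N = Dab G a b := by
      apply le_antisymm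
      · intro x hx
        exact ⟨(hsta x).2 hx.1, hfb x hx⟩
      · intro x hx
        have hxB : x ∈ P.B := (hsta x).1 hx.1
        have hNn' : (N.subgroupOf P.B).Normal := by
          rw [Subgroup.normal_subgroupOf_iff hNB]
          intro u b hu hb
          exact hNn b hb u hu
        obtain ⟨u, hu, y, hy, hxy⟩ :=
          Cfsg.Agent.StrongEmb.SplitBN.exists_eq_mul_inf P hNB hNn' hNs hxB
        have h4 : u • b = b := by
          have h5 : u = x * y⁻¹ := by rw [hxy]; group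
          rw [h5, mul_smul, inv_smul_eq_iff.2 (hfb y hy).symm, show x • b = b from hx.2]
        have h5 : u = 1 := h.free hba (by rw [hNa]; exact hu) h4
        rw [hxy, h5, one_mul]
        exact hy
    have hD := hT.data
    have hcU : Nat.card N = 3 ^ (3 * n) := by
      have h4 := hD.card
      rw [hNa] at h4
      rw [h4, ← pow_mul, mul_comm]
    obtain ⟨z, hz, hz1, hz2, -⟩ := hD.invol
    have hz1' : z ≠ 1 := fun e => hz1 (mem_bot.2 e)
    obtain ⟨K, i1, i2, hK, hC⟩ := hT.centr z hz hz1' hz2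
    refine Cfsg.Agent.S1149.result P h1 hD.odd N hNB hNn hNnil hNs ?_ ?_ hcU ?_ ?_ ?_ K hK ?_
      hT.syl
    · rw [eq_bot_iff]
      intro x hx
      have h4 : x • b = b := hfb x hx.2
      exact mem_bot.2 (h.free hba (by rw [hNa]; exact hx.1) h4)
    · have h4 : P.B.index = Nat.card (G ⧸ P.B) := rfl
      rw [h4, h.card a, hNa, hcU]
    · rw [hBN]
      obtain ⟨e, he, hcyc⟩ := hD.cyc
      refine ⟨⟨⟨e, he⟩, fun x => ?_⟩⟩
      obtain ⟨k, hk⟩ := hcyc x x.2
      refine mem_zpowers_iff.2 ⟨-(k : ℤ), Subtype.ext ?_⟩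
      have h4 : (x : G) = (e ^ k)⁻¹ := eq_inv_of_mul_eq_one_left (mem_bot.1 hk)
      rw [h4]
      simp
    · have h4 := hD.cardE
      rw [relIndex_bot_left] at h4
      rw [hBN, h4]
    · intro x hx hx1 hxo
      rw [eq_bot_iff]
      rintro u ⟨hu, hux⟩
      rw [hBN] at hx
      have h4 : x * u = u * x := (mem_centralizer_singleton_iff.1 hux).symm
      rcases hD.fpf x hx (orderOf x) hxo (mem_bot.2 (pow_orderOf_eq_one x)) u
        (by rw [hNa]; exact hu) h4 with h5 | h5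
      · exact absurd (mem_bot.1 h5) hx1
      · exact mem_bot.2 h5
    · exact ⟨z, by rw [hBN]; exact hz, hz1', hz2, hC⟩

/-- **S1146** from the goals. -/
theorem main.{u} (g1 : GoalOdd.{u}) (g2 : GoalPow.{u}) (g4 : GoalFour.{u})
    (g5 : GoalRank.{u}) (g6 : GoalRee.{u}) (g7 : GoalUni.{u}) (g8 : GoalIface.{u})
    (g9 : GoalOddDegree.{u}) {G : Type u} [Group G] [Finite G] [IsSimpleGroup G]
    (P : Cfsg.BNPair G) (h1 : P.rank = 1) (hsplit : P.IsSplit) :
    (∃ (F : Type) (_ : Field F) (_ : Fintype F),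
        Nonempty (G ≃* Matrix.ProjectiveSpecialLinearGroup (Fin 2) F)) ∨
      (∃ (F : Type) (_ : Field F) (_ : Fintype F) (q : ℕ), Fintype.card F = q ^ 2 ∧
        Nonempty (G ≃* Cfsg.PSU 3 F q)) ∨
      Cfsg.Lie.IsoSuzuki G ∨ Cfsg.Lie.IsoRee G := by
  have hall := HKSBelow.all g1 g2 ZassEnd.goalZass g4 g5 g6 g7
  rcases Nat.even_or_odd (Nat.card (G ⧸ P.B)) with hev | hodd
  · exact even_case hall (g8 hall) P h1 hsplit hev
  · exact g9 G P h1 hsplit hodd

end Cfsg.Agent.HKS.Final
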