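import Mathlib
import Cfsg.Agent.HKS.LinSplit

/-!
# Linear characters of `W`: the Hecke relation

The eigenvalue `x` of a constituent satisfies `∑ λ(μ_u) = N x - x⁻¹` (`u ∈ Q ∖ {1}`). Hence, with the `X`, `Y` of
`LinChar.exists_psi`, `∑ λ(μ_u) = X - Y`; if `λ` has prime order `l` then `l` divides `(X + 1) (Y - 1)`.
-/

set_option autoImplicit false
set_option linter.unusedSectionVars false

open Cfsg Representation

namespace Cfsg.Agent.HKS.LinHecke

open LinChar Characters.Core Characters.Linear Subgroup MulAction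

section hecke

variable {G : Type*} [Group G] {B Q D W : Subgroup G} {w : G}
variable {V : Type*} [AddCommGroup V] [Module ℂ V]

theorem hecke {h : RankOne B Q D W w} [Fintype Q] [Fintype {u : Q // u ≠ 1}]
    {ρ : Representation ℂ G V} {lam : W →* ℂˣ} {φ : (Fin 1 → ℂ) →ₗ[ℂ] V}
    (H : FixRep h ρ (repOfHom lam) φ) {x : ℂ} (hx0 : x ≠ 0)
    (hx : ∀ w' (hw' : w' ∈ W), w' ∉ D → ∀ y,
      avg ρ Q (ρ w' (φ y)) = x • φ (repOfHom lam ⟨w', hw'⟩ y)) :
    ∑ u : {u : Q // u ≠ 1}, (lam (pr h (w * (u.1 : G) * w⁻¹)) : ℂ) = Nat.card Q * x - x⁻¹ := by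
  classical
  have hY : (repOfHom lam).character 1 ≠ 0 := by
    rw [character_repOfHom]
    simp
  obtain ⟨y, hy⟩ := H.exists_ne hY
  have hN : (Nat.card Q : ℂ) ≠ 0 := card_ne
  let m : {u : Q // u ≠ 1} → W := fun u => pr h (w * (u.1 : G) * w⁻¹)
  have hmD : ∀ u, (m u : G) ∉ D := by
    intro u hc
    exact h.not_mem_of_Q' u.1.2 (fun hc' => u.2 (Subtype.ext hc')) ((pr_mem_D h _).1 hc)
  have hmu' : ∀ u : {u : Q // u ≠ 1}, ∃ u₁ ∈ Q, ∃ u₂ ∈ Q, w * (u.1 : G) * w⁻¹ = u₁ * m u * u₂ :=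
    fun u => pr_spec h _
  choose u₁ hu₁ u₂ hu₂ hmu using hmu'
  have h1 := FixRep.avg_w_avg hx h y
  have h2 : avg ρ Q (ρ w (avg ρ Q (ρ w⁻¹ (φ y)))) =
      (Nat.card Q : ℂ)⁻¹ • ∑ u : Q, avg ρ Q (ρ (w * u * w⁻¹) (φ y)) := by
    rw [avg_apply ρ (ρ w⁻¹ (φ y)), map_smul, map_smul, map_sum, map_sum]
    congr 1
    refine Finset.sum_congr rfl fun u _ => ?_
    rw [rr, rr, mul_assoc]
  rw [h2] at h1
  have h3 : ∑ u : Q, avg ρ Q (ρ (w * u * w⁻¹) (φ y)) =
      φ y + (x * ∑ u, (lam (m u) : ℂ)) • φ y := by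
    rw [← Finset.add_sum_erase _ _ (Finset.mem_univ (1 : Q))]
    congr 1
    · rw [OneMemClass.coe_one, mul_one, mul_inv_cancel, map_one, Module.End.one_apply,
        H.avg_phi]
    · rw [Finset.mul_sum, Finset.sum_smul]
      symm
      refine Finset.sum_bij (fun u _ => u.1) (fun u _ => by simp [u.2])
        (fun a _ b _ hab => Subtype.ext hab) (fun b hb => ⟨⟨b, by simpa using hb⟩, by simp⟩)
        (fun u _ => ?_)
      rw [hmu u, ← rr ρ _ (u₂ u), H.fixQ _ (hu₂ u), ← rr ρ (u₁ u), avg_rho ρ _ (hu₁ u),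
        hx (m u) (m u).2 (hmD u)]
      have : repOfHom lam ⟨(m u : G), (m u).2⟩ y = (lam (m u) : ℂ) • y := by
        rw [repOfHom_apply]
        rfl
      rw [this, map_smul, smul_smul]
  rw [h3] at h1
  have h4 : ((Nat.card Q : ℂ) * x ^ 2) • φ y = (1 + x * ∑ u, (lam (m u) : ℂ)) • φ y := by
    rw [mul_smul, ← h1, smul_inv_smul₀ hN, add_smul, one_smul]
  have h5 : (Nat.card Q : ℂ) * x ^ 2 = 1 + x * ∑ u, (lam (m u) : ℂ) := smul_left_injective ℂ hy h4
  apply mul_left_cancel₀ hx0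
  rw [mul_sub, mul_inv_cancel₀ hx0]
  linear_combination -h5

/-- The data of one constituent. -/
theorem constituent {h : RankOne B Q D W w} [Fintype G] [Fintype Q] [Fintype {u : Q // u ≠ 1}]
    (hnc : Subgroup.normalClosure (Q : Set G) = ⊤) {lam : W →* ℂˣ} {n : ℕ}
    {ρ : Representation ℂ G (Fin n → ℂ)} {φ : (Fin 1 → ℂ) →ₗ[ℂ] (Fin n → ℂ)}
    (H : FixRep h ρ (Characters.Linear.repOfHom lam) φ) (hρ : ρ.IsIrreducible)
    {d : G} (hd : d ∈ D) (hlam : lam ⟨d, h.DW hd⟩ ≠ 1) :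
    1 < n ∧ ∃ x : ℂ, x ≠ 0 ∧ IsIntegral ℤ ((Nat.card Q : ℂ) * x) ∧ IsIntegral ℤ x⁻¹ ∧
      (n : ℂ) * (1 + Nat.card Q * x ^ 2) = Nat.card Q + 1 ∧
      (∀ g, (Nat.card B : ℂ) * (1 + Nat.card Q * x ^ 2) * ρ.character g =
        S₀ h (fun m => (lam m : ℂ)) g + x * S₁ h (fun m => (lam m : ℂ)) g) ∧
      ∑ u : {u : Q // u ≠ 1}, (lam (pr h (w * (u.1 : G) * w⁻¹)) : ℂ) = Nat.card Q * x - x⁻¹ := by
  have hirr : IsIrrCharacter G ρ.character := ⟨n, ρ, hρ, rfl⟩
  have hn : ρ.character 1 = n := by rw [Representation.char_one]; simp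
  have h1 : n ≠ 1 := by
    rintro rfl
    exact hlam (one_of_deg_one hnc H (by rw [hn]; simp) hd)
  have h0 : n ≠ 0 := by
    rintro rfl
    exact Characters.Core.isIrr_apply_one_ne_zero hirr (by rw [hn]; simp)
  have hY : (Characters.Linear.repOfHom lam).character 1 ≠ 0 := by
    rw [Characters.Linear.character_repOfHom]
    simp
  have hY' : (Characters.Linear.repOfHom lam).character 1 = 1 := by
    rw [Characters.Linear.character_repOfHom]
    simp
  obtain ⟨x, hx⟩ := H.exists_scalar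
  obtain ⟨hx0, hx1, hx2⟩ := H.integral hx hY
  refine ⟨by omega, x, hx0, hx1, hx2, ?_, fun g => ?_, hecke H hx0 hx⟩
  · have := H.degree hρ hx hY
    rw [hn, hY', mul_one] at this
    exact this
  · have := value H hirr hρ hx hY g
    rw [Characters.Linear.character_repOfHom] at this
    exact this

/-- **Linear characters.** -/
theorem exists_psi (h : RankOne B Q D W w) [Fintype G] [Fintype {u : Q // u ≠ 1}]
    (hnc : Subgroup.normalClosure (Q : Set G) = ⊤) {p k : ℕ} (hp : p.Prime)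
    (hN : Nat.card Q = p ^ k) (lam : W →* ℂˣ) {d : G} (hd : d ∈ D)
    (hlam : lam ⟨d, h.DW hd⟩ ≠ 1) {t : G}
    (hrat : ∀ χ : G → ℂ, IsIrrCharacter G χ → ∃ c : ℤ, χ t = c)
    (ht : Good h (fun m => (lam m : ℂ)) t) {F M : ℕ}
    (hF : Nat.card {a : G // a * t * a⁻¹ ∈ B} = F * Nat.card B)
    (hM : Nat.card {a : G // a * t * a⁻¹ ∉ B} = M * Nat.card B) (hM0 : 0 < M) :
    ∃ X Y : ℕ, X * Y = Nat.card Q ∧ 1 < X ∧ 1 < Y ∧
      ∑ u : {u : Q // u ≠ 1}, (lam (pr h (w * (u.1 : G) * w⁻¹)) : ℂ) = X - Y ∧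
      ∃ ψ : G → ℂ, IsIrrCharacter G ψ ∧
      ((X : ℂ) + Y) * ψ 1 = Y * (Nat.card Q + 1) ∧
      ∀ g, (Nat.card B : ℂ) * (X + Y) * ψ g =
        Y * S₀ h (fun m => (lam m : ℂ)) g + S₁ h (fun m => (lam m : ℂ)) g := by
  classical
  have := Fintype.ofFinite Q
  have := Fintype.ofFinite B
  have := Fintype.ofFinite D
  have hB : (Nat.card B : ℂ) ≠ 0 := by exact_mod_cast Nat.card_pos.ne'
  have hQ0 : 0 < Nat.card Q := Nat.card_pos
  have hσ : Representation.IsIrreducible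
      ((Characters.Linear.repOfHom lam).comp (Subgroup.inclusion h.DW)) :=
    Characters.Linear.isIrreducible_of_finrank_eq_one _ (by simp)
  obtain ⟨n₁, n₂, ρ₁, ρ₂, φ₁, φ₂, hρ₁, hρ₂, -, H₁, H₂, hsum⟩ :=
    h.exists_pair (Characters.Linear.repOfHom lam) hσ
  have hirr₁ : IsIrrCharacter G ρ₁.character := ⟨n₁, ρ₁, hρ₁, rfl⟩
  have hirr₂ : IsIrrCharacter G ρ₂.character := ⟨n₂, ρ₂, hρ₂, rfl⟩
  rw [Characters.Linear.character_repOfHom] at hsum
  obtain ⟨hn₁, x₁, hx₁0, hx₁1, hx₁2, hdeg₁, hval₁, hs₁⟩ := constituent hnc H₁ hρ₁ hd hlam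
  obtain ⟨hn₂, x₂, hx₂0, hx₂1, hx₂2, hdeg₂, hval₂, hs₂⟩ := constituent hnc H₂ hρ₂ hd hlam
  obtain ⟨c₁, hc₁⟩ := hrat _ hirr₁
  obtain ⟨c₂, hc₂⟩ := hrat _ hirr₂
  -- the degrees
  have hn : n₁ + n₂ = Nat.card Q + 1 := by
    have h1 : indFun B (h.lam fun m => (lam m : ℂ)) 1 = (Nat.card Q + 1 : ℂ) := by
      have h2 : IsIrrCharacter D (fun d => (fun m => (lam m : ℂ)) (Subgroup.inclusion h.DW d)) :=
        Characters.Linear.isIrrCharacter_hom (lam.comp (Subgroup.inclusion h.DW))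
      rw [h.ind_one h2]
      simp
    rw [hsum, Pi.add_apply, Representation.char_one, Representation.char_one] at h1
    simp only [Module.finrank_fin_fun] at h1
    exact_mod_cast h1
  -- the values at `t`
  have hv₁ : (1 + Nat.card Q * x₁ ^ 2) * (c₁ : ℂ) = F + x₁ * M := by
    have h1 := hval₁ t
    rw [S₀_of_good h ht hF, S₁_of_good h ht hM, hc₁] at h1
    apply mul_left_cancel₀ hB
    linear_combination h1
  have hv₂ : (1 + Nat.card Q * x₂ ^ 2) * (c₂ : ℂ) = F + x₂ * M := by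
    have h1 := hval₂ t
    rw [S₀_of_good h ht hF, S₁_of_good h ht hM, hc₂] at h1
    apply mul_left_cancel₀ hB
    linear_combination h1
  have hc : c₁ + c₂ = F := by
    have h1 := indFun_lam h (fun m => (lam m : ℂ)) t
    rw [S₀_of_good h ht hF, hsum, Pi.add_apply, hc₁, hc₂, mul_comm (F : ℂ)] at h1
    have h2 := mul_left_cancel₀ hB h1
    exact_mod_cast h2
  obtain ⟨z₁, hz₁, hz₁d, hz₁1, hz₁N⟩ := exists_eigen hp hN hx₁0 hx₁1 hx₁2 hn₁ (by omega) hdeg₁
    hM0 hv₁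
  obtain ⟨z₂, hz₂, hz₂d, hz₂1, hz₂N⟩ := exists_eigen hp hN hx₂0 hx₂1 hx₂2 hn₂ (by omega) hdeg₂
    hM0 hv₂
  have hz : z₁ * z₂ = - (Nat.card Q : ℤ) := by
    refine mul_eigen (c₁ := c₁) (c₂ := c₂) hQ0 hM0 hn ?_ ?_ hc ?_ ?_
    · have : (n₁ : ℂ) * (Nat.card Q + z₁ ^ 2) = Nat.card Q * (Nat.card Q + 1) := by
        rw [← hz₁]
        linear_combination (Nat.card Q : ℂ) * hdeg₁
      exact_mod_cast this
    · have : (n₂ : ℂ) * (Nat.card Q + z₂ ^ 2) = Nat.card Q * (Nat.card Q + 1) := by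
        rw [← hz₂]
        linear_combination (Nat.card Q : ℂ) * hdeg₂
      exact_mod_cast this
    · have : ((Nat.card Q : ℂ) + z₁ ^ 2) * c₁ = Nat.card Q * F + z₁ * M := by
        rw [← hz₁]
        linear_combination (Nat.card Q : ℂ) * hv₁
      exact_mod_cast this
    · have : ((Nat.card Q : ℂ) + z₂ ^ 2) * c₂ = Nat.card Q * F + z₂ * M := by
        rw [← hz₂]
        linear_combination (Nat.card Q : ℂ) * hv₂
      exact_mod_cast this
  -- the constituent with positive eigenvalue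
  have key : ∀ (n : ℕ) (ρ : Representation ℂ G (Fin n → ℂ)) (x : ℂ) (z z' : ℤ),
      IsIrrCharacter G ρ.character → (Nat.card Q : ℂ) * x = z → z * z' = - (Nat.card Q : ℤ) →
      1 < z'.natAbs → 1 < z.natAbs → 0 < z →
      ((n : ℂ) * (1 + Nat.card Q * x ^ 2) = Nat.card Q + 1) →
      (∀ g, (Nat.card B : ℂ) * (1 + Nat.card Q * x ^ 2) * ρ.character g =
        S₀ h (fun m => (lam m : ℂ)) g + x * S₁ h (fun m => (lam m : ℂ)) g) →
      ∑ u : {u : Q // u ≠ 1}, (lam (pr h (w * (u.1 : G) * w⁻¹)) : ℂ) = Nat.card Q * x - x⁻¹ →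
      ∃ X Y : ℕ, X * Y = Nat.card Q ∧ 1 < X ∧ 1 < Y ∧
        ∑ u : {u : Q // u ≠ 1}, (lam (pr h (w * (u.1 : G) * w⁻¹)) : ℂ) = X - Y ∧
        ∃ ψ : G → ℂ, IsIrrCharacter G ψ ∧
        ((X : ℂ) + Y) * ψ 1 = Y * (Nat.card Q + 1) ∧
        ∀ g, (Nat.card B : ℂ) * (X + Y) * ψ g =
          Y * S₀ h (fun m => (lam m : ℂ)) g + S₁ h (fun m => (lam m : ℂ)) g := by
    intro n ρ x z z' hirr hz hzz hz'1 hz1 hpos hdeg hval hs
    have hX : ((z.natAbs : ℕ) : ℤ) = z := Int.natAbs_of_nonneg hpos.le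
    have hneg : z' < 0 := by
      by_contra hc'
      have h1 : 0 ≤ z * z' := mul_nonneg hpos.le (not_lt.1 hc')
      rw [hzz] at h1
      have : (0 : ℤ) < Nat.card Q := by exact_mod_cast hQ0
      omega
    have hY : ((z'.natAbs : ℕ) : ℤ) = - z' := Int.ofNat_natAbs_of_nonpos hneg.le
    have hXY : z.natAbs * z'.natAbs = Nat.card Q := by
      have : ((z.natAbs : ℕ) : ℤ) * (z'.natAbs : ℕ) = (Nat.card Q : ℤ) := by
        rw [hX, hY]; linear_combination -hzz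
      exact_mod_cast this
    have hXC : ((z.natAbs : ℕ) : ℂ) = z := by rw [← Int.cast_natCast, hX]
    have hXYC : ((z.natAbs : ℕ) : ℂ) * (z'.natAbs : ℕ) = Nat.card Q := by
      exact_mod_cast hXY
    have hX0 : ((z.natAbs : ℕ) : ℂ) ≠ 0 := by
      exact_mod_cast (zero_lt_one.trans hz1).ne'
    have hxY : x * (z'.natAbs : ℕ) = 1 := by
      apply mul_left_cancel₀ hX0
      rw [mul_one]
      calc ((z.natAbs : ℕ) : ℂ) * (x * (z'.natAbs : ℕ)) =
          (((z.natAbs : ℕ) : ℂ) * (z'.natAbs : ℕ)) * x := by ring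
        _ = Nat.card Q * x := by rw [hXYC]
        _ = _ := by rw [hz, hXC]
    have hxX : (Nat.card Q : ℂ) * x ^ 2 * (z'.natAbs : ℕ) = (z.natAbs : ℕ) := by
      calc (Nat.card Q : ℂ) * x ^ 2 * (z'.natAbs : ℕ) =
          ((Nat.card Q : ℂ) * x) * (x * (z'.natAbs : ℕ)) := by ring
        _ = _ := by rw [hxY, mul_one, hz, hXC]
    refine ⟨z.natAbs, z'.natAbs, hXY, hz1, hz'1, ?_, ρ.character, hirr, ?_, fun g => ?_⟩
    · rw [hs, hz, hXC, inv_eq_of_mul_eq_one_right hxY]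
    · rw [Representation.char_one]
      simp only [Module.finrank_fin_fun]
      linear_combination ((z'.natAbs : ℕ) : ℂ) * hdeg - (n : ℂ) * hxX
    · linear_combination ((z'.natAbs : ℕ) : ℂ) * hval g -
        (Nat.card B : ℂ) * ρ.character g * hxX +
        S₁ h (fun m => (lam m : ℂ)) g * hxY
  rcases lt_trichotomy z₁ 0 with h1 | h1 | h1
  · have h2 : 0 < z₂ := by
      by_contra hc'
      have h3 : 0 ≤ z₁ * z₂ := mul_nonneg_of_nonpos_of_nonpos h1.le (not_lt.1 hc')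
      rw [hz] at h3
      have : (0 : ℤ) < Nat.card Q := by exact_mod_cast hQ0
      omega
    exact key n₂ ρ₂ x₂ z₂ z₁ hirr₂ hz₂ (by rw [mul_comm]; exact hz) hz₁1 hz₂1 h2 hdeg₂ hval₂ hs₂
  · rw [h1] at hz₁1
    exact absurd hz₁1 (by simp)
  · exact key n₁ ρ₁ x₁ z₁ z₂ hirr₁ hz₁ hz hz₂1 hz₁1 h1 hdeg₁ hval₁ hs₁

end hecke

/-! ### Sums of roots of unity -/

/-- An integral sum of `l`-th roots of unity, `l` prime, is congruent to the number of terms. -/
theorem dvd_of_sum {ι : Type*} [Fintype ι] {l : ℕ} (hl : l.Prime) {z : ι → ℂ}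
    (hz : ∀ i, z i ^ l = 1) {c : ℤ} (hc : ∑ i, z i = c) : (l : ℤ) ∣ Fintype.card ι - c := by
  have hζ := Complex.isPrimitiveRoot_exp l hl.ne_zero
  set ζ := Complex.exp (2 * Real.pi * Complex.I / l) with hζd
  have h1 : ∀ i, ∃ j : ℕ, z i = ζ ^ j := by
    intro i
    have : NeZero l := ⟨hl.ne_zero⟩
    obtain ⟨j, -, hj⟩ := hζ.eq_pow_of_pow_eq_one (hz i)
    exact ⟨j, hj.symm⟩
  choose j hj using h1
  let P : Polynomial ℤ := ∑ i, Polynomial.X ^ j i - Polynomial.C c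
  have hP : Polynomial.aeval ζ P = 0 := by
    simp only [P, map_sub, map_sum, map_pow, Polynomial.aeval_X, Polynomial.aeval_C]
    rw [← Finset.sum_congr rfl fun i _ => hj i, hc]
    simp
  have hdvd : Polynomial.cyclotomic l ℤ ∣ P := by
    rw [Polynomial.cyclotomic_eq_minpoly hζ hl.pos]
    exact minpoly.isIntegrallyClosed_dvd (hζ.isIntegral hl.pos) hP
  obtain ⟨R, hR⟩ := hdvd
  have h2 : Polynomial.eval 1 P = Fintype.card ι - c := by
    simp [P, Polynomial.eval_finsetSum]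
  have : Fact l.Prime := ⟨hl⟩
  rw [hR, Polynomial.eval_mul, Polynomial.eval_one_cyclotomic_prime] at h2
  exact ⟨_, h2.symm⟩

/-! ### The theorem -/

section main

variable {G Ω : Type*} [Group G] [MulAction G Ω] {U : Ω → Subgroup G}

/-- **Linear characters of `W` of prime order**. -/
theorem lin_char_prime (h : SSplit U) [Finite G] [Finite Ω] (hgen : (⨆ c, U c) = ⊤) {a b : Ω}
    (hab : b ≠ a) {p k : ℕ} (hp : p.Prime) (hp2 : p ≠ 2) (hN : Nat.card (U a) = p ^ k)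
    (lam : Wab G a b →* ℂˣ) {l : ℕ} (hl : l.Prime) (hlaml : ∀ g, lam g ^ l = 1)
    {d : Wab G a b} (hd : (d : G) ∈ Dab G a b) (hlam : lam d ≠ 1) {t : G}
    (ht : t * t = 1) {c₀ : Ω} (hc₀ : t • c₀ ≠ c₀)
    (hone : ∀ m : Wab G a b, IsConj t (m : G) → lam m = 1) :
    ∃ X Y : ℕ, X * Y = Nat.card (U a) ∧ 1 < X ∧ 1 < Y ∧
      (l : ℤ) ∣ ((X : ℤ) + 1) * (Y - 1) ∧ ∃ ψ : G → ℂ, IsIrrCharacter G ψ ∧
      ((X : ℂ) + Y) * ψ 1 = Y * (Nat.card (U a) + 1) ∧
      ((X : ℂ) + Y) * ψ t = Y * Nat.card (fixedBy Ω t) +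
        (Nat.card Ω - Nat.card (fixedBy Ω t)) := by
  classical
  obtain ⟨w, hw⟩ := h.exists_swaps hab
  have := Fintype.ofFinite G
  have := Fintype.ofFinite Ω
  have := Fintype.ofFinite {u : U a // u ≠ 1}
  have hodd : Odd (Nat.card (U a)) := by
    rw [hN]
    exact (hp.odd_of_ne_two hp2).pow
  have hle : Nat.card (fixedBy Ω t) < Nat.card Ω := by
    rw [Nat.card_eq_fintype_card, Nat.card_eq_fintype_card]
    exact Fintype.card_subtype_lt (p := fun c => t • c = c) hc₀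
  have hgood : Good (h.rankOne hab hw) (fun m => (lam m : ℂ)) t :=
    LinSplit.good_of_inv _ hodd ht fun m hm => by simp only [hone m hm, Units.val_one]
  obtain ⟨X, Y, hXY, hX, hY, hs, ψ, hψ, h1, hval⟩ := exists_psi (h.rankOne hab hw)
    (h.normalClosure_U hgen a) hp hN lam (d := (d : G)) hd hlam
    (fun χ hχ => LinSplit.exists_int hχ ht) hgood (LinSplit.card_fix h a t)
    (LinSplit.card_move h a t) (by omega)
  refine ⟨X, Y, hXY, hX, hY, ?_, ψ, hψ, h1, ?_⟩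
  · have h2 := dvd_of_sum hl (c := (X : ℤ) - Y) (fun u : {u : U a // u ≠ 1} => by
      rw [← Units.val_pow_eq_pow_val, hlaml, Units.val_one]) (by rw [hs]; push_cast; ring)
    have h3 : (Fintype.card {u : U a // u ≠ 1} : ℤ) = (X : ℤ) * Y - 1 := by
      have h4 : Nat.card {u : U a // u ≠ 1} + 1 = X * Y := by
        rw [hXY, ← Finite.card_option]
        refine Nat.card_congr ?_
        refine
          { toFun := fun o => o.elim 1 (fun u => u.1)
            invFun := fun u => if hu : u = 1 then none else some ⟨u, hu⟩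
            left_inv := ?_
            right_inv := ?_ }
        · rintro (_ | u)
          · simp
          · simp [u.2]
        · intro u
          by_cases hu : u = 1
          · simp [hu]
          · simp [hu]
      rw [← Nat.card_eq_fintype_card]
      have h5 : ((Nat.card {u : U a // u ≠ 1} : ℕ) : ℤ) + 1 = (X : ℤ) * Y := by exact_mod_cast h4
      linear_combination h5
    rw [h3] at h2
    have h4 : ((X : ℤ) + 1) * (Y - 1) = (X : ℤ) * Y - 1 - (X - Y) := by ring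
    rw [h4]
    exact h2
  · have hB : (Nat.card (stabilizer G a) : ℂ) ≠ 0 := by exact_mod_cast Nat.card_pos.ne'
    have h2 := hval t
    rw [S₀_of_good _ hgood (LinSplit.card_fix h a t), S₁_of_good _ hgood (LinSplit.card_move h a t),
      Nat.cast_sub hle.le] at h2
    apply mul_left_cancel₀ hB
    linear_combination h2

end main

end Cfsg.Agent.HKS.LinHecke
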