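import Mathlib
import Cfsg.Agent.HKS.Dichotomy
import Cfsg.Agent.HKS.LinChar

/-!
# Rank one groups, `|Q|` not a prime power: invariant linear characters of `D`

If `|Q|` is not a prime power and `G` is the normal closure of `Q` then `D` has no nontrivial
`w`-invariant linear character. Hence `w` inverts `D/D'` and `|D/D'|` is odd.
-/

set_option autoImplicit false

open Cfsg
open scoped ComplexConjugate

namespace Cfsg.Agent.HKS.LinTriv

open Characters.Core

theorem exists_hom_ne_one (Q : Type*) [Group Q] [Finite Q] [Nontrivial Q] [Group.IsSolvable Q] :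
    ∃ θ : Q →* ℂˣ, θ ≠ 1 := by
  obtain ⟨x, -, hx⟩ := SetLike.exists_of_lt
    (Group.IsSolvable.commutator_lt_top_of_nontrivial Q)
  have h2 : (Abelianization.of x) ≠ 1 := by
    intro hc
    exact hx ((QuotientGroup.eq_one_iff x).1 hc)
  obtain ⟨φ, hφ⟩ :=
    CommGroup.exists_apply_ne_one_of_hasEnoughRootsOfUnity (Abelianization Q) ℂ h2
  refine ⟨φ.comp Abelianization.of, fun hc => hφ ?_⟩
  have := DFunLike.congr_fun hc x
  simpa using this

theorem sum_conj_eq_zero {Q : Type*} [Group Q] [Fintype Q] {θ : Q →* ℂˣ} (hθ : θ ≠ 1) :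
    ∑ u : Q, conj (θ u : ℂ) = 0 := by
  have h1 : (fun g : Q => ((1 : Q →* ℂˣ) g : ℂ)) ≠ fun g => (θ g : ℂ) := by
    intro hc
    apply hθ
    ext g
    exact (congrFun hc g).symm
  have h2 := classInner_irr_ne (Characters.Linear.isIrrCharacter_hom (1 : Q →* ℂˣ))
    (Characters.Linear.isIrrCharacter_hom θ) h1
  rw [classInner] at h2
  have h3 : (Nat.card Q : ℂ)⁻¹ ≠ 0 := inv_ne_zero (by exact_mod_cast Nat.card_pos.ne')
  have h4 := (mul_eq_zero.1 h2).resolve_left h3
  simpa using h4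

/-- A character which is constant on `Q ∖ {1}` with a one-dimensional space of `Q`-fixed vectors. -/
theorem exists_mult {G : Type*} [Group G] {Q : Subgroup G} [Fintype Q] {χ : G → ℂ}
    (hχ : IsCharacter G χ) {c : ℂ} (hc : ∀ u ∈ Q, u ≠ 1 → χ u = c)
    (h1 : (Nat.card Q : ℂ)⁻¹ * ∑ u : Q, χ u = 1) {θ : Q →* ℂˣ} (hθ : θ ≠ 1) :
    ∃ m : ℕ, c = 1 - m ∧ χ 1 = 1 + m * (Nat.card Q - 1) := by
  classical
  have hN : (Nat.card Q : ℂ) ≠ 0 := by exact_mod_cast Nat.card_pos.ne'
  have e : ∀ u : Q, χ u = c + if u = 1 then χ 1 - c else 0 := by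
    intro u
    split_ifs with hu
    · rw [hu, OneMemClass.coe_one]; ring
    · rw [add_zero]
      exact hc u u.2 fun hh => hu (Subtype.ext hh)
  have key : ∀ f : Q → ℂ, ∑ u : Q, χ u * f u = c * ∑ u : Q, f u + (χ 1 - c) * f 1 := by
    intro f
    have h2 : ∀ u ∈ (Finset.univ : Finset Q), χ u * f u =
        c * f u + if u = 1 then (χ 1 - c) * f u else 0 := by
      intro u _
      rw [e u]
      split_ifs <;> ring
    rw [Finset.sum_congr rfl h2, Finset.sum_add_distrib, ← Finset.mul_sum]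
    simp
  obtain ⟨m, hm⟩ := classInner_isNat (isCharacter_comp Q.subtype hχ)
    (Characters.Linear.isCharacter_hom θ)
  rw [classInner] at hm
  have h3 : ∑ g : Q, (χ ∘ Q.subtype) g * conj (θ g : ℂ) = χ 1 - c := by
    have := key fun u => conj (θ u : ℂ)
    rw [sum_conj_eq_zero hθ] at this
    simp only [map_one, Units.val_one, mul_one, mul_zero, zero_add] at this
    rw [← this]
    rfl
  have h4 : ∑ u : Q, χ u = Nat.card Q * c + (χ 1 - c) := by
    have := key fun _ => 1
    simp only [mul_one, Finset.sum_const, Finset.card_univ, nsmul_eq_mul] at this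
    rw [this, ← Nat.card_eq_fintype_card]
    ring
  rw [h3] at hm
  rw [h4] at h1
  have h5 : χ 1 - c = Nat.card Q * m := by
    rw [← hm]
    field_simp
  have h6 : (Nat.card Q : ℂ) * c + (χ 1 - c) = Nat.card Q := by
    have := congrArg (fun z => (Nat.card Q : ℂ) * z) h1
    simpa [mul_inv_cancel_left₀ hN] using this
  have h7 : c = 1 - m := by
    apply mul_left_cancel₀ hN
    linear_combination h6 - h5
  refine ⟨m, h7, ?_⟩
  rw [h7] at h5
  linear_combination h5

end LinTriv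

namespace RankOne

open Characters.Core LinChar

variable {G : Type*} [Group G] {B Q D W : Subgroup G} {w : G}

/-- **Corollary 2.** If `|Q|` is not a prime power, the linear characters of `W` are trivial
on `D`. -/
theorem lam_eq_one (h : RankOne B Q D W w) [Finite G] (hQ : Group.IsNilpotent Q)
    (hN : ¬ IsPrimePow (Nat.card Q)) (hnc : Subgroup.normalClosure (Q : Set G) = ⊤)
    (lam : W →* ℂˣ) {d : G} (hd : d ∈ D) : lam ⟨d, h.DW hd⟩ = 1 := by
  classical
  have := Fintype.ofFinite G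
  have := Fintype.ofFinite Q
  have := Fintype.ofFinite D
  by_contra hlam
  have hQ1 : Q ≠ ⊥ := by
    rintro rfl
    apply h.wB
    have h1 : Subgroup.normalClosure ((⊥ : Subgroup G) : Set G) ≤ ⊥ :=
      Subgroup.normalClosure_le_normal le_rfl
    have : w ∈ (⊤ : Subgroup G) := Subgroup.mem_top w
    rw [← hnc] at this
    rw [Subgroup.mem_bot.1 (h1 this)]
    exact B.one_mem
  have : Nontrivial Q := (Subgroup.nontrivial_iff_ne_bot Q).2 hQ1
  obtain ⟨θ, hθ⟩ := LinTriv.exists_hom_ne_one Q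
  have hσ : Representation.IsIrreducible
      ((Characters.Linear.repOfHom lam).comp (Subgroup.inclusion h.DW)) :=
    Characters.Linear.isIrreducible_of_finrank_eq_one _ (by simp)
  obtain ⟨n₁, n₂, ρ₁, ρ₂, φ₁, φ₂, hρ₁, hρ₂, -, H₁, H₂, hsum⟩ :=
    h.exists_pair (Characters.Linear.repOfHom lam) hσ
  have hirr₁ : IsIrrCharacter G ρ₁.character := ⟨n₁, ρ₁, hρ₁, rfl⟩
  have hirr₂ : IsIrrCharacter G ρ₂.character := ⟨n₂, ρ₂, hρ₂, rfl⟩
  obtain ⟨hn₁, -⟩ := constituent hnc H₁ hρ₁ hd hlam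
  obtain ⟨hn₂, -⟩ := constituent hnc H₂ hρ₂ hd hlam
  have hF₁ : (Nat.card Q : ℂ)⁻¹ * ∑ u : Q, ρ₁.character u = 1 := by
    have := H₁.Fq_one
    rw [Characters.Linear.character_repOfHom, Fq] at this
    simpa using this
  have hF₂ : (Nat.card Q : ℂ)⁻¹ * ∑ u : Q, ρ₂.character u = 1 := by
    have := H₂.Fq_one
    rw [Characters.Linear.character_repOfHom, Fq] at this
    simpa using this
  have hs₁ : ∑ u : Q, ρ₁.character u ≠ 0 := fun hc => by simp [hc] at hF₁
  have hs₂ : ∑ u : Q, ρ₂.character u ≠ 0 := fun hc => by simp [hc] at hF₂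
  obtain ⟨v, hv, hv1⟩ := Q.bot_or_exists_ne_one.resolve_left hQ1
  obtain ⟨m₁, hm₁, hd₁⟩ := LinTriv.exists_mult (isCharacter_of_rep ρ₁)
    (fun u hu hu1 => h.const_of_not_primePow hQ hN hirr₁ hs₁ u hu hu1 v hv hv1) hF₁ hθ
  obtain ⟨m₂, hm₂, hd₂⟩ := LinTriv.exists_mult (isCharacter_of_rep ρ₂)
    (fun u hu hu1 => h.const_of_not_primePow hQ hN hirr₂ hs₂ u hu hu1 v hv hv1) hF₂ hθ
  have hirr : IsIrrCharacter D
      (fun d => (fun m => (lam m : ℂ)) (Subgroup.inclusion h.DW d)) :=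
    Characters.Linear.isIrrCharacter_hom (lam.comp (Subgroup.inclusion h.DW))
  have h1 := congrFun hsum v
  rw [Characters.Linear.character_repOfHom, h.ind_Q hirr hv hv1, Pi.add_apply, hm₁, hm₂] at h1
  simp only [map_one, Units.val_one] at h1
  have h2 : m₁ + m₂ = 1 := by
    have : (m₁ : ℂ) + m₂ = 1 := by linear_combination h1
    exact_mod_cast this
  rw [Representation.char_one] at hd₁ hd₂
  rcases Nat.eq_zero_or_pos m₁ with h0 | h0
  · rw [h0] at hd₁
    simp at hd₁
    exact hn₁.ne' (by exact_mod_cast hd₁)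
  · have h0' : m₂ = 0 := by omega
    rw [h0'] at hd₂
    simp at hd₂
    exact hn₂.ne' (by exact_mod_cast hd₂)

/-- A `w`-invariant linear character of `D` extends to `W`. -/
theorem exists_extend (h : RankOne B Q D W w) (f : D →* ℂˣ)
    (hf : ∀ d (hd : d ∈ D), f ⟨w * d * w⁻¹, h.w_conj hd⟩ = f ⟨d, hd⟩) :
    ∃ lam : W →* ℂˣ, ∀ d (hd : d ∈ D), lam ⟨d, h.DW hd⟩ = f ⟨d, hd⟩ := by
  classical
  have hwinv : ∀ g ∈ W, g ∉ D → w⁻¹ * g ∈ D := by
    intro g hg hgD
    obtain ⟨d, hd, rfl⟩ := h.Wmul g hg hgD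
    rwa [inv_mul_cancel_left]
  have hww : w * w ∈ D := by
    by_contra hc
    have := hwinv _ (W.mul_mem h.wW h.wW) hc
    rw [inv_mul_cancel_left] at this
    exact h.wD this
  obtain ⟨c, hc⟩ : ∃ c : ℂˣ, c * c = f ⟨w * w, hww⟩ := by
    obtain ⟨z, hz⟩ := IsAlgClosed.exists_pow_nat_eq ((f ⟨w * w, hww⟩ : ℂˣ) : ℂ) zero_lt_two
    have hz0 : z ≠ 0 := by
      rintro rfl
      rw [zero_pow two_ne_zero] at hz
      exact (f ⟨w * w, hww⟩).ne_zero hz.symm
    refine ⟨Units.mk0 z hz0, Units.ext ?_⟩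
    rw [Units.val_mul, Units.val_mk0, ← sq, hz]
  have hinv : ∀ (x : G) (hx : x ∈ D) (y : G) (hy : y ∈ D), w * x * w⁻¹ = y → f ⟨y, hy⟩ = f ⟨x, hx⟩ := by
    intro x hx y hy he
    rw [← hf x hx]
    congr 1
    exact Subtype.ext he.symm
  let F : W → ℂˣ := fun g => if hg : (g : G) ∈ D then f ⟨g, hg⟩ else
    c * f ⟨w⁻¹ * g, hwinv g g.2 hg⟩
  have hFD : ∀ (g : W) (hg : (g : G) ∈ D), F g = f ⟨g, hg⟩ := fun g hg => dif_pos hg
  have hFN : ∀ (g : W) (hg : (g : G) ∉ D), F g = c * f ⟨w⁻¹ * g, hwinv g g.2 hg⟩ :=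
    fun g hg => dif_neg hg
  refine ⟨⟨⟨F, ?_⟩, ?_⟩, fun d hd => hFD _ hd⟩
  · rw [hFD 1 D.one_mem]
    exact map_one f
  · intro g g'
    have hcoe : ((g * g' : W) : G) = (g : G) * g' := rfl
    change F (g * g') = F g * F g'
    by_cases hg : (g : G) ∈ D
    · by_cases hg' : (g' : G) ∈ D
      · rw [hFD g hg, hFD g' hg', hFD _ (D.mul_mem hg hg'), ← map_mul]
        rfl
      · have h1 : ((g * g' : W) : G) ∉ D := fun hc => hg' (by
          have := D.mul_mem (D.inv_mem hg) hc
          rwa [hcoe, inv_mul_cancel_left] at this)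
        rw [hFD g hg, hFN g' hg', hFN _ h1, mul_left_comm,
          hinv (w⁻¹ * g * w) (h.winv_conj hg) g hg (by group), ← map_mul]
        congr 2
        apply Subtype.ext
        change w⁻¹ * ((g : G) * g') = w⁻¹ * g * w * (w⁻¹ * g')
        group
    · by_cases hg' : (g' : G) ∈ D
      · have h1 : ((g * g' : W) : G) ∉ D := fun hc => hg (by
          have := D.mul_mem hc (D.inv_mem hg')
          rwa [hcoe, mul_inv_cancel_right] at this)
        rw [hFN g hg, hFD g' hg', hFN _ h1, mul_assoc, ← map_mul]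
        congr 2
        apply Subtype.ext
        change w⁻¹ * ((g : G) * g') = w⁻¹ * g * g'
        group
      · have h1 : ((g * g' : W) : G) ∈ D := by
          have e1 : ((g * g' : W) : G) = (w * (w⁻¹ * g) * w⁻¹) * (w * w) * (w⁻¹ * g') := by
            rw [hcoe]; group
          rw [e1]
          exact D.mul_mem (D.mul_mem (h.w_conj (hwinv g g.2 hg)) hww) (hwinv g' g'.2 hg')
        rw [hFN g hg, hFN g' hg', hFD _ h1, mul_mul_mul_comm, hc,
          ← hinv (w⁻¹ * g) (hwinv g g.2 hg) (w * (w⁻¹ * g) * w⁻¹) (h.w_conj (hwinv g g.2 hg)) rfl,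
          mul_left_comm, ← map_mul, ← map_mul]
        congr 1
        apply Subtype.ext
        change (g : G) * g' = w * (w⁻¹ * g) * w⁻¹ * (w * w * (w⁻¹ * g'))
        group

/-- **Corollary 2.** -/
theorem hom_eq_one (h : RankOne B Q D W w) [Finite G] (hQ : Group.IsNilpotent Q)
    (hN : ¬ IsPrimePow (Nat.card Q)) (hnc : Subgroup.normalClosure (Q : Set G) = ⊤)
    (f : D →* ℂˣ) (hf : ∀ d (hd : d ∈ D), f ⟨w * d * w⁻¹, h.w_conj hd⟩ = f ⟨d, hd⟩) : f = 1 := by
  obtain ⟨lam, hlam⟩ := h.exists_extend f hf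
  ext ⟨d, hd⟩
  rw [← hlam d hd, h.lam_eq_one hQ hN hnc lam hd]
  rfl

/-- `w` inverts `D/D'`, and every element of `D/D'` is a square. -/
theorem of_conj (h : RankOne B Q D W w) [Finite G] (hQ : Group.IsNilpotent Q)
    (hN : ¬ IsPrimePow (Nat.card Q)) (hnc : Subgroup.normalClosure (Q : Set G) = ⊤) :
    (∀ x : Abelianization D, ∃ y, x = y * y) ∧ ∀ d (hd : d ∈ D),
    Abelianization.of (⟨w * d * w⁻¹, h.w_conj hd⟩ : D) = (Abelianization.of (⟨d, hd⟩ : D))⁻¹ := by
  classical
  have hww : w * w ∈ D := by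
    by_contra hc
    obtain ⟨d, hd, he⟩ := h.Wmul _ (W.mul_mem h.wW h.wW) hc
    have h1 := mul_left_cancel he
    rw [← h1] at hd
    exact h.wD hd
  -- conjugation by `w`
  let κ : D →* D :=
    { toFun := fun d => ⟨w * d * w⁻¹, h.w_conj d.2⟩
      map_one' := Subtype.ext (by simp)
      map_mul' := fun d e => Subtype.ext (by
        change w * ((d : G) * e) * w⁻¹ = w * d * w⁻¹ * (w * e * w⁻¹)
        group) }
  let α : Abelianization D →* Abelianization D := Abelianization.map κ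
  have hα : ∀ d : D, α (Abelianization.of d) = Abelianization.of (κ d) := fun d => rfl
  have hα2 : ∀ x, α (α x) = x := by
    intro x
    obtain ⟨d, rfl⟩ := QuotientGroup.mk_surjective x
    change α (α (Abelianization.of d)) = Abelianization.of d
    rw [hα, hα]
    have h1 : κ (κ d) = ⟨w * w, hww⟩ * d * ⟨w * w, hww⟩⁻¹ := by
      apply Subtype.ext
      change w * (w * d * w⁻¹) * w⁻¹ = w * w * d * (w * w)⁻¹
      group
    rw [h1, map_mul, map_mul, map_inv, mul_comm (Abelianization.of _), mul_inv_cancel_right]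
  let β : Abelianization D →* Abelianization D :=
    { toFun := fun a => a⁻¹ * α a
      map_one' := by simp
      map_mul' := fun a b => by
        rw [map_mul, mul_inv]
        exact mul_mul_mul_comm _ _ _ _ }
  have hβ : ∀ a, β a = a⁻¹ * α a := fun a => rfl
  have hsurj : ∀ x, ∃ a, x = a⁻¹ * α a := by
    intro x
    have h1 : x ∈ β.range := by
      rw [← CommGroup.forall_monoidHom_apply_eq_one_iff (M := ℂ) β.range x]
      intro φ hφ
      have h2 := h.hom_eq_one hQ hN hnc (φ.comp Abelianization.of) (by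
        intro d hd
        have h3 := hφ (β (Abelianization.of ⟨d, hd⟩)) ⟨_, rfl⟩
        rw [hβ, map_mul, map_inv, inv_mul_eq_one] at h3
        exact h3.symm)
      obtain ⟨d, rfl⟩ := QuotientGroup.mk_surjective x
      exact DFunLike.congr_fun h2 d
    obtain ⟨a, ha⟩ := h1
    exact ⟨a, ha.symm⟩
  have hinv : ∀ x, α x = x⁻¹ := by
    intro x
    obtain ⟨a, rfl⟩ := hsurj x
    rw [map_mul, hα2, map_inv, mul_inv_rev, inv_inv]
  refine ⟨fun x => ?_, fun d hd => ?_⟩
  · obtain ⟨a, rfl⟩ := hsurj x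
    exact ⟨a⁻¹, by rw [hinv]⟩
  · exact hinv (Abelianization.of ⟨d, hd⟩)

theorem odd_abelianization (h : RankOne B Q D W w) [Finite G] (hQ : Group.IsNilpotent Q)
    (hN : ¬ IsPrimePow (Nat.card Q)) (hnc : Subgroup.normalClosure (Q : Set G) = ⊤) :
    Odd (Nat.card (Abelianization D)) := by
  have h1 := (h.of_conj hQ hN hnc).1
  by_contra hc
  rw [Nat.not_odd_iff_even] at hc
  have := Fact.mk Nat.prime_two
  obtain ⟨x, hx⟩ := exists_prime_orderOf_dvd_card' 2 (even_iff_two_dvd.1 hc)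
  have hsurj : Function.Surjective fun y : Abelianization D => y * y := fun z => by
    obtain ⟨y, hy⟩ := h1 z
    exact ⟨y, hy.symm⟩
  have hinj := Finite.injective_iff_surjective.2 hsurj
  have h2 : x * x = 1 := by rw [← sq, ← hx, pow_orderOf_eq_one]
  have h3 : x = 1 := hinj (by simpa using h2)
  rw [h3, orderOf_one] at hx
  exact absurd hx (by decide)

/-- Every homomorphism of `D` to a commutative group kills the `2`-elements of `D`. -/
theorem hom_two (h : RankOne B Q D W w) [Finite G] (hQ : Group.IsNilpotent Q)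
    (hN : ¬ IsPrimePow (Nat.card Q)) (hnc : Subgroup.normalClosure (Q : Set G) = ⊤)
    {A : Type*} [CommGroup A] (f : D →* A) {d : D} (hd : ∃ k : ℕ, d ^ 2 ^ k = 1) : f d = 1 := by
  obtain ⟨k, hk⟩ := hd
  have h1 : Abelianization.of d = 1 := by
    have h2 : (Abelianization.of d) ^ 2 ^ k = 1 := by rw [← map_pow, hk, map_one]
    have h3 : orderOf (Abelianization.of d) ∣ 2 ^ k := orderOf_dvd_of_pow_eq_one h2
    have h4 : orderOf (Abelianization.of d) ∣ Nat.card (Abelianization D) := orderOf_dvd_natCard _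
    have h5 : (2 ^ k).Coprime (Nat.card (Abelianization D)) :=
      Nat.Coprime.pow_left k ((h.odd_abelianization hQ hN hnc).coprime_two_left)
    exact orderOf_eq_one_iff.1 (Nat.eq_one_of_dvd_coprimes h5 h3 h4)
  have h2 : f d = Abelianization.lift f (Abelianization.of d) := (Abelianization.lift_apply_of f d).symm
  rw [h2, h1, map_one]

end RankOne

end Cfsg.Agent.HKS
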