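import Mathlib
import Cfsg.Agent.HKS.FrameCount
import Cfsg.Agent.Lib.SL2Mat

/-!
# Strongly split groups with `C_G(t) ≥ ⟨t⟩ × PSL(2,q)`: coordinates

`RE U a b t φ` : `t` is the only involution of `G_ab`, all involutions are conjugate, Sylow 2-subgroups are
elementary abelian of order 8, `φ : SL(2,F) → G` with `φ(-1) = 1`, `φ(up z)` runs over `C_{U a}(t)` and `φ(lo z)`
over `C_{U b}(t)`, and `t` is not a value of `φ`.

Involutions interchanging `a` and `b` are `φ(wm r)` or `t φ(wm r)`; hence `|U a| = q ^ 3`.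
-/

set_option autoImplicit false

namespace Cfsg.Agent.HKS.ReeEnd

open Subgroup MulAction Cfsg.Agent.HKS
open Cfsg.Agent.Lib.SL2Mat

/-- the configuration `⟨t⟩ × PSL(2,F) ≤ C_G(t)` -/
structure RE {G Ω F : Type*} [Group G] [MulAction G Ω] [Field F] (U : Ω → Subgroup G) (a b : Ω)
    (t : G) (φ : Matrix.SpecialLinearGroup (Fin 2) F →* G) : Prop where
  split : SSplit U
  ne : b ≠ a
  t_mem : t ∈ Dab G a b
  t_ne : t ≠ 1
  t_sq : t * t = 1
  unique : ∀ d ∈ Dab G a b, d * d = 1 → d = 1 ∨ d = t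
  two : (2 : F) ≠ 0
  neg : φ (-1) = 1
  not_mem : ∀ x, φ x ≠ t
  up_mem : ∀ z, φ (up z) ∈ U a
  lo_mem : ∀ z, φ (lo z) ∈ U b
  comm_range : ∀ x, t * φ x = φ x * t
  inj : ∀ z, φ (up z) = 1 → z = 0
  up_surj : ∀ u ∈ U a, t * u = u * t → ∃ z, u = φ (up z)
  lo_surj : ∀ u ∈ U b, t * u = u * t → ∃ z, u = φ (lo z)
  conj : ∀ s : G, s * s = 1 → s ≠ 1 → IsConj t s
  syl : ∀ S : Sylow 2 G, Nat.card S = 8 ∧ ∀ x ∈ S, x * x = 1

namespace RE

variable {G Ω F : Type*} [Group G] [MulAction G Ω] [Field F] {U : Ω → Subgroup G} {a b : Ω}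
  {t : G} {φ : Matrix.SpecialLinearGroup (Fin 2) F →* G}

theorem t_inv (S : RE U a b t φ) : t⁻¹ = t := inv_eq_of_mul_eq_one_left S.t_sq

/-- conjugates of `t` in `D` are `t` -/
theorem eq_t (S : RE U a b t φ) {g : G} (h : g * t * g⁻¹ ∈ Dab G a b) : t * g = g * t := by
  have h1 : g * t * g⁻¹ * (g * t * g⁻¹) = 1 := by
    calc g * t * g⁻¹ * (g * t * g⁻¹) = g * (t * t) * g⁻¹ := by group
      _ = 1 := by rw [S.t_sq]; group
  rcases S.unique _ h h1 with h2 | h2
  · exact absurd (conj_eq_one_iff.1 h2) S.t_ne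
  · calc t * g = (g * t * g⁻¹) * g := by rw [h2]
      _ = g * t := by group

theorem comm_D (S : RE U a b t φ) {d : G} (hd : d ∈ Dab G a b) : t * d = d * t :=
  S.eq_t (mul_mem (mul_mem hd S.t_mem) (inv_mem hd))

theorem comm_swaps (S : RE U a b t φ) {y : G} (hy : Swaps y a b) : t * y = y * t := by
  refine S.eq_t ⟨?_, ?_⟩
  · change (y * t * y⁻¹) • a = a
    rw [mul_smul, mul_smul, hy.inv.1, S.t_mem.2, hy.2]
  · change (y * t * y⁻¹) • b = b
    rw [mul_smul, mul_smul, hy.inv.2, S.t_mem.1, hy.1]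

theorem t_a (S : RE U a b t φ) : t • a = a := S.t_mem.1
theorem t_b (S : RE U a b t φ) : t • b = b := S.t_mem.2

theorem up_ne (S : RE U a b t φ) {z : F} (hz : z ≠ 0) : φ (up z) ≠ 1 := fun h => hz (S.inj z h)

theorem lo_ne (S : RE U a b t φ) {z : F} (hz : z ≠ 0) : φ (lo z) ≠ 1 := by
  intro h
  have h1 : φ (wm 1 one_ne_zero) * φ (lo z) = φ (up (-(z * 1 ^ 2))) * φ (wm 1 one_ne_zero) := by
    rw [← map_mul, wm_lo, map_mul]
  rw [h, mul_one] at h1
  have h2 : φ (up (-(z * 1 ^ 2))) = 1 := (mul_eq_right.1 h1.symm)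
  have h3 := S.inj _ h2
  apply hz
  linear_combination -h3

/-- the only fixed point of a nontrivial element of `U a` is `a` -/
theorem eq_of_fix (S : RE U a b t φ) {c e : Ω} {u : G} (hu : u ∈ U c) (hu1 : u ≠ 1)
    (he : u • e = e) : e = c := by
  by_contra hne
  exact hu1 (S.split.free hne hu he)

/-- the fixed points of `t` -/
theorem fix_iff (S : RE U a b t φ) (c : Ω) : t • c = c ↔ c = a ∨ ∃ z, c = φ (up z) • b := by
  constructor
  · intro hc
    by_cases hca : c = a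
    · exact Or.inl hca
    right
    obtain ⟨u, hu, huc⟩ := S.split.trans S.ne hca
    have h1 : t * u * t⁻¹ = u := S.split.eq_of_smul_eq S.ne
      (by have := S.split.conj_of_fix S.t_a hu; exact this) hu (by
        rw [mul_smul, mul_smul, S.t_inv, S.t_b, huc, hc])
    obtain ⟨z, hz⟩ := S.up_surj u hu (by
      calc t * u = t * u * t⁻¹ * t := by group
        _ = u * t := by rw [h1])
    exact ⟨z, by rw [← hz, huc]⟩
  · rintro (rfl | ⟨z, rfl⟩)
    · exact S.t_a
    · rw [← mul_smul, S.comm_range, mul_smul, S.t_b]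

/-- `φ(wm r)` interchanges `a` and `b` -/
theorem wm_swaps (S : RE U a b t φ) {r : F} (hr : r ≠ 0) : Swaps (φ (wm r hr)) a b := by
  constructor
  · have h1 : φ (wm r hr) * φ (up 1) = φ (lo (-(1 / r ^ 2))) * φ (wm r hr) := by
      rw [← map_mul, wm_up, map_mul]
    refine S.eq_of_fix (S.lo_mem (-(1 / r ^ 2))) (S.lo_ne (neg_ne_zero.2 (one_div_ne_zero (pow_ne_zero 2 hr)))) ?_
    rw [← mul_smul, ← h1, mul_smul, S.split.fix (S.up_mem 1)]
  · have h1 : φ (wm r hr) * φ (lo 1) = φ (up (-(1 * r ^ 2))) * φ (wm r hr) := by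
      rw [← map_mul, wm_lo, map_mul]
    refine S.eq_of_fix (S.up_mem (-(1 * r ^ 2))) (S.up_ne (neg_ne_zero.2 (mul_ne_zero one_ne_zero (pow_ne_zero 2 hr)))) ?_
    rw [← mul_smul, ← h1, mul_smul, S.split.fix (S.lo_mem 1)]

theorem dg_lo (r c : F) (hr : r ≠ 0) : dg r hr * lo c = lo (c / r ^ 2) * dg r hr := by
  refine ext_ent ?_ ?_ ?_ ?_ <;> simp [ent_mul]
  field_simp

theorem dg_mem (S : RE U a b t φ) {r : F} (hr : r ≠ 0) : φ (dg r hr) ∈ Dab G a b := by
  constructor
  · change φ (dg r hr) • a = a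
    have h1 : φ (dg r hr) * φ (up 1) = φ (up (r ^ 2 * 1)) * φ (dg r hr) := by
      rw [← map_mul, dg_up, map_mul]
    refine S.eq_of_fix (S.up_mem (r ^ 2 * 1)) (S.up_ne (mul_ne_zero (pow_ne_zero 2 hr) one_ne_zero)) ?_
    rw [← mul_smul, ← h1, mul_smul, S.split.fix (S.up_mem 1)]
  · change φ (dg r hr) • b = b
    have h1 : φ (dg r hr) * φ (lo 1) = φ (lo (1 / r ^ 2)) * φ (dg r hr) := by
      rw [← map_mul, dg_lo, map_mul]
    refine S.eq_of_fix (S.lo_mem (1 / r ^ 2)) (S.lo_ne (one_div_ne_zero (pow_ne_zero 2 hr))) ?_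
    rw [← mul_smul, ← h1, mul_smul, S.split.fix (S.lo_mem 1)]

/-- `SL(2,F)` is transitive on ordered pairs of distinct fixed points of `t` -/
theorem two_trans (S : RE U a b t φ) {c e : Ω} (hc : t • c = c) (he : t • e = e)
    (hce : e ≠ c) : ∃ x, φ x • a = c ∧ φ x • b = e := by
  obtain ⟨x₁, h₁⟩ : ∃ x₁, φ x₁ • a = c := by
    rcases (S.fix_iff c).1 hc with rfl | ⟨z, rfl⟩
    · exact ⟨1, by rw [map_one, one_smul]⟩
    · exact ⟨up z * wm 1 one_ne_zero, by rw [map_mul, mul_smul, (S.wm_swaps one_ne_zero).1]⟩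
  have h2 : t • (φ x₁)⁻¹ • e = (φ x₁)⁻¹ • e := by
    rw [← map_inv, ← mul_smul, S.comm_range, mul_smul, he]
  rcases (S.fix_iff _).1 h2 with h3 | ⟨z, h3⟩
  · exfalso
    apply hce
    rw [← h₁, ← h3, smul_inv_smul]
  · refine ⟨x₁ * up z, ?_, ?_⟩
    · rw [map_mul, mul_smul, S.split.fix (S.up_mem z), h₁]
    · rw [map_mul, mul_smul, ← h3, smul_inv_smul]

/-- elements of `C(t)`: product of an element of `SL(2,F)` and an element of `D` -/
theorem exists_mul (S : RE U a b t φ) {g : G} (hg : t * g = g * t) :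
    ∃ x, ∃ d ∈ Dab G a b, g = φ x * d := by
  obtain ⟨x, h1, h2⟩ := S.two_trans (c := g • a) (e := g • b)
    (by rw [← mul_smul, hg, mul_smul, S.t_a]) (by rw [← mul_smul, hg, mul_smul, S.t_b])
    (fun h => S.ne (smul_left_cancel g h))
  refine ⟨x, (φ x)⁻¹ * g, ⟨?_, ?_⟩, by group⟩
  · change ((φ x)⁻¹ * g) • a = a
    rw [mul_smul, inv_smul_eq_iff, h1]
  · change ((φ x)⁻¹ * g) • b = b
    rw [mul_smul, inv_smul_eq_iff, h2]

theorem D_up (S : RE U a b t φ) {d : G} (hd : d ∈ Dab G a b) (z : F) :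
    ∃ z', d * φ (up z) * d⁻¹ = φ (up z') := by
  refine S.up_surj _ (S.split.conj_of_fix hd.1 (S.up_mem z)) ?_
  have h1 := S.comm_D hd
  have h2 := S.comm_range (up z)
  have h3 := S.comm_D (inv_mem hd)
  calc t * (d * φ (up z) * d⁻¹) = (t * d) * φ (up z) * d⁻¹ := by group
    _ = d * (t * φ (up z)) * d⁻¹ := by rw [h1]; group
    _ = d * φ (up z) * (t * d⁻¹) := by rw [h2]; group
    _ = d * φ (up z) * d⁻¹ * t := by rw [h3]; group

theorem D_lo (S : RE U a b t φ) {d : G} (hd : d ∈ Dab G a b) (z : F) :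
    ∃ z', d * φ (lo z) * d⁻¹ = φ (lo z') := by
  refine S.lo_surj _ (S.split.conj_of_fix hd.2 (S.lo_mem z)) ?_
  have h1 := S.comm_D hd
  have h2 := S.comm_range (lo z)
  have h3 := S.comm_D (inv_mem hd)
  calc t * (d * φ (lo z) * d⁻¹) = (t * d) * φ (lo z) * d⁻¹ := by group
    _ = d * (t * φ (lo z)) * d⁻¹ := by rw [h1]; group
    _ = d * φ (lo z) * (t * d⁻¹) := by rw [h2]; group
    _ = d * φ (lo z) * d⁻¹ * t := by rw [h3]; group

/-- `C(t)` normalises `SL(2,F)` -/
theorem normalises (S : RE U a b t φ) {g : G} (hg : t * g = g * t)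
    (x : Matrix.SpecialLinearGroup (Fin 2) F) : ∃ x', g * φ x * g⁻¹ = φ x' := by
  obtain ⟨s, d, hd, rfl⟩ := S.exists_mul hg
  obtain ⟨z₁, z₂, z₃, z₄, rfl⟩ := exists_up_lo x
  obtain ⟨w₁, h₁⟩ := S.D_up hd z₁
  obtain ⟨w₂, h₂⟩ := S.D_lo hd z₂
  obtain ⟨w₃, h₃⟩ := S.D_up hd z₃
  obtain ⟨w₄, h₄⟩ := S.D_lo hd z₄
  refine ⟨s * (up w₁ * lo w₂ * up w₃ * lo w₄) * s⁻¹, ?_⟩
  simp only [map_mul, map_inv, ← h₁, ← h₂, ← h₃, ← h₄]
  group

/-- stabiliser of `a` -/
theorem ent_of_fix_a (S : RE U a b t φ) {x : Matrix.SpecialLinearGroup (Fin 2) F}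
    (h : φ x • a = a) : ent x 1 0 = 0 := by
  by_contra hc
  obtain ⟨y, z, hx⟩ : ∃ y z, x = up y * lo (ent x 1 0) * up z := ⟨_, _, eq_up_lo_up x hc⟩
  rw [hx, map_mul, map_mul, mul_smul, mul_smul, S.split.fix (S.up_mem z)] at h
  have h1 : φ (lo (ent x 1 0)) • a = a := by
    have h2 : φ (lo (ent x 1 0)) • a = (φ (up y))⁻¹ • a := by
      rw [eq_inv_smul_iff, h]
    rw [h2, inv_smul_eq_iff, S.split.fix (S.up_mem y)]
  exact S.lo_ne hc (S.split.free S.ne.symm (S.lo_mem _) h1)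

/-- stabiliser of `b` -/
theorem ent_of_fix_b (S : RE U a b t φ) {x : Matrix.SpecialLinearGroup (Fin 2) F}
    (h : φ x • b = b) : ent x 0 1 = 0 := by
  have hw := S.wm_swaps (one_ne_zero (α := F))
  have h1 : φ ((wm 1 one_ne_zero)⁻¹ * x * wm 1 one_ne_zero) • a = a := by
    rw [map_mul, map_mul, map_inv, mul_smul, mul_smul, hw.1, h, hw.inv.2]
  have h2 := S.ent_of_fix_a h1
  rw [ent_mul, ent_mul] at h2
  simpa [ent_inv, ent_mul] using h2

/-- `SL(2,F) ∩ D` -/
theorem dg_of_mem (S : RE U a b t φ) {x : Matrix.SpecialLinearGroup (Fin 2) F}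
    (h : φ x ∈ Dab G a b) : ∃ (r : F) (hr : r ≠ 0), x = dg r hr := by
  have h1 := S.ent_of_fix_a h.1
  have h2 := S.ent_of_fix_b h.2
  have h3 := det_eq x
  rw [h1, h2, mul_zero, sub_zero] at h3
  have h4 : ent x 0 0 ≠ 0 := left_ne_zero_of_mul_eq_one h3
  refine ⟨ent x 0 0, h4, ext_ent ?_ ?_ ?_ ?_⟩
  · rfl
  · rw [h2, dg_01]
  · rw [h1, dg_10]
  · rw [dg_11]; exact eq_inv_of_mul_eq_one_right h3

/-- the kernel of `φ` -/
theorem ker (S : RE U a b t φ) {x : Matrix.SpecialLinearGroup (Fin 2) F} (h : φ x = 1) :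
    x = 1 ∨ x = -1 := by
  obtain ⟨r, hr, rfl⟩ := S.dg_of_mem (x := x) (by rw [h]; exact one_mem _)
  have h1 : φ (dg r hr) * φ (up 1) = φ (up (r ^ 2 * 1)) * φ (dg r hr) := by
    rw [← map_mul, dg_up, map_mul]
  rw [h, one_mul, mul_one] at h1
  have h2 : φ (up (r ^ 2 * 1 + -1)) = 1 := by
    rw [← up_mul, map_mul, ← h1, ← map_mul, up_mul, add_neg_cancel, up_zero, map_one]
  have h3 := S.inj _ h2
  have h4 : (r - 1) * (r + 1) = 0 := by linear_combination h3
  rcases mul_eq_zero.1 h4 with h5 | h5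
  · left
    have h6 : r = 1 := by linear_combination h5
    subst h6
    refine ext_ent ?_ ?_ ?_ ?_ <;> simp
  · right
    have h6 : r = -1 := by linear_combination h5
    subst h6
    have e : ∀ i j, ent (-1 : Matrix.SpecialLinearGroup (Fin 2) F) i j = - ent 1 i j := by
      intro i j
      simp [ent]
    refine ext_ent ?_ ?_ ?_ ?_ <;> simp [e]

theorem eq_or (S : RE U a b t φ) {x y : Matrix.SpecialLinearGroup (Fin 2) F} (h : φ x = φ y) :
    x = y ∨ x = -y := by
  have h1 : φ (x * y⁻¹) = 1 := by rw [map_mul, map_inv, h, mul_inv_cancel]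
  rcases S.ker h1 with h2 | h2
  · left; exact mul_inv_eq_one.1 h2
  · right
    rw [mul_inv_eq_iff_eq_mul] at h2
    rw [h2, neg_mul, one_mul]

/-! ### 2-elements -/

theorem sq_of_two_pow (S : RE U a b t φ) {g : G} {e : ℕ} (h : g ^ 2 ^ e = 1) : g * g = 1 := by
  have : Fact (Nat.Prime 2) := ⟨Nat.prime_two⟩
  have h1 : IsPGroup 2 (zpowers g) := by
    rintro ⟨x, n, rfl⟩
    refine ⟨e, Subtype.ext ?_⟩
    change (g ^ n) ^ 2 ^ e = 1
    rw [← zpow_natCast, ← zpow_mul, mul_comm, zpow_mul, zpow_natCast, h, one_zpow]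
  obtain ⟨P, hP⟩ := h1.exists_le_sylow
  exact (S.syl P).2 g (hP (mem_zpowers g))

theorem exists_odd (S : RE U a b t φ) [Finite G] (g : G) : ∃ m, Odd m ∧ g ^ m * g ^ m = 1 := by
  obtain ⟨e, m, hm, he⟩ := Nat.exists_eq_two_pow_mul_odd (orderOf_pos g).ne'
  refine ⟨m, hm, S.sq_of_two_pow (e := e) ?_⟩
  rw [← pow_mul, mul_comm, ← he, pow_orderOf_eq_one]

theorem D_pow (S : RE U a b t φ) [Finite G] {d : G} (hd : d ∈ Dab G a b) :
    ∃ m, Odd m ∧ (d ^ m = 1 ∨ d ^ m = t) := by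
  obtain ⟨m, hm, h⟩ := S.exists_odd d
  exact ⟨m, hm, S.unique _ (pow_mem hd m) h⟩

theorem neg_one_eq : (-1 : Matrix.SpecialLinearGroup (Fin 2) F) * -1 = 1 := by
  rw [neg_mul_neg, one_mul]

theorem wm_mul_self {r : F} (hr : r ≠ 0) : wm r hr * wm r hr = -1 := by
  have e : ∀ i j, ent (-1 : Matrix.SpecialLinearGroup (Fin 2) F) i j = - ent 1 i j := by
    intro i j
    simp [ent]
  refine ext_ent ?_ ?_ ?_ ?_ <;> simp [ent_mul, e, hr]

theorem wm_sq (S : RE U a b t φ) {r : F} (hr : r ≠ 0) : φ (wm r hr) * φ (wm r hr) = 1 := by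
  rw [← map_mul, wm_mul_self, S.neg]

theorem neg_dg {r : F} (hr : r ≠ 0) : -dg r hr = dg (-r) (neg_ne_zero.2 hr) := by
  have e : ∀ (x : Matrix.SpecialLinearGroup (Fin 2) F) i j, ent (-x) i j = - ent x i j := by
    intro x i j
    simp [ent]
  refine ext_ent ?_ ?_ ?_ ?_ <;> simp [e, inv_neg]

theorem neg_wm {r : F} (hr : r ≠ 0) : -wm r hr = wm (-r) (neg_ne_zero.2 hr) := by
  have e : ∀ (x : Matrix.SpecialLinearGroup (Fin 2) F) i j, ent (-x) i j = - ent x i j := by
    intro x i j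
    simp [ent]
  refine ext_ent ?_ ?_ ?_ ?_ <;> simp [e, inv_neg]

theorem map_neg' (S : RE U a b t φ) (x : Matrix.SpecialLinearGroup (Fin 2) F) : φ (-x) = φ x := by
  have h : -x = -1 * x := by rw [neg_mul, one_mul]
  rw [h, map_mul, S.neg, one_mul]

theorem wm_eq_iff (S : RE U a b t φ) {r s : F} (hr : r ≠ 0) (hs : s ≠ 0) :
    φ (wm r hr) = φ (wm s hs) ↔ r = s ∨ r = -s := by
  constructor
  · intro h
    rcases S.eq_or h with h1 | h1
    · left
      have := congrArg (fun x => ent x 0 1) h1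
      simpa using this
    · right
      rw [neg_wm] at h1
      have := congrArg (fun x => ent x 0 1) h1
      simpa using this
  · rintro (rfl | rfl)
    · rfl
    · rw [← S.map_neg' (wm s hs), neg_wm]

theorem dg_eq_one_iff (S : RE U a b t φ) {r : F} (hr : r ≠ 0) :
    φ (dg r hr) = 1 ↔ r = 1 ∨ r = -1 := by
  have e1 : dg (1 : F) one_ne_zero = 1 := by
    refine ext_ent ?_ ?_ ?_ ?_ <;> simp
  constructor
  · intro h
    rcases S.ker h with h1 | h1
    · left
      have := congrArg (fun x => ent x 0 0) h1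
      simpa using this
    · right
      rw [← e1, neg_dg] at h1
      have := congrArg (fun x => ent x 0 0) h1
      simpa using this
  · rintro (rfl | rfl)
    · rw [e1, map_one]
    · rw [← neg_dg one_ne_zero, e1, S.neg]

theorem dg_mul {r s : F} (hr : r ≠ 0) (hs : s ≠ 0) :
    dg r hr * dg s hs = dg (r * s) (mul_ne_zero hr hs) := by
  refine ext_ent ?_ ?_ ?_ ?_ <;> simp [ent_mul, mul_comm]

/-- `-1` is not a square -/
theorem not_sq (S : RE U a b t φ) : ¬ IsSquare (-1 : F) := by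
  rintro ⟨i, hi⟩
  have hi0 : i ≠ 0 := by
    rintro rfl
    rw [mul_zero] at hi
    exact one_ne_zero (neg_eq_zero.1 hi)
  have h1 : φ (dg i hi0) * φ (dg i hi0) = 1 := by
    rw [← map_mul, dg_mul]
    rw [S.dg_eq_one_iff]
    exact Or.inr hi.symm
  rcases S.unique _ (S.dg_mem hi0) h1 with h2 | h2
  · rcases (S.dg_eq_one_iff hi0).1 h2 with h3 | h3
    · rw [h3, mul_one] at hi
      apply S.two
      linear_combination -hi
    · rw [h3, neg_mul_neg, mul_one] at hi
      apply S.two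
      linear_combination -hi
  · exact S.not_mem _ h2

/-- an involution interchanging `a` and `b` -/
theorem swap_invol (S : RE U a b t φ) [Finite G] {y : G} (hy : y * y = 1) (hs : Swaps y a b) :
    ∃ (r : F) (hr : r ≠ 0), y = φ (wm r hr) ∨ y = t * φ (wm r hr) := by
  set w : G := φ (wm 1 one_ne_zero) with hw
  have hws : Swaps w a b := S.wm_swaps one_ne_zero
  have hw2 : w * w = 1 := S.wm_sq one_ne_zero
  have hwi : w⁻¹ = w := inv_eq_of_mul_eq_one_left hw2
  obtain ⟨d, hdd⟩ : ∃ d, d = y * w := ⟨_, rfl⟩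
  have hd : d ∈ Dab G a b := by rw [hdd]; exact hs.mul hws
  have hyd : y = d * w := by rw [hdd, mul_assoc, hw2, mul_one]
  obtain ⟨x₁, hx₁⟩ := S.normalises (S.comm_D hd) (wm 1 one_ne_zero)
  rw [← hw] at hx₁
  have h2 : d * d = φ (x₁⁻¹ * wm 1 one_ne_zero) := by
    rw [map_mul, map_inv, ← hw, ← hx₁]
    have h3 : d * w * d⁻¹ * (d * d) * w = 1 := by
      calc d * w * d⁻¹ * (d * d) * w = (d * w) * (d * w) := by group
        _ = 1 := by rw [← hyd, hy]
    calc d * d = (d * w * d⁻¹)⁻¹ * (d * w * d⁻¹ * (d * d) * w) * w⁻¹ := by group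
      _ = (d * w * d⁻¹)⁻¹ * w := by rw [h3, mul_one, hwi]
  obtain ⟨m, ⟨j, rfl⟩, hm⟩ := S.D_pow hd
  have h4 : d = d ^ (2 * j + 1) * (d * d)⁻¹ ^ j := by
    have : d ^ (2 * j + 1) = d * (d * d) ^ j := by
      rw [pow_succ', pow_mul, sq]
    rw [this, mul_assoc, inv_pow, mul_inv_cancel, mul_one]
  obtain ⟨x₃, hx₃⟩ : ∃ x₃, d = φ x₃ ∨ d = t * φ x₃ := by
    refine ⟨(x₁⁻¹ * wm 1 one_ne_zero)⁻¹ ^ j, ?_⟩
    rw [h2] at h4
    rcases hm with hm | hm
    · left
      rw [hm, one_mul] at h4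
      rw [map_pow, map_inv]
      exact h4
    · right
      rw [hm] at h4
      rw [map_pow, map_inv]
      exact h4
  have hx₄ : φ x₃ ∈ Dab G a b := by
    rcases hx₃ with h5 | h5
    · rw [← h5]; exact hd
    · have : φ x₃ = t⁻¹ * d := by rw [h5]; group
      rw [this]
      exact mul_mem (inv_mem S.t_mem) hd
  obtain ⟨r, hr, rfl⟩ := S.dg_of_mem hx₄
  refine ⟨r, hr, ?_⟩
  have h6 : wm r hr = dg r hr * wm 1 one_ne_zero := by
    refine ext_ent ?_ ?_ ?_ ?_ <;> simp [ent_mul]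
  rw [h6, map_mul, ← hw, hyd]
  rcases hx₃ with h5 | h5
  · left; rw [← h5]
  · right; rw [h5]; group

section count

variable [Finite F]

theorem isSquare_or (S : RE U a b t φ) (r : F) : IsSquare r ∨ IsSquare (-r) := by
  by_contra hc
  push Not at hc
  have := Fintype.ofFinite F
  have h2 : ringChar F ≠ 2 := by
    intro h
    exact S.two (by
      have := ringChar.Nat.cast_ringChar (R := F)
      rw [h] at this
      exact_mod_cast this)
  classical
  have hr0 : r ≠ 0 := by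
    rintro rfl
    exact hc.1 (IsSquare.zero)
  have e1 := (quadraticChar_neg_one_iff_not_isSquare (F := F) (a := r)).2 hc.1
  have e2 := (quadraticChar_neg_one_iff_not_isSquare (F := F) (a := -1)).2 S.not_sq
  have e3 := (quadraticChar_neg_one_iff_not_isSquare (F := F) (a := -r)).2 hc.2
  have e4 : -r = -1 * r := by ring
  rw [e4, map_mul, e1, e2] at e3
  norm_num at e3

theorem card_swap [Finite G] [DecidableEq F] (S : RE U a b t φ) :
    Nat.card {s : G // s * s = 1 ∧ Swaps s a b} = Nat.card Fˣ := by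
  classical
  symm
  refine Nat.card_congr (Equiv.ofBijective (fun r : Fˣ =>
    (if IsSquare (r : F) then ⟨φ (wm r r.ne_zero), S.wm_sq _, S.wm_swaps _⟩
      else ⟨t * φ (wm r r.ne_zero), by
        calc t * φ (wm r r.ne_zero) * (t * φ (wm r r.ne_zero)) =
            t * (φ (wm r r.ne_zero) * t) * φ (wm r r.ne_zero) := by group
          _ = (t * t) * (φ (wm r r.ne_zero) * φ (wm r r.ne_zero)) := by
            rw [← S.comm_range]; group
          _ = 1 := by rw [S.t_sq, S.wm_sq, one_mul], (S.wm_swaps r.ne_zero).D_mul S.t_mem⟩ :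
      {s : G // s * s = 1 ∧ Swaps s a b})) ⟨?_, ?_⟩)
  · intro r s hrs
    have key : ∀ (r s : Fˣ), φ (wm (r : F) r.ne_zero) = φ (wm (s : F) s.ne_zero) →
        (IsSquare (r : F) ↔ IsSquare (s : F)) → r = s := by
      intro r s h1 h2
      rcases (S.wm_eq_iff r.ne_zero s.ne_zero).1 h1 with h3 | h3
      · exact Units.ext h3
      · exfalso
        rcases S.isSquare_or (r : F) with h4 | h4
        · have h5 := h2.1 h4
          have h6 : IsSquare ((r : F) / s) := h4.div h5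
          rw [h3, neg_div, div_self s.ne_zero] at h6
          exact S.not_sq h6
        · rw [h3, neg_neg] at h4
          have h5 := h2.2 h4
          have h6 : IsSquare ((r : F) / s) := h5.div h4
          rw [h3, neg_div, div_self s.ne_zero] at h6
          exact S.not_sq h6
    by_cases hr : IsSquare (r : F) <;> by_cases hs : IsSquare (s : F) <;>
      simp only [hr, hs, if_true, if_false, Subtype.mk.injEq] at hrs
    · exact key r s hrs (by simp [hr, hs])
    · exfalso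
      apply S.not_mem (wm (r : F) r.ne_zero * (wm (s : F) s.ne_zero)⁻¹)
      rw [map_mul, map_inv, hrs]; group
    · exfalso
      apply S.not_mem (wm (s : F) s.ne_zero * (wm (r : F) r.ne_zero)⁻¹)
      rw [map_mul, map_inv, ← hrs]; group
    · exact key r s (mul_left_cancel hrs) (by simp [hr, hs])
  · rintro ⟨y, hy, hs⟩
    obtain ⟨r, hr, h⟩ := S.swap_invol hy hs
    rcases h with h | h
    · rcases S.isSquare_or r with h1 | h1
      · refine ⟨Units.mk0 r hr, ?_⟩
        simp only [Units.val_mk0, h1, if_true, h]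
      · refine ⟨Units.mk0 (-r) (neg_ne_zero.2 hr), ?_⟩
        simp only [Units.val_mk0, h1, if_true, h, Subtype.mk.injEq]
        exact (S.wm_eq_iff _ _).2 (Or.inr rfl)
    · rcases S.isSquare_or r with h1 | h1
      · refine ⟨Units.mk0 (-r) (neg_ne_zero.2 hr), ?_⟩
        have h2 : ¬ IsSquare (-r) := by
          intro h3
          have h6 : IsSquare (-r / r) := h3.div h1
          rw [neg_div, div_self hr] at h6
          exact S.not_sq h6
        simp only [Units.val_mk0, h2, if_false, h, Subtype.mk.injEq]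
        rw [(S.wm_eq_iff (neg_ne_zero.2 hr) hr).2 (Or.inr rfl)]
      · refine ⟨Units.mk0 r hr, ?_⟩
        have h2 : ¬ IsSquare r := by
          intro h3
          have h6 : IsSquare (-r / r) := h1.div h3
          rw [neg_div, div_self hr] at h6
          exact S.not_sq h6
        simp only [Units.val_mk0, h2, if_false, h]

theorem card_fixedBy (S : RE U a b t φ) : Nat.card (fixedBy Ω t) = Nat.card F + 1 := by
  have e : Option F ≃ fixedBy Ω t := by
    refine Equiv.ofBijective (fun o => ⟨o.elim a (fun z => φ (up z) • b), ?_⟩) ⟨?_, ?_⟩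
    · rw [mem_fixedBy, S.fix_iff]
      rcases o with _ | z
      · exact Or.inl rfl
      · exact Or.inr ⟨z, rfl⟩
    · have hne : ∀ z, φ (up z) • b ≠ a := by
        intro z hz
        have h1 : φ (up z) • a = a := S.split.fix (S.up_mem z)
        exact S.ne (smul_left_cancel _ (hz.trans h1.symm))
      rintro (_ | z) (_ | z') h
      · rfl
      · exact absurd (congrArg Subtype.val h).symm (hne z')
      · exact absurd (congrArg Subtype.val h) (hne z)
      · have h1 : φ (up z) • b = φ (up z') • b := congrArg Subtype.val h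
        have h2 := S.split.eq_of_smul_eq S.ne (S.up_mem z) (S.up_mem z') h1
        have h3 : φ (up (z + -z')) = 1 := by
          rw [← up_mul, map_mul, h2, ← map_mul, up_mul, add_neg_cancel, up_zero, map_one]
        have h4 := S.inj _ h3
        congr 1
        linear_combination h4
    · rintro ⟨c, hc⟩
      rcases (S.fix_iff c).1 hc with rfl | ⟨z, rfl⟩
      · exact ⟨none, rfl⟩
      · exact ⟨some z, rfl⟩
  rw [← Nat.card_congr e, Finite.card_option]

omit [Finite F] in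
theorem conj_iff (S : RE U a b t φ) (s : G) : IsConj t s ↔ s * s = 1 ∧ s ≠ 1 := by
  constructor
  · intro h
    obtain ⟨g, rfl⟩ := isConj_iff.1 h
    refine ⟨?_, fun hc => S.t_ne (conj_eq_one_iff.1 hc)⟩
    calc g * t * g⁻¹ * (g * t * g⁻¹) = g * (t * t) * g⁻¹ := by group
      _ = 1 := by rw [S.t_sq]; group
  · exact fun h => S.conj s h.1 h.2

/-- **`|U a| = q ^ 3`** -/
theorem card_U [Finite G] [Finite Ω] (S : RE U a b t φ) : Nat.card (U a) = Nat.card F ^ 3 ∧
    Nat.card {s : G // IsConj t s} = Nat.card F ^ 2 * (Nat.card F ^ 2 + 1 - Nat.card F) := by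
  classical
  have hq1 : 1 < Nat.card F := Finite.one_lt_card
  have h1 := S.split.card_fix_pairs S.ne t
  have h2 := S.split.card_swap_pairs S.ne S.t_sq
  have h3 : Nat.card {s : G // IsConj t s ∧ s ∈ Dab G a b} = 1 := by
    rw [Nat.card_eq_one_iff_unique]
    refine ⟨⟨?_⟩, ⟨t, IsConj.refl t, S.t_mem⟩⟩
    have key : ∀ x : {s : G // IsConj t s ∧ s ∈ Dab G a b}, (x : G) = t := by
      rintro ⟨x, hx, hx'⟩
      obtain ⟨h4, h5⟩ := (S.conj_iff x).1 hx
      exact (S.unique x hx' h4).resolve_left h5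
    intro x y
    exact Subtype.ext ((key x).trans (key y).symm)
  have h4 : Nat.card {s : G // IsConj t s ∧ Swaps s a b} = Nat.card F - 1 := by
    have e : {s : G // IsConj t s ∧ Swaps s a b} ≃ {s : G // s * s = 1 ∧ Swaps s a b} := by
      refine Equiv.subtypeEquivRight fun s => ?_
      rw [S.conj_iff]
      constructor
      · rintro ⟨⟨h5, -⟩, h6⟩
        exact ⟨h5, h6⟩
      · rintro ⟨h5, h6⟩
        refine ⟨⟨h5, ?_⟩, h6⟩
        rintro rfl
        apply S.ne
        rw [← h6.1, one_smul]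
    rw [Nat.card_congr e, S.card_swap, Nat.card_units]
  rw [h3, S.card_fixedBy, S.split.card a, mul_one] at h1
  rw [h4, S.card_fixedBy, S.split.card a] at h2
  obtain ⟨q, hq⟩ : ∃ q, Nat.card F = q + 2 := ⟨Nat.card F - 2, by omega⟩
  obtain ⟨N, hN⟩ : ∃ N, N = Nat.card (U a) := ⟨_, rfl⟩
  obtain ⟨J, hJ⟩ : ∃ J, J = Nat.card {s : G // IsConj t s} := ⟨_, rfl⟩
  have hN1 : 1 < N := by
    have := S.split.two_lt_card a
    rw [S.split.card a] at this
    omega
  rw [← hN, ← hJ, hq] at h1 h2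
  rw [← hN, ← hJ, hq]
  simp only [Nat.add_sub_cancel, show q + 2 - 1 = q + 1 by omega, Nat.add_sub_add_right] at h1 h2
  have hqN : q + 2 ≤ N := by
    by_contra hc
    have : N - (q + 2) = 0 := by omega
    rw [this, mul_zero] at h2
    have : 0 < (N + 1) * N * (q + 1) := by positivity
    omega
  clear hN hJ
  obtain ⟨M, rfl⟩ : ∃ M, N = M + (q + 2) := ⟨N - (q + 2), by omega⟩
  rw [Nat.add_sub_cancel] at h2
  have hJ0 : 0 < J := by
    rcases Nat.eq_zero_or_pos J with h5 | h5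
    · rw [h5, zero_mul] at h1
      have : 0 < (M + (q + 2) + 1) * (M + (q + 2)) := by positivity
      omega
    · exact h5
  -- `J M = J (q+1)(q+2)(q+3)`
  have h5 : J * M = J * ((q + 1) * ((q + 3) * (q + 2))) := by
    calc J * M = (M + (q + 2) + 1) * (M + (q + 2)) * (q + 1) := h2
      _ = J * ((q + 2 + 1) * (q + 2)) * (q + 1) := by rw [h1]
      _ = _ := by ring
  have h6 : M = (q + 1) * ((q + 3) * (q + 2)) := Nat.eq_of_mul_eq_mul_left hJ0 h5
  have h7 : M + (q + 2) = (q + 2) ^ 3 := by rw [h6]; ring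
  refine ⟨h7, ?_⟩
  rw [h7] at h1
  have h8 : (q + 2) ^ 2 + 1 - (q + 2) = q ^ 2 + 3 * q + 3 := by
    have : (q + 2) ^ 2 + 1 = (q ^ 2 + 3 * q + 3) + (q + 2) := by ring
    rw [this, Nat.add_sub_cancel]
  rw [h8]
  have h9 : 0 < (q + 2 + 1) * (q + 2) := by positivity
  refine Nat.eq_of_mul_eq_mul_right h9 ?_
  rw [h1]
  ring

end count

end RE

end Cfsg.Agent.HKS.ReeEnd
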