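import Mathlib
import Cfsg.Agent.HKS.ReeEnd1

/-!
# Strongly split groups with `C_G(t) ≥ ⟨t⟩ × PSL(2,q)`: the group `A₁ = C_D(w)`

`D = (D ∩ L) A₁`, `A₁` centralises `φ(up 1)`, hence `φ(x)` for all `x` with entries in the prime field; the Sylow
2-subgroup `⟨t⟩ × ⟨w, w'⟩`, `C_G(S) = (S ∩ L) A₁`.
-/

set_option autoImplicit false

namespace Cfsg.Agent.HKS.ReeEnd

open Subgroup MulAction Cfsg.Agent.HKS
open Cfsg.Agent.Lib.SL2Mat

/-- the involution `w` -/
abbrev ww {G F : Type*} [Group G] [Field F] (φ : Matrix.SpecialLinearGroup (Fin 2) F →* G) : G :=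
  φ (wm 1 one_ne_zero)

/-- the group `A₁ = C_D(w)` -/
def A₁ {G Ω F : Type*} [Group G] [MulAction G Ω] [Field F] (a b : Ω)
    (φ : Matrix.SpecialLinearGroup (Fin 2) F →* G) : Subgroup G :=
  Dab G a b ⊓ centralizer {ww φ}

section mats

variable {F : Type*} [Field F]

/-- the matrix `(α β; β -α)` -/
def jm (α β : F) (h : α ^ 2 + β ^ 2 = -1) : Matrix.SpecialLinearGroup (Fin 2) F :=
  mk α β β (-α) (by linear_combination -h)

@[simp] theorem jm_00 (α β : F) (h : α ^ 2 + β ^ 2 = -1) : ent (jm α β h) 0 0 = α := rfl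
@[simp] theorem jm_01 (α β : F) (h : α ^ 2 + β ^ 2 = -1) : ent (jm α β h) 0 1 = β := rfl
@[simp] theorem jm_10 (α β : F) (h : α ^ 2 + β ^ 2 = -1) : ent (jm α β h) 1 0 = β := rfl
@[simp] theorem jm_11 (α β : F) (h : α ^ 2 + β ^ 2 = -1) : ent (jm α β h) 1 1 = -α := rfl

@[simp] theorem ent_neg (x : Matrix.SpecialLinearGroup (Fin 2) F) (i j : Fin 2) :
    ent (-x) i j = - ent x i j := by
  simp [ent]

theorem ent_neg_one (i j : Fin 2) :
    ent (-1 : Matrix.SpecialLinearGroup (Fin 2) F) i j = - ent 1 i j := ent_neg 1 i j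

theorem jm_mul_self (α β : F) (h : α ^ 2 + β ^ 2 = -1) : jm α β h * jm α β h = -1 := by
  refine ext_ent ?_ ?_ ?_ ?_ <;> simp [ent_mul]
  · linear_combination h
  · ring
  · ring
  · linear_combination h

theorem wm_jm (α β : F) (h : α ^ 2 + β ^ 2 = -1) :
    wm 1 one_ne_zero * jm α β h = -(jm α β h * wm 1 one_ne_zero) := by
  refine ext_ent ?_ ?_ ?_ ?_ <;> simp [ent_mul]

/-- the matrices commuting with `wm 1` up to sign -/
theorem comm_wm {x : Matrix.SpecialLinearGroup (Fin 2) F}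
    (h : x * wm 1 one_ne_zero = wm 1 one_ne_zero * x ∨
      x * wm 1 one_ne_zero = -(wm 1 one_ne_zero * x)) :
    (ent x 1 0 = - ent x 0 1 ∧ ent x 1 1 = ent x 0 0) ∨
      (ent x 1 0 = ent x 0 1 ∧ ent x 1 1 = - ent x 0 0) := by
  rcases h with h | h
  · left
    have h1 := congrArg (fun y => ent y 0 0) h
    have h2 := congrArg (fun y => ent y 0 1) h
    simp [ent_mul] at h1 h2
    exact ⟨by linear_combination -h1, h2.symm⟩
  · right
    have h1 := congrArg (fun y => ent y 0 0) h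
    have h2 := congrArg (fun y => ent y 0 1) h
    simp [ent_mul] at h1 h2
    exact ⟨h1.symm, by linear_combination h2⟩

end mats

namespace RE

variable {G Ω F : Type*} [Group G] [MulAction G Ω] [Field F] {U : Ω → Subgroup G} {a b : Ω}
  {t : G} {φ : Matrix.SpecialLinearGroup (Fin 2) F →* G}

theorem mem_A₁ {x : G} : x ∈ A₁ a b φ ↔ x ∈ Dab G a b ∧ x * ww φ = ww φ * x := by
  rw [A₁, mem_inf, mem_centralizer_singleton_iff]

theorem ww_swaps (S : RE U a b t φ) : Swaps (ww φ) a b := S.wm_swaps one_ne_zero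

theorem ww_sq (S : RE U a b t φ) : ww φ * ww φ = 1 := S.wm_sq one_ne_zero

theorem ww_ne (S : RE U a b t φ) : ww φ ≠ 1 := by
  intro h
  apply S.ne
  have := S.ww_swaps.1
  rw [h, one_smul] at this
  exact this.symm

theorem t_mem_A₁ (S : RE U a b t φ) : t ∈ A₁ a b φ :=
  mem_A₁.2 ⟨S.t_mem, S.comm_range _⟩

/-- **`D = (D ∩ L) A₁`** -/
theorem exists_dg_mul (S : RE U a b t φ) [Finite G] [Finite F] {d : G} (hd : d ∈ Dab G a b) :
    ∃ (r : F) (hr : r ≠ 0), ∃ x ∈ A₁ a b φ, d = φ (dg r hr) * x := by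
  obtain ⟨x₁, hx₁⟩ := S.normalises (S.comm_D hd) (wm 1 one_ne_zero)
  have hsw : Swaps (d * ww φ * d⁻¹) a b := (S.ww_swaps.D_mul hd).mul_D (inv_mem hd)
  have hsq : (d * ww φ * d⁻¹) * (d * ww φ * d⁻¹) = 1 := by
    calc (d * ww φ * d⁻¹) * (d * ww φ * d⁻¹) = d * (ww φ * ww φ) * d⁻¹ := by group
      _ = 1 := by rw [S.ww_sq]; group
  obtain ⟨s, hs, h⟩ := S.swap_invol hsq hsw
  have h1 : d * ww φ * d⁻¹ = φ (wm s hs) := by
    rcases h with h | h
    · exact h
    · exfalso
      apply S.not_mem (x₁ * (wm s hs)⁻¹)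
      rw [map_mul, map_inv, ← hx₁, h]; group
  obtain ⟨ρ, hρ0, hρ⟩ : ∃ (ρ : F) (hρ : ρ ≠ 0), d * ww φ * d⁻¹ = φ (dg ρ hρ) * ww φ * (φ (dg ρ hρ))⁻¹ := by
    have key : ∀ (ρ : F) (hρ : ρ ≠ 0), φ (dg ρ hρ) * ww φ * (φ (dg ρ hρ))⁻¹ =
        φ (wm (ρ * ρ) (mul_ne_zero hρ hρ)) := by
      intro ρ hρ
      rw [← map_mul, ← map_inv, ← map_mul]
      congr 1
      rw [mul_inv_eq_iff_eq_mul]
      refine ext_ent ?_ ?_ ?_ ?_ <;> simp [ent_mul]
      · rw [mul_assoc, inv_mul_cancel₀ hρ, mul_one]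
    rcases S.isSquare_or s with ⟨ρ, h2⟩ | ⟨ρ, h2⟩
    · have hρ : ρ ≠ 0 := by
        rintro rfl
        rw [mul_zero] at h2
        exact hs h2
      refine ⟨ρ, hρ, ?_⟩
      rw [key, h1]
      exact (S.wm_eq_iff _ _).2 (Or.inl h2)
    · have hρ : ρ ≠ 0 := by
        rintro rfl
        rw [mul_zero] at h2
        exact hs (neg_eq_zero.1 h2)
      refine ⟨ρ, hρ, ?_⟩
      rw [key, h1]
      exact (S.wm_eq_iff _ _).2 (Or.inr (by rw [← h2, neg_neg]))
  refine ⟨ρ, hρ0, (φ (dg ρ hρ0))⁻¹ * d, mem_A₁.2 ⟨mul_mem (inv_mem (S.dg_mem hρ0)) hd, ?_⟩, by group⟩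
  calc (φ (dg ρ hρ0))⁻¹ * d * ww φ = (φ (dg ρ hρ0))⁻¹ * (d * ww φ * d⁻¹) * d := by group
    _ = ww φ * ((φ (dg ρ hρ0))⁻¹ * d) := by rw [hρ]; group

/-- elements of `C(t)` -/
theorem exists_mul_A₁ (S : RE U a b t φ) [Finite G] [Finite F] {g : G} (hg : t * g = g * t) :
    ∃ x, ∃ y ∈ A₁ a b φ, g = φ x * y := by
  obtain ⟨x, d, hd, rfl⟩ := S.exists_mul hg
  obtain ⟨r, hr, y, hy, rfl⟩ := S.exists_dg_mul hd
  exact ⟨x * dg r hr, y, hy, by rw [map_mul, mul_assoc]⟩

theorem comm_A₁ (S : RE U a b t φ) {x : G} (hx : x ∈ A₁ a b φ) : t * x = x * t :=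
  S.comm_D (mem_A₁.1 hx).1

/-- `A₁ ∩ L = 1` -/
theorem A₁_range (S : RE U a b t φ) {x : Matrix.SpecialLinearGroup (Fin 2) F}
    (hx : φ x ∈ A₁ a b φ) : φ x = 1 := by
  obtain ⟨h1, h2⟩ := mem_A₁.1 hx
  obtain ⟨r, hr, rfl⟩ := S.dg_of_mem h1
  rw [← map_mul, ← map_mul] at h2
  rw [S.dg_eq_one_iff]
  rcases S.eq_or h2 with h3 | h3
  · have h4 := congrArg (fun y => ent y 0 1) h3
    simp [ent_mul] at h4
    have h5 : (r - 1) * (r + 1) = 0 := by
      field_simp at h4
      linear_combination h4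
    rcases mul_eq_zero.1 h5 with h6 | h6
    · left; linear_combination h6
    · right; linear_combination h6
  · exfalso
    have h4 := congrArg (fun y => ent y 0 1) h3
    simp [ent_mul] at h4
    apply S.not_sq
    refine ⟨r, ?_⟩
    field_simp at h4
    linear_combination -h4

/-- **elements of `A₁` centralise `φ(up 1)`** -/
theorem comm_up_one (S : RE U a b t φ) [Finite G] {x : G} (hx : x ∈ A₁ a b φ) :
    x * φ (up 1) * x⁻¹ = φ (up 1) := by
  obtain ⟨h1, h2⟩ := mem_A₁.1 hx
  obtain ⟨l, hl⟩ := S.D_up h1 1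
  have hwl : ww φ * φ (up l) * (ww φ)⁻¹ = φ (lo (-l)) := by
    rw [← map_mul, ← map_inv, ← map_mul]
    congr 1
    rw [mul_inv_eq_iff_eq_mul, wm_up]
    simp
  have hw1 : ww φ * φ (up 1) * (ww φ)⁻¹ = φ (lo (-1)) := by
    rw [← map_mul, ← map_inv, ← map_mul]
    congr 1
    rw [mul_inv_eq_iff_eq_mul, wm_up]
    simp
  have h2' : x * ww φ * x⁻¹ = ww φ := by rw [h2]; group
  have h3 : x * φ (lo (-1)) * x⁻¹ = φ (lo (-l)) := by
    rw [← hw1, ← hwl, ← hl]
    calc x * (ww φ * φ (up 1) * (ww φ)⁻¹) * x⁻¹ =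
        (x * ww φ * x⁻¹) * (x * φ (up 1) * x⁻¹) * (x * ww φ * x⁻¹)⁻¹ := by group
      _ = _ := by rw [h2']
  have h4 : wm (1 : F) one_ne_zero = lo (-1) * up 1 * lo (-1) := by
    rw [wm_eq]; simp
  have h5 : φ (lo (-l) * up l * lo (-l)) = φ (wm 1 one_ne_zero) := by
    change _ = ww φ
    rw [← h2', map_mul, map_mul, ← h3, ← hl]
    rw [show ww φ = φ (lo (-1) * up 1 * lo (-1)) by rw [← h4], map_mul, map_mul]
    group
  have h6 : l = 1 ∨ l = -1 := by
    rcases S.eq_or h5 with h6 | h6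
    · have h7 := congrArg (fun y => ent y 0 1) h6
      simp [ent_mul] at h7
      exact Or.inl h7
    · have h7 := congrArg (fun y => ent y 0 1) h6
      simp [ent_mul] at h7
      exact Or.inr h7
  rcases h6 with rfl | rfl
  · exact hl
  · exfalso
    obtain ⟨m, hm, h7⟩ := S.D_pow h1
    have h8 : ∀ n : ℕ, x ^ n * φ (up 1) * (x ^ n)⁻¹ = φ (up ((-1) ^ n)) := by
      intro n
      induction n with
      | zero => simp
      | succ n ih =>
        have h9 : x * φ (up ((-1) ^ n)) * x⁻¹ = φ (up ((-1) ^ (n + 1))) := by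
          rcases Nat.even_or_odd n with hn | hn
          · rw [hn.neg_one_pow, hl, hn.add_one.neg_one_pow]
          · rw [hn.neg_one_pow, hn.add_one.neg_one_pow]
            have : φ (up (-1)) = (φ (up 1))⁻¹ := by rw [← map_inv, up_inv]
            rw [this] at hl ⊢
            have h10 : x * (φ (up 1))⁻¹ * x⁻¹ = (x * φ (up 1) * x⁻¹)⁻¹ := by group
            rw [h10, hl, inv_inv]
        calc x ^ (n + 1) * φ (up 1) * (x ^ (n + 1))⁻¹ = x * (x ^ n * φ (up 1) * (x ^ n)⁻¹) * x⁻¹ := by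
              rw [pow_succ']; group
          _ = _ := by rw [ih, h9]
    have h10 : φ (up 1) = φ (up (-1)) := by
      have h11 := h8 m
      rw [hm.neg_one_pow] at h11
      rw [← h11]
      rcases h7 with h7 | h7
      · rw [h7]; group
      · rw [h7, S.comm_range]; group
    have h12 : φ (up (1 + 1)) = 1 := by
      rw [← up_mul, map_mul]
      nth_rw 2 [h10]
      rw [← map_mul, up_mul, add_neg_cancel, up_zero, map_one]
    have h13 := S.inj _ h12
    exact S.two (by linear_combination h13)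

theorem conj_up_nat (S : RE U a b t φ) [Finite G] {x : G} (hx : x ∈ A₁ a b φ) (n : ℕ) :
    x * φ (up (n : F)) * x⁻¹ = φ (up (n : F)) := by
  have h : φ (up (n : F)) = φ (up 1) ^ n := by
    induction n with
    | zero => simp [up_zero]
    | succ n ih => rw [Nat.cast_succ, ← up_mul, map_mul, ih, pow_succ]
  rw [h, ← conj_pow, S.comm_up_one hx]

theorem conj_lo_nat (S : RE U a b t φ) [Finite G] {x : G} (hx : x ∈ A₁ a b φ) (n : ℕ) :
    x * φ (lo (n : F)) * x⁻¹ = φ (lo (n : F)) := by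
  have h1 : φ (lo (n : F)) = ww φ * (φ (up (n : F)))⁻¹ * (ww φ)⁻¹ := by
    rw [← map_inv, ← map_mul, ← map_inv, ← map_mul]
    congr 1
    rw [eq_mul_inv_iff_mul_eq, up_inv, wm_up]
    simp
  have h2 : x * ww φ * x⁻¹ = ww φ := by rw [(mem_A₁.1 hx).2]; group
  have h3 := S.conj_up_nat hx n
  calc x * φ (lo (n : F)) * x⁻¹ =
      (x * ww φ * x⁻¹) * (x * φ (up (n : F)) * x⁻¹)⁻¹ * (x * ww φ * x⁻¹)⁻¹ := by rw [h1]; group
    _ = _ := by rw [h2, h3, h1]

/-! ### The prime field -/

theorem exists_nat_div {F : Type*} [Field F] [Finite F] (n m : ℕ) : ∃ k : ℕ, (n : F) / m = k := by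
  have := Fintype.ofFinite F
  by_cases hm : (m : F) = 0
  · exact ⟨0, by rw [hm, div_zero, Nat.cast_zero]⟩
  · refine ⟨n * m ^ (Fintype.card F - 2), ?_⟩
    rw [div_eq_iff hm]
    have h1 := FiniteField.pow_card_sub_one_eq_one (m : F) hm
    have h2 : Fintype.card F - 1 = Fintype.card F - 2 + 1 := by
      have := Fintype.one_lt_card (α := F)
      omega
    rw [h2, pow_succ] at h1
    push_cast
    rw [mul_assoc, h1, mul_one]

theorem exists_nat_neg {F : Type*} [Field F] [Finite F] : ∃ k : ℕ, (-1 : F) = k := by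
  have := Fintype.ofFinite F
  refine ⟨Fintype.card F - 1, ?_⟩
  have h1 := Fintype.one_lt_card (α := F)
  rw [Nat.cast_sub h1.le, FiniteField.cast_card_eq_zero]
  simp

/-- elements of `A₁` centralise `φ(x)` for `x` over the prime field -/
theorem conj_prime (S : RE U a b t φ) [Finite G] [Finite F] {x : G} (hx : x ∈ A₁ a b φ)
    {g : Matrix.SpecialLinearGroup (Fin 2) F} (hc : ent g 1 0 ≠ 0) (hg : ∀ i j, ∃ n : ℕ, ent g i j = n) :
    x * φ g * x⁻¹ = φ g := by
  obtain ⟨k, hk⟩ := exists_nat_neg (F := F)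
  obtain ⟨n₁₀, h₁₀⟩ := hg 1 0
  obtain ⟨n₀₀, h₀₀⟩ := hg 0 0
  obtain ⟨n₁₁, h₁₁⟩ := hg 1 1
  obtain ⟨m₁, hm₁⟩ := exists_nat_div (F := F) (n₀₀ + k) n₁₀
  obtain ⟨m₂, hm₂⟩ := exists_nat_div (F := F) (n₁₁ + k) n₁₀
  have e : g = up (m₁ : F) * lo (n₁₀ : F) * up (m₂ : F) := by
    rw [← hm₁, ← hm₂, Nat.cast_add, Nat.cast_add, ← hk, ← h₁₀, ← h₀₀, ← h₁₁, ← sub_eq_add_neg,
      ← sub_eq_add_neg]
    exact eq_up_lo_up g hc
  have h1 := S.conj_up_nat hx m₁
  have h2 := S.conj_lo_nat hx n₁₀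
  have h3 := S.conj_up_nat hx m₂
  rw [e, map_mul, map_mul]
  calc x * (φ (up (m₁ : F)) * φ (lo (n₁₀ : F)) * φ (up (m₂ : F))) * x⁻¹ =
      (x * φ (up (m₁ : F)) * x⁻¹) * (x * φ (lo (n₁₀ : F)) * x⁻¹) * (x * φ (up (m₂ : F)) * x⁻¹) := by group
    _ = _ := by rw [h1, h2, h3]

/-- `β ≠ 0` if `α² + β² = -1` -/
theorem right_ne (S : RE U a b t φ) {α β : F} (h : α ^ 2 + β ^ 2 = -1) : β ≠ 0 := by
  rintro rfl
  exact S.not_sq ⟨α, by linear_combination -h⟩

theorem left_ne (S : RE U a b t φ) {α β : F} (h : α ^ 2 + β ^ 2 = -1) : α ≠ 0 := by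
  rintro rfl
  exact S.not_sq ⟨β, by linear_combination -h⟩

/-- `w'` with entries in the prime field -/
theorem exists_jm (S : RE U a b t φ) [Finite G] [Finite F] :
    ∃ (α β : F) (h : α ^ 2 + β ^ 2 = -1), ∀ x ∈ A₁ a b φ, x * φ (jm α β h) * x⁻¹ = φ (jm α β h) := by
  have := Fintype.ofFinite F
  obtain ⟨p, hp⟩ := CharP.exists F
  have hpp : NeZero p := ⟨CharP.char_ne_zero_of_finite F p⟩
  obtain ⟨m, n, h⟩ := CharP.sq_add_sq F p (-1)
  have h' : (m : F) ^ 2 + (n : F) ^ 2 = -1 := by rw [h]; simp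
  refine ⟨m, n, h', fun x hx => S.conj_prime hx ?_ ?_⟩
  · rw [jm_10]; exact S.right_ne h'
  · obtain ⟨k, hk⟩ := exists_nat_neg (F := F)
    intro i j
    fin_cases i <;> fin_cases j
    · exact ⟨m, rfl⟩
    · exact ⟨n, rfl⟩
    · exact ⟨n, rfl⟩
    · refine ⟨k * m, ?_⟩
      change -(m : F) = _
      rw [Nat.cast_mul, ← hk]
      ring

/-! ### The Sylow 2-subgroup -/

theorem jm_sq (S : RE U a b t φ) {α β : F} (h : α ^ 2 + β ^ 2 = -1) :
    φ (jm α β h) * φ (jm α β h) = 1 := by
  rw [← map_mul, jm_mul_self, S.neg]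

theorem ww_jm (S : RE U a b t φ) {α β : F} (h : α ^ 2 + β ^ 2 = -1) :
    ww φ * φ (jm α β h) = φ (jm α β h) * ww φ := by
  rw [← map_mul, wm_jm, S.map_neg', map_mul]

theorem jm_ne (S : RE U a b t φ) {α β : F} (h : α ^ 2 + β ^ 2 = -1) : φ (jm α β h) ≠ 1 := by
  intro hc
  rcases S.ker hc with h1 | h1
  · have h2 := congrArg (fun y => ent y 0 1) h1
    simp at h2
    exact S.right_ne h h2
  · have h2 := congrArg (fun y => ent y 0 1) h1
    simp at h2
    exact S.right_ne h h2

theorem jm_ne_ww (S : RE U a b t φ) {α β : F} (h : α ^ 2 + β ^ 2 = -1) : φ (jm α β h) ≠ ww φ := by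
  intro hc
  rcases S.eq_or hc with h1 | h1
  · have h2 := congrArg (fun y => ent y 0 0) h1
    simp at h2
    exact S.left_ne h h2
  · have h2 := congrArg (fun y => ent y 0 0) h1
    simp at h2
    exact S.left_ne h h2

/-- **the Sylow 2-subgroup** `⟨t, w, w'⟩` -/
theorem exists_sylow (S : RE U a b t φ) [Finite G] {α β : F} (h : α ^ 2 + β ^ 2 = -1) :
    ∃ P : Sylow 2 G, (P : Subgroup G) = closure {t, ww φ, φ (jm α β h)} := by
  have : Fact (Nat.Prime 2) := ⟨Nat.prime_two⟩
  set w' := φ (jm α β h) with hw'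
  set K : Subgroup G := closure {t, ww φ, w'} with hK
  have hcomm : ∀ x ∈ ({t, ww φ, w'} : Set G), ∀ y ∈ ({t, ww φ, w'} : Set G), x * y = y * x := by
    have h1 : t * ww φ = ww φ * t := S.comm_range _
    have h2 : t * w' = w' * t := S.comm_range _
    have h3 : ww φ * w' = w' * ww φ := S.ww_jm h
    rintro x (rfl | rfl | rfl) y (rfl | rfl | rfl) <;> first | rfl | assumption | (symm; assumption)
  have hKcomm : ∀ x ∈ K, ∀ y ∈ K, x * y = y * x := by
    have h1 : K ≤ centralizer ({t, ww φ, w'} : Set G) := by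
      rw [hK, closure_le]
      intro x hx
      rw [SetLike.mem_coe, mem_centralizer_iff]
      intro y hy
      exact hcomm y hy x hx
    have h2 : K ≤ centralizer (K : Set G) := by
      rw [hK, closure_le]
      intro x hx
      rw [SetLike.mem_coe, mem_centralizer_iff]
      intro y hy
      exact (mem_centralizer_iff.1 (h1 hy) x hx).symm
    intro x hx y hy
    exact (mem_centralizer_iff.1 (h2 hx) y hy).symm
  have hKsq : ∀ x ∈ K, x * x = 1 := by
    intro x hx
    refine closure_induction (p := fun x _ => x * x = 1) ?_ (by simp) ?_ ?_ hx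
    · rintro x (rfl | rfl | rfl)
      · exact S.t_sq
      · exact S.ww_sq
      · exact S.jm_sq h
    · intro x y hx hy h1 h2
      calc x * y * (x * y) = x * (y * x) * y := by group
        _ = (x * x) * (y * y) := by rw [hKcomm y hy x hx]; group
        _ = 1 := by rw [h1, h2, mul_one]
    · intro x _ h1
      calc x⁻¹ * x⁻¹ = (x * x)⁻¹ := by group
        _ = 1 := by rw [h1, inv_one]
  have hKp : IsPGroup 2 K := by
    intro x
    refine ⟨1, Subtype.ext ?_⟩
    rw [pow_one, sq]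
    exact hKsq x x.2
  obtain ⟨P, hP⟩ := hKp.exists_le_sylow
  refine ⟨P, (eq_of_le_of_card_ge hP ?_).symm⟩
  have h8 : Nat.card (P : Subgroup G) = 8 := (S.syl P).1
  have hdvd : Nat.card K ∣ 8 := by rw [← h8]; exact card_dvd_of_le hP
  have h5 : 5 ≤ Nat.card K := by
    classical
    have ht : t ∈ K := subset_closure (by simp)
    have hw : ww φ ∈ K := subset_closure (by simp)
    have hw1 : w' ∈ K := subset_closure (by simp)
    have hsub : ((({1, t, ww φ, w', t * ww φ} : Finset G) : Set G)) ⊆ (K : Set G) := by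
      intro x hx
      simp only [Finset.coe_insert, Finset.coe_singleton, Set.mem_insert_iff,
        Set.mem_singleton_iff] at hx
      rcases hx with rfl | rfl | rfl | rfl | rfl
      · exact K.one_mem
      · exact ht
      · exact hw
      · exact hw1
      · exact K.mul_mem ht hw
    have hcard : ({1, t, ww φ, w', t * ww φ} : Finset G).card = 5 := by
      have a1 : (1 : G) ≠ t := S.t_ne.symm
      have a2 : (1 : G) ≠ ww φ := S.ww_ne.symm
      have a3 : (1 : G) ≠ w' := (S.jm_ne h).symm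
      have a4 : (1 : G) ≠ t * ww φ := by
        intro hc
        apply S.not_mem (wm 1 one_ne_zero)⁻¹
        rw [map_inv]
        exact (eq_inv_of_mul_eq_one_left hc.symm).symm
      have a5 : t ≠ ww φ := fun hc => S.not_mem _ hc.symm
      have a6 : t ≠ w' := fun hc => S.not_mem _ hc.symm
      have a7 : t ≠ t * ww φ := fun hc => S.ww_ne (mul_eq_left.1 hc.symm)
      have a8 : ww φ ≠ w' := (S.jm_ne_ww h).symm
      have a9 : ww φ ≠ t * ww φ := fun hc => S.t_ne (mul_eq_right.1 hc.symm)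
      have a10 : w' ≠ t * ww φ := by
        intro hc
        apply S.not_mem (jm α β h * (wm 1 one_ne_zero)⁻¹)
        rw [map_mul, map_inv, ← hw', hc]; group
      rw [Finset.card_insert_of_notMem, Finset.card_insert_of_notMem, Finset.card_insert_of_notMem,
        Finset.card_insert_of_notMem, Finset.card_singleton]
      · simp only [Finset.mem_singleton]; exact a10
      · simp only [Finset.mem_insert, Finset.mem_singleton, not_or]; exact ⟨a8, a9⟩
      · simp only [Finset.mem_insert, Finset.mem_singleton, not_or]; exact ⟨a5, a6, a7⟩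
      · simp only [Finset.mem_insert, Finset.mem_singleton, not_or]; exact ⟨a1, a2, a3, a4⟩
    rw [← hcard, ← Set.ncard_coe_finset]
    exact Set.ncard_le_ncard hsub (Set.toFinite _)
  rw [h8]
  have := Nat.le_of_dvd (by norm_num) hdvd
  interval_cases h9 : Nat.card K <;> revert hdvd <;> decide

/-- elements of `L` commuting with `w` and `w'` -/
theorem of_comm (S : RE U a b t φ) {α β : F} (h : α ^ 2 + β ^ 2 = -1)
    {g : Matrix.SpecialLinearGroup (Fin 2) F} (h1 : φ g * ww φ = ww φ * φ g)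
    (h2 : φ g * φ (jm α β h) = φ (jm α β h) * φ g) :
    φ g = 1 ∨ φ g = ww φ ∨ φ g = φ (jm α β h) ∨ φ g = ww φ * φ (jm α β h) := by
  have hβ := S.right_ne h
  have hα := S.left_ne h
  have h2' := S.two
  rw [← map_mul, ← map_mul] at h1 h2
  have hd := det_eq g
  have k1 := S.eq_or h1
  have k2 := S.eq_or h2
  obtain ⟨x, hx⟩ : ∃ x, x = ent g 0 0 := ⟨_, rfl⟩
  obtain ⟨y, hy⟩ : ∃ y, y = ent g 0 1 := ⟨_, rfl⟩
  have key : ∀ (k : Matrix.SpecialLinearGroup (Fin 2) F), (g = k ∨ g = -k) → φ g = φ k := by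
    rintro k (rfl | rfl)
    · rfl
    · exact S.map_neg' k
  rcases comm_wm k1 with ⟨e1, e2⟩ | ⟨e1, e2⟩
  · -- `g = (x y; -y x)`
    rw [← hy] at e1
    rw [← hx] at e2
    rw [e1, e2, ← hx, ← hy] at hd
    rcases k2 with k2 | k2
    · left
      have k3 := congrArg (fun z => ent z 0 0) k2
      simp only [ent_mul, jm_00, jm_01, jm_10, ← hx, ← hy, e1] at k3
      have hy0 : y = 0 := by
        have : 2 * (β * y) = 0 := by linear_combination k3
        exact (mul_eq_zero.1 ((mul_eq_zero.1 this).resolve_left h2')).resolve_left hβ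
      rw [← map_one φ]
      apply key
      have h3 : (x - 1) * (x + 1) = 0 := by rw [hy0] at hd; linear_combination hd
      rcases mul_eq_zero.1 h3 with h4 | h4
      · left
        refine ext_ent ?_ ?_ ?_ ?_ <;> simp only [e1, e2, ← hx, ← hy, hy0, ent_one_00, ent_one_01, ent_one_10, ent_one_11]
        · linear_combination h4
        · ring
        · linear_combination h4
      · right
        refine ext_ent ?_ ?_ ?_ ?_ <;> simp only [ent_neg, e1, e2, ← hx, ← hy, hy0, ent_one_00, ent_one_01, ent_one_10, ent_one_11]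
        · linear_combination h4
        · ring
        · linear_combination h4
    · right; left
      have k3 := congrArg (fun z => ent z 0 0) k2
      simp only [ent_neg, ent_mul, jm_00, jm_01, jm_10, ← hx, ← hy, e1] at k3
      have hx0 : x = 0 := by
        have : 2 * (α * x) = 0 := by linear_combination k3
        exact (mul_eq_zero.1 ((mul_eq_zero.1 this).resolve_left h2')).resolve_left hα
      apply key
      have h3 : (y - 1) * (y + 1) = 0 := by rw [hx0] at hd; linear_combination hd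
      rcases mul_eq_zero.1 h3 with h4 | h4
      · left
        refine ext_ent ?_ ?_ ?_ ?_ <;> simp only [e1, e2, ← hx, ← hy, hx0, wm_00, wm_01, wm_10, wm_11]
        · linear_combination h4
        · rw [inv_one]; linear_combination -h4
      · right
        refine ext_ent ?_ ?_ ?_ ?_ <;> simp only [ent_neg, e1, e2, ← hx, ← hy, hx0, wm_00, wm_01, wm_10, wm_11]
        · ring
        · linear_combination h4
        · rw [inv_one]; linear_combination -h4
        · ring
  · -- `g = (x y; y -x)`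
    rw [← hy] at e1
    rw [← hx] at e2
    rw [e1, e2, ← hx, ← hy] at hd
    rcases k2 with k2 | k2
    · right; right; left
      have k3 := congrArg (fun z => ent z 0 1) k2
      simp only [ent_mul, jm_00, jm_01, jm_11, ← hx, ← hy, e2] at k3
      have k4 : x * β = y * α := by
        have : 2 * (x * β - y * α) = 0 := by linear_combination k3
        linear_combination (mul_eq_zero.1 this).resolve_left h2'
      apply key
      -- `(x, y) = c (α, β)`
      obtain ⟨c, hc⟩ : ∃ c, c = x / α := ⟨_, rfl⟩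
      have hxc : x = c * α := by rw [hc]; field_simp
      have hyc : y = c * β := by
        have : α * y = α * (c * β) := by rw [hxc] at k4; linear_combination -k4
        exact mul_left_cancel₀ hα this
      have h3 : (c - 1) * (c + 1) = 0 := by
        rw [hxc, hyc] at hd
        linear_combination hd + c ^ 2 * h
      rcases mul_eq_zero.1 h3 with h4 | h4
      · left
        have hc1 : c = 1 := by linear_combination h4
        refine ext_ent ?_ ?_ ?_ ?_ <;> simp only [e1, e2, ← hx, ← hy, hxc, hyc, hc1, jm_00, jm_01, jm_10, jm_11, one_mul]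
      · right
        have hc1 : c = -1 := by linear_combination h4
        refine ext_ent ?_ ?_ ?_ ?_ <;> simp only [ent_neg, e1, e2, ← hx, ← hy, hxc, hyc, hc1, jm_00, jm_01, jm_10, jm_11, one_mul, neg_mul]
    · right; right; right
      have k3 := congrArg (fun z => ent z 0 0) k2
      simp only [ent_neg, ent_mul, jm_00, jm_01, jm_10, ← hx, ← hy, e1] at k3
      have k4 : x * α = - (y * β) := by
        have : 2 * (x * α + y * β) = 0 := by linear_combination k3
        linear_combination (mul_eq_zero.1 this).resolve_left h2'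
      rw [← map_mul]
      apply key
      -- `(x, y) = c (β, -α)`
      obtain ⟨c, hc⟩ : ∃ c, c = x / β := ⟨_, rfl⟩
      have hxc : x = c * β := by rw [hc]; field_simp
      have hyc : y = -(c * α) := by
        have : β * y = β * (-(c * α)) := by rw [hxc] at k4; linear_combination k4
        exact mul_left_cancel₀ hβ this
      have h3 : (c - 1) * (c + 1) = 0 := by
        rw [hxc, hyc] at hd
        linear_combination hd + c ^ 2 * h
      rcases mul_eq_zero.1 h3 with h4 | h4
      · left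
        have hc1 : c = 1 := by linear_combination h4
        refine ext_ent ?_ ?_ ?_ ?_ <;> simp only [ent_mul, wm_00, wm_01, wm_10, wm_11, e1, e2, ← hx, ← hy, hxc, hyc, hc1, jm_00, jm_01, jm_10, jm_11, inv_one] <;> ring
      · right
        have hc1 : c = -1 := by linear_combination h4
        refine ext_ent ?_ ?_ ?_ ?_ <;> simp only [ent_neg, ent_mul, wm_00, wm_01, wm_10, wm_11, e1, e2, ← hx, ← hy, hxc, hyc, hc1, jm_00, jm_01, jm_10, jm_11, inv_one] <;> ring

end RE

end Cfsg.Agent.HKS.ReeEnd
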