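import Mathlib
import Cfsg.Agent.HKS.ReeEnd2
import Cfsg.Agent.HKS.RigFix
import Cfsg.Agent.HKS.TwoOneNum
import Cfsg.Agent.HKS.ModPSplit
import Cfsg.Agent.Lib.AutSL2Out

/-!
# Strongly split groups with `C_G(t) ≥ ⟨t⟩ × PSL(2,q)`: elements of odd order of `A₁`

For `1 ≠ x ∈ A₁` of odd order: `|C_U(x)| = |C_U(x) ∩ C(t)| ^ 3` (by induction). Hence `C_D(C_U(t)) = ⟨t⟩`.
Elements of `A₁` act as field automorphisms.
-/

set_option autoImplicit false

namespace Cfsg.Agent.HKS.ReeEnd

open Subgroup MulAction Cfsg.Agent.HKS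
open Cfsg.Agent.Lib.SL2Mat

namespace RE

variable {G Ω F : Type*} [Group G] [MulAction G Ω] [Field F] {U : Ω → Subgroup G} {a b : Ω}
  {t : G} {φ : Matrix.SpecialLinearGroup (Fin 2) F →* G}

/-- `4 ∤ |D|` -/
theorem not_four_dvd (S : RE U a b t φ) [Finite G] : ¬ 4 ∣ Nat.card (Dab G a b) := by
  classical
  intro h4
  have : Fact (Nat.Prime 2) := ⟨Nat.prime_two⟩
  obtain ⟨K, hK⟩ := Sylow.exists_subgroup_card_pow_prime (G := Dab G a b) 2 (n := 2) (by norm_num; exact h4)
  have h1 : ∀ x : K, ((x : Dab G a b) : G) = 1 ∨ ((x : Dab G a b) : G) = t := by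
    intro x
    refine S.unique _ (x : Dab G a b).2 (S.sq_of_two_pow (e := 2) ?_)
    have h2 : x ^ 2 ^ 2 = 1 := by rw [← hK]; exact pow_card_eq_one'
    have h3 := congrArg (fun y : K => ((y : Dab G a b) : G)) h2
    simpa using h3
  have h2 : Nat.card K ≤ Nat.card Bool := by
    refine Nat.card_le_card_of_injective (fun x : K => decide (((x : Dab G a b) : G) = 1)) ?_
    intro x y hxy
    apply Subtype.ext
    apply Subtype.ext
    simp only [decide_eq_decide] at hxy
    rcases h1 x with hx | hx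
    · rw [hx, hxy.1 hx]
    · rcases h1 y with hy | hy
      · rw [hy, hxy.2 hy]
      · rw [hx, hy]
  rw [hK] at h2
  simp at h2

theorem sylow_comm (S : RE U a b t φ) (P : Sylow 2 G) {y z : G} (hy : y ∈ (P : Subgroup G))
    (hz : z ∈ (P : Subgroup G)) : y * z = z * y := by
  have key : ∀ y ∈ (P : Subgroup G), y⁻¹ = y := fun y hy =>
    inv_eq_of_mul_eq_one_left ((S.syl P).2 y hy)
  rw [← key _ (mul_mem hy hz), mul_inv_rev, key y hy, key z hz]

theorem sylow_isMulCommutative (S : RE U a b t φ) (P : Sylow 2 G) : IsMulCommutative P :=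
  ⟨⟨fun y z => Subtype.ext (S.sylow_comm P y.2 z.2)⟩⟩

/-- elements commuting with `t`, `w`, `w'` -/
theorem cent_three (S : RE U a b t φ) [Finite G] [Finite F] {α β : F} (h : α ^ 2 + β ^ 2 = -1)
    (hA : ∀ x ∈ A₁ a b φ, x * φ (jm α β h) * x⁻¹ = φ (jm α β h)) {x : G} (h1 : t * x = x * t)
    (h2 : x * ww φ = ww φ * x) (h3 : x * φ (jm α β h) = φ (jm α β h) * x) :
    ∃ g, ∃ y ∈ A₁ a b φ, x = φ g * y ∧
      (φ g = 1 ∨ φ g = ww φ ∨ φ g = φ (jm α β h) ∨ φ g = ww φ * φ (jm α β h)) := by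
  obtain ⟨g, y, hy, rfl⟩ := S.exists_mul_A₁ h1
  refine ⟨g, y, hy, rfl, S.of_comm h ?_ ?_⟩
  · have h4 := (mem_A₁.1 hy).2
    calc φ g * ww φ = (φ g * (ww φ * y)) * y⁻¹ := by group
      _ = (φ g * y * ww φ) * y⁻¹ := by rw [← h4]; group
      _ = ww φ * φ g := by rw [h2]; group
  · have h4 : y * φ (jm α β h) = φ (jm α β h) * y := by
      have := hA y hy
      rwa [mul_inv_eq_iff_eq_mul] at this
    calc φ g * φ (jm α β h) = (φ g * (φ (jm α β h) * y)) * y⁻¹ := by group
      _ = (φ g * y * φ (jm α β h)) * y⁻¹ := by rw [← h4]; group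
      _ = φ (jm α β h) * φ g := by rw [h3]; group

/-- elements of odd order commuting with `t`, `w`, `w'` -/
theorem cent_three_odd (S : RE U a b t φ) [Finite G] [Finite F] {α β : F} (h : α ^ 2 + β ^ 2 = -1)
    (hA : ∀ x ∈ A₁ a b φ, x * φ (jm α β h) * x⁻¹ = φ (jm α β h)) {x : G} (h1 : t * x = x * t)
    (h2 : x * ww φ = ww φ * x) (h3 : x * φ (jm α β h) = φ (jm α β h) * x) {m : ℕ} (hm : Odd m)
    (hxm : x ^ m = 1) : x ∈ A₁ a b φ := by
  obtain ⟨g, y, hy, rfl, hg⟩ := S.cent_three h hA h1 h2 h3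
  have hyw : Commute y (ww φ) := (mem_A₁.1 hy).2
  have hyj : Commute y (φ (jm α β h)) := by
    have := hA y hy
    rwa [mul_inv_eq_iff_eq_mul] at this
  have hc : Commute (φ g) y := by
    rcases hg with hg | hg | hg | hg <;> rw [hg]
    · exact Commute.one_left y
    · exact hyw.symm
    · exact hyj.symm
    · exact (hyw.symm).mul_left hyj.symm
  have hwj : Commute (ww φ) (φ (jm α β h)) := S.ww_jm h
  have hsq : φ g ^ 2 = 1 := by
    rw [sq]
    rcases hg with hg | hg | hg | hg <;> rw [hg]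
    · rw [one_mul]
    · exact S.ww_sq
    · exact S.jm_sq h
    · have : ww φ * φ (jm α β h) * (ww φ * φ (jm α β h)) =
          (ww φ * ww φ) * (φ (jm α β h) * φ (jm α β h)) := by
        calc ww φ * φ (jm α β h) * (ww φ * φ (jm α β h)) =
            ww φ * (φ (jm α β h) * ww φ) * φ (jm α β h) := by group
          _ = _ := by rw [← hwj.eq]; group
      rw [this, S.ww_sq, S.jm_sq h, one_mul]
  have h4 : φ g * y ^ m = 1 := by
    rw [hc.mul_pow] at hxm
    obtain ⟨j, rfl⟩ := hm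
    rw [pow_succ (φ g), pow_mul, hsq, one_pow, one_mul] at hxm
    exact hxm
  have h5 : φ g ∈ A₁ a b φ := by
    rw [eq_inv_of_mul_eq_one_left h4]
    exact inv_mem (pow_mem hy m)
  rw [S.A₁_range h5, one_mul]
  exact hy

/-- for `x ∈ A₁` of odd order, `t` moves a fixed point of `x` -/
theorem exists_moved (S : RE U a b t φ) [Finite G] [Finite F] {p k : ℕ} [Finite Ω] [FaithfulSMul G Ω]
    (T : TwoOne.TO U p k a b) {x : G} (hx : x ∈ A₁ a b φ) {m : ℕ} (hm : Odd m) (hxm : x ^ m = 1) :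
    ∃ c : Ω, x • c = c ∧ t • c ≠ c := by
  have : Fact (Nat.Prime 2) := ⟨Nat.prime_two⟩
  obtain ⟨α, β, h, hA⟩ := S.exists_jm
  obtain ⟨P, hP⟩ := S.exists_sylow h
  have ht : t ∈ (P : Subgroup G) := by rw [hP]; exact subset_closure (by simp)
  have hw : ww φ ∈ (P : Subgroup G) := by rw [hP]; exact subset_closure (by simp)
  have hj : φ (jm α β h) ∈ (P : Subgroup G) := by rw [hP]; exact subset_closure (by simp)
  have hPc : IsMulCommutative P := S.sylow_isMulCommutative P
  obtain ⟨g, hg⟩ := isConj_iff.1 (S.conj (ww φ) S.ww_sq S.ww_ne)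
  obtain ⟨n, hn, hne⟩ := P.conj_eq_normalizer_conj_of_mem t g⁻¹ ht (by
    rw [inv_inv, hg]; exact hw)
  rw [inv_inv, hg] at hne
  -- `n⁻¹ t n = w`
  have hxP : ∀ y ∈ (P : Subgroup G), x * y = y * x := by
    have h1 : (P : Subgroup G) ≤ centralizer {x} := by
      rw [hP, closure_le]
      rintro y (rfl | rfl | rfl)
      · rw [SetLike.mem_coe, mem_centralizer_singleton_iff]; exact S.comm_A₁ hx
      · rw [SetLike.mem_coe, mem_centralizer_singleton_iff]; exact (mem_A₁.1 hx).2.symm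
      · rw [SetLike.mem_coe, mem_centralizer_singleton_iff]
        have := hA x hx
        rw [mul_inv_eq_iff_eq_mul] at this
        exact this.symm
    intro y hy
    have := h1 hy
    rw [mem_centralizer_singleton_iff] at this
    exact this.symm
  have hnP : ∀ y ∈ (P : Subgroup G), n⁻¹ * y * n ∈ (P : Subgroup G) := by
    intro y hy
    have h1 := (mem_normalizer_iff.1 (inv_mem hn) y).1 hy
    rwa [inv_inv] at h1
  have hx' : n * x * n⁻¹ ∈ A₁ a b φ := by
    have h1 : ∀ y ∈ (P : Subgroup G), (n * x * n⁻¹) * y = y * (n * x * n⁻¹) := by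
      intro y hy
      have h2 := hxP _ (hnP y hy)
      calc (n * x * n⁻¹) * y = n * (x * (n⁻¹ * y * n)) * n⁻¹ := by group
        _ = y * (n * x * n⁻¹) := by rw [h2]; group
    refine S.cent_three_odd h hA (h1 t ht).symm (h1 _ hw) (h1 _ hj) hm ?_
    rw [conj_pow, hxm]; group
  have hfix : x • n⁻¹ • a = n⁻¹ • a := by
    have h1 := (mem_A₁.1 hx').1.1
    change (n * x * n⁻¹) • a = a at h1
    rw [eq_inv_smul_iff, ← mul_smul, ← mul_smul]
    exact h1
  refine ⟨n⁻¹ • a, hfix, ?_⟩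
  have hwfix : ww φ • n⁻¹ • a = n⁻¹ • a := by
    rw [hne, ← mul_smul]
    have : n⁻¹ * t * n * n⁻¹ = n⁻¹ * t := by group
    rw [this, mul_smul, S.t_a]
  exact T.fpf_of_comm S.t_sq S.ww_sq S.t_ne S.ww_ne (S.comm_range _)
    (fun hc => S.not_mem _ hc.symm) hwfix

/-- **the induction hypothesis at `x ∈ A₁` of odd order** -/
theorem dr_of_odd (S : RE U a b t φ) [Finite G] [Finite F] {p k : ℕ} [Finite Ω] [FaithfulSMul G Ω]
    (C : CtxE U a b p k) (T : TwoOne.TO U p k a b) {x : G} (hx : x ∈ A₁ a b φ) (hx1 : x ≠ 1)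
    {m : ℕ} (hm : Odd m) (hxm : x ^ m = 1) :
    ∃ n, Odd n ∧ Nat.card (U a ⊓ centralizer (zpowers x : Set G) : Subgroup G) = (3 ^ n) ^ 3 ∧
      Nat.card (U a ⊓ centralizer (zpowers x : Set G) ⊓ centralizer ({t} : Set G) : Subgroup G) =
        3 ^ n := by
  have hxD := (mem_A₁.1 hx).1
  have hX : zpowers x ≤ Dab G a b := zpowers_le.2 hxD
  have hX1 : zpowers x ≠ ⊥ := by rwa [Ne, zpowers_eq_bot]
  have huc : φ (up 1) ∈ U a ⊓ centralizer (zpowers x : Set G) := by
    refine ⟨S.up_mem 1, TwoOne.mem_cent_zpowers.2 ?_⟩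
    have := S.comm_up_one hx
    rwa [mul_inv_eq_iff_eq_mul] at this
  have hU1 : U a ⊓ centralizer (zpowers x : Set G) ≠ ⊥ := by
    intro hc
    rw [hc, mem_bot] at huc
    exact S.up_ne one_ne_zero huc
  obtain ⟨c, hxc, htc⟩ := S.exists_moved T hx hm hxm
  have htK : t ∉ kerFix Ω (zpowers x) := fun hc => htc (hc c (TwoOne.zpowers_fix hxc))
  have htx : ∀ y ∈ zpowers x, t * y = y * t := fun y hy => S.comm_D (hX hy)
  have hR : RigElt (zpowers x) a b t :=
    RigElt.of_comm S.t_mem htx (by rw [S.t_sq]; exact one_mem _)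
  have h4 := S.not_four_dvd
  -- `kerFix.relIndex (D ⊓ genFix)` divides `|D|`
  have hdvd : (kerFix Ω (zpowers x)).relIndex (Dab G a b ⊓ genFix U (zpowers x)) ∣
      Nat.card (Dab G a b) :=
    (relIndex_dvd_card _ _).trans (card_dvd_of_le inf_le_left)
  rcases C.IH (zpowers x) hX hX1 hU1 with h | ⟨q, h⟩ | ⟨q, h⟩ | ⟨n, h⟩
  · exfalso
    obtain ⟨e, he⟩ : ∃ e, Nat.card (U a ⊓ centralizer (zpowers x : Set G) : Subgroup G) = p ^ e := by
      have h1 := card_dvd_of_le (inf_le_left : U a ⊓ centralizer (zpowers x : Set G) ≤ U a)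
      rw [C.cardU] at h1
      obtain ⟨e, -, he⟩ := (Nat.dvd_prime_pow C.prime).1 h1
      exact ⟨e, he⟩
    have hodd : Odd (Nat.card (U a ⊓ centralizer (zpowers x : Set G) : Subgroup G)) := by
      rw [he]
      exact (C.prime.odd_of_ne_two C.p_ne_two).pow
    rcases TwoOne.cyclic_pm C.prime C.p_ne_two h.cyc he S.t_sq (fun u hu => hR.conj_P S.split hu)
      with h1 | h1
    · apply htK
      refine S.split.mem_kerFix_of_comm S.ne hX S.t_mem fun u hu => ?_
      have := h1 u hu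
      rwa [mul_inv_eq_iff_eq_mul] at this
    · have h2 := h1 _ huc
      rw [S.comm_range, mul_inv_cancel_right] at h2
      have h3 : φ (up 1) ^ 2 = 1 := by
        rw [sq]
        nth_rw 1 [h2]
        exact inv_mul_cancel _
      have h5 : (⟨φ (up 1), huc⟩ : (U a ⊓ centralizer (zpowers x : Set G) : Subgroup G)) ^ 2 = 1 :=
        Subtype.ext h3
      have h6 := orderOf_dvd_of_pow_eq_one h5
      have h7 := (orderOf_dvd_natCard
        (⟨φ (up 1), huc⟩ : (U a ⊓ centralizer (zpowers x : Set G) : Subgroup G)))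
      rcases (Nat.dvd_prime Nat.prime_two).1 h6 with h8 | h8
      · exact S.up_ne one_ne_zero (congrArg Subtype.val (orderOf_eq_one_iff.1 h8))
      · rw [h8] at h7
        exact (Nat.not_even_iff_odd.2 hodd) (even_iff_two_dvd.2 h7)
  · exfalso
    rcases S.split.rigL S.ne hX hR h with h1 | h1 | h1
    · exact htK h1
    · have h2 := h1 _ huc
      rw [S.comm_range, mul_inv_cancel_right] at h2
      have h3 : φ (up 1) ^ 2 = 1 := by
        rw [sq]
        nth_rw 1 [h2]
        exact inv_mul_cancel _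
      have h5 : (⟨φ (up 1), huc⟩ : (U a ⊓ centralizer (zpowers x : Set G) : Subgroup G)) ^ 2 = 1 :=
        Subtype.ext h3
      have h6 := orderOf_dvd_of_pow_eq_one h5
      have h7 := (orderOf_dvd_natCard
        (⟨φ (up 1), huc⟩ : (U a ⊓ centralizer (zpowers x : Set G) : Subgroup G)))
      rcases (Nat.dvd_prime Nat.prime_two).1 h6 with h8 | h8
      · exact S.up_ne one_ne_zero (congrArg Subtype.val (orderOf_eq_one_iff.1 h8))
      · rw [h8, h.card] at h7
        exact (Nat.not_even_iff_odd.2 h.odd) (even_iff_two_dvd.2 h7)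
    · -- `q = r ^ 2`, `4 ∣ (q - 1) / 2`
      apply h4
      refine Dvd.dvd.trans ?_ hdvd
      have h2 := h.cardE
      rw [← h1] at h2
      obtain ⟨j, hj⟩ : Odd (Nat.card (U a ⊓ centralizer (zpowers x : Set G) ⊓
          centralizer ({t} : Set G) : Subgroup G)) := by
        have := h.odd
        rw [← h1, Nat.odd_pow_iff two_ne_zero] at this
        exact this
      rw [hj] at h2
      have h3 : (2 * j + 1) ^ 2 - 1 = 2 * (2 * (j * (j + 1))) := by
        have : (2 * j + 1) ^ 2 = 2 * (2 * (j * (j + 1))) + 1 := by ring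
        rw [this, Nat.add_sub_cancel]
      rw [h3] at h2
      rw [Nat.eq_of_mul_eq_mul_left two_pos h2]
      exact mul_dvd_mul_left 2 (Nat.even_mul_succ_self j).two_dvd
  · exfalso
    apply h4
    refine Dvd.dvd.trans ?_ hdvd
    have h2 := h.cardE
    obtain ⟨j, hj⟩ := h.odd
    have h3 : q ^ 2 - 1 = 4 * (j * (j + 1)) := by
      have : q ^ 2 = 4 * (j * (j + 1)) + 1 := by rw [hj]; ring
      rw [this, Nat.add_sub_cancel]
    have h5 : 4 ∣ q ^ 2 - 1 := ⟨_, h3⟩
    rw [← h2] at h5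
    have h6 : Nat.Coprime 4 (Nat.gcd 3 (q + 1)) :=
      Nat.Coprime.coprime_dvd_right (Nat.gcd_dvd_left 3 (q + 1)) (by norm_num)
    exact h6.dvd_of_dvd_mul_left h5
  · obtain ⟨z, hz, hzK, hz2, hzc⟩ := h.invol
    have hzt : z = t := by
      rcases S.unique z hz.1 hz2 with h1 | h1
      · exact absurd (by rw [h1]; exact one_mem _) hzK
      · exact h1
    rw [hzt] at hzc
    exact ⟨n, h.odd, h.card, hzc⟩

/-- `|C_{U a}(t)| = |F|` -/
theorem card_CU (S : RE U a b t φ) [Finite Ω] [Finite F] :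
    Nat.card (U a ⊓ centralizer ({t} : Set G) : Subgroup G) = Nat.card F := by
  have h1 := S.card_fixedBy
  rw [TwoOne.card_fixedBy_eq S.split S.ne S.t_mem] at h1
  have h2 : (U a ⊓ centralizer ({t} : Set G) : Subgroup G) = TwoOne.CU U a t := by
    ext x
    rw [TwoOne.mem_CU, mem_inf, mem_centralizer_singleton_iff]
    exact and_congr_right fun _ => eq_comm
  rw [h2]
  omega

/-- **an element of `D` centralising `C_{U a}(t)` is `1` or `t`** -/
theorem ker_trivial (S : RE U a b t φ) [Finite G] [Finite F] {p k : ℕ} [Finite Ω]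
    [FaithfulSMul G Ω] (C : CtxE U a b p k) (T : TwoOne.TO U p k a b) {x : G}
    (hx : x ∈ Dab G a b) (hc : ∀ z, x * φ (up z) * x⁻¹ = φ (up z)) : x = 1 ∨ x = t := by
  -- odd order
  have key : ∀ x ∈ Dab G a b, (∀ z, x * φ (up z) * x⁻¹ = φ (up z)) → ∀ m, Odd m → x ^ m = 1 →
      x = 1 := by
    intro x hx hc m hm hxm
    by_contra hx1
    have hxA : x ∈ A₁ a b φ := by
      obtain ⟨r, hr, y, hy, he⟩ := S.exists_dg_mul hx
      have h1 := hc 1
      have h2 := S.comm_up_one hy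
      have h3 : φ (dg r hr) * φ (up 1) * (φ (dg r hr))⁻¹ = φ (up 1) := by
        calc φ (dg r hr) * φ (up 1) * (φ (dg r hr))⁻¹ =
            φ (dg r hr) * (y * φ (up 1) * y⁻¹) * (φ (dg r hr))⁻¹ := by rw [h2]
          _ = x * φ (up 1) * x⁻¹ := by rw [he]; group
          _ = _ := h1
      rw [← map_mul, dg_up, map_mul, mul_inv_cancel_right] at h3
      have h4 : φ (up (r ^ 2 * 1 + -1)) = 1 := by
        rw [← up_mul, map_mul, h3, ← map_mul, up_mul, add_neg_cancel, up_zero, map_one]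
      have h5 := S.inj _ h4
      have h6 : (r - 1) * (r + 1) = 0 := by linear_combination h5
      have h7 : φ (dg r hr) = 1 := by
        rw [S.dg_eq_one_iff]
        rcases mul_eq_zero.1 h6 with h8 | h8
        · left; linear_combination h8
        · right; linear_combination h8
      rw [he, h7, one_mul]
      exact hy
    obtain ⟨n, -, h1, h2⟩ := S.dr_of_odd C T hxA hx1 hm hxm
    have h3 : U a ⊓ centralizer (zpowers x : Set G) ⊓ centralizer ({t} : Set G) =
        U a ⊓ centralizer ({t} : Set G) := by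
      apply le_antisymm
      · exact inf_le_inf_right _ inf_le_left
      · intro u hu
        refine ⟨⟨hu.1, TwoOne.mem_cent_zpowers.2 ?_⟩, hu.2⟩
        have h4 := mem_centralizer_singleton_iff.1 hu.2
        obtain ⟨z, rfl⟩ := S.up_surj u hu.1 h4.symm
        have := hc z
        rwa [mul_inv_eq_iff_eq_mul] at this
    rw [h3, S.card_CU] at h2
    rw [← h2, ← S.card_U.1] at h1
    have h4 : U a ⊓ centralizer (zpowers x : Set G) = U a :=
      eq_of_le_of_card_ge inf_le_left h1.ge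
    apply hx1
    apply FaithfulSMul.eq_of_smul_eq_smul (α := Ω)
    intro c
    rw [one_smul]
    by_cases hca : c = a
    · rw [hca]; exact hx.1
    obtain ⟨u, hu, hub⟩ := S.split.trans S.ne hca
    have h5 : u ∈ U a ⊓ centralizer (zpowers x : Set G) := by rw [h4]; exact hu
    have h6 := TwoOne.mem_cent_zpowers.1 h5.2
    rw [← hub, ← mul_smul, h6, mul_smul]
    congr 1
    exact hx.2
  obtain ⟨m, hm, h⟩ := S.D_pow hx
  rcases h with h | h
  · left; exact key x hx hc m hm h
  · right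
    have h1 : x * t = 1 := by
      refine key (x * t) (mul_mem hx S.t_mem) (fun z => ?_) m hm ?_
      · calc x * t * φ (up z) * (x * t)⁻¹ = x * (t * φ (up z)) * t⁻¹ * x⁻¹ := by group
          _ = x * φ (up z) * x⁻¹ := by rw [S.comm_range]; group
          _ = φ (up z) := hc z
      · have h2 : Commute x t := (S.comm_D hx).symm
        rw [h2.mul_pow, h]
        obtain ⟨j, rfl⟩ := hm
        rw [pow_succ, pow_mul, sq, S.t_sq, one_pow, one_mul, S.t_sq]
    rw [← S.t_inv]
    exact eq_inv_of_mul_eq_one_left h1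

end RE

end Cfsg.Agent.HKS.ReeEnd
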