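import Mathlib
import Cfsg.Agent.HKS.ReeEnd3

/-!
# Strongly split groups with `C_G(t) ≥ ⟨t⟩ × PSL(2,q)`: fusion

* `exists_ring`: elements of `A₁` act on `C_U(t)` as field automorphisms; `A₁/⟨t⟩` is abelian;
* `exists_K`: for the Sylow 2-subgroup `P = ⟨t, w, w'⟩` and `1 ≠ z ∈ P` there is `n ∈ N(P)` with `n t n⁻¹ = z`
  and `[n, C(P)] ≤ P`;
* `fusion`: a homomorphism `ζ : C(t) → A` (`A` without elements of order 2, `ζ = 1` on `L`) is invariant under
  fusion in `G`.
-/

set_option autoImplicit false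

namespace Cfsg.Agent.HKS.ReeEnd

open Subgroup MulAction Cfsg.Agent.HKS
open Cfsg.Agent.Lib.SL2Mat

section mats

variable {F : Type*} [Field F]

/-- the matrix `(1 + I + J + IJ) / 2` -/
def em (h2 : (2 : F) ≠ 0) (α β : F) (h : α ^ 2 + β ^ 2 = -1) : Matrix.SpecialLinearGroup (Fin 2) F :=
  mk ((1 + α + β) / 2) ((1 + β - α) / 2) ((-1 + β - α) / 2) ((1 - α - β) / 2) (by
    field_simp
    linear_combination (-2) * h)

theorem em_wm (h2 : (2 : F) ≠ 0) {α β : F} (h : α ^ 2 + β ^ 2 = -1) :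
    em h2 α β h * wm 1 one_ne_zero = jm α β h * em h2 α β h := by
  refine ext_ent ?_ ?_ ?_ ?_ <;> simp [ent_mul, em] <;> field_simp
  · linear_combination (-1) * h
  · linear_combination h
  · linear_combination (-1) * h
  · linear_combination (-1) * h

theorem em_jm (h2 : (2 : F) ≠ 0) {α β : F} (h : α ^ 2 + β ^ 2 = -1) :
    em h2 α β h * jm α β h = wm 1 one_ne_zero * jm α β h * em h2 α β h := by
  refine ext_ent ?_ ?_ ?_ ?_ <;> simp [ent_mul, em] <;> field_simp
  · ring
  · ring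
  · ring
  · ring

end mats

namespace RE

variable {G Ω F : Type*} [Group G] [MulAction G Ω] [Field F] {U : Ω → Subgroup G} {a b : Ω}
  {t : G} {φ : Matrix.SpecialLinearGroup (Fin 2) F →* G}

theorem up_eq (S : RE U a b t φ) {z z' : F} (h : φ (up z) = φ (up z')) : z = z' := by
  have h3 : φ (up (z + -z')) = 1 := by
    rw [← up_mul, map_mul, h, ← map_mul, up_mul, add_neg_cancel, up_zero, map_one]
  linear_combination S.inj _ h3

/-- **elements of `A₁` act as field automorphisms** -/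
theorem exists_ring (S : RE U a b t φ) [Finite G] [Finite F] {x : G} (hx : x ∈ A₁ a b φ) :
    ∃ σ : F ≃+* F, ∀ z, x * φ (up z) * x⁻¹ = φ (up (σ z)) := by
  have hxD := (mem_A₁.1 hx).1
  choose α hα using S.D_up hxD
  have hadd : ∀ y z, α (y + z) = α y + α z := by
    intro y z
    apply S.up_eq
    rw [← hα, ← up_mul, ← up_mul, map_mul, map_mul, ← hα, ← hα]
    group
  have h1 : α 1 = 1 := S.up_eq (by rw [← hα, S.comm_up_one hx])
  have h0 : α 0 = 0 := by
    have := hadd 0 0
    rw [add_zero] at this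
    linear_combination -this
  have hneg : ∀ y, α (-y) = - α y := by
    intro y
    have := hadd y (-y)
    rw [add_neg_cancel, h0] at this
    linear_combination -this
  have hsq : ∀ r z, α (r * r * z) = α (r * r) * α z := by
    intro r z
    by_cases hr : r = 0
    · rw [hr, zero_mul, zero_mul, h0, zero_mul]
    obtain ⟨x₁, hx₁⟩ := S.normalises (S.comm_D hxD) (dg r hr)
    have h2 : φ x₁ ∈ Dab G a b := by
      rw [← hx₁]
      exact mul_mem (mul_mem hxD (S.dg_mem hr)) (inv_mem hxD)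
    obtain ⟨r', hr', rfl⟩ := S.dg_of_mem h2
    have key : ∀ z, α (r * r * z) = r' * r' * α z := by
      intro z
      apply S.up_eq
      have e1 : φ (up (r * r * z)) = φ (dg r hr) * φ (up z) * (φ (dg r hr))⁻¹ := by
        rw [← map_mul, dg_up, map_mul, mul_inv_cancel_right, sq]
      have e2 : φ (up (r' * r' * α z)) = φ (dg r' hr') * φ (up (α z)) * (φ (dg r' hr'))⁻¹ := by
        rw [← map_mul, dg_up, map_mul, mul_inv_cancel_right, sq]
      rw [← hα, e1, e2, ← hα, ← hx₁]
      group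
    have h3 := key 1
    rw [mul_one, h1, mul_one] at h3
    rw [key z, h3]
  have hmul : ∀ y z, α (y * z) = α y * α z := by
    intro y z
    rcases S.isSquare_or y with ⟨r, hr⟩ | ⟨r, hr⟩
    · rw [hr]; exact hsq r z
    · have h2 := hsq r z
      rw [← hr, neg_mul, hneg, hneg, neg_mul, neg_inj] at h2
      exact h2
  let f : F →+* F :=
    { toFun := α, map_one' := h1, map_mul' := hmul, map_zero' := h0, map_add' := hadd }
  have hbij : Function.Bijective f := Finite.injective_iff_bijective.1 f.injective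
  exact ⟨RingEquiv.ofBijective f hbij, fun z => hα z⟩

/-- `A₁ / ⟨t⟩` is abelian -/
theorem A₁_comm (S : RE U a b t φ) [Finite G] [Finite F] {p k : ℕ} [Finite Ω]
    [FaithfulSMul G Ω] (C : CtxE U a b p k) (T : TwoOne.TO U p k a b) {x y : G}
    (hx : x ∈ A₁ a b φ) (hy : y ∈ A₁ a b φ) : x * y * x⁻¹ * y⁻¹ = 1 ∨ x * y * x⁻¹ * y⁻¹ = t := by
  obtain ⟨σ, hσ⟩ := S.exists_ring hx
  obtain ⟨τ, hτ⟩ := S.exists_ring hy
  have h1 := (mem_A₁.1 hx).1
  have h2 := (mem_A₁.1 hy).1
  refine S.ker_trivial C T (mul_mem (mul_mem (mul_mem h1 h2) (inv_mem h1)) (inv_mem h2)) fun z => ?_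
  have hσ' : ∀ z, x⁻¹ * φ (up z) * x = φ (up (σ.symm z)) := by
    intro z
    have := hσ (σ.symm z)
    rw [RingEquiv.apply_symm_apply] at this
    rw [← this]; group
  have hτ' : ∀ z, y⁻¹ * φ (up z) * y = φ (up (τ.symm z)) := by
    intro z
    have := hτ (τ.symm z)
    rw [RingEquiv.apply_symm_apply] at this
    rw [← this]; group
  have hc : σ (τ (σ.symm (τ.symm z))) = z := by
    have h3 : σ (τ (σ.symm (τ.symm z))) = τ (σ (σ.symm (τ.symm z))) :=
      congrArg (fun f : F ≃+* F => f (σ.symm (τ.symm z)))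
        (Cfsg.Agent.Lib.AutSL2Out.ringEquiv_comm σ τ)
    rw [h3, RingEquiv.apply_symm_apply, RingEquiv.apply_symm_apply]
  calc x * y * x⁻¹ * y⁻¹ * φ (up z) * (x * y * x⁻¹ * y⁻¹)⁻¹ =
      x * (y * (x⁻¹ * (y⁻¹ * φ (up z) * y) * x) * y⁻¹) * x⁻¹ := by group
    _ = φ (up z) := by rw [hτ', hσ', hτ, hσ, hc]

/-! ### The normaliser of the Sylow 2-subgroup -/

theorem exists_K (S : RE U a b t φ) [Finite G] [Finite F] {α β : F} (h : α ^ 2 + β ^ 2 = -1)
    {P : Sylow 2 G} (hP : (P : Subgroup G) = closure {t, ww φ, φ (jm α β h)}) {z : G}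
    (hz : z ∈ (P : Subgroup G)) (hz1 : z ≠ 1) :
    ∃ n : G, n * t * n⁻¹ = z ∧ ∀ x : G, (∀ y ∈ (P : Subgroup G), x * y = y * x) →
      n⁻¹ * x * n * x⁻¹ ∈ (P : Subgroup G) := by
  have : Fact (Nat.Prime 2) := ⟨Nat.prime_two⟩
  have hPc : IsMulCommutative P := S.sylow_isMulCommutative P
  have ht : t ∈ (P : Subgroup G) := by rw [hP]; exact subset_closure (by simp)
  have hw : ww φ ∈ (P : Subgroup G) := by rw [hP]; exact subset_closure (by simp)
  have hj : φ (jm α β h) ∈ (P : Subgroup G) := by rw [hP]; exact subset_closure (by simp)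
  set N := normalizer ((P : Subgroup G) : Set G) with hN
  have hNP : ∀ n ∈ N, ∀ y ∈ (P : Subgroup G), n * y * n⁻¹ ∈ (P : Subgroup G) :=
    fun n hn y hy => (mem_normalizer_iff.1 hn y).1 hy
  have hNP' : ∀ n ∈ N, ∀ y ∈ (P : Subgroup G), n⁻¹ * y * n ∈ (P : Subgroup G) := by
    intro n hn y hy
    have := hNP n⁻¹ (inv_mem hn) y hy
    rwa [inv_inv] at this
  have hNC : ∀ n ∈ N, ∀ x : G, (∀ y ∈ (P : Subgroup G), x * y = y * x) →
      ∀ y ∈ (P : Subgroup G), (n * x * n⁻¹) * y = y * (n * x * n⁻¹) := by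
    intro n hn x hx y hy
    have h2 := hx _ (hNP' n hn y hy)
    calc (n * x * n⁻¹) * y = n * (x * (n⁻¹ * y * n)) * n⁻¹ := by group
      _ = y * (n * x * n⁻¹) := by rw [h2]; group
  let X := {s : G // s ∈ (P : Subgroup G) ∧ s ≠ 1}
  let _ : MulAction N X :=
    { smul := fun n s => ⟨(n : G) * s * (n : G)⁻¹, hNP n n.2 s s.2.1,
        fun hc => s.2.2 (conj_eq_one_iff.1 hc)⟩
      one_smul := fun s => Subtype.ext (by
        change ((1 : N) : G) * (s : G) * ((1 : N) : G)⁻¹ = s
        simp)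
      mul_smul := fun m n s => Subtype.ext (by
        change ((m * n : N) : G) * (s : G) * ((m * n : N) : G)⁻¹ =
          (m : G) * ((n : G) * s * (n : G)⁻¹) * (m : G)⁻¹
        rw [Subgroup.coe_mul]; group) }
  have hsmul : ∀ (n : N) (s : X), ((n • s : X) : G) = (n : G) * s * (n : G)⁻¹ := fun _ _ => rfl
  -- transitivity
  have htr : IsPretransitive N X := by
    refine ⟨fun s s' => ?_⟩
    have hs := S.conj s ((S.syl P).2 s s.2.1) s.2.2
    have hs' := S.conj s' ((S.syl P).2 s' s'.2.1) s'.2.2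
    obtain ⟨g, hg⟩ := isConj_iff.1 (hs.symm.trans hs')
    obtain ⟨n, hn, hne⟩ := P.conj_eq_normalizer_conj_of_mem (s : G) g⁻¹ s.2.1 (by
      rw [inv_inv, hg]; exact s'.2.1)
    rw [inv_inv, hg] at hne
    refine ⟨⟨n⁻¹, inv_mem hn⟩, Subtype.ext ?_⟩
    rw [hsmul, hne]
    simp
  have h7 : Nat.card X = 7 := by
    have h8 : Nat.card (P : Subgroup G) = 8 := (S.syl P).1
    have e : (P : Subgroup G) ≃ Option X := by
      classical
      refine
        { toFun := fun s => if hs : (s : G) = 1 then none else some ⟨s, s.2, hs⟩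
          invFun := fun o => o.elim 1 (fun s => ⟨s, s.2.1⟩)
          left_inv := ?_
          right_inv := ?_ }
      · intro s
        by_cases hs : (s : G) = 1
        · simp [hs]
          exact (Subtype.ext hs : s = 1).symm
        · simp [hs]
      · rintro (_ | s)
        · simp
        · simp [s.2.2]
    rw [Nat.card_congr e, Finite.card_option] at h8
    omega
  have hprim : IsPreprimitive N X := IsPreprimitive.of_prime_card (by rw [h7]; norm_num)
  -- the normal subgroup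
  let K : Subgroup N :=
    { carrier := {n | ∀ x : G, (∀ y ∈ (P : Subgroup G), x * y = y * x) →
        (n : G) * x * (n : G)⁻¹ * x⁻¹ ∈ (P : Subgroup G)}
      one_mem' := fun x _ => by
        have : ((1 : N) : G) * x * ((1 : N) : G)⁻¹ * x⁻¹ = 1 := by simp
        rw [this]
        exact one_mem _
      mul_mem' := by
        intro m n hm hn x hx
        have h1 := hNP m m.2 _ (hn x hx)
        have h2 := hm x hx
        have h3 : ((m * n : N) : G) * x * ((m * n : N) : G)⁻¹ * x⁻¹ =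
            ((m : G) * ((n : G) * x * (n : G)⁻¹ * x⁻¹) * (m : G)⁻¹) *
              ((m : G) * x * (m : G)⁻¹ * x⁻¹) := by
          rw [Subgroup.coe_mul]; group
        rw [h3]
        exact mul_mem h1 h2
      inv_mem' := by
        intro n hn x hx
        have hx' := hNC _ (inv_mem n.2) x hx
        rw [inv_inv] at hx'
        have h1 := inv_mem (hn _ hx')
        have h3 : ((n⁻¹ : N) : G) * x * ((n⁻¹ : N) : G)⁻¹ * x⁻¹ =
            ((n : G) * ((n : G)⁻¹ * x * (n : G)) * (n : G)⁻¹ * ((n : G)⁻¹ * x * (n : G))⁻¹)⁻¹ := by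
          rw [Subgroup.coe_inv]; group
        rw [h3]
        exact h1 }
  have hKn : K.Normal := by
    refine ⟨fun n hn m x hx => ?_⟩
    have hx' := hNC _ (inv_mem m.2) x hx
    rw [inv_inv] at hx'
    have h1 := hNP m m.2 _ (hn _ hx')
    have h3 : ((m * n * m⁻¹ : N) : G) * x * ((m * n * m⁻¹ : N) : G)⁻¹ * x⁻¹ =
        (m : G) * ((n : G) * ((m : G)⁻¹ * x * (m : G)) * (n : G)⁻¹ * ((m : G)⁻¹ * x * (m : G))⁻¹) *
          (m : G)⁻¹ := by
      simp only [Subgroup.coe_mul, Subgroup.coe_inv]; group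
    rw [h3]
    exact h1
  -- the element of order 3
  set e := φ (em S.two α β h) with he
  have e1 : e * ww φ = φ (jm α β h) * e := by rw [he, ← map_mul, em_wm, map_mul]
  have e2 : e * φ (jm α β h) = ww φ * φ (jm α β h) * e := by
    rw [he, ← map_mul, em_jm, map_mul, map_mul]
  have heN : e ∈ N := by
    apply Rig.mem_normalizer_of_finite
    intro u hu
    have hle : (P : Subgroup G) ≤ ((P : Subgroup G).comap (MulAut.conj e).toMonoidHom) := by
      nth_rw 1 [hP]
      rw [closure_le]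
      rintro y (rfl | rfl | rfl)
      · change e * y * e⁻¹ ∈ (P : Subgroup G)
        rw [he, ← S.comm_range, mul_inv_cancel_right]
        exact ht
      · change e * ww φ * e⁻¹ ∈ (P : Subgroup G)
        rw [e1, mul_inv_cancel_right]
        exact hj
      · change e * φ (jm α β h) * e⁻¹ ∈ (P : Subgroup G)
        rw [e2, mul_inv_cancel_right]
        exact mul_mem hw hj
    exact hle hu
  have heK : (⟨e, heN⟩ : N) ∈ K := by
    intro x hx
    change e * x * e⁻¹ * x⁻¹ ∈ (P : Subgroup G)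
    have htx : t * x = x * t := (hx t ht).symm
    obtain ⟨g, hg⟩ := S.normalises htx (em S.two α β h)⁻¹
    have h1 : e * x * e⁻¹ * x⁻¹ = φ (em S.two α β h * g) := by
      rw [map_mul, ← hg, ← he, map_inv, ← he]; group
    have h2 : ∀ y ∈ (P : Subgroup G), (e * x * e⁻¹ * x⁻¹) * y = y * (e * x * e⁻¹ * x⁻¹) := by
      intro y hy
      have h3 := hNC e heN x hx y hy
      have h4 := hx y hy
      calc (e * x * e⁻¹ * x⁻¹) * y = (e * x * e⁻¹) * x⁻¹ * (y * x) * x⁻¹ := by group
        _ = (e * x * e⁻¹) * y * x⁻¹ := by rw [← h4]; group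
        _ = _ := by rw [h3]; group
    rw [h1] at h2 ⊢
    rcases S.of_comm h (h2 _ hw) (h2 _ hj) with h5 | h5 | h5 | h5 <;> rw [h5]
    · exact one_mem _
    · exact hw
    · exact hj
    · exact mul_mem hw hj
  have hfix : fixedPoints K X ≠ .univ := by
    intro hc
    have h1 : (⟨ww φ, hw, S.ww_ne⟩ : X) ∈ fixedPoints K X := by rw [hc]; exact Set.mem_univ _
    have h2 := congrArg (Subtype.val) (h1 ⟨⟨e, heN⟩, heK⟩)
    change e * ww φ * e⁻¹ = ww φ at h2
    rw [e1, mul_inv_cancel_right] at h2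
    exact S.jm_ne_ww h h2
  have hKtr : IsPretransitive K X := IsQuasiPreprimitive.isPretransitive_of_normal hfix
  obtain ⟨n, hn⟩ := hKtr.exists_smul_eq (⟨t, ht, S.t_ne⟩ : X) ⟨z, hz, hz1⟩
  refine ⟨((n : N) : G), congrArg Subtype.val hn, fun x hx => ?_⟩
  have := (inv_mem n.2 : (n : N)⁻¹ ∈ K) x hx
  rw [Subgroup.coe_inv, inv_inv] at this
  exact this

end RE

end Cfsg.Agent.HKS.ReeEnd
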