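import Mathlib
import Cfsg.Agent.HKS.ReeEnd4
import Cfsg.Agent.Walter.NoFieldTransfer
import Cfsg.Agent.HKS.LinTriv

/-!
# Strongly split groups with `C_G(t) ≥ ⟨t⟩ × PSL(2,q)`: transfer

If `A₁ ≠ ⟨t⟩` there are an odd prime `ℓ` dividing `|D|` and `ζ : C(t) → μ_ℓ`, trivial on `L⟨t⟩`, nontrivial on `A₁`; by
transfer `ℓ` divides `|G : C(t)| = q² (q² - q + 1)`.
-/

set_option autoImplicit false

namespace Cfsg.Agent.HKS.ReeEnd

open Subgroup MulAction Cfsg.Agent.HKS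
open Cfsg.Agent.Lib.SL2Mat

/-- a nontrivial character of prime order -/
theorem exists_prime_char (Q : Type*) [CommGroup Q] [Finite Q] [Nontrivial Q] :
    ∃ (l : ℕ) (χ : Q →* ℂˣ), l.Prime ∧ χ ≠ 1 ∧ ∀ x, χ x ^ l = 1 := by
  obtain ⟨l, hl, hdvd⟩ := Nat.exists_prime_and_dvd (Finite.one_lt_card (α := Q)).ne'
  have : Fact l.Prime := ⟨hl⟩
  obtain ⟨x, hx⟩ := exists_prime_orderOf_dvd_card' l hdvd
  set R : Subgroup Q := (powMonoidHom l : Q →* Q).range with hR
  have hR1 : R ≠ ⊤ := by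
    intro hc
    have h1 : Function.Surjective (powMonoidHom l : Q →* Q) := MonoidHom.range_eq_top.1 hc
    have h2 := Finite.injective_iff_surjective.2 h1
    have h3 : x = 1 := h2 (by
      rw [map_one, powMonoidHom_apply, ← hx, pow_orderOf_eq_one])
    rw [h3, orderOf_one] at hx
    exact hl.one_lt.ne hx
  have hnt : Nontrivial (Q ⧸ R) := by
    obtain ⟨y, hy⟩ : ∃ y, y ∉ R := by
      by_contra hc
      push Not at hc
      exact hR1 (eq_top_iff.2 fun y _ => hc y)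
    exact ⟨⟨(y : Q ⧸ R), 1, fun hc => hy ((QuotientGroup.eq_one_iff y).1 hc)⟩⟩
  obtain ⟨θ, hθ⟩ := LinTriv.exists_hom_ne_one (Q ⧸ R)
  refine ⟨l, θ.comp (QuotientGroup.mk' R), hl, fun hc => hθ ?_, fun y => ?_⟩
  · refine MonoidHom.ext fun y => ?_
    obtain ⟨y, rfl⟩ := QuotientGroup.mk'_surjective _ y
    have := DFunLike.congr_fun hc y
    rw [MonoidHom.comp_apply] at this
    rw [this, MonoidHom.one_apply, MonoidHom.one_apply]
  · rw [← map_pow, MonoidHom.comp_apply]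
    have e : (QuotientGroup.mk' R) (y ^ l) = 1 :=
      (QuotientGroup.eq_one_iff _).2 ⟨y, powMonoidHom_apply l y⟩
    rw [e, map_one]

/-- the index of the centraliser of `t` -/
theorem index_centralizer {G : Type*} [Group G] [Finite G] (t : G) :
    (centralizer ({t} : Set G)).index = Nat.card {s : G // IsConj t s} := by
  rw [Subgroup.index]
  refine Nat.card_congr (Equiv.ofBijective
    (Quotient.lift (s := QuotientGroup.leftRel (centralizer ({t} : Set G)))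
      (fun g => (⟨g * t * g⁻¹, isConj_iff.2 ⟨g, rfl⟩⟩ : {s : G // IsConj t s})) ?_) ⟨?_, ?_⟩)
  · intro g k hgk
    have h1 : g⁻¹ * k ∈ centralizer ({t} : Set G) := QuotientGroup.leftRel_apply.1 hgk
    rw [mem_centralizer_singleton_iff] at h1
    apply Subtype.ext
    change g * t * g⁻¹ = k * t * k⁻¹
    calc g * t * g⁻¹ = g * (t * (g⁻¹ * k)) * k⁻¹ := by group
      _ = k * t * k⁻¹ := by rw [← h1]; group
  · intro x y hxy
    induction x using QuotientGroup.induction_on with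
    | H g =>
      induction y using QuotientGroup.induction_on with
      | H k =>
        have h1 : g * t * g⁻¹ = k * t * k⁻¹ := congrArg Subtype.val hxy
        apply QuotientGroup.eq.2
        rw [mem_centralizer_singleton_iff]
        calc g⁻¹ * k * t = g⁻¹ * (k * t * k⁻¹) * k := by group
          _ = t * (g⁻¹ * k) := by rw [← h1]; group
  · rintro ⟨s, hs⟩
    obtain ⟨g, rfl⟩ := isConj_iff.1 hs
    exact ⟨(g : G ⧸ centralizer ({t} : Set G)), rfl⟩

namespace RE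

variable {G Ω F : Type*} [Group G] [MulAction G Ω] [Field F] {U : Ω → Subgroup G} {a b : Ω}
  {t : G} {φ : Matrix.SpecialLinearGroup (Fin 2) F →* G}

theorem mem_cent {x : G} : x ∈ centralizer ({t} : Set G) ↔ t * x = x * t := by
  rw [mem_centralizer_singleton_iff]
  exact eq_comm

theorem A₁_le_cent (S : RE U a b t φ) {x : G} (hx : x ∈ A₁ a b φ) :
    x ∈ centralizer ({t} : Set G) := mem_cent.2 (S.comm_A₁ hx)

theorem Dab_le_cent (S : RE U a b t φ) : Dab G a b ≤ centralizer ({t} : Set G) :=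
  fun _ hx => mem_cent.2 (S.comm_D hx)

/-- elements of `C(x)`, `x ∈ A₁` of odd order, fusing the involutions of `P` -/
theorem fuse_odd (S : RE U a b t φ) [Finite G] [Finite F] {α β : F} (h : α ^ 2 + β ^ 2 = -1)
    (hA : ∀ x ∈ A₁ a b φ, x * φ (jm α β h) * x⁻¹ = φ (jm α β h))
    {P : Sylow 2 G} (hP : (P : Subgroup G) = closure {t, ww φ, φ (jm α β h)}) {x : G}
    (hx : x ∈ A₁ a b φ) {m : ℕ} (hm : Odd m) (hxm : x ^ m = 1) :
    (P : Subgroup G) ≤ centralizer ({x} : Set G) ∧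
    ∀ s ∈ (P : Subgroup G), s ≠ 1 → s * s = 1 →
      ∃ n ∈ centralizer ({x} : Set G), n * t * n⁻¹ = s := by
  have h1 : (P : Subgroup G) ≤ centralizer {x} := by
    rw [hP, closure_le]
    rintro y (rfl | rfl | rfl)
    · rw [SetLike.mem_coe, mem_centralizer_singleton_iff]; exact S.comm_A₁ hx
    · rw [SetLike.mem_coe, mem_centralizer_singleton_iff]; exact (mem_A₁.1 hx).2.symm
    · rw [SetLike.mem_coe, mem_centralizer_singleton_iff]
      have := hA x hx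
      rw [mul_inv_eq_iff_eq_mul] at this
      exact this.symm
  have hxP : ∀ y ∈ (P : Subgroup G), x * y = y * x := by
    intro y hy
    have := h1 hy
    rw [mem_centralizer_singleton_iff] at this
    exact this.symm
  refine ⟨h1, fun s hs hs1 _ => ?_⟩
  obtain ⟨n, hn, hn2⟩ := S.exists_K h hP hs hs1
  have h2 := hn2 x hxP
  refine ⟨n, ?_, hn⟩
  obtain ⟨s', hs'⟩ : ∃ s', s' = n⁻¹ * x * n * x⁻¹ := ⟨_, rfl⟩
  rw [← hs'] at h2
  have h3 : n⁻¹ * x * n = s' * x := by rw [hs']; group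
  have h4 : Commute s' x := (hxP s' h2).symm
  have h5 : s' = 1 := by
    have h6 : (s' * x) ^ m = 1 := by
      rw [← h3]
      have : n⁻¹ * x * n = n⁻¹ * x * (n⁻¹)⁻¹ := by rw [inv_inv]
      rw [this, conj_pow, hxm]; group
    rw [h4.mul_pow, hxm, mul_one] at h6
    obtain ⟨j, rfl⟩ := hm
    rwa [pow_succ, pow_mul, sq, (S.syl P).2 s' h2, one_pow, one_mul] at h6
  rw [h5, one_mul] at h3
  rw [mem_centralizer_singleton_iff]
  calc n * x = n * (n⁻¹ * x * n) := by rw [h3]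
    _ = x * n := by group

/-- the subgroup `L⟨t⟩` of `C(t)` -/
def N₁ (S : RE U a b t φ) : Subgroup (centralizer ({t} : Set G)) where
  carrier := {c | ∃ x, (c : G) = φ x ∨ (c : G) = t * φ x}
  one_mem' := ⟨1, Or.inl (by rw [map_one]; rfl)⟩
  mul_mem' := by
    rintro c d ⟨x, hx⟩ ⟨y, hy⟩
    refine ⟨x * y, ?_⟩
    rw [map_mul, Subgroup.coe_mul]
    rcases hx with hx | hx <;> rcases hy with hy | hy <;> rw [hx, hy]
    · left; rfl
    · right; rw [← mul_assoc, ← S.comm_range, mul_assoc]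
    · right; rw [mul_assoc]
    · left
      calc t * φ x * (t * φ y) = t * (φ x * t) * φ y := by group
        _ = (t * t) * (φ x * φ y) := by rw [← S.comm_range]; group
        _ = φ x * φ y := by rw [S.t_sq, one_mul]
  inv_mem' := by
    rintro c ⟨x, hx⟩
    refine ⟨x⁻¹, ?_⟩
    rw [Subgroup.coe_inv]
    rcases hx with hx | hx <;> rw [hx]
    · left; rw [map_inv]
    · right
      rw [mul_inv_rev, S.t_inv, ← map_inv, S.comm_range]

theorem N₁_normal (S : RE U a b t φ) : (S.N₁).Normal := by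
  refine ⟨fun c hc g => ?_⟩
  obtain ⟨x, hx⟩ := hc
  have hg := mem_cent.1 g.2
  obtain ⟨y, hy⟩ := S.normalises hg x
  refine ⟨y, ?_⟩
  rw [Subgroup.coe_mul, Subgroup.coe_mul, Subgroup.coe_inv]
  rcases hx with hx | hx <;> rw [hx]
  · left; exact hy
  · right
    calc (g : G) * (t * φ x) * (g : G)⁻¹ = ((g : G) * t) * φ x * (g : G)⁻¹ := by group
      _ = t * ((g : G) * φ x * (g : G)⁻¹) := by rw [← hg]; group
      _ = _ := by rw [hy]

/-- **the character `ζ`** -/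
theorem exists_zeta (S : RE U a b t φ) [Finite G] [Finite F] {p k : ℕ} [Finite Ω]
    [FaithfulSMul G Ω] (C : CtxE U a b p k) (T : TwoOne.TO U p k a b) {x₀ : G}
    (hx₀ : x₀ ∈ A₁ a b φ) (h1 : x₀ ≠ 1) (ht : x₀ ≠ t) :
    ∃ (l : ℕ) (ζ : centralizer ({t} : Set G) →* ℂˣ), l.Prime ∧ (∀ x, ζ x ^ l = 1) ∧
      (∀ x (hx : φ x ∈ centralizer ({t} : Set G)), ζ ⟨φ x, hx⟩ = 1) ∧
      (∀ hx : t ∈ centralizer ({t} : Set G), ζ ⟨t, hx⟩ = 1) ∧
      ∃ y, ∃ hy : y ∈ A₁ a b φ, ζ ⟨y, S.A₁_le_cent hy⟩ ≠ 1 := by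
  have hn := S.N₁_normal
  -- every element of the quotient comes from `A₁`
  have hrep : ∀ c : centralizer ({t} : Set G), ∃ y, ∃ hy : y ∈ A₁ a b φ,
      (QuotientGroup.mk' S.N₁) c = (QuotientGroup.mk' S.N₁) ⟨y, S.A₁_le_cent hy⟩ := by
    intro c
    obtain ⟨x, y, hy, he⟩ := S.exists_mul_A₁ (mem_cent.1 c.2)
    refine ⟨y, hy, ?_⟩
    have h2 : c = (⟨φ x, mem_cent.2 (S.comm_range x)⟩ : centralizer ({t} : Set G)) *
        ⟨y, S.A₁_le_cent hy⟩ := Subtype.ext he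
    have e : (QuotientGroup.mk' S.N₁) (⟨φ x, mem_cent.2 (S.comm_range x)⟩ :
        centralizer ({t} : Set G)) = 1 := (QuotientGroup.eq_one_iff _).2 ⟨x, Or.inl rfl⟩
    rw [h2, map_mul, e, one_mul]
  have hcomm : ∀ c d : centralizer ({t} : Set G) ⧸ S.N₁, c * d = d * c := by
    intro c d
    obtain ⟨c, rfl⟩ := QuotientGroup.mk'_surjective _ c
    obtain ⟨d, rfl⟩ := QuotientGroup.mk'_surjective _ d
    obtain ⟨x, hx, hcx⟩ := hrep c
    obtain ⟨y, hy, hdy⟩ := hrep d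
    rw [hcx, hdy, ← map_mul, ← map_mul]
    have h2 := S.A₁_comm C T hx hy
    have h3 : (⟨x, S.A₁_le_cent hx⟩ : centralizer ({t} : Set G)) * ⟨y, S.A₁_le_cent hy⟩ =
        (⟨x, S.A₁_le_cent hx⟩ * ⟨y, S.A₁_le_cent hy⟩ * ⟨x, S.A₁_le_cent hx⟩⁻¹ *
          ⟨y, S.A₁_le_cent hy⟩⁻¹) * (⟨y, S.A₁_le_cent hy⟩ * ⟨x, S.A₁_le_cent hx⟩) := by group
    have h4 : ((⟨x, S.A₁_le_cent hx⟩ : centralizer ({t} : Set G)) * ⟨y, S.A₁_le_cent hy⟩ *
        ⟨x, S.A₁_le_cent hx⟩⁻¹ * ⟨y, S.A₁_le_cent hy⟩⁻¹) ∈ S.N₁ := by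
      refine ⟨1, ?_⟩
      rw [map_one, mul_one]
      exact h2
    have e := (QuotientGroup.eq_one_iff _).2 h4
    rw [h3, map_mul _ (_ * _ * _ * _)]
    change ((_ : centralizer ({t} : Set G) ⧸ S.N₁)) * _ = _
    rw [show (QuotientGroup.mk' S.N₁) ((⟨x, S.A₁_le_cent hx⟩ : centralizer ({t} : Set G)) *
      ⟨y, S.A₁_le_cent hy⟩ * ⟨x, S.A₁_le_cent hx⟩⁻¹ * ⟨y, S.A₁_le_cent hy⟩⁻¹) = 1 from e, one_mul]
  let _ : CommGroup (centralizer ({t} : Set G) ⧸ S.N₁) := { mul_comm := hcomm }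
  have hnt : Nontrivial (centralizer ({t} : Set G) ⧸ S.N₁) := by
    refine ⟨⟨(QuotientGroup.mk' S.N₁) ⟨x₀, S.A₁_le_cent hx₀⟩, 1, fun hc => ?_⟩⟩
    obtain ⟨x, hx⟩ := (QuotientGroup.eq_one_iff _).1 hc
    change x₀ = φ x ∨ x₀ = t * φ x at hx
    have h2 : φ x ∈ A₁ a b φ := by
      rcases hx with hx | hx
      · rw [← hx]; exact hx₀
      · have : φ x = t⁻¹ * x₀ := by rw [hx]; group
        rw [this]
        exact mul_mem (inv_mem S.t_mem_A₁) hx₀
    rw [S.A₁_range h2, mul_one] at hx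
    rcases hx with hx | hx
    · exact h1 hx
    · exact ht hx
  obtain ⟨l, χ, hl, hχ, hχl⟩ := exists_prime_char (centralizer ({t} : Set G) ⧸ S.N₁)
  refine ⟨l, χ.comp (QuotientGroup.mk' S.N₁), hl, fun x => hχl _, fun x hx => ?_, fun hx => ?_, ?_⟩
  · have e : (QuotientGroup.mk' S.N₁) (⟨φ x, hx⟩ : centralizer ({t} : Set G)) = 1 :=
      (QuotientGroup.eq_one_iff _).2 ⟨x, Or.inl rfl⟩
    rw [MonoidHom.comp_apply, e, map_one]
  · have e : (QuotientGroup.mk' S.N₁) (⟨t, hx⟩ : centralizer ({t} : Set G)) = 1 :=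
      (QuotientGroup.eq_one_iff _).2 ⟨1, Or.inr (by rw [map_one, mul_one])⟩
    rw [MonoidHom.comp_apply, e, map_one]
  · by_contra hc
    push Not at hc
    apply hχ
    refine MonoidHom.ext fun c => ?_
    obtain ⟨c, rfl⟩ := QuotientGroup.mk'_surjective _ c
    obtain ⟨y, hy, hcy⟩ := hrep c
    rw [hcy]
    have := hc y hy
    rw [MonoidHom.comp_apply] at this
    rw [this, MonoidHom.one_apply]

/-- **transfer** -/
theorem dvd_index (S : RE U a b t φ) [Finite G] [Finite F] {p k : ℕ} [Finite Ω]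
    [FaithfulSMul G Ω] (C : CtxE U a b p k) {l : ℕ} (hl : l.Prime)
    {ζ : centralizer ({t} : Set G) →* ℂˣ} (hζl : ∀ x, ζ x ^ l = 1)
    (hζt : ∀ hx : t ∈ centralizer ({t} : Set G), ζ ⟨t, hx⟩ = 1) {y : G} (hy : y ∈ A₁ a b φ)
    (hζy : ζ ⟨y, S.A₁_le_cent hy⟩ ≠ 1) :
    l ∣ Nat.card (Dab G a b) ∧ Odd l ∧ l ∣ (centralizer ({t} : Set G)).index := by
  have : Fact l.Prime := ⟨hl⟩
  have hord : orderOf (ζ ⟨y, S.A₁_le_cent hy⟩) = l :=
    orderOf_eq_prime (hζl _) hζy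
  have hyD := (mem_A₁.1 hy).1
  -- `l ∣ orderOf y`
  have hly : ∀ m, y ^ m = 1 → l ∣ m := by
    intro m hm
    rw [← hord]
    apply orderOf_dvd_of_pow_eq_one
    rw [← map_pow]
    have : (⟨y, S.A₁_le_cent hy⟩ : centralizer ({t} : Set G)) ^ m = 1 := Subtype.ext hm
    rw [this, map_one]
  have h1 : l ∣ Nat.card (Dab G a b) := by
    apply hly
    have := pow_card_eq_one' (x := (⟨y, hyD⟩ : Dab G a b))
    exact congrArg Subtype.val this
  obtain ⟨m, hm, hmt⟩ := S.D_pow hyD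
  have hlm : l ∣ m := by
    rw [← hord]
    apply orderOf_dvd_of_pow_eq_one
    rw [← map_pow]
    rcases hmt with h2 | h2
    · have : (⟨y, S.A₁_le_cent hy⟩ : centralizer ({t} : Set G)) ^ m = 1 := Subtype.ext h2
      rw [this, map_one]
    · have : (⟨y, S.A₁_le_cent hy⟩ : centralizer ({t} : Set G)) ^ m =
        ⟨t, mem_cent.2 rfl⟩ := Subtype.ext h2
      rw [this, hζt]
  have hlo : Odd l := hm.of_dvd_nat hlm
  refine ⟨h1, hlo, ?_⟩
  by_contra hind
  -- the `l`-part of `y`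
  obtain ⟨e, m', hm', he⟩ := Nat.exists_eq_pow_mul_and_not_dvd (orderOf_pos y).ne' l hl.ne_one
  have hg : y ^ m' ∈ A₁ a b φ := pow_mem hy m'
  have hgo : (y ^ m') ^ l ^ e = 1 := by
    rw [← pow_mul, mul_comm, ← he, pow_orderOf_eq_one]
  obtain ⟨α, β, h, hA⟩ := S.exists_jm
  obtain ⟨P, hP⟩ := S.exists_sylow h
  obtain ⟨h3, h4⟩ := S.fuse_odd h hA hP hg (hlo.pow) hgo
  let ζ' : centralizer ({t} : Set G) →* rootsOfUnity l ℂ :=
    ζ.codRestrict (rootsOfUnity l ℂ) (fun x => (mem_rootsOfUnity _ _).2 (hζl x))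
  have hG : ∀ f : G →* rootsOfUnity l ℂ, f = 1 := by
    intro f
    have hker : (⨆ c, U c) ≤ f.ker := by
      refine iSup_le fun c u hu => ?_
      rw [MonoidHom.mem_ker]
      have hc : Nat.card (U c) = p ^ k := by
        rw [← C.cardU]
        have e1 := C.split.card a
        have e2 := C.split.card c
        omega
      have h5 : f u ^ (p ^ k) = 1 := by
        rw [← map_pow, ← hc]
        have := pow_card_eq_one' (x := (⟨u, hu⟩ : U c))
        have h6 : u ^ Nat.card (U c) = 1 := congrArg Subtype.val this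
        rw [h6, map_one]
      have h6 : f u ^ l = 1 := by
        apply Subtype.ext
        exact (mem_rootsOfUnity _ _).1 (f u).2
      have hcop : Nat.Coprime (p ^ k) l := by
        apply Nat.Coprime.pow_left
        rw [Nat.coprime_primes C.prime hl]
        rintro rfl
        exact C.split.not_dvd_Dab C.gen C.ne C.prime C.p_ne_two C.cardU h1
      have h7 := Nat.dvd_gcd (orderOf_dvd_of_pow_eq_one h5) (orderOf_dvd_of_pow_eq_one h6)
      rw [hcop, Nat.dvd_one] at h7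
      exact orderOf_eq_one_iff.1 h7
    rw [C.gen] at hker
    ext x : 1
    exact hker (mem_top x)
  have h5 := Cfsg.Agent.Walter.NoFieldTransfer.eq_one (S := P) (t := t) hG
    (orderOf_eq_prime (by rw [sq]; exact S.t_sq) S.t_ne) ζ' (S.A₁_le_cent hg) h3 h4 hl
    (by
      obtain ⟨j, -, hj⟩ := (Nat.dvd_prime_pow hl).1 (orderOf_dvd_of_pow_eq_one hgo)
      exact ⟨j, hj⟩) hind
  have h6 : ζ ⟨y ^ m', S.A₁_le_cent hg⟩ = 1 := congrArg Subtype.val h5
  have h7 : ζ ⟨y, S.A₁_le_cent hy⟩ ^ m' = 1 := by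
    rw [← map_pow]
    exact h6
  apply hm'
  rw [← hord]
  exact orderOf_dvd_of_pow_eq_one h7

/-- **the numerical consequence** -/
theorem dvd_num (S : RE U a b t φ) [Finite G] [Finite F] {p k : ℕ} [Finite Ω]
    [FaithfulSMul G Ω] (C : CtxE U a b p k) {l : ℕ} (hl : l.Prime)
    {ζ : centralizer ({t} : Set G) →* ℂˣ} (hζl : ∀ x, ζ x ^ l = 1)
    (hζt : ∀ hx : t ∈ centralizer ({t} : Set G), ζ ⟨t, hx⟩ = 1) {y : G} (hy : y ∈ A₁ a b φ)
    (hζy : ζ ⟨y, S.A₁_le_cent hy⟩ ≠ 1) :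
    l ∣ Nat.card F ^ 2 + 1 - Nat.card F := by
  obtain ⟨h1, -, h2⟩ := S.dvd_index C hl hζl hζt hy hζy
  rw [index_centralizer, S.card_U.2] at h2
  rcases (Nat.Prime.dvd_mul hl).1 h2 with h3 | h3
  · exfalso
    have h4 : l ∣ Nat.card (U a) := by
      rw [S.card_U.1]
      exact (hl.dvd_of_dvd_pow h3).trans (dvd_pow_self _ three_ne_zero)
    rw [C.cardU] at h4
    have h5 := hl.dvd_of_dvd_pow h4
    rw [Nat.prime_dvd_prime_iff_eq hl C.prime] at h5
    rw [h5] at h1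
    exact C.split.not_dvd_Dab C.gen C.ne C.prime C.p_ne_two C.cardU h1
  · exact h3

end RE

end Cfsg.Agent.HKS.ReeEnd
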