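import Mathlib
import Cfsg.Agent.HKS.ReeEnd5
import Cfsg.Agent.HKS.LinHecke

/-!
# Strongly split groups with `C_G(t) ≥ ⟨t⟩ × PSL(2,q)`: no field automorphisms

`A₁ = ⟨t⟩`, `D = (D ∩ L) × ⟨t⟩` is cyclic of order `q - 1`, `C(t) = ⟨t⟩ × L`.
-/

set_option autoImplicit false

namespace Cfsg.Agent.HKS.ReeEnd

open Subgroup MulAction Cfsg.Agent.HKS
open Cfsg.Agent.Lib.SL2Mat

/-- the arithmetic contradiction -/
theorem num_false {l q : ℤ} (hl : Prime l) (h3 : ¬ l ∣ 3) (h1 : l ∣ q ^ 2 + 1 - q)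
    (h2 : l ∣ (q + 1) * (q ^ 2 - 1) ∨ l ∣ (q ^ 2 + 1) * (q - 1)) : False := by
  have a1 : ¬ l ∣ q + 1 := by
    intro h
    apply h3
    have e : (3 : ℤ) = (q ^ 2 + 1 - q) - (q + 1) * (q - 2) := by ring
    rw [e]
    exact dvd_sub h1 (h.mul_right _)
  have a2 : ¬ l ∣ q - 1 := by
    intro h
    apply hl.not_isUnit
    rw [isUnit_iff_dvd_one]
    have e : (1 : ℤ) = (q ^ 2 + 1 - q) - (q - 1) * q := by ring
    rw [e]
    exact dvd_sub h1 (h.mul_right _)
  have a3 : ¬ l ∣ q ^ 2 + 1 := by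
    intro h
    have h4 : l ∣ q := by
      have e : q = (q ^ 2 + 1) - (q ^ 2 + 1 - q) := by ring
      rw [e]
      exact dvd_sub h h1
    apply hl.not_isUnit
    rw [isUnit_iff_dvd_one]
    have e : (1 : ℤ) = (q ^ 2 + 1) - q * q := by ring
    rw [e]
    exact dvd_sub h (h4.mul_right _)
  rcases h2 with h2 | h2
  · have e : (q + 1) * (q ^ 2 - 1) = (q + 1) * ((q + 1) * (q - 1)) := by ring
    rw [e] at h2
    rcases hl.dvd_or_dvd h2 with h | h
    · exact a1 h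
    · rcases hl.dvd_or_dvd h with h | h
      · exact a1 h
      · exact a2 h
  · rcases hl.dvd_or_dvd h2 with h | h
    · exact a3 h
    · exact a2 h

namespace RE

variable {G Ω F : Type*} [Group G] [MulAction G Ω] [Field F] {U : Ω → Subgroup G} {a b : Ω}
  {t : G} {φ : Matrix.SpecialLinearGroup (Fin 2) F →* G}

theorem Wab_le_cent (S : RE U a b t φ) : Wab G a b ≤ centralizer ({t} : Set G) := by
  intro x hx
  by_cases h : x ∈ Dab G a b
  · exact S.Dab_le_cent h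
  · exact mem_cent.2 (S.comm_swaps ((mem_Wab_not_mem_Dab S.ne).1 ⟨hx, h⟩))

/-- `|F| = p ^ e` and `k = 3 e` -/
theorem exists_e (S : RE U a b t φ) [Finite G] [Finite F] {p k : ℕ} [Finite Ω]
    (C : CtxE U a b p k) : ∃ e, 0 < e ∧ Nat.card F = p ^ e ∧ k = 3 * e := by
  have h1 := S.card_U.1
  rw [C.cardU] at h1
  have h2 : Nat.card F ∣ p ^ k := by rw [h1]; exact dvd_pow_self _ three_ne_zero
  obtain ⟨e, -, he⟩ := (Nat.dvd_prime_pow C.prime).1 h2
  have hq1 : 1 < Nat.card F := Finite.one_lt_card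
  have he0 : 0 < e := by
    rcases Nat.eq_zero_or_pos e with h3 | h3
    · rw [he, h3, pow_zero] at hq1
      omega
    · exact h3
  refine ⟨e, he0, he, ?_⟩
  rw [he, ← pow_mul] at h1
  rw [Nat.pow_right_injective C.prime.two_le h1, mul_comm]

/-- the character `λ` -/
theorem hone (S : RE U a b t φ) [Finite G] {ζ : centralizer ({t} : Set G) →* ℂˣ}
    (hζL : ∀ x (hx : φ x ∈ centralizer ({t} : Set G)), ζ ⟨φ x, hx⟩ = 1)
    (hζt : ∀ hx : t ∈ centralizer ({t} : Set G), ζ ⟨t, hx⟩ = 1) (m : Wab G a b)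
    (hm : IsConj t (m : G)) : ζ ⟨m, S.Wab_le_cent m.2⟩ = 1 := by
  obtain ⟨h1, h2⟩ := (S.conj_iff _).1 hm
  by_cases h : (m : G) ∈ Dab G a b
  · have h3 := (S.unique _ h h1).resolve_left h2
    have h4 : (⟨m, S.Wab_le_cent m.2⟩ : centralizer ({t} : Set G)) = ⟨t, mem_cent.2 rfl⟩ :=
      Subtype.ext h3
    rw [h4, hζt]
  · obtain ⟨r, hr, h3⟩ := S.swap_invol h1 ((mem_Wab_not_mem_Dab S.ne).1 ⟨m.2, h⟩)
    rcases h3 with h3 | h3
    · have h4 : (⟨m, S.Wab_le_cent m.2⟩ : centralizer ({t} : Set G)) =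
          ⟨φ (wm r hr), mem_cent.2 (S.comm_range _)⟩ := Subtype.ext h3
      rw [h4, hζL]
    · have h4 : (⟨m, S.Wab_le_cent m.2⟩ : centralizer ({t} : Set G)) =
          ⟨t, mem_cent.2 rfl⟩ * ⟨φ (wm r hr), mem_cent.2 (S.comm_range _)⟩ := Subtype.ext h3
      rw [h4, map_mul, hζL, hζt, one_mul]

/-- **`A₁ = ⟨t⟩`** -/
theorem A₁_eq (S : RE U a b t φ) [Finite G] [Finite F] {p k : ℕ} [Finite Ω]
    [FaithfulSMul G Ω] (C : CtxE U a b p k) (T : TwoOne.TO U p k a b) {x : G}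
    (hx : x ∈ A₁ a b φ) : x = 1 ∨ x = t := by
  by_contra hc
  push Not at hc
  obtain ⟨l, ζ, hl, hζl, hζL, hζt, y, hy, hζy⟩ := S.exists_zeta C T hx hc.1 hc.2
  obtain ⟨hlD, hlo, -⟩ := S.dvd_index C hl hζl hζt hy hζy
  have hnum := S.dvd_num C hl hζl hζt hy hζy
  obtain ⟨e, he0, he, hke⟩ := S.exists_e C
  have hpD := C.split.not_dvd_Dab C.gen C.ne C.prime C.p_ne_two C.cardU
  have hyD := (mem_A₁.1 hy).1
  -- `p = 3`
  have hp3 : p = 3 := by
    obtain ⟨m, hm, hmt⟩ := S.D_pow hyD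
    have h1 : (y * y) ^ m = 1 := by
      rw [← pow_two, ← pow_mul, mul_comm, pow_mul]
      rcases hmt with h | h <;> rw [h]
      · rw [one_pow]
      · rw [pow_two, S.t_sq]
    have h2 : y * y ≠ 1 := by
      intro h
      rcases S.unique y hyD h with h3 | h3
      · apply hζy
        have : (⟨y, S.A₁_le_cent hy⟩ : centralizer ({t} : Set G)) = 1 := Subtype.ext h3
        rw [this, map_one]
      · apply hζy
        have : (⟨y, S.A₁_le_cent hy⟩ : centralizer ({t} : Set G)) = ⟨t, mem_cent.2 rfl⟩ :=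
          Subtype.ext h3
        rw [this, hζt]
    obtain ⟨n, hn, h3, -⟩ := S.dr_of_odd C T (mul_mem hy hy) h2 hm h1
    have h4 : Nat.card (U a ⊓ centralizer (zpowers (y * y) : Set G) : Subgroup G) ∣ p ^ k := by
      rw [← C.cardU]; exact card_dvd_of_le inf_le_left
    rw [h3] at h4
    have h5 : 3 ∣ (3 ^ n) ^ 3 := by
      rw [← pow_mul]
      exact dvd_pow_self 3 (Nat.mul_ne_zero hn.pos.ne' three_ne_zero)
    have h6 := Nat.prime_three.dvd_of_dvd_pow (h5.trans h4)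
    exact ((Nat.prime_dvd_prime_iff_eq Nat.prime_three C.prime).1 h6).symm
  have hl3 : ¬ (l : ℤ) ∣ 3 := by
    intro h
    have h1 : l ∣ 3 := by exact_mod_cast h
    have h2 := (Nat.prime_dvd_prime_iff_eq hl Nat.prime_three).1 h1
    rw [h2] at hlD
    rw [hp3] at hpD
    exact hpD hlD
  -- the Hecke relation
  obtain ⟨c, hc⟩ : ∃ c : Ω, t • c ≠ c := by
    by_contra hcc
    push Not at hcc
    apply S.t_ne
    apply FaithfulSMul.eq_of_smul_eq_smul (α := Ω)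
    intro c
    rw [hcc c, one_smul]
  obtain ⟨X, Y, hXY, hX, hY, hdvd, ψ, hψ, h1, h2⟩ := LinHecke.lin_char_prime C.split C.gen C.ne
    C.prime C.p_ne_two C.cardU (ζ.comp (Subgroup.inclusion S.Wab_le_cent)) hl
    (fun g => hζl _) (d := ⟨y, Dab_le_Wab a b hyD⟩) hyD hζy S.t_sq hc
    (fun m hm => S.hone hζL hζt m hm)
  obtain ⟨-, h3⟩ := LinSplit.arith_cube C.split C.prime C.cardU S.t_sq
    (by rw [S.card_fixedBy, he]) hXY hX hY hψ h1 h2 he0 (l' := 1) (by rw [hke]; ring) one_pos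
  refine num_false (l := l) (q := (Nat.card F : ℤ)) (Nat.prime_iff_prime_int.1 hl) hl3 ?_ ?_
  · have h4 : Nat.card F ≤ Nat.card F ^ 2 + 1 := by
      have : Nat.card F ≤ Nat.card F ^ 2 := Nat.le_self_pow two_ne_zero _
      omega
    have h5 : ((Nat.card F ^ 2 + 1 - Nat.card F : ℕ) : ℤ) = (Nat.card F : ℤ) ^ 2 + 1 - Nat.card F := by
      rw [Nat.cast_sub h4]; push_cast; ring
    rw [← h5]
    exact_mod_cast hnum
  · rcases h3 with ⟨h3, h4⟩ | ⟨h3, h4⟩
    · left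
      rw [h3, h4] at hdvd
      rw [he]
      push_cast at hdvd ⊢
      rw [mul_comm 2 e, pow_mul] at hdvd
      exact hdvd
    · right
      rw [h3, h4] at hdvd
      rw [he]
      push_cast at hdvd ⊢
      rw [mul_comm 2 e, pow_mul] at hdvd
      exact hdvd

/-- elements of `D` -/
theorem D_eq (S : RE U a b t φ) [Finite G] [Finite F] {p k : ℕ} [Finite Ω]
    [FaithfulSMul G Ω] (C : CtxE U a b p k) (T : TwoOne.TO U p k a b) {x : G}
    (hx : x ∈ Dab G a b) : ∃ (r : F) (hr : r ≠ 0), x = φ (dg r hr) ∨ x = t * φ (dg r hr) := by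
  obtain ⟨r, hr, y, hy, rfl⟩ := S.exists_dg_mul hx
  refine ⟨r, hr, ?_⟩
  rcases S.A₁_eq C T hy with rfl | rfl
  · left; rw [mul_one]
  · right; rw [S.comm_range]

/-- elements of `C(t)` -/
theorem cent_eq (S : RE U a b t φ) [Finite G] [Finite F] {p k : ℕ} [Finite Ω]
    [FaithfulSMul G Ω] (C : CtxE U a b p k) (T : TwoOne.TO U p k a b) {x : G}
    (hx : t * x = x * t) : ∃ g, x = φ g ∨ x = t * φ g := by
  obtain ⟨g, y, hy, rfl⟩ := S.exists_mul_A₁ hx
  refine ⟨g, ?_⟩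
  rcases S.A₁_eq C T hy with rfl | rfl
  · left; rw [mul_one]
  · right; rw [S.comm_range]

end RE

end Cfsg.Agent.HKS.ReeEnd
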