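import Mathlib
import Cfsg.Agent.GTwoFour.Tools

/-!
# 2-local analysis, 2-rank of `D` equal to one: the fusion lemmas and the case of type `PSL(2,q)`

* `exists_aut` : if `t` is a central involution of the Sylow 2-subgroup `S` and all involutions of `G`
  are conjugate, then every involution of `Z(S)` is the image of `t` under an automorphism of `S`.
* `exists_iso` : if moreover `t` is the only involution of `Z(S)` and `s ≠ t` is an involution of `S`
  with `|S : C_S(s)| = 2`, then there are an involution `s' ≠ t` with `|S : C_S(s')| = 2` and an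
  isomorphism `C_S(s) → C_S(s')` mapping `t` to `s'`.
* `typeA` : the 2-structure for `L_t` of type `PSL(2,q)`, `q ≡ 3 mod 4`.
-/

set_option autoImplicit false

namespace Cfsg.Agent.HKS.TwoLoc

open Subgroup
open scoped commutatorElement

/-- Every involution of `Z(S)` is the image of `t` under an automorphism of `S`. -/
def FusZ {S : Type*} [Group S] (t : S) : Prop :=
  ∀ u ∈ center S, u ≠ 1 → u * u = 1 → ∃ φ : S ≃* S, φ t = u

/-- The second fusion property. -/
def FusC {S : Type*} [Group S] (t : S) : Prop :=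
  ∀ s : S, s ≠ 1 → s * s = 1 → s ≠ t → (centralizer ({s} : Set S)).index = 2 →
    ∃ s' : S, s' ≠ 1 ∧ s' * s' = 1 ∧ s' ≠ t ∧ (centralizer ({s'} : Set S)).index = 2 ∧
      ∃ φ : centralizer ({s} : Set S) ≃* centralizer ({s'} : Set S),
        ∀ x : centralizer ({s} : Set S), (x : S) = t → (φ x : S) = s'

section Fusion

/-- Conjugation by `g`, as an isomorphism. -/
def conjEquiv {G : Type*} [Group G] {H K : Subgroup G} (g : G)
    (h : ∀ x, x ∈ H ↔ g * x * g⁻¹ ∈ K) : H ≃* K where
  toFun x := ⟨g * x * g⁻¹, (h x).1 x.2⟩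
  invFun y := ⟨g⁻¹ * y * g, (h _).2 (by
    have : g * (g⁻¹ * (y : G) * g) * g⁻¹ = y := by group
    rw [this]; exact y.2)⟩
  left_inv x := Subtype.ext (by
    change g⁻¹ * (g * (x : G) * g⁻¹) * g = x
    group)
  right_inv y := Subtype.ext (by
    change g * (g⁻¹ * (y : G) * g) * g⁻¹ = y
    group)
  map_mul' x y := Subtype.ext (by
    change g * ((x : G) * y) * g⁻¹ = (g * x * g⁻¹) * (g * y * g⁻¹)
    group)

theorem conjEquiv_apply {G : Type*} [Group G] {H K : Subgroup G} (g : G)
    (h : ∀ x, x ∈ H ↔ g * x * g⁻¹ ∈ K) (x : H) : (conjEquiv g h x : G) = g * x * g⁻¹ := rfl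

variable {G : Type*} [Group G] [Finite G]

theorem exists_aut (S : Sylow 2 G) (t : (S : Subgroup G)) (htc : t ∈ center S)
    (hcl : ∀ x y : G, x ≠ 1 → x * x = 1 → y ≠ 1 → y * y = 1 → ∃ g : G, g * x * g⁻¹ = y)
    (ht1 : t ≠ 1) (ht2 : t * t = 1) : FusZ t := by
  intro u hu hu1 hu2
  have hc : ∀ v : (S : Subgroup G), v ∈ center S → (v : G) ∈ centralizer ((S : Subgroup G) : Set G) := by
    intro v hv
    rw [mem_centralizer_iff]
    intro x hx
    have := (mem_center_iff.1 hv) ⟨x, hx⟩
    exact congrArg Subtype.val this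
  have hval : ∀ v : (S : Subgroup G), v ≠ 1 → (v : G) ≠ 1 := fun v hv he => hv (Subtype.ext he)
  have hsq : ∀ v : (S : Subgroup G), v * v = 1 → (v : G) * v = 1 := fun v hv => congrArg Subtype.val hv
  obtain ⟨g, hg⟩ := hcl t u (hval t ht1) (hsq t ht2) (hval u hu1) (hsq u hu2)
  obtain ⟨n, hn, hn'⟩ := S.conj_eq_normalizer_conj_of_mem_centralizer (t : G) g⁻¹ (hc t htc) (by
    rw [inv_inv, hg]; exact hc u hu)
  rw [inv_inv, hg] at hn'
  have hn2 : n⁻¹ ∈ normalizer ((S : Subgroup G) : Set G) := inv_mem hn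
  refine ⟨conjEquiv n⁻¹ (fun x => mem_normalizer_iff.1 hn2 x), ?_⟩
  apply Subtype.ext
  rw [conjEquiv_apply, hn', inv_inv]

/-- Second fusion lemma. -/
theorem exists_iso (S : Sylow 2 G) (t : (S : Subgroup G)) (htc : t ∈ center S)
    (hcl : ∀ x y : G, x ≠ 1 → x * x = 1 → y ≠ 1 → y * y = 1 → ∃ g : G, g * x * g⁻¹ = y)
    (ht1 : t ≠ 1) (ht2 : t * t = 1) (hZ : ∀ u ∈ center S, u * u = 1 → u = 1 ∨ u = t) :
    FusC t := by
  intro s hs1 hs2 hst hind
  have hval : ∀ v : (S : Subgroup G), v ≠ 1 → (v : G) ≠ 1 := fun v hv he => hv (Subtype.ext he)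
  have hsq : ∀ v : (S : Subgroup G), v * v = 1 → (v : G) * v = 1 := fun v hv => congrArg Subtype.val hv
  obtain ⟨g, hg⟩ := hcl s t (hval s hs1) (hsq s hs2) (hval t ht1) (hsq t ht2)
  -- `C = C_G(t)`, `S` is a Sylow subgroup of `C`
  have hSC : (S : Subgroup G) ≤ centralizer ({(t : G)} : Set G) := by
    intro x hx
    rw [mem_centralizer_singleton_iff]
    have := (mem_center_iff.1 htc) ⟨x, hx⟩
    exact congrArg Subtype.val this
  -- the image of the centraliser
  let R : Subgroup G := ((centralizer ({s} : Set (S : Subgroup G))).map (S : Subgroup G).subtype).map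
    (MulAut.conj g).toMonoidHom
  have hmemR : ∀ x : (S : Subgroup G), x * s = s * x → g * (x : G) * g⁻¹ ∈ R := by
    intro x hx
    exact ⟨x, ⟨x, mem_centralizer_singleton_iff.2 hx, rfl⟩, rfl⟩
  have hRC : R ≤ centralizer ({(t : G)} : Set G) := by
    rintro _ ⟨_, ⟨x, hx, rfl⟩, rfl⟩
    have hx' : x * s = s * x := mem_centralizer_singleton_iff.1 hx
    have hx2 : (x : G) * s = s * x := congrArg Subtype.val hx'
    rw [mem_centralizer_singleton_iff]
    change g * (x : G) * g⁻¹ * (t : G) = (t : G) * (g * (x : G) * g⁻¹)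
    rw [← hg]
    calc g * (x : G) * g⁻¹ * (g * s * g⁻¹) = g * ((x : G) * s) * g⁻¹ := by group
      _ = g * (s * (x : G)) * g⁻¹ := by rw [hx2]
      _ = g * s * g⁻¹ * (g * (x : G) * g⁻¹) := by group
  have hRp : IsPGroup 2 R := by
    have h1 : IsPGroup 2 (centralizer ({s} : Set (S : Subgroup G))) := S.2.to_subgroup _
    exact (h1.map _).map _
  -- conjugate `R` into `S` inside `C`
  obtain ⟨c, hc, hcR⟩ : ∃ c ∈ centralizer ({(t : G)} : Set G),
      ∀ x ∈ R, c * x * c⁻¹ ∈ (S : Subgroup G) := by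
    let C := centralizer ({(t : G)} : Set G)
    let SC : Sylow 2 C := S.subtype hSC
    have hp : IsPGroup 2 (R.subgroupOf C) :=
      hRp.of_injective (subgroupOfEquivOfLe hRC).toMonoidHom (subgroupOfEquivOfLe hRC).injective
    obtain ⟨Q, hQ⟩ := hp.exists_le_sylow
    obtain ⟨c, hcQ⟩ := MulAction.exists_smul_eq C Q SC
    refine ⟨c, c.2, fun x hx => ?_⟩
    have h1 : (⟨x, hRC hx⟩ : C) ∈ Q := hQ (mem_subgroupOf.2 hx)
    have h2 : c * ⟨x, hRC hx⟩ * c⁻¹ ∈ ((c • Q : Sylow 2 C) : Subgroup C) := by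
      rw [Sylow.smul_def, Sylow.pointwise_smul_def, mem_pointwise_smul_iff_inv_smul_mem]
      have : (MulAut.conj c)⁻¹ • (c * ⟨x, hRC hx⟩ * c⁻¹) = (⟨x, hRC hx⟩ : C) := by
        rw [← map_inv, MulAut.smul_def, MulAut.conj_apply]
        group
      rw [this]
      exact h1
    rw [hcQ] at h2
    exact h2
  -- the conjugating element
  have hct : c * (t : G) * c⁻¹ = t := by
    rw [mem_centralizer_singleton_iff.1 hc, mul_inv_cancel_right]
  have hk : ∀ x : (S : Subgroup G), x * s = s * x → (c * g) * (x : G) * (c * g)⁻¹ ∈ (S : Subgroup G) := by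
    intro x hx
    have h1 := hcR _ (hmemR x hx)
    have h2 : c * (g * (x : G) * g⁻¹) * c⁻¹ = (c * g) * (x : G) * (c * g)⁻¹ := by group
    rwa [h2] at h1
  have hks : (c * g) * (s : G) * (c * g)⁻¹ = t := by
    have h2 : c * (g * (s : G) * g⁻¹) * c⁻¹ = (c * g) * (s : G) * (c * g)⁻¹ := by group
    rw [← h2, hg, hct]
  generalize c * g = k at hk hks
  have hts : t * s = s * t := ((mem_center_iff.1 htc) s).symm
  set s' : (S : Subgroup G) := ⟨k * (t : G) * k⁻¹, hk t hts⟩ with hs'
  have hs'1 : s' ≠ 1 := by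
    intro he
    have h1 : k * (t : G) * k⁻¹ = 1 := congrArg Subtype.val he
    exact hval t ht1 (conj_eq_one_iff.1 h1)
  have hs'2 : s' * s' = 1 := by
    apply Subtype.ext
    change k * (t : G) * k⁻¹ * (k * (t : G) * k⁻¹) = 1
    have : k * (t : G) * k⁻¹ * (k * (t : G) * k⁻¹) = k * ((t : G) * t) * k⁻¹ := by group
    rw [this, hsq t ht2]
    group
  have hs't : s' ≠ t := by
    intro he
    have h1 : k * (t : G) * k⁻¹ = t := congrArg Subtype.val he
    rw [← hks] at h1
    have h2 : (k * (t : G) * k⁻¹ = k * s * k⁻¹) := by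
      conv_rhs => rw [hks]
      rw [hks] at h1
      exact h1
    have h3 : (t : G) = s := by
      have := mul_right_cancel h2
      exact mul_left_cancel this
    exact hst (Subtype.ext h3.symm)
  -- the map
  have hmap : ∀ x : (S : Subgroup G), x * s = s * x → (k * (x : G) * k⁻¹) * (s' : G) = s' * (k * (x : G) * k⁻¹) := by
    intro x hx
    have h1 : x * t = t * x := (mem_center_iff.1 htc) x
    have h2 : (x : G) * t = t * x := congrArg Subtype.val h1
    change (k * (x : G) * k⁻¹) * (k * (t : G) * k⁻¹) = (k * (t : G) * k⁻¹) * (k * (x : G) * k⁻¹)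
    calc (k * (x : G) * k⁻¹) * (k * (t : G) * k⁻¹) = k * ((x : G) * t) * k⁻¹ := by group
      _ = k * ((t : G) * x) * k⁻¹ := by rw [h2]
      _ = _ := by group
  let f : centralizer ({s} : Set (S : Subgroup G)) →* centralizer ({s'} : Set (S : Subgroup G)) :=
    { toFun := fun x => ⟨⟨k * ((x : (S : Subgroup G)) : G) * k⁻¹, hk x (mem_centralizer_singleton_iff.1 x.2)⟩,
        mem_centralizer_singleton_iff.2 (Subtype.ext
          (hmap x (mem_centralizer_singleton_iff.1 x.2)))⟩
      map_one' := Subtype.ext (Subtype.ext (by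
        change k * (1 : G) * k⁻¹ = 1
        group))
      map_mul' := fun x y => Subtype.ext (Subtype.ext (by
        change k * (((x : (S : Subgroup G)) : G) * ((y : (S : Subgroup G)) : G)) * k⁻¹ =
          (k * ((x : (S : Subgroup G)) : G) * k⁻¹) * (k * ((y : (S : Subgroup G)) : G) * k⁻¹)
        group)) }
  have hfinj : Function.Injective f := by
    intro x y hxy
    have h1 : k * ((x : (S : Subgroup G)) : G) * k⁻¹ = k * ((y : (S : Subgroup G)) : G) * k⁻¹ :=
      congrArg (fun z : centralizer ({s'} : Set (S : Subgroup G)) => ((z : (S : Subgroup G)) : G)) hxy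
    exact Subtype.ext (Subtype.ext (mul_left_cancel (mul_right_cancel h1)))
  have hcard : Nat.card (centralizer ({s} : Set (S : Subgroup G))) ≤ Nat.card (centralizer ({s'} : Set (S : Subgroup G))) :=
    Nat.card_le_card_of_injective f hfinj
  have h1 := (centralizer ({s} : Set (S : Subgroup G))).card_mul_index
  have h2 := (centralizer ({s'} : Set (S : Subgroup G))).card_mul_index
  have hi1 : (centralizer ({s'} : Set (S : Subgroup G))).index ≠ 1 := by
    intro hc
    rw [index_eq_one] at hc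
    have h3 : s' ∈ center S := by
      rw [mem_center_iff]
      intro x
      have : x ∈ centralizer ({s'} : Set (S : Subgroup G)) := by rw [hc]; exact mem_top x
      exact mem_centralizer_singleton_iff.1 this
    rcases hZ s' h3 hs'2 with h4 | h4
    · exact hs'1 h4
    · exact hs't h4
  have hi0 : (centralizer ({s'} : Set (S : Subgroup G))).index ≠ 0 := index_ne_zero_of_finite
  have hpos : 0 < Nat.card (centralizer ({s} : Set (S : Subgroup G))) := Nat.card_pos
  have hi2 : (centralizer ({s'} : Set (S : Subgroup G))).index = 2 := by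
    have h3 : Nat.card (centralizer ({s'} : Set (S : Subgroup G))) * (centralizer ({s'} : Set (S : Subgroup G))).index =
        Nat.card (centralizer ({s} : Set (S : Subgroup G))) * 2 := by rw [h2, ← h1, hind]
    by_contra hne
    have h4 : 3 ≤ (centralizer ({s'} : Set (S : Subgroup G))).index := by omega
    have h5 := Nat.mul_le_mul hcard h4
    omega
  refine ⟨s', hs'1, hs'2, hs't, hi2, MulEquiv.ofBijective f ?_, ?_⟩
  · refine (Nat.bijective_iff_injective_and_card _).2 ⟨hfinj, ?_⟩
    rw [hind] at h1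
    rw [hi2] at h2
    omega
  · intro x hx
    apply Subtype.ext
    change k * ((x : (S : Subgroup G)) : G) * k⁻¹ = k * (t : G) * k⁻¹
    rw [hx]

end Fusion


/-! ### Type `PSL(2,q)` -/

section TypeA

variable {S : Type*} [Group S]

/-- A nontrivial normal subgroup of a 2-group contains a central involution. -/
theorem exists_central [Finite S] (hS : IsPGroup 2 S) (L : Subgroup S) [L.Normal] (hL : L ≠ ⊥) :
    ∃ z ∈ L, z ∈ center S ∧ z ≠ 1 ∧ z * z = 1 := by
  have : Fact (Nat.Prime 2) := ⟨Nat.prime_two⟩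
  obtain ⟨z, hzL, hzc, hz1⟩ := GTwoFour.Tools.exists_mem_center_of_normal hS L hL
  obtain ⟨n, hn⟩ := (IsPGroup.iff_orderOf.1 hS) z
  have hn0 : n ≠ 0 := by
    rintro rfl
    rw [pow_zero, orderOf_eq_one_iff] at hn
    exact hz1 hn
  obtain ⟨m, rfl⟩ := Nat.exists_eq_succ_of_ne_zero hn0
  refine ⟨z ^ (2 ^ m), pow_mem hzL _, pow_mem hzc _, ?_, ?_⟩
  · intro hc
    have h1 := orderOf_dvd_of_pow_eq_one hc
    rw [hn] at h1
    have h2 := Nat.le_of_dvd (by positivity) h1
    have h3 : 2 ^ (m + 1) = 2 * 2 ^ m := by ring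
    have h4 : 0 < 2 ^ m := by positivity
    rw [Nat.succ_eq_add_one, h3] at h2
    omega
  · rw [← pow_add, ← two_mul]
    have h3 : 2 * 2 ^ m = 2 ^ (m + 1) := by ring
    rw [h3, ← Nat.succ_eq_add_one, ← hn, pow_orderOf_eq_one]

/-- In a 2-subgroup with the only involution `t`, an element `≠ 1, t` has a power whose square is
`t`. -/
theorem exists_pow_sq [Finite S] (hS : IsPGroup 2 S) {T : Subgroup S} {t : S}
    (hT : ∀ x ∈ T, x * x = 1 → x = 1 ∨ x = t) {x : S} (hx : x ∈ T) (hx1 : x ≠ 1) (hxt : x ≠ t) :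
    ∃ j : ℕ, x ^ j * x ^ j = t := by
  have : Fact (Nat.Prime 2) := ⟨Nat.prime_two⟩
  obtain ⟨n, hn⟩ := (IsPGroup.iff_orderOf.1 hS) x
  have hn0 : n ≠ 0 := by
    rintro rfl
    rw [pow_zero, orderOf_eq_one_iff] at hn
    exact hx1 hn
  have hn1 : n ≠ 1 := by
    rintro rfl
    rw [pow_one] at hn
    have h1 : x * x = 1 := by rw [← pow_two, ← hn, pow_orderOf_eq_one]
    rcases hT x hx h1 with h | h
    · exact hx1 h
    · exact hxt h
  obtain ⟨m, rfl⟩ : ∃ m, n = m + 2 := ⟨n - 2, by omega⟩
  refine ⟨2 ^ m, ?_⟩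
  have h1 : x ^ 2 ^ m * x ^ 2 ^ m = x ^ 2 ^ (m + 1) := by
    rw [← pow_add]
    congr 1
    ring
  have h2 : x ^ 2 ^ (m + 1) * x ^ 2 ^ (m + 1) = 1 := by
    rw [← pow_add]
    have : 2 ^ (m + 1) + 2 ^ (m + 1) = 2 ^ (m + 2) := by ring
    rw [this, ← hn, pow_orderOf_eq_one]
  rw [h1]
  rcases hT _ (pow_mem hx _) h2 with h | h
  · exfalso
    have h3 := orderOf_dvd_of_pow_eq_one h
    rw [hn] at h3
    have h4 := Nat.le_of_dvd (by positivity) h3
    have h5 : 2 ^ (m + 2) = 2 * 2 ^ (m + 1) := by ring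
    have h6 : 0 < 2 ^ (m + 1) := by positivity
    omega
  · exact h

/-- The number of square roots. -/
theorem ncard_roots (φ : S ≃* S) {a b : S} (h : φ a = b) :
    {g : S | g * g = a}.ncard = {g : S | g * g = b}.ncard := by
  refine Set.ncard_congr (fun g _ => φ g) ?_ ?_ ?_
  · intro g hg
    change φ g * φ g = b
    rw [← map_mul, (show g * g = a from hg), h]
  · intro g g' _ _ hgg
    exact φ.injective hgg
  · intro g hg
    refine ⟨φ.symm g, ?_, φ.apply_symm_apply g⟩
    change φ.symm g * φ.symm g = a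
    rw [← map_mul, (show g * g = b from hg), ← h, MulEquiv.symm_apply_apply]

/-- A cyclic group has at most one involution. -/
theorem cyc_inv [Finite S] {Y : Subgroup S} (hc : IsCyclic Y) {z x : S} (hz : z ∈ Y) (hz1 : z ≠ 1)
    (hz2 : z * z = 1) (hx : x ∈ Y) (hx2 : x * x = 1) : x = 1 ∨ x = z := by
  classical
  by_contra hcon
  push Not at hcon
  have hft : Fintype Y := Fintype.ofFinite Y
  have h1 := IsCyclic.card_pow_eq_one_le (α := Y) (n := 2) (by norm_num)
  have h2 : ({1, ⟨z, hz⟩, ⟨x, hx⟩} : Finset Y) ⊆ Finset.univ.filter (fun a : Y => a ^ 2 = 1) := by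
    intro a ha
    rw [Finset.mem_insert, Finset.mem_insert, Finset.mem_singleton] at ha
    rw [Finset.mem_filter]
    refine ⟨Finset.mem_univ _, ?_⟩
    rcases ha with rfl | rfl | rfl
    · exact one_pow 2
    · rw [pow_two]; exact Subtype.ext hz2
    · rw [pow_two]; exact Subtype.ext hx2
  have h3 := (Finset.card_le_card h2).trans h1
  have e1 : (1 : Y) ≠ ⟨z, hz⟩ := fun h => hz1 (congrArg Subtype.val h).symm
  have e2 : (1 : Y) ≠ ⟨x, hx⟩ := fun h => hcon.1 (congrArg Subtype.val h).symm
  have e3 : (⟨z, hz⟩ : Y) ≠ ⟨x, hx⟩ := fun h => hcon.2 (congrArg Subtype.val h).symm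
  rw [Finset.card_insert_of_notMem (by
      rw [Finset.mem_insert, Finset.mem_singleton]; push Not; exact ⟨e1, e2⟩),
    Finset.card_insert_of_notMem (by rw [Finset.mem_singleton]; exact e3),
    Finset.card_singleton] at h3
  omega

/-- The 2-structure for type `PSL(2,q)`, `q ≡ 3 mod 4`. -/
theorem typeA [Finite S] (hS : IsPGroup 2 S) (T K L Y : Subgroup S) [hLn : L.Normal]
    (hTL : T ⊓ L = ⊥) (hsup : T ⊔ L = ⊤) (hKT : K ≤ T) (hidx : K.relIndex T ≤ 2)
    (hKL : ∀ k ∈ K, ∀ y ∈ L, k * y = y * k) (t : S) (htK : t ∈ K) (ht1 : t ≠ 1)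
    (ht2 : t * t = 1) (hT : ∀ x ∈ T, x * x = 1 → x = 1 ∨ x = t) (hYL : Y ≤ L)
    (hYc : IsCyclic Y) (hY : Y ≠ ⊥) (hYi : Y.relIndex L = 2)
    (hLY : ∀ x ∈ L, x ∉ Y → x * x = 1) (hF : FusZ t) :
    (∀ x ∈ T, x = 1 ∨ x = t) ∧ Nat.card S = 8 ∧ ∀ x : S, x * x = 1 := by
  classical
  have : Fact (Nat.Prime 2) := ⟨Nat.prime_two⟩
  have htT : t ∈ T := hKT htK
  have htL : t ∉ L := fun h => ht1 (by
    have h1 : t ∈ T ⊓ L := ⟨htT, h⟩
    rwa [hTL, mem_bot] at h1)
  have hdec : ∀ g : S, ∃ a ∈ T, ∃ y ∈ L, a * y = g := by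
    intro g
    have h1 : g ∈ T ⊔ L := by rw [hsup]; exact mem_top g
    obtain ⟨a, ha, y, hy, h2⟩ := mem_sup_of_normal_right.1 h1
    exact ⟨a, ha, y, hy, h2⟩
  -- `t` is central
  have htcT : ∀ x ∈ T, x * t = t * x := by
    intro x hx
    have h1 : x * t * x⁻¹ ∈ T := mul_mem (mul_mem hx htT) (inv_mem hx)
    have h2 : x * t * x⁻¹ * (x * t * x⁻¹) = 1 := by
      have : x * t * x⁻¹ * (x * t * x⁻¹) = x * (t * t) * x⁻¹ := by group
      rw [this, ht2]; group
    rcases hT _ h1 h2 with h3 | h3
    · exact absurd (conj_eq_one_iff.1 h3) ht1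
    · exact mul_inv_eq_iff_eq_mul.1 h3
  have htc : ∀ g : S, g * t = t * g := by
    intro g
    obtain ⟨a, ha, y, hy, rfl⟩ := hdec g
    rw [mul_assoc, ← hKL t htK y hy, ← mul_assoc, htcT a ha, mul_assoc]
  -- an element of `L ∖ Y` and the involution of `Y`
  obtain ⟨u, huL, huY⟩ : ∃ u ∈ L, u ∉ Y := by
    by_contra hc
    push Not at hc
    have : Y.relIndex L = 1 := relIndex_eq_one.2 hc
    omega
  have hYp : IsPGroup 2 Y := hS.to_subgroup Y
  have hYcomm : ∀ x ∈ Y, ∀ y ∈ Y, x * y = y * x := by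
    intro x hx y hy
    have h1 := hYc.isMulCommutative.is_comm.comm (⟨x, hx⟩ : Y) ⟨y, hy⟩
    exact congrArg Subtype.val h1
  obtain ⟨z', hz'Y, hz'1, hz'2⟩ : ∃ z' ∈ Y, z' ≠ 1 ∧ z' * z' = 1 := by
    obtain ⟨x, hx, hx1⟩ := (Y.ne_bot_iff_exists_ne_one).1 hY |>.elim
      (fun x hx => (⟨x, x.2, fun h => hx (Subtype.ext h)⟩ : ∃ x ∈ Y, x ≠ 1))
    obtain ⟨n, hn⟩ := (IsPGroup.iff_orderOf.1 hS) x
    have h2 : 2 ∣ Nat.card Y := by
      have h3 : orderOf x ∣ Nat.card Y := by
        have := orderOf_dvd_natCard (⟨x, hx⟩ : Y)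
        rwa [orderOf_mk] at this
      refine dvd_trans ?_ h3
      rw [hn]
      refine dvd_pow_self 2 ?_
      rintro rfl
      rw [pow_zero, orderOf_eq_one_iff] at hn
      exact hx1 hn
    obtain ⟨⟨z, hz⟩, hz2⟩ := exists_prime_orderOf_dvd_card' 2 h2
    rw [orderOf_mk] at hz2
    refine ⟨z, hz, ?_, ?_⟩
    · rintro rfl
      rw [orderOf_one] at hz2
      omega
    · rw [← pow_two, ← hz2, pow_orderOf_eq_one]
  have hLbot : L ≠ ⊥ := fun h => huY (by
    rw [h, mem_bot] at huL
    rw [huL]; exact Y.one_mem)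
  -- Step 2: no element centralising `L` has square `t`
  have step2 : ∀ a ∈ T, (∀ y ∈ L, a * y = y * a) → a * a ≠ t := by
    intro a haT haL haa
    obtain ⟨z, hzL, hzc, hz1, hz2⟩ := exists_central hS L hLbot
    obtain ⟨φ, hφ⟩ := hF z hzc hz1 hz2
    have hcount := ncard_roots φ hφ
    -- the roots of `z`
    have hroot : ∀ g : S, g * g = z → ∃ y ∈ Y, y * y = z ∧ (g = y ∨ g = t * y) := by
      intro g hg
      obtain ⟨b, hb, y, hy, rfl⟩ := hdec g
      have h1 : b * b = z * y⁻¹ * (b⁻¹ * y * b)⁻¹ := by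
        rw [← hg]; group
      have h2 : b * b ∈ L := by
        rw [h1]
        exact mul_mem (mul_mem hzL (inv_mem hy)) (inv_mem (hLn.conj_mem' y hy b))
      have h3 : b * b = 1 := by
        have : b * b ∈ T ⊓ L := ⟨mul_mem hb hb, h2⟩
        rwa [hTL, mem_bot] at this
      have h4 : y * y = z ∧ (b * y = y ∨ b * y = t * y) := by
        rcases hT b hb h3 with rfl | rfl
        · refine ⟨?_, Or.inl (one_mul y)⟩
          rw [one_mul] at hg; exact hg
        · refine ⟨?_, Or.inr rfl⟩
          have : b * y * (b * y) = (b * b) * (y * y) := by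
            rw [mul_assoc b y (b * y), ← mul_assoc y b y, htc y]
            group
          rw [← hg, this, h3, one_mul]
      refine ⟨y, ?_, h4⟩
      by_contra hyY
      exact hz1 (h4.1.symm.trans (hLY y hy hyY))
    have hle : {g : S | g * g = z}.ncard ≤ 4 := by
      rcases Set.eq_empty_or_nonempty {g : S | g * g = z} with he | ⟨g0, hg0⟩
      · rw [he, Set.ncard_empty]; omega
      · obtain ⟨y0, hy0, hy02, -⟩ := hroot g0 hg0
        have hzY : z ∈ Y := by rw [← hy02]; exact mul_mem hy0 hy0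
        have hsub : {g : S | g * g = z} ⊆ ({y0, z * y0, t * y0, t * (z * y0)} : Set S) := by
          intro g hg
          obtain ⟨y, hy, hy2, hgy⟩ := hroot g hg
          have h1 : (y * y0⁻¹) * (y * y0⁻¹) = 1 := by
            have : (y * y0⁻¹) * (y * y0⁻¹) = (y * y) * (y0 * y0)⁻¹ := by
              have h5 := hYcomm y0⁻¹ (inv_mem hy0) y hy
              calc (y * y0⁻¹) * (y * y0⁻¹) = y * (y0⁻¹ * y) * y0⁻¹ := by group
                _ = y * (y * y0⁻¹) * y0⁻¹ := by rw [h5]
                _ = (y * y) * (y0 * y0)⁻¹ := by group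
            rw [this, hy2, hy02, mul_inv_cancel]
          have h2 : y = y0 ∨ y = z * y0 := by
            rcases cyc_inv hYc hzY hz1 hz2 (mul_mem hy (inv_mem hy0)) h1 with h3 | h3
            · exact Or.inl (mul_inv_eq_one.1 h3)
            · exact Or.inr (mul_inv_eq_iff_eq_mul.1 h3)
          simp only [Set.mem_insert_iff, Set.mem_singleton_iff]
          rcases hgy with rfl | rfl <;> rcases h2 with rfl | rfl
          · exact Or.inl rfl
          · exact Or.inr (Or.inl rfl)
          · exact Or.inr (Or.inr (Or.inl rfl))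
          · exact Or.inr (Or.inr (Or.inr rfl))
        refine (Set.ncard_le_ncard hsub (Set.toFinite _)).trans ?_
        refine (Set.ncard_insert_le _ _).trans (Nat.succ_le_succ ?_)
        refine (Set.ncard_insert_le _ _).trans (Nat.succ_le_succ ?_)
        refine (Set.ncard_insert_le _ _).trans (Nat.succ_le_succ ?_)
        rw [Set.ncard_singleton]
    -- five roots of `t`
    have hge : 5 ≤ {g : S | g * g = t}.ncard := by
      have hu2 : u * u = 1 := hLY u huL huY
      have huzY : u * z' ∉ Y := fun h => huY ((mul_mem_cancel_right hz'Y).1 h)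
      have huz2 : (u * z') * (u * z') = 1 := hLY _ (mul_mem huL (hYL hz'Y)) huzY
      have hsq : ∀ l ∈ L, l * l = 1 → (a * l) * (a * l) = t := by
        intro l hl hl2
        have : (a * l) * (a * l) = (a * a) * (l * l) := by
          rw [mul_assoc a l (a * l), ← mul_assoc l a l, ← haL l hl]
          group
        rw [this, haa, hl2, mul_one]
      have hF5 : (({a * 1, a * z', a * u, a * (u * z'), a⁻¹} : Finset S) : Set S) ⊆
          {g : S | g * g = t} := by
        intro g hg
        simp only [Finset.coe_insert, Finset.coe_singleton, Set.mem_insert_iff,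
          Set.mem_singleton_iff] at hg
        rcases hg with rfl | rfl | rfl | rfl | rfl
        · exact hsq 1 L.one_mem (one_mul 1)
        · exact hsq z' (hYL hz'Y) hz'2
        · exact hsq u huL hu2
        · exact hsq _ (mul_mem huL (hYL hz'Y)) huz2
        · change a⁻¹ * a⁻¹ = t
          rw [← mul_inv_rev, haa, inv_eq_of_mul_eq_one_left ht2]
      have hne : ∀ l ∈ L, a * l ≠ a⁻¹ := by
        intro l hl h
        have h1 : a * a = l⁻¹ := by
          have h2 : a * l * a = 1 := by rw [h, inv_mul_cancel]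
          rw [mul_assoc, ← haL l hl, ← mul_assoc] at h2
          exact eq_inv_of_mul_eq_one_left h2
        rw [haa] at h1
        exact htL (by rw [h1]; exact inv_mem hl)
      have hcard : ({a * 1, a * z', a * u, a * (u * z'), a⁻¹} : Finset S).card = 5 := by
        have d1 : (1 : S) ≠ z' := fun h => hz'1 h.symm
        have d2 : (1 : S) ≠ u := fun h => huY (by rw [← h]; exact Y.one_mem)
        have d3 : (1 : S) ≠ u * z' := fun h => huzY (by rw [← h]; exact Y.one_mem)
        have d4 : z' ≠ u := fun h => huY (by rw [← h]; exact hz'Y)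
        have d5 : z' ≠ u * z' := fun h => huzY (by rw [← h]; exact hz'Y)
        have d6 : u ≠ u * z' := fun h => hz'1 (mul_eq_left.1 h.symm)
        have e1 := hne 1 L.one_mem
        have e2 := hne z' (hYL hz'Y)
        have e3 := hne u huL
        have e4 := hne _ (mul_mem huL (hYL hz'Y))
        rw [Finset.card_insert_of_notMem, Finset.card_insert_of_notMem,
          Finset.card_insert_of_notMem, Finset.card_insert_of_notMem, Finset.card_singleton]
        · simpa using e4
        · simp only [Finset.mem_insert, Finset.mem_singleton, mul_right_inj]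
          push Not
          exact ⟨d6, e3⟩
        · simp only [Finset.mem_insert, Finset.mem_singleton, mul_right_inj]
          push Not
          exact ⟨d4, d5, e2⟩
        · simp only [Finset.mem_insert, Finset.mem_singleton, mul_right_inj]
          push Not
          exact ⟨d1, d2, d3, e1⟩
      have h6 := Set.ncard_le_ncard hF5 (Set.toFinite _)
      rw [Set.ncard_coe_finset, hcard] at h6
      exact h6
    omega
  -- Step 3: `K = {1, t}`
  have step3 : ∀ k ∈ K, k = 1 ∨ k = t := by
    intro k hk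
    by_contra hc
    push Not at hc
    obtain ⟨j, hj⟩ := exists_pow_sq hS hT (hKT hk) hc.1 hc.2
    exact step2 _ (pow_mem (hKT hk) j) (fun y hy => hKL _ (pow_mem hk j) y hy) hj
  -- Step 4: `T` is abelian
  have hTab : ∀ x ∈ T, ∀ y ∈ T, x * y = y * x := by
    have hcen : ∀ x : S, (x = 1 ∨ x = t) → ∀ y : S, x * y = y * x := by
      rintro x (rfl | rfl) y
      · rw [one_mul, mul_one]
      · exact (htc y).symm
    intro x hx y hy
    by_cases hxK : x ∈ K
    · exact hcen x (step3 x hxK) y
    by_cases hyK : y ∈ K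
    · exact (hcen y (step3 y hyK) x).symm
    have hi0 : (K.subgroupOf T).index ≠ 0 := index_ne_zero_of_finite
    have hi1 : K.relIndex T ≠ 1 := fun h => hxK (relIndex_eq_one.1 h hx)
    have hi2 : (K.subgroupOf T).index = 2 := by
      have : K.relIndex T = (K.subgroupOf T).index := rfl
      omega
    have h1 : (⟨x, hx⟩ * ⟨y, hy⟩ : T) ∈ K.subgroupOf T := by
      rw [mul_mem_iff_of_index_two hi2]
      constructor
      · intro h; exact absurd h hxK
      · intro h; exact absurd h hyK
    have h2 : x * y ∈ K := h1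
    have h3 := hcen (x * y) (step3 _ h2) x
    have h4 : x * (y * x) = x * (x * y) := by
      rw [← mul_assoc, h3]
    exact (mul_left_cancel h4).symm
  -- the commutator subgroup lies in `L`
  have hcomm : commutator S ≤ L := by
    rw [_root_.commutator_def, commutator_le]
    intro g _ h _
    obtain ⟨a, ha, y, hy, rfl⟩ := hdec g
    obtain ⟨b, hb, v, hv, rfl⟩ := hdec h
    rw [← QuotientGroup.eq_one_iff]
    change QuotientGroup.mk' L ⁅a * y, b * v⁆ = 1
    rw [map_commutatorElement]
    change ⁅((a * y : S) : S ⧸ L), ((b * v : S) : S ⧸ L)⁆ = 1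
    have e1 : ((a * y : S) : S ⧸ L) = (a : S ⧸ L) := by
      rw [QuotientGroup.mk_mul, (QuotientGroup.eq_one_iff y).2 hy, mul_one]
    have e2 : ((b * v : S) : S ⧸ L) = (b : S ⧸ L) := by
      rw [QuotientGroup.mk_mul, (QuotientGroup.eq_one_iff v).2 hv, mul_one]
    rw [e1, e2, commutatorElement_eq_one_iff_mul_comm, ← QuotientGroup.mk_mul,
      ← QuotientGroup.mk_mul, hTab a ha b hb]
  have hLc : ∀ g : S, ∀ y ∈ L, g * y = y * g := by
    by_contra hc
    push Not at hc
    obtain ⟨g, y, hy, hgy⟩ := hc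
    have hne : ⁅(⊤ : Subgroup S), L⁆ ≠ ⊥ := by
      intro h
      have h1 : ⁅g, y⁆ ∈ ⁅(⊤ : Subgroup S), L⁆ := commutator_mem_commutator (mem_top g) hy
      rw [h, mem_bot, commutatorElement_eq_one_iff_mul_comm] at h1
      exact hgy h1
    obtain ⟨z, hz, hzc, hz1, hz2⟩ := exists_central hS ⁅(⊤ : Subgroup S), L⁆ hne
    obtain ⟨φ, hφ⟩ := hF z hzc hz1 hz2
    have h1 : z ∈ commutator S := commutator_mono le_rfl le_top hz
    have h2 : (commutator S).comap φ.toMonoidHom = commutator S :=
      characteristic_iff_comap_eq.1 inferInstance φ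
    have h3 : t ∈ commutator S := by
      rw [← h2, mem_comap]
      change φ t ∈ commutator S
      rw [hφ]; exact h1
    exact htL (hcomm h3)
  -- `T = {1, t}`
  have hTt : ∀ x ∈ T, x = 1 ∨ x = t := by
    intro x hx
    by_contra hc
    push Not at hc
    obtain ⟨j, hj⟩ := exists_pow_sq hS hT hx hc.1 hc.2
    exact step2 _ (pow_mem hx j) (fun y hy => hLc _ y hy) hj
  -- `L` has exponent 2
  have hY2 : ∀ y ∈ Y, y * y = 1 := by
    intro y hy
    have h1 : u * y ∉ Y := fun h => huY ((mul_mem_cancel_right hy).1 h)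
    have h2 := hLY _ (mul_mem huL (hYL hy)) h1
    have h3 : (u * y) * (u * y) = (u * u) * (y * y) := by
      rw [mul_assoc u y (u * y), ← mul_assoc y u y, hLc y u huL]
      group
    rw [h3, hLY u huL huY, one_mul] at h2
    exact h2
  have hL2 : ∀ y ∈ L, y * y = 1 := by
    intro y hy
    by_cases h : y ∈ Y
    · exact hY2 y h
    · exact hLY y hy h
  refine ⟨hTt, ?_, ?_⟩
  · have hcY : Nat.card Y = 2 := by
      have h1 : (Y : Set S) = {1, z'} := by
        ext x
        simp only [SetLike.mem_coe, Set.mem_insert_iff, Set.mem_singleton_iff]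
        constructor
        · intro hx
          exact cyc_inv hYc hz'Y hz'1 hz'2 hx (hY2 x hx)
        · rintro (rfl | rfl)
          · exact Y.one_mem
          · exact hz'Y
      rw [← SetLike.coe_sort_coe, Nat.card_coe_set_eq, h1]
      exact Set.ncard_pair hz'1.symm
    have hcT : Nat.card T = 2 := by
      have h1 : (T : Set S) = {1, t} := by
        ext x
        simp only [SetLike.mem_coe, Set.mem_insert_iff, Set.mem_singleton_iff]
        constructor
        · exact hTt x
        · rintro (rfl | rfl)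
          · exact T.one_mem
          · exact htT
      rw [← SetLike.coe_sort_coe, Nat.card_coe_set_eq, h1]
      exact Set.ncard_pair ht1.symm
    have hcL : Nat.card L = 4 := by
      have h1 := (Y.subgroupOf L).card_mul_index
      have h2 : Nat.card (Y.subgroupOf L) = Nat.card Y :=
        Nat.card_congr (subgroupOfEquivOfLe hYL).toEquiv
      have h3 : (Y.subgroupOf L).index = 2 := hYi
      rw [h2, h3, hcY] at h1
      omega
    have hcompl : IsComplement' T L := by
      refine isComplement'_of_disjoint_and_mul_eq_univ (disjoint_iff.2 hTL) ?_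
      rw [Set.eq_univ_iff_forall]
      intro g
      obtain ⟨a, ha, y, hy, h⟩ := hdec g
      exact ⟨a, ha, y, hy, h⟩
    rw [← hcompl.card_mul_card, hcT, hcL]
  · intro x
    obtain ⟨a, ha, y, hy, rfl⟩ := hdec x
    have h3 : (a * y) * (a * y) = (a * a) * (y * y) := by
      rw [mul_assoc a y (a * y), ← mul_assoc y a y, ← hLc a y hy]
      group
    rw [h3, hL2 y hy, mul_one]
    rcases hTt a ha with rfl | rfl
    · exact one_mul 1
    · exact ht2

end TypeA

end Cfsg.Agent.HKS.TwoLoc
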