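import Mathlib
import Cfsg.Agent.HKS.TwoLocA
import Cfsg.Agent.HKS.AffThree
import Cfsg.Agent.HKS.SLXFacts
import Cfsg.Agent.HKS.SLNorm
import Cfsg.Agent.HKS.PP1
import Cfsg.Agent.Lib.PSL2Torus
import Cfsg.Agent.Lib.ProductSet

/-!
# The Sylow 2-subgroups in the Ree case

`t` the only involution of `G_ab` up to conjugacy, `L_t ≅ PSL(2,q)`: then `q ≡ 3 (mod 4)` and the
Sylow 2-subgroups of `G` are elementary abelian of order 8.
-/

set_option autoImplicit false

namespace Cfsg.Agent.HKS.ReeSylow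

open Subgroup MulAction Cfsg.Agent.Lib.PSL2Torus

/-! ### Abstract Sylow arguments -/

section abs

variable {G : Type*} [Group G]

theorem card_sup_mul {H N : Subgroup G} (h : H ≤ normalizer (N : Set G)) :
    Nat.card ↥(H ⊔ N) * Nat.card ↥(H ⊓ N) = Nat.card H * Nat.card N := by
  rw [← Cfsg.Agent.Lib.ProductSet.card_mul_card_inf H N]
  congr 1
  have e := coe_mul_of_left_le_normalizer_right H N h
  rw [← e]
  rfl

theorem le_normalizer_of {C M : Subgroup G} (hn : ∀ g ∈ C, ∀ m ∈ M, g * m * g⁻¹ ∈ M) :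
    C ≤ normalizer (M : Set G) := by
  intro g hg
  rw [mem_normalizer_iff]
  intro m
  constructor
  · exact hn g hg m
  · intro h
    have := hn g⁻¹ (inv_mem hg) _ h
    have e : g⁻¹ * (g * m * g⁻¹) * g⁻¹⁻¹ = m := by group
    rwa [e] at this

/-- a 2-group and a subgroup of odd order -/
theorem inf_eq_bot {H K : Subgroup G} (hH : IsPGroup 2 H) (hK : Odd (Nat.card K)) [Finite G] :
    H ⊓ K = ⊥ := by
  have : Fact (Nat.Prime 2) := ⟨Nat.prime_two⟩
  rw [eq_bot_iff_card]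
  obtain ⟨n, hn⟩ := IsPGroup.iff_card.1 (hH.to_le (inf_le_left : H ⊓ K ≤ H))
  have h1 : Nat.card (H ⊓ K : Subgroup G) ∣ Nat.card K := card_dvd_of_le inf_le_right
  have h2 : Odd (Nat.card (H ⊓ K : Subgroup G)) := hK.of_dvd_nat h1
  rw [hn] at h2 ⊢
  rcases Nat.eq_zero_or_pos n with h3 | h3
  · rw [h3, pow_zero]
  · exact absurd h2 (Nat.not_odd_iff_even.2 ((Nat.even_pow.2 ⟨even_two, h3.ne'⟩)))

/-- `C = M D`, `M` normal in `C`, `|M ∩ D|` odd, `C` contains a Sylow 2-subgroup of `G`: there is a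
Sylow 2-subgroup `S` of `G` in `C` with `S = (S ∩ D) (S ∩ M)`. -/
theorem exists_sylow_frame [Finite G] {C M D : Subgroup G} (hMC : M ≤ C) (hDC : D ≤ C)
    (hn : ∀ g ∈ C, ∀ m ∈ M, g * m * g⁻¹ ∈ M) (hCM : ∀ g ∈ C, ∃ m ∈ M, ∃ d ∈ D, g = m * d)
    (hodd : Odd (Nat.card (M ⊓ D : Subgroup G))) (P : Sylow 2 G) (hP : (P : Subgroup G) ≤ C) :
    ∃ S : Sylow 2 G, (S : Subgroup G) ≤ C ∧
      ((S : Subgroup G) ⊓ D) ⊓ ((S : Subgroup G) ⊓ M) = ⊥ ∧
      ((S : Subgroup G) ⊓ D) ⊔ ((S : Subgroup G) ⊓ M) = S ∧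
      (∃ m, Odd m ∧ Nat.card M = Nat.card ((S : Subgroup G) ⊓ M : Subgroup G) * m) ∧
      ∃ d, Odd d ∧ Nat.card D = Nat.card ((S : Subgroup G) ⊓ D : Subgroup G) * d := by
  classical
  have : Fact (Nat.Prime 2) := ⟨Nat.prime_two⟩
  -- a Sylow 2-subgroup of `D` and a Sylow 2-subgroup of `G` in `C` containing it
  obtain ⟨T⟩ : Nonempty (Sylow 2 D) := inferInstance
  set T' : Subgroup G := (T : Subgroup D).map D.subtype with hT'
  have hT'D : T' ≤ D := map_subtype_le _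
  have hT'2 : IsPGroup 2 T' := T.isPGroup'.map _
  have hT'card : Nat.card T' = Nat.card T :=
    Nat.card_congr ((T : Subgroup D).equivMapOfInjective _ D.subtype_injective).symm.toEquiv
  obtain ⟨S, hSC, hTS⟩ : ∃ S : Sylow 2 G, (S : Subgroup G) ≤ C ∧ T' ≤ S := by
    have h1 : IsPGroup 2 (T'.subgroupOf C) := hT'2.comap_of_injective _ C.subtype_injective
    obtain ⟨Q, hQ⟩ := h1.exists_le_sylow
    obtain ⟨c, hc⟩ := MulAction.exists_smul_eq C (P.subtype hP) Q
    refine ⟨(c : G) • P, ?_, ?_⟩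
    · intro x hx
      rw [Sylow.coe_subgroup_smul] at hx
      obtain ⟨y, hy, rfl⟩ := hx
      exact mul_mem (mul_mem c.2 (hP hy)) (inv_mem c.2)
    · intro x hx
      have h2 : (⟨x, hDC (hT'D hx)⟩ : C) ∈ (Q : Subgroup C) := hQ (mem_subgroupOf.2 hx)
      rw [← hc, Sylow.coe_subgroup_smul] at h2
      obtain ⟨y, hy, hyx⟩ := h2
      rw [Sylow.coe_subgroup_smul]
      exact ⟨(y : G), hy, congrArg Subtype.val hyx⟩
  have hTeq : T' = (S : Subgroup G) ⊓ D := by
    apply le_antisymm (le_inf hTS hT'D)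
    have h1 : IsPGroup 2 (((S : Subgroup G) ⊓ D).subgroupOf D) :=
      (S.isPGroup'.to_le inf_le_left).comap_of_injective _ D.subtype_injective
    have h2 : (T : Subgroup D) ≤ ((S : Subgroup G) ⊓ D).subgroupOf D := by
      intro x hx
      exact mem_subgroupOf.2 ⟨hTS (mem_map_of_mem _ hx), x.2⟩
    have h3 := T.is_maximal' h1 h2
    intro x hx
    have h4 : (⟨x, hx.2⟩ : D) ∈ ((S : Subgroup G) ⊓ D).subgroupOf D := mem_subgroupOf.2 hx
    rw [h3] at h4
    exact mem_map_of_mem D.subtype h4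
  -- the cardinalities
  have hbot : ((S : Subgroup G) ⊓ D) ⊓ ((S : Subgroup G) ⊓ M) = ⊥ := by
    have h1 := inf_eq_bot (H := (S : Subgroup G)) S.isPGroup' hodd
    rw [eq_bot_iff]
    rintro x ⟨⟨h2, h3⟩, -, h4⟩
    rw [← h1]
    exact ⟨h2, h4, h3⟩
  have hnS : (S : Subgroup G) ≤ normalizer (M : Set G) := hSC.trans (le_normalizer_of hn)
  have hnD : D ≤ normalizer (M : Set G) := hDC.trans (le_normalizer_of hn)
  have hsup : D ⊔ M = C := by
    apply le_antisymm (sup_le hDC hMC)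
    intro g hg
    obtain ⟨m, hm, d, hd, rfl⟩ := hCM g hg
    exact mul_mem (mem_sup_right hm) (mem_sup_left hd)
  have hrel : ∀ {A B : Subgroup G}, A ≤ B → Nat.card A * A.relIndex B = Nat.card B := by
    intro A B h
    have := Subgroup.relIndex_mul_relIndex (⊥ : Subgroup G) A B bot_le h
    rwa [relIndex_bot_left, relIndex_bot_left] at this
  have hsodd : Odd ((S : Subgroup G).relIndex C) := by
    have h1 : (S : Subgroup G).relIndex C ∣ (S : Subgroup G).index := by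
      refine ⟨C.index, (relIndex_mul_index hSC).symm⟩
    have h2 : Odd (S : Subgroup G).index := by
      rw [← Nat.not_even_iff_odd]
      exact fun h => S.not_dvd_index h.two_dvd
    exact h2.of_dvd_nat h1
  have hrodd : Odd ((S : Subgroup G).relIndex ((S : Subgroup G) ⊔ M)) := by
    refine hsodd.of_dvd_nat ⟨((S : Subgroup G) ⊔ M).relIndex C, ?_⟩
    exact (relIndex_mul_relIndex _ _ _ le_sup_left (sup_le hSC hMC)).symm
  have hM : Nat.card M = Nat.card ((S : Subgroup G) ⊓ M : Subgroup G) *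
      (S : Subgroup G).relIndex ((S : Subgroup G) ⊔ M) := by
    have h1 := card_sup_mul hnS
    rw [← hrel (le_sup_left : (S : Subgroup G) ≤ (S : Subgroup G) ⊔ M), mul_assoc] at h1
    rw [← Nat.eq_of_mul_eq_mul_left Nat.card_pos h1, mul_comm]
  have hD : ∃ d, Odd d ∧ Nat.card D = Nat.card ((S : Subgroup G) ⊓ D : Subgroup G) * d := by
    refine ⟨(T : Subgroup D).index, ?_, ?_⟩
    · rw [← Nat.not_even_iff_odd]
      exact fun h => T.not_dvd_index h.two_dvd
    · rw [← hTeq, hT'card]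
      exact ((T : Subgroup D).card_mul_index).symm
  refine ⟨S, hSC, hbot, ?_, ⟨_, hrodd, hM⟩, hD⟩
  obtain ⟨d, hd, hD⟩ := hD
  obtain ⟨i, hi⟩ := IsPGroup.iff_card.1 S.isPGroup'
  obtain ⟨j, hj⟩ := IsPGroup.iff_card.1 ((S.isPGroup'.to_le inf_le_left :
    IsPGroup 2 ((S : Subgroup G) ⊓ D : Subgroup G)))
  obtain ⟨l, hl⟩ := IsPGroup.iff_card.1 ((S.isPGroup'.to_le inf_le_left :
    IsPGroup 2 ((S : Subgroup G) ⊓ M : Subgroup G)))
  have h1 : 2 ^ i * ((S : Subgroup G).relIndex C * Nat.card (M ⊓ D : Subgroup G)) =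
      2 ^ (j + l) * (d * (S : Subgroup G).relIndex ((S : Subgroup G) ⊔ M)) := by
    have h2 := card_sup_mul hnD
    rw [hsup, ← hrel hSC, inf_comm, hD, hM, hi, hj, hl] at h2
    rw [pow_add]
    linear_combination h2
  have h3 : i = j + l := by
    have e1 : Odd ((S : Subgroup G).relIndex C * Nat.card (M ⊓ D : Subgroup G)) := hsodd.mul hodd
    have e2 : Odd (d * (S : Subgroup G).relIndex ((S : Subgroup G) ⊔ M)) := hd.mul hrodd
    have e3 : ∀ n m : ℕ, Odd m → (2 ^ n * m).factorization 2 = n := by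
      intro n m hm
      have hm0 : m ≠ 0 := by
        rintro rfl
        exact (Nat.not_odd_iff_even.2 Even.zero) hm
      rw [Nat.factorization_mul (pow_ne_zero _ two_ne_zero) hm0, Finsupp.add_apply,
        Nat.Prime.factorization_pow Nat.prime_two, Finsupp.single_eq_same,
        Nat.factorization_eq_zero_of_not_dvd (fun h => (Nat.not_odd_iff_even.2
          (even_iff_two_dvd.2 h)) hm), add_zero]
    rw [← e3 i _ e1, h1, e3 _ _ e2]
  apply Subgroup.eq_of_le_of_card_ge (sup_le inf_le_left inf_le_left)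
  have hn' : (S : Subgroup G) ⊓ D ≤ normalizer (((S : Subgroup G) ⊓ M : Subgroup G) : Set G) := by
    refine le_normalizer_of (C := (S : Subgroup G) ⊓ D) ?_
    rintro g ⟨hg, hg'⟩ m ⟨hm, hm'⟩
    exact ⟨(S : Subgroup G).mul_mem ((S : Subgroup G).mul_mem hg hm) ((S : Subgroup G).inv_mem hg),
      hn g (hSC hg) m hm'⟩
  have h4 := card_sup_mul hn'
  rw [hbot, card_bot, mul_one, hj, hl, ← pow_add, ← h3, ← hi] at h4
  exact h4.ge

/-- a 2-group `L ≤ M` of odd index, `M ≅ PSL(2,F)`: a cyclic subgroup of index 2, the other elements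
being involutions -/
theorem exists_Y [Finite G] {F : Type*} [Field F] [Finite F] (h2 : (2 : F) ≠ 0) {M L : Subgroup G}
    (hLM : L ≤ M) (hL : IsPGroup 2 L) {m : ℕ} (hm : Odd m) (hc : Nat.card M = Nat.card L * m)
    (φ : Matrix.SpecialLinearGroup (Fin 2) F →* G) (hr : φ.range = M)
    (hk : ∀ x, φ x = 1 ↔ x = 1 ∨ x = -1) :
    ∃ Y : Subgroup G, Y ≤ L ∧ IsCyclic Y ∧ Y ≠ ⊥ ∧ Y.relIndex L = 2 ∧ ∀ x ∈ L, x ∉ Y → x * x = 1 := by
  classical
  have : Fact (Nat.Prime 2) := ⟨Nat.prime_two⟩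
  -- `L ≠ 1`
  have hne : L ≠ ⊥ := by
    rintro rfl
    rw [card_bot, one_mul] at hc
    have h1 : φ (jm F) * φ (jm F) = 1 := by
      rw [← map_mul, sq_of_tr (by simp), hk]
      exact Or.inr rfl
    have h3 : φ (jm F) ≠ 1 := by
      rw [Ne, hk]
      rintro (h | h)
      · have := congrArg (fun x => Cfsg.Agent.Lib.SL2Mat.ent x 1 0) h
        simp at this
      · have := congrArg (fun x => Cfsg.Agent.Lib.SL2Mat.ent x 1 0) h
        change (1 : F) = - 0 at this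
        simp at this
    have h4 : φ (jm F) ∈ M := by rw [← hr]; exact ⟨_, rfl⟩
    have h5 := orderOf_dvd_natCard (⟨_, h4⟩ : M)
    rw [orderOf_mk, orderOf_eq_prime (p := 2) (by rw [pow_two, h1]) h3, hc] at h5
    exact (Nat.not_odd_iff_even.2 (even_iff_two_dvd.2 h5)) hm
  -- an involution of the centre of `L`
  obtain ⟨z, hzL, hz1, hz2, hzc⟩ : ∃ z ∈ L, z ≠ 1 ∧ z * z = 1 ∧ ∀ x ∈ L, x * z = z * x := by
    have : Nontrivial L := (nontrivial_iff_ne_bot L).2 hne
    have hcn : Nontrivial (center L) := hL.center_nontrivial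
    obtain ⟨n, hn⟩ := IsPGroup.iff_card.1 (hL.to_subgroup (center L))
    have h2 : 2 ∣ Nat.card (center L) := by
      rw [hn]
      refine dvd_pow_self 2 ?_
      rintro rfl
      rw [pow_zero] at hn
      have := Finite.one_lt_card (α := center L)
      omega
    obtain ⟨z, hz⟩ := exists_prime_orderOf_dvd_card' 2 h2
    have hz0 : orderOf ((z : L) : G) = 2 := by rw [← hz, Subgroup.orderOf_coe, Subgroup.orderOf_coe]
    refine ⟨((z : L) : G), z.1.2, ?_, ?_, ?_⟩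
    · intro h
      rw [h, orderOf_one] at hz0
      omega
    · rw [← pow_two, ← hz0, pow_orderOf_eq_one]
    · intro x hx
      exact congrArg Subtype.val (mem_center_iff.1 z.2 ⟨x, hx⟩)
  have hzM := hLM hzL
  let π : Matrix.SpecialLinearGroup (Fin 2) F →* M := φ.codRestrict M (fun x => by
    rw [← hr]; exact ⟨x, rfl⟩)
  have hπ : Function.Surjective π := by
    rintro ⟨x, hx⟩
    rw [← hr] at hx
    obtain ⟨y, hy⟩ := hx
    exact ⟨y, Subtype.ext hy⟩
  have hkπ : ∀ x, π x = 1 ↔ x = 1 ∨ x = -1 := by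
    intro x
    rw [← hk]
    exact ⟨fun h => congrArg Subtype.val h, fun h => Subtype.ext h⟩
  obtain ⟨T, hTc, hzT, hTz, -, hout, ⟨u, hu, huT⟩, hmul⟩ := exists_torus_hom π h2 hπ hkπ
    (t := ⟨z, hzM⟩) (fun h => hz1 (congrArg Subtype.val h)) (Subtype.ext hz2)
  have hmem : ∀ x (hx : x ∈ M), x ∈ T.map M.subtype ↔ (⟨x, hx⟩ : M) ∈ T := by
    intro x hx
    constructor
    · rintro ⟨y, hy, hyx⟩
      have : y = ⟨x, hx⟩ := Subtype.ext hyx
      rwa [← this]
    · intro h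
      exact ⟨_, h, rfl⟩
  have hcomm : ∀ x (hx : x ∈ L), (⟨x, hLM hx⟩ : M) * ⟨z, hzM⟩ = ⟨z, hzM⟩ * ⟨x, hLM hx⟩ :=
    fun x hx => Subtype.ext (hzc x hx)
  have hY : ∀ x (hx : x ∈ L), x ∈ L ⊓ T.map M.subtype ↔ (⟨x, hLM hx⟩ : M) ∈ T := by
    intro x hx
    rw [mem_inf, hmem x (hLM hx)]
    exact and_iff_right hx
  -- an element of `L` outside of the torus
  obtain ⟨v, hvL, hvT⟩ : ∃ v ∈ L, v ∉ T.map M.subtype := by
    by_contra hcon
    push Not at hcon
    have hinv : ∀ y ∈ L, (u : G) * y * (u : G)⁻¹ = y⁻¹ := by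
      intro y hy
      have := (hout u hu huT).2.2 ⟨y, hLM hy⟩ ((hmem y (hLM hy)).1 (hcon y hy))
      exact congrArg Subtype.val this
    have hu2 : (u : G) * u = 1 := congrArg Subtype.val (hout u hu huT).2.1
    have hu1 : (u : G) ≠ 1 := fun h => (hout u hu huT).1 (Subtype.ext h)
    have huL : (u : G) ∉ L := by
      intro h
      exact huT ((hmem _ _).1 (hcon _ h))
    have hz' : ∀ g ∈ zpowers (u : G), g = 1 ∨ g = u := by
      have hle : zpowers (u : G) ≤
          { carrier := {g | g = 1 ∨ g = (u : G)}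
            mul_mem' := by
              rintro x y (rfl | rfl) (rfl | rfl)
              · left; rw [one_mul]
              · right; rw [one_mul]
              · right; rw [mul_one]
              · left; exact hu2
            one_mem' := Or.inl rfl
            inv_mem' := by
              rintro x (rfl | rfl)
              · left; rw [inv_one]
              · right; exact inv_eq_of_mul_eq_one_left hu2 } := by
        rw [zpowers_le]
        exact Or.inr rfl
      exact fun g hg => hle hg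
    have hn : zpowers (u : G) ≤ normalizer (L : Set G) := by
      apply le_normalizer_of
      intro g hg y hy
      rcases hz' g hg with rfl | rfl
      · rw [one_mul, inv_one, mul_one]; exact hy
      · rw [hinv y hy]; exact inv_mem hy
    have h1 := card_sup_mul hn
    have h3 : zpowers (u : G) ⊓ L = ⊥ := by
      rw [eq_bot_iff]
      rintro g ⟨hg, hg'⟩
      rcases hz' g hg with rfl | rfl
      · exact one_mem _
      · exact absurd hg' huL
    rw [h3, card_bot, mul_one, Nat.card_zpowers, orderOf_eq_prime (p := 2) (by rw [pow_two, hu2]) hu1]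
      at h1
    have h4 : Nat.card (zpowers (u : G) ⊔ L : Subgroup G) ∣ Nat.card M :=
      card_dvd_of_le (sup_le (zpowers_le.2 u.2) hLM)
    rw [h1, hc, mul_comm 2] at h4
    have h5 : 2 ∣ m := Nat.dvd_of_mul_dvd_mul_left Nat.card_pos h4
    exact (Nat.not_odd_iff_even.2 (even_iff_two_dvd.2 h5)) hm
  refine ⟨L ⊓ T.map M.subtype, inf_le_left, ?_, ?_, ?_, ?_⟩
  · have : IsCyclic (T.map M.subtype : Subgroup G) :=
      isCyclic_of_surjective (T.equivMapOfInjective M.subtype M.subtype_injective)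
        (T.equivMapOfInjective M.subtype M.subtype_injective).surjective
    exact isCyclic_of_injective (Subgroup.inclusion (inf_le_right : L ⊓ T.map M.subtype ≤ _))
      (Subgroup.inclusion_injective _)
  · intro h
    have h3 : z ∈ (⊥ : Subgroup G) := by
      rw [← h, hY z hzL]
      exact hzT
    exact hz1 (mem_bot.1 h3)
  · rw [relIndex, index_eq_two_iff]
    refine ⟨⟨v, hvL⟩, fun x => ?_⟩
    have hvT' : (⟨v, hLM hvL⟩ : M) ∉ T := fun h => hvT ((hmem _ _).2 h)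
    have e1 : x * ⟨v, hvL⟩ ∈ (L ⊓ T.map M.subtype).subgroupOf L ↔
        (⟨x, hLM x.2⟩ : M) * ⟨v, hLM hvL⟩ ∈ T := by
      rw [mem_subgroupOf]
      exact hY _ (x * ⟨v, hvL⟩).2
    have e2 : x ∈ (L ⊓ T.map M.subtype).subgroupOf L ↔ (⟨x, hLM x.2⟩ : M) ∈ T := by
      rw [mem_subgroupOf]
      exact hY _ x.2
    rw [e1, e2]
    by_cases hx : (⟨x, hLM x.2⟩ : M) ∈ T
    · right
      refine ⟨hx, fun h => hvT' ?_⟩
      exact (T.mul_mem_cancel_left hx).1 h
    · left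
      exact ⟨hmul _ _ (hcomm x x.2) hx (hcomm v hvL) hvT', hx⟩
  · intro x hx hxY
    rw [hY x hx] at hxY
    exact congrArg Subtype.val (hout _ (hcomm x hx) hxY).2.1

/-- an element of order two of a subgroup of even order -/
theorem exists_invol [Finite G] {D : Subgroup G} (h : ¬ Odd (Nat.card D)) :
    ∃ x ∈ D, x ≠ 1 ∧ x * x = 1 := by
  have : Fact (Nat.Prime 2) := ⟨Nat.prime_two⟩
  rw [Nat.not_odd_iff_even] at h
  obtain ⟨z, hz⟩ := exists_prime_orderOf_dvd_card' 2 h.two_dvd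
  have hz0 : orderOf (z : G) = 2 := by rw [← hz, Subgroup.orderOf_coe]
  refine ⟨(z : G), z.2, ?_, ?_⟩
  · intro h
    rw [h, orderOf_one] at hz0
    omega
  · rw [← pow_two, ← hz0, pow_orderOf_eq_one]

theorem relIndex_le_two {A B : Subgroup G}
    (h : ∀ x ∈ B, ∀ y ∈ B, x ∉ A → y ∉ A → x * y ∈ A) : A.relIndex B ≤ 2 := by
  by_cases hB : B ≤ A
  · rw [relIndex_eq_one.2 hB]
    norm_num
  · obtain ⟨v, hv, hvA⟩ := SetLike.not_le_iff_exists.1 hB
    apply le_of_eq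
    rw [relIndex, index_eq_two_iff]
    refine ⟨⟨v, hv⟩, fun x => ?_⟩
    rw [mem_subgroupOf, mem_subgroupOf]
    by_cases hx : (x : G) ∈ A
    · right
      exact ⟨hx, fun h1 => hvA ((A.mul_mem_cancel_left hx).1 h1)⟩
    · left
      exact ⟨h _ x.2 _ hv hx hvA, hx⟩

theorem E8_of [Finite G] {F : Type*} [Field F] [Finite F] (h2 : (2 : F) ≠ 0) {t : G} (ht1 : t ≠ 1)
    (ht2 : t * t = 1) {M D K : Subgroup G}
    (hcl : ∀ x y : G, x ≠ 1 → x * x = 1 → y ≠ 1 → y * y = 1 → ∃ g : G, g * x * g⁻¹ = y)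
    (φ : Matrix.SpecialLinearGroup (Fin 2) F →* G) (hr : φ.range = M)
    (hk : ∀ x, φ x = 1 ↔ x = 1 ∨ x = -1)
    (hM : ∀ m ∈ M, m * t = t * m) (hD : ∀ d ∈ D, d * t = t * d)
    (hn : ∀ g, g * t = t * g → ∀ m ∈ M, g * m * g⁻¹ ∈ M)
    (hCM : ∀ g, g * t = t * g → ∃ m ∈ M, ∃ d ∈ D, g = m * d)
    (htD : t ∈ D) (hone : ∀ d ∈ D, d * d = 1 → d = 1 ∨ d = t) (htM : t ∉ M)
    (htK : t ∈ K) (hKM : ∀ k ∈ K, ∀ m ∈ M, k * m = m * k)
    (hK : ∀ T ≤ D, IsPGroup 2 T → ∀ x ∈ T, ∀ y ∈ T, x ∉ K → y ∉ K → x * y ∈ K) :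
    ∃ S : Sylow 2 G, t ∈ (S : Subgroup G) ∧ Nat.card S = 8 ∧ (∀ x ∈ (S : Subgroup G), x * x = 1) ∧
      (∀ x ∈ (S : Subgroup G), x ∈ D → x = 1 ∨ x = t) ∧ ∃ d, Odd d ∧ Nat.card D = 2 * d := by
  classical
  have : Fact (Nat.Prime 2) := ⟨Nat.prime_two⟩
  have hodd : Odd (Nat.card (M ⊓ D : Subgroup G)) := by
    by_contra hcon
    obtain ⟨x, ⟨hx1, hx2⟩, hx3, hx4⟩ := exists_invol hcon
    rcases hone x hx2 hx4 with h | h
    · exact hx3 h
    · exact htM (h ▸ hx1)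
  set C : Subgroup G := centralizer ({t} : Set G) with hC
  have hmC : ∀ g, g ∈ C ↔ g * t = t * g := fun g => by
    rw [hC, mem_centralizer_singleton_iff]
  -- a Sylow 2-subgroup in `C`
  obtain ⟨P, hP⟩ : ∃ P : Sylow 2 G, (P : Subgroup G) ≤ C := by
    obtain ⟨P⟩ : Nonempty (Sylow 2 G) := inferInstance
    have hPne : (P : Subgroup G) ≠ ⊥ := by
      intro h
      have h3 : orderOf t = 2 := orderOf_eq_prime (by rw [pow_two, ht2]) ht1
      have h4 : 2 ∣ Nat.card G := h3 ▸ orderOf_dvd_natCard t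
      have h5 := (P : Subgroup G).card_mul_index
      rw [h, card_bot, one_mul] at h5
      exact P.not_dvd_index (by rw [h, h5]; exact h4)
    have : Nontrivial P := (nontrivial_iff_ne_bot _).2 hPne
    have hcn : Nontrivial (center P) := P.isPGroup'.center_nontrivial
    obtain ⟨n, hn⟩ := IsPGroup.iff_card.1 (P.isPGroup'.to_subgroup (center P))
    have h2 : ¬ Odd (Nat.card (center P)) := by
      rw [hn, Nat.not_odd_iff_even, Nat.even_pow]
      refine ⟨even_two, ?_⟩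
      rintro rfl
      rw [pow_zero] at hn
      have := Finite.one_lt_card (α := center P)
      omega
    obtain ⟨z, hz, hz1, hz2⟩ := exists_invol h2
    obtain ⟨g, hg⟩ := hcl z t (fun h => hz1 (Subtype.ext h)) (congrArg Subtype.val hz2) ht1 ht2
    refine ⟨g • P, ?_⟩
    intro x hx
    rw [Sylow.coe_subgroup_smul] at hx
    obtain ⟨y, hy, rfl⟩ := hx
    have h3 : y * z = z * y := congrArg Subtype.val (mem_center_iff.1 hz ⟨y, hy⟩)
    rw [hmC, ← hg]
    change g * y * g⁻¹ * (g * z * g⁻¹) = g * z * g⁻¹ * (g * y * g⁻¹)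
    calc g * y * g⁻¹ * (g * z * g⁻¹) = g * (y * z) * g⁻¹ := by group
      _ = g * (z * y) * g⁻¹ := by rw [h3]
      _ = _ := by group
  obtain ⟨S, hSC, hbot, hsup, ⟨m, hm, hcM⟩, d, hd, hcD⟩ := exists_sylow_frame (C := C) (M := M)
    (D := D) (fun m hm => (hmC m).2 (hM m hm)) (fun d hd => (hmC d).2 (hD d hd))
    (fun g hg => hn g ((hmC g).1 hg)) (fun g hg => hCM g ((hmC g).1 hg)) hodd P hP
  -- `t ∈ S`
  have htS : t ∈ (S : Subgroup G) := by
    have h3 : ¬ Odd (Nat.card ((S : Subgroup G) ⊓ D : Subgroup G)) := by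
      intro h3
      have h4 : Odd (Nat.card D) := by rw [hcD]; exact h3.mul hd
      have h5 := orderOf_dvd_natCard (⟨t, htD⟩ : D)
      rw [orderOf_mk, orderOf_eq_prime (p := 2) (by rw [pow_two, ht2]) ht1] at h5
      exact (Nat.not_odd_iff_even.2 (even_iff_two_dvd.2 h5)) h4
    obtain ⟨x, ⟨hx1, hx2⟩, hx3, hx4⟩ := exists_invol h3
    rcases hone x hx2 hx4 with h | h
    · exact absurd h hx3
    · exact h ▸ hx1
  obtain ⟨Y, hYL, hYc, hYne, hYi, hYo⟩ := exists_Y h2 (inf_le_right : (S : Subgroup G) ⊓ M ≤ M)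
    (S.isPGroup'.to_le inf_le_left) hm hcM φ hr hk
  have hYS : Y ≤ S := hYL.trans inf_le_left
  have hcoe : ∀ (A : Subgroup G) (x : (S : Subgroup G)), x ∈ A.subgroupOf (S : Subgroup G) ↔
    (x : G) ∈ A := fun A x => mem_subgroupOf
  have hLn : (M.subgroupOf (S : Subgroup G)).Normal := by
    constructor
    intro x hx g
    rw [hcoe] at hx ⊢
    exact hn g ((hmC _).1 (hSC g.2)) x hx
  have hty := TwoLoc.typeA (S := (S : Subgroup G)) S.isPGroup' (D.subgroupOf S)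
    (D.subgroupOf S ⊓ K.subgroupOf S) (M.subgroupOf S) (Y.subgroupOf S) (by
      rw [eq_bot_iff]
      rintro ⟨x, hx⟩ ⟨h3, h4⟩
      have h5 : x ∈ ((S : Subgroup G) ⊓ D) ⊓ ((S : Subgroup G) ⊓ M) := ⟨⟨hx, h3⟩, hx, h4⟩
      rw [hbot] at h5
      exact Subtype.ext h5) (by
      rw [eq_top_iff]
      rintro ⟨x, hx⟩ -
      have h3 : x ∈ ((S : Subgroup G) ⊓ D) ⊔ ((S : Subgroup G) ⊓ M) := by rw [hsup]; exact hx
      have h4 : (S : Subgroup G) ⊓ D ≤ normalizer (((S : Subgroup G) ⊓ M : Subgroup G) : Set G) := by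
        refine le_normalizer_of (C := (S : Subgroup G) ⊓ D) ?_
        rintro g ⟨hg, hg'⟩ m ⟨hm, hm'⟩
        exact ⟨(S : Subgroup G).mul_mem ((S : Subgroup G).mul_mem hg hm)
          ((S : Subgroup G).inv_mem hg), hn g ((hmC _).1 (hSC hg)) m hm'⟩
      rw [← SetLike.mem_coe, coe_mul_of_left_le_normalizer_right _ _ h4] at h3
      obtain ⟨y, ⟨hy1, hy2⟩, z, ⟨hz1, hz2⟩, hyz⟩ := h3
      have h5 : (⟨x, hx⟩ : (S : Subgroup G)) = ⟨y, hy1⟩ * ⟨z, hz1⟩ := Subtype.ext hyz.symm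
      rw [h5]
      exact mul_mem (mem_sup_left ((hcoe _ _).2 hy2)) (mem_sup_right ((hcoe _ _).2 hz2)))
    inf_le_left (by
      apply relIndex_le_two
      have hp : IsPGroup 2 ((S : Subgroup G) ⊓ D : Subgroup G) := S.isPGroup'.to_le inf_le_left
      rintro ⟨x, hx⟩ hx1 ⟨y, hy⟩ hy1 hx2 hy2
      refine ⟨mul_mem hx1 hy1, ?_⟩
      exact hK _ inf_le_right hp x ⟨hx, hx1⟩ y ⟨hy, hy1⟩ (fun h => hx2 ⟨hx1, h⟩)
        (fun h => hy2 ⟨hy1, h⟩)) (by
      rintro ⟨k, hk⟩ ⟨-, hk2⟩ ⟨y, hy⟩ hy2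
      exact Subtype.ext (hKM k hk2 y hy2)) ⟨t, htS⟩ ⟨htD, htK⟩ (fun h => ht1 (congrArg Subtype.val h))
    (Subtype.ext ht2) (by
      rintro ⟨x, hx⟩ hx1 hx2
      rcases hone x hx1 (congrArg Subtype.val hx2) with h | h
      · exact Or.inl (Subtype.ext h)
      · exact Or.inr (Subtype.ext h)) (by
      intro x hx
      exact (hYL hx).2) (by
      exact isCyclic_of_injective (Subgroup.subgroupOfEquivOfLe hYS).toMonoidHom
        (Subgroup.subgroupOfEquivOfLe hYS).injective) (by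
      intro h
      apply hYne
      rw [eq_bot_iff]
      intro x hx
      have h3 : (⟨x, hYS hx⟩ : (S : Subgroup G)) ∈ Y.subgroupOf (S : Subgroup G) := hx
      rw [h] at h3
      exact congrArg Subtype.val (mem_bot.1 h3)) (by
      refine Eq.trans ?_ hYi
      rw [show M.subgroupOf (S : Subgroup G) = ((S : Subgroup G) ⊓ M).subgroupOf (S : Subgroup G) from
        (inf_subgroupOf_left _ _).symm, relIndex_subgroupOf inf_le_left]) (by
      rintro ⟨x, hx⟩ hx1 hx2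
      exact Subtype.ext (hYo x ⟨hx, hx1⟩ hx2)) (by
      refine TwoLoc.exists_aut S ⟨t, htS⟩ ?_ hcl (fun h => ht1 (congrArg Subtype.val h))
        (Subtype.ext ht2)
      rw [mem_center_iff]
      rintro ⟨x, hx⟩
      exact Subtype.ext ((hmC _).1 (hSC hx)))
  obtain ⟨h3, h4, h5⟩ := hty
  refine ⟨S, htS, h4, ?_, ?_, d, hd, ?_⟩
  · intro x hx
    exact congrArg Subtype.val (h5 ⟨x, hx⟩)
  · intro x hx hxD
    rcases h3 ⟨x, hx⟩ hxD with h | h
    · exact Or.inl (congrArg Subtype.val h)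
    · exact Or.inr (congrArg Subtype.val h)
  · rw [hcD]
    congr 1
    have h6 : (S : Subgroup G) ⊓ D = zpowers t := by
      apply le_antisymm
      · rintro x ⟨hx, hx'⟩
        rcases h3 ⟨x, hx⟩ hx' with h | h
        · rw [show x = 1 from congrArg Subtype.val h]; exact one_mem _
        · rw [show x = t from congrArg Subtype.val h]; exact mem_zpowers t
      · rw [zpowers_le]
        exact ⟨htS, htD⟩
    rw [h6, Nat.card_zpowers, orderOf_eq_prime (p := 2) (by rw [pow_two, ht2]) ht1]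

end abs

/-! ### The squares -/

section sq

variable {G Ω F : Type*} [Group G] [MulAction G Ω] [Field F] {U : Ω → Subgroup G} {a b : Ω}
  {X : Subgroup G} {φ : Matrix.SpecialLinearGroup (Fin 2) F →* G}

open Cfsg.Agent.HKS.SLCoord Cfsg.Agent.HKS.SLRel Cfsg.Agent.ONan.SL2Hom

/-- conjugation by elements of `D` -/
theorem exists_act (S : SLX U X a b φ) (h : SSplit U) {x : G} (hx : x ∈ Dab G a b)
    (hX : x ∈ centralizer (X : Set G)) (s : F) : ∃ s', x * φ (tM s) * x⁻¹ = φ (tM s') := by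
  have h1 : x * φ (tM s) * x⁻¹ ∈ U a ⊓ centralizer (X : Set G) := by
    refine ⟨h.conj_of_fix hx.1 (S.up s).1, ?_⟩
    exact (centralizer (X : Set G)).mul_mem ((centralizer (X : Set G)).mul_mem hX (S.up s).2)
      ((centralizer (X : Set G)).inv_mem hX)
  obtain ⟨s', hs'⟩ := S.up_surj _ h1
  exact ⟨s', hs'.symm⟩

/-- conjugation by elements of `D` and squares -/
theorem act_sq (S : SLX U X a b φ) (h : SSplit U) {x : G} (hx : x ∈ Dab G a b) (hn : ∀ m ∈ genFix U X, x * m * x⁻¹ ∈ genFix U X) {s s' : F}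
    (hs : x * φ (tM s) * x⁻¹ = φ (tM s')) {r : F} (hr : r ≠ 0) :
    ∃ r' : F, r' ≠ 0 ∧ x * φ (tM (r ^ 2 * s)) * x⁻¹ = φ (tM (r' ^ 2 * s')) := by
  have h1 : x * φ (nM r hr) * x⁻¹ ∈ genFix U X := hn _ (S.nM_gen r hr)
  rw [← S.range_eq h] at h1
  obtain ⟨A, hA⟩ := h1
  have h2 : φ A ∈ Dab G a b := by
    rw [hA]
    exact mul_mem (mul_mem hx (S.nM_mem h r hr)) (inv_mem hx)
  obtain ⟨r', hr', rfl⟩ := S.eq_nM h h2.1 h2.2
  refine ⟨r', hr', ?_⟩
  have h3 : ∀ (r : F) (hr : r ≠ 0) (s : F), φ (tM (r ^ 2 * s)) = φ (nM r hr) * φ (tM s) * (φ (nM r hr))⁻¹ := by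
    intro r hr s
    rw [eq_mul_inv_iff_mul_eq, ← map_mul, ← map_mul, nM_tM]
  rw [h3 r hr, h3 r' hr', hA, ← hs]
  group

theorem act_neg {x : G} {s s' : F} (hs : x * φ (tM s) * x⁻¹ = φ (tM s')) :
    x * φ (tM (-s)) * x⁻¹ = φ (tM (-s')) := by
  rw [← tM_inv, ← tM_inv, map_inv, map_inv, ← hs]
  group

theorem act_add {x : G} {s s' r r' : F} (hs : x * φ (tM s) * x⁻¹ = φ (tM s'))
    (hr : x * φ (tM r) * x⁻¹ = φ (tM r')) : x * φ (tM (s + r)) * x⁻¹ = φ (tM (s' + r')) := by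
  rw [tM_add, tM_add, map_mul, map_mul, ← hs, ← hr]
  group

/-- every nonzero element is a square or the negative of a square -/
theorem sq_or [Finite F] (hneg : ¬ IsSquare (-1 : F)) {s : F} (hs : s ≠ 0) :
    (∃ r : F, r ≠ 0 ∧ s = r ^ 2) ∨ ∃ r : F, r ≠ 0 ∧ s = -(r ^ 2) := by
  by_cases h1 : IsSquare s
  · obtain ⟨r, hr⟩ := h1
    left
    refine ⟨r, ?_, by rw [hr, pow_two]⟩
    rintro rfl
    exact hs (by rw [hr, mul_zero])
  · right
    obtain ⟨r, hr0, hr⟩ := isSquare_div hneg h1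
    exact ⟨r, hr0, by rw [hr]; ring⟩

/-- the image of `1` is a square -/
def Pos (φ : Matrix.SpecialLinearGroup (Fin 2) F →* G) (x : G) : Prop :=
  ∃ r : F, r ≠ 0 ∧ x * φ (tM 1) * x⁻¹ = φ (tM (r ^ 2))

section

omit [Field F] in
theorem conj_gen (h : SSplit U) {x : G} (hx : x ∈ Dab G a b ⊓ centralizer (X : Set G)) {m : G}
    (hm : m ∈ genFix U X) : x * m * x⁻¹ ∈ genFix U X := by
  refine PP1.conj_genFix h ?_ hm
  intro y hy
  have h1 : y * x = x * y := mem_centralizer_iff.1 hx.2 y hy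
  have h2 : x⁻¹ * y * x = y := by rw [mul_assoc, h1, inv_mul_cancel_left]
  rw [h2]
  exact hy

variable (S : SLX U X a b φ) (h : SSplit U) {x : G} (hx : x ∈ Dab G a b ⊓ centralizer (X : Set G))

include S h hx

theorem pos_all [Finite F] (hneg : ¬ IsSquare (-1 : F)) (hp : Pos φ x) {s : F} (hs : s ≠ 0) :
    ∃ r : F, r ≠ 0 ∧ x * φ (tM s) * x⁻¹ = φ (tM (r ^ 2 * s)) := by
  obtain ⟨r, hr, h1⟩ := hp
  have key : ∀ {r₁ : F}, r₁ ≠ 0 → ∃ r₂ : F, r₂ ≠ 0 ∧
      x * φ (tM (r₁ ^ 2)) * x⁻¹ = φ (tM (r₂ ^ 2 * r₁ ^ 2)) := by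
    intro r₁ hr₁
    obtain ⟨r', hr', h2⟩ := act_sq S h hx.1 (fun m hm => conj_gen h hx hm) h1 hr₁
    refine ⟨r' * r / r₁, div_ne_zero (mul_ne_zero hr' hr) hr₁, ?_⟩
    rw [mul_one] at h2
    rw [h2]
    congr 2
    field_simp
  rcases sq_or hneg hs with ⟨r₁, hr₁, rfl⟩ | ⟨r₁, hr₁, rfl⟩
  · exact key hr₁
  · obtain ⟨r₂, hr₂, h2⟩ := key hr₁
    refine ⟨r₂, hr₂, ?_⟩
    rw [act_neg h2, mul_neg]

theorem triv_of_sq [Finite F] (hneg : ¬ IsSquare (-1 : F)) (hp : Pos φ x)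
    (h2 : ∀ s, x * x * φ (tM s) * (x * x)⁻¹ = φ (tM s)) (s : F) :
    x * φ (tM s) * x⁻¹ = φ (tM s) := by
  obtain ⟨s', hs'⟩ := exists_act S h hx.1 hx.2 s
  have h3 : x * φ (tM s') * x⁻¹ = φ (tM s) := by
    rw [← h2 s, ← hs']
    group
  have h4 : x * φ (tM (s' + -s)) * x⁻¹ = φ (tM (s + -s')) := act_add h3 (act_neg hs')
  by_cases hv : s' + -s = 0
  · have : s' = s := by linear_combination hv
    rw [hs', this]
  · exfalso
    obtain ⟨r, hr, h5⟩ := pos_all S h hx hneg hp hv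
    have h6 := S.tM_inj (h4.symm.trans h5)
    apply hneg
    refine ⟨r, ?_⟩
    have h7 : (s' + -s) * (r * r) = (s' + -s) * (-1) := by linear_combination -h6
    exact (mul_left_cancel₀ hv h7).symm

theorem pos_mul_self [Finite F] (hneg : ¬ IsSquare (-1 : F)) (hp : Pos φ x) : Pos φ (x * x) := by
  obtain ⟨r, hr, h1⟩ := id hp
  obtain ⟨r', hr', h2⟩ := pos_all S h hx hneg hp (pow_ne_zero 2 hr)
  refine ⟨r' * r, mul_ne_zero hr' hr, ?_⟩
  rw [mul_pow, ← h2, ← h1]
  group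

end

theorem triv_of_two_power [Finite F] (S : SLX U X a b φ) (h : SSplit U)
    (hneg : ¬ IsSquare (-1 : F)) (n : ℕ) {x : G} (hx : x ∈ Dab G a b ⊓ centralizer (X : Set G))
    (hp : Pos φ x) (hn : x ^ 2 ^ n = 1) (s : F) : x * φ (tM s) * x⁻¹ = φ (tM s) := by
  induction n generalizing x s with
  | zero =>
    rw [pow_zero, pow_one] at hn
    rw [hn, one_mul, inv_one, mul_one]
  | succ n ih =>
    refine triv_of_sq S h hx hneg hp (fun s => ?_) s
    refine ih (mul_mem hx hx) (pos_mul_self S h hx hneg hp) ?_ s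
    rw [← pow_two, ← pow_mul, ← pow_succ']
    exact hn

/-- fixed points of `X` -/
theorem exists_of_fix (S : SLX U X a b φ) (h : SSplit U) {c : Ω} (hc : ∀ x ∈ X, x • c = c)
    (hca : c ≠ a) : ∃ s, φ (tM s) • b = c := by
  obtain ⟨u, hu, huc⟩ := h.trans S.ne hca
  have huX : u ∈ centralizer (X : Set G) := by
    rw [mem_centralizer_iff]
    intro x hx
    have h1 : x * u * x⁻¹ = u := h.eq_of_smul_eq S.ne (h.conj_of_fix (S.fixa x hx) hu) hu (by
      rw [mul_smul, mul_smul, inv_smul_eq_iff.2 (S.fixb x hx).symm, huc, hc x hx])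
    calc x * u = x * u * x⁻¹ * x := by group
      _ = u * x := by rw [h1]
  obtain ⟨s, hs⟩ := S.up_surj u ⟨hu, huX⟩
  exact ⟨s, by rw [hs, huc]⟩

theorem mem_kerFix_of_triv (S : SLX U X a b φ) (h : SSplit U) {x : G} (hx : x ∈ Dab G a b)
    (ht : ∀ s, x * φ (tM s) * x⁻¹ = φ (tM s)) : x ∈ kerFix Ω X := by
  intro c hc
  by_cases hca : c = a
  · rw [hca]; exact hx.1
  · obtain ⟨s, rfl⟩ := exists_of_fix S h hc hca
    have h1 : x * φ (tM s) = φ (tM s) * x := by
      have := ht s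
      rw [mul_inv_eq_iff_eq_mul] at this
      exact this
    rw [← mul_smul, h1, mul_smul, show x • b = b from hx.2]

/-- the index of the kernel -/
theorem index_kerFix [Finite F] (S : SLX U X a b φ) (h : SSplit U) (hneg : ¬ IsSquare (-1 : F))
    {T : Subgroup G} (hT : T ≤ Dab G a b ⊓ centralizer (X : Set G)) (hT2 : IsPGroup 2 T) :
    ∀ x ∈ T, ∀ y ∈ T, x ∉ kerFix Ω X → y ∉ kerFix Ω X → x * y ∈ kerFix Ω X := by
  have key : ∀ x ∈ T, Pos φ x → x ∈ kerFix Ω X := by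
    intro x hx hp
    obtain ⟨n, hn⟩ := hT2 ⟨x, hx⟩
    have hn' : x ^ 2 ^ n = 1 := congrArg Subtype.val hn
    exact mem_kerFix_of_triv S h (hT hx).1 (triv_of_two_power S h hneg n (hT hx) hp hn')
  have hneg' : ∀ x ∈ T, x ∉ kerFix Ω X → ∃ r : F, r ≠ 0 ∧ x * φ (tM 1) * x⁻¹ = φ (tM (-(r ^ 2))) := by
    intro x hx hk
    obtain ⟨s', hs'⟩ := exists_act S h (hT hx).1 (hT hx).2 1
    have hs0 : s' ≠ 0 := by
      rintro rfl
      rw [tM_zero, map_one, conj_eq_one_iff] at hs'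
      exact one_ne_zero (S.inj 1 hs')
    rcases sq_or hneg hs0 with ⟨r, hr, rfl⟩ | ⟨r, hr, rfl⟩
    · exact absurd (key x hx ⟨r, hr, hs'⟩) hk
    · exact ⟨r, hr, hs'⟩
  intro x hx y hy hxk hyk
  refine key _ (mul_mem hx hy) ?_
  obtain ⟨r, hr, h1⟩ := hneg' x hx hxk
  obtain ⟨r₁, hr₁, h2⟩ := hneg' y hy hyk
  obtain ⟨r', hr', h3⟩ := act_sq S h (hT hx).1 (fun m hm => conj_gen h (hT hx) hm) h1 hr₁
  refine ⟨r' * r, mul_ne_zero hr' hr, ?_⟩
  have h4 := act_neg h3
  rw [mul_one] at h4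
  calc x * y * φ (tM 1) * (x * y)⁻¹ = x * (y * φ (tM 1) * y⁻¹) * x⁻¹ := by group
    _ = x * φ (tM (-(r₁ ^ 2))) * x⁻¹ := by rw [h2]
    _ = φ (tM (-(r' ^ 2 * -(r ^ 2)))) := h4
    _ = _ := by congr 2; ring

/-- `genFix U X` is 2-transitive on the fixed points of `X` -/
theorem two_gen (S : SLX U X a b φ) (h : SSplit U) {c d : Ω} (hc : ∀ x ∈ X, x • c = c)
    (hd : ∀ x ∈ X, x • d = d) (hcd : d ≠ c) : ∃ m ∈ genFix U X, m • a = c ∧ m • b = d := by
  obtain ⟨m₁, hm₁, hm₁c⟩ : ∃ m ∈ genFix U X, m • a = c := by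
    by_cases hca : c = a
    · exact ⟨1, one_mem _, by rw [one_smul, hca]⟩
    · obtain ⟨s, rfl⟩ := exists_of_fix S h hc hca
      refine ⟨φ (tM s) * φ (mM 1 one_ne_zero), mul_mem (S.tM_gen _) (S.mM_gen _ _), ?_⟩
      rw [mul_smul, (S.mM_swaps h 1 one_ne_zero).1]
  have h1 : m₁⁻¹ • d ≠ a := by
    intro h2
    rw [inv_smul_eq_iff, hm₁c] at h2
    exact hcd h2
  have h2 : ∀ x ∈ X, x • m₁⁻¹ • d = m₁⁻¹ • d :=
    fix_smul (genFix_le (inv_mem hm₁)) hd
  obtain ⟨s, hs⟩ := exists_of_fix S h h2 h1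
  refine ⟨m₁ * φ (tM s), mul_mem hm₁ (S.tM_gen s), ?_, ?_⟩
  · rw [mul_smul, h.fix (S.up s).1, hm₁c]
  · rw [mul_smul, hs, smul_inv_smul]

end sq

open Cfsg.Agent.HKS.SLCoord Cfsg.Agent.HKS.SLRel Cfsg.Agent.ONan.SL2Hom in
/-- **The Sylow 2-subgroups are elementary abelian of order 8.** -/
theorem main {G Ω F : Type*} [Group G] [MulAction G Ω] [Finite G] [Finite Ω] [FaithfulSMul G Ω]
    [Field F] [Finite F] (h2 : (2 : F) ≠ 0) {U : Ω → Subgroup G} {a b : Ω} {p k : ℕ}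
    (C : CtxE U a b p k) (R : RankOneD G a b) {t : G} (ht : t ∈ Dab G a b) (ht1 : t ≠ 1)
    (ht2 : t * t = 1) {φ : Matrix.SpecialLinearGroup (Fin 2) F →* G}
    (S : SLX U (zpowers t) a b φ) (hφ : φ (-1) = 1) :
    (∀ x y : G, x ≠ 1 → x * x = 1 → y ≠ 1 → y * y = 1 → ∃ g : G, g * x * g⁻¹ = y) ∧
      ¬ IsSquare (-1 : F) ∧ Nat.card F % 4 = 3 ∧
      ∃ P : Sylow 2 G, t ∈ (P : Subgroup G) ∧ Nat.card P = 8 ∧ (∀ x ∈ (P : Subgroup G), x * x = 1) ∧
        (∀ x ∈ (P : Subgroup G), x ∈ Dab G a b → x = 1 ∨ x = t) ∧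
        ∃ d, Odd d ∧ Nat.card (Dab G a b ⊓ centralizer (zpowers t : Set G) : Subgroup G) = 2 * d := by
  have h : SSplit U := C.split
  have hcl : ∀ x y : G, x ≠ 1 → x * x = 1 → y ≠ 1 → y * y = 1 → ∃ g : G, g * x * g⁻¹ = y := by
    intro x y hx1 hx2 hy1 hy2
    exact isConj_iff.1 ((AffThree.toTO C R).isConj hx2 hy2 hx1 hy1)
  have htK : t ∈ kerFix Ω (zpowers t) := fun c hc => hc t (mem_zpowers t)
  have htM : t ∉ genFix U (zpowers t) := by
    intro hc
    rcases S.eq_neg h hc htK with h3 | h3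
    · exact ht1 h3
    · exact ht1 (h3.trans hφ)
  have hker : ∀ x, φ x = 1 ↔ x = 1 ∨ x = -1 := by
    intro x
    constructor
    · intro hx
      exact S.eq_pm h (by rw [hx]; exact one_mem _)
    · rintro (rfl | rfl)
      · exact map_one φ
      · exact hφ
  have hMt : ∀ m ∈ genFix U (zpowers t), m * t = t * m := by
    intro m hm
    exact (mem_centralizer_iff.1 (genFix_le hm) t (mem_zpowers t)).symm
  have hneg : ¬ IsSquare (-1 : F) := by
    rintro ⟨r, hr⟩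
    have hr0 : r ≠ 0 := by
      rintro rfl
      rw [mul_zero] at hr
      exact neg_ne_zero.mpr one_ne_zero hr
    have h3 : φ (nM r hr0) * φ (nM r hr0) = 1 := by
      rw [← map_mul, hker]
      right
      rw [neg_one_eq]
      apply ext' <;> simp [mul_apply']
      · exact hr.symm
      · rw [← mul_inv, ← hr]
        norm_num
    have h4 : φ (nM r hr0) ≠ 1 := by
      rw [Ne, hker]
      rintro (h5 | h5)
      · have h6 := congrArg (fun A : Matrix.SpecialLinearGroup (Fin 2) F => A.1 0 0) h5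
        simp at h6
        rw [h6, mul_one] at hr
        exact h2 (by linear_combination -hr)
      · rw [neg_one_eq] at h5
        have h6 := congrArg (fun A : Matrix.SpecialLinearGroup (Fin 2) F => A.1 0 0) h5
        simp at h6
        rw [h6] at hr
        exact h2 (by linear_combination -hr)
    have h5 := S.nM_mem h r hr0
    have h6 := S.nM_gen r hr0
    exact htM ((R _ h5 t ht h4 ht1 h3 ht2 (hMt _ h6)) ▸ h6)
  have hq : Nat.card F % 4 = 3 := by
    have := Fintype.ofFinite F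
    rw [FiniteField.isSquare_neg_one_iff, not_not] at hneg
    rw [Nat.card_eq_fintype_card]
    exact hneg
  refine ⟨hcl, hneg, hq, ?_⟩
  have hmc : ∀ g, g * t = t * g → g ∈ centralizer (zpowers t : Set G) := by
    intro g hg
    exact TwoOne.mem_cent_zpowers.2 hg.symm
  obtain ⟨P, h3, h4, h5, h6, h7⟩ := E8_of h2 ht1 ht2 (M := genFix U (zpowers t))
    (D := Dab G a b ⊓ centralizer (zpowers t : Set G)) (K := kerFix Ω (zpowers t)) hcl φ
    (S.range_eq h) hker hMt (fun d hd => (TwoOne.mem_cent_zpowers.1 hd.2).symm)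
    (fun g hg m hm => by
      refine PP1.conj_genFix h ?_ hm
      intro y hy
      have h1 : y * g = g * y := mem_centralizer_iff.1 (hmc g hg) y hy
      rw [mul_assoc, h1, inv_mul_cancel_left]
      exact hy)
    (fun g hg => by
      have hfix : ∀ c : Ω, t • c = c → ∀ x ∈ zpowers t, x • g • c = g • c := by
        intro c hc
        refine TwoOne.zpowers_fix ?_
        rw [← mul_smul, ← hg, mul_smul, hc]
      obtain ⟨m, hm, hma, hmb⟩ := two_gen S h (hfix a ht.1) (hfix b ht.2)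
        (fun e => S.ne (smul_left_cancel g e))
      refine ⟨m, hm, m⁻¹ * g, ⟨⟨?_, ?_⟩, ?_⟩, by group⟩
      · change (m⁻¹ * g) • a = a
        rw [mul_smul, ← hma, inv_smul_smul]
      · change (m⁻¹ * g) • b = b
        rw [mul_smul, ← hmb, inv_smul_smul]
      · exact (centralizer (zpowers t : Set G)).mul_mem
          (genFix_le ((genFix U (zpowers t)).inv_mem hm)) (hmc g hg))
    ⟨ht, hmc t rfl⟩ (fun d hd hd2 => by
      by_cases hd1 : d = 1
      · exact Or.inl hd1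
      · exact Or.inr (R d hd.1 t ht hd1 ht1 hd2 ht2 (TwoOne.mem_cent_zpowers.1 hd.2).symm))
    htM htK (fun k hk m hm => comm_kerFix h S.ne S.fixa S.fixb hk hm)
    (fun T hT hT2 => index_kerFix S h hneg hT hT2)
  refine ⟨P, h3, h4, h5, fun x hx hxD => h6 x hx ⟨hxD, ?_⟩, h7⟩
  -- `x` commutes with `t`, since `P` is abelian
  apply hmc
  have e1 := h5 _ (mul_mem hx h3)
  have e2 := h5 _ hx
  calc x * t = x * t * (x * t * (x * t)) := by rw [e1, mul_one]
    _ = (x * t * (x * t)) * (x * t) := by group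
    _ = x * t * (x * t) * (x * t) := by group
    _ = t * x := by
      rw [e1, one_mul]
      calc x * t = x⁻¹ * t⁻¹ := by
            rw [inv_eq_of_mul_eq_one_left e2, inv_eq_of_mul_eq_one_left ht2]
        _ = (t * x)⁻¹ := by group
        _ = t * x := inv_eq_of_mul_eq_one_left (h5 _ (mul_mem h3 hx))


end Cfsg.Agent.HKS.ReeSylow
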