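import Mathlib
import Cfsg.Agent.HKS.ReeSylow
import Cfsg.Agent.HKS.AbelianQ
import Cfsg.Agent.HKS.TwoOneNum

/-!
# The Ree end: the last step

`Fin0 U a b t φ` : `φ : SL(2,F) →* G` are coordinates at the central involution `t` of `G_ab`,
`φ (-1) = 1`, `|F| = 3 (mod 4)`, `|G_ab| = |F| - 1`. Then `G_ab` is cyclic and inverted by `φ (mM 1)`,
`C(t) ≅ Z₂ × PSL(2,F)`, elements of `G_ab` of odd order are fixed point free on `U a`, `U a` is not
abelian if `|U a| = |F| ^ 3`; `TR U a b n` if `|F| = 3 ^ n`.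
-/

set_option autoImplicit false

namespace Cfsg.Agent.HKS.ReeFin

open Subgroup MulAction Cfsg.Agent.HKS Cfsg.Agent.ONan.SL2Hom Cfsg.Agent.HKS.SLRel
  Cfsg.Agent.HKS.SLCoord

section Matrices

variable {F : Type*} [Field F]

theorem nM_mul (r s : F) (hr : r ≠ 0) (hs : s ≠ 0) :
    nM r hr * nM s hs = nM (r * s) (mul_ne_zero hr hs) := by
  apply ext' <;> simp [mul_apply', mul_comm]

theorem mM_nM (r : F) (hr : r ≠ 0) :
    mM (1 : F) one_ne_zero * nM r hr = nM r⁻¹ (inv_ne_zero hr) * mM (1 : F) one_ne_zero := by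
  apply ext' <;> simp [mul_apply']

/-- the torus -/
def tor : Fˣ →* Matrix.SpecialLinearGroup (Fin 2) F where
  toFun r := nM (r : F) r.ne_zero
  map_one' := by apply ext' <;> simp
  map_mul' r s := by rw [nM_mul]; rfl

theorem tor_apply (r : Fˣ) : tor r = nM (r : F) r.ne_zero := rfl

theorem mM_tor (r : Fˣ) : mM (1 : F) one_ne_zero * tor r = (tor r)⁻¹ * mM (1 : F) one_ne_zero := by
  rw [← map_inv, tor_apply, tor_apply, mM_nM]
  congr 2
  exact (Units.val_inv_eq_inv_val r).symm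

end Matrices

/-- The setting of the last step. -/
structure Fin0 {G Ω F : Type*} [Group G] [MulAction G Ω] [Field F] (U : Ω → Subgroup G) (a b : Ω)
    (t : G) (φ : Matrix.SpecialLinearGroup (Fin 2) F →* G) : Prop where
  h : SSplit U
  S : SLX U (zpowers t) a b φ
  neg : φ (-1) = 1
  tD : t ∈ Dab G a b
  t1 : t ≠ 1
  t2 : t * t = 1
  cen : ∀ d ∈ Dab G a b, t * d = d * t
  mod4 : Nat.card F % 4 = 3
  cardD : Nat.card (Dab G a b) = Nat.card F - 1

namespace Fin0

variable {G Ω F : Type*} [Group G] [MulAction G Ω] [Field F] {U : Ω → Subgroup G} {a b : Ω}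
  {t : G} {φ : Matrix.SpecialLinearGroup (Fin 2) F →* G}

theorem ab (D : Fin0 U a b t φ) : b ≠ a := D.S.ne

theorem comm_phi (D : Fin0 U a b t φ) (A : Matrix.SpecialLinearGroup (Fin 2) F) :
    t * φ A = φ A * t := by
  have h1 := D.S.gen A
  have h2 : genFix U (zpowers t) ≤ centralizer (zpowers t : Set G) := iSup_le fun _ => inf_le_right
  exact mem_centralizer_iff.1 (h2 h1) t (mem_zpowers t)

theorem ker_iff (D : Fin0 U a b t φ) (A : Matrix.SpecialLinearGroup (Fin 2) F) :
    φ A = 1 ↔ A = 1 ∨ A = -1 := by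
  constructor
  · intro hx
    exact D.S.eq_pm D.h (by rw [hx]; exact one_mem _)
  · rintro (rfl | rfl)
    · exact map_one φ
    · exact D.neg

/-- the torus in `G` -/
def tau (φ : Matrix.SpecialLinearGroup (Fin 2) F →* G) : Fˣ →* G := φ.comp tor

theorem tau_mem (D : Fin0 U a b t φ) (r : Fˣ) : tau φ r ∈ Dab G a b :=
  D.S.nM_mem D.h (r : F) r.ne_zero

theorem tau_eq_one (D : Fin0 U a b t φ) {r : Fˣ} (h : tau φ r = 1) : r = 1 ∨ r = -1 := by
  rcases (D.ker_iff (tor r)).1 h with h1 | h1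
  · left
    have := congrArg (fun A : Matrix.SpecialLinearGroup (Fin 2) F => A.1 0 0) h1
    simp only [tor_apply, nM_00] at this
    exact Units.ext (by simpa using this)
  · right
    have := congrArg (fun A : Matrix.SpecialLinearGroup (Fin 2) F => A.1 0 0) h1
    simp only [tor_apply, nM_00] at this
    exact Units.ext (by simpa using this)

theorem tau_neg (D : Fin0 U a b t φ) : tau φ (-1) = 1 := by
  change φ (tor (-1)) = 1
  rw [D.ker_iff]
  right
  apply ext' <;> simp [tor_apply]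

theorem finF (D : Fin0 U a b t φ) : Finite F := by
  by_contra hc
  rw [not_finite_iff_infinite] at hc
  have := D.mod4
  rw [Nat.card_eq_zero_of_infinite] at this
  omega

/-- the order of a generator of the torus -/
theorem orderOf_tau (D : Fin0 U a b t φ) {g : Fˣ} (hg : ∀ x, x ∈ zpowers g) :
    2 * orderOf (tau φ g) = Nat.card F - 1 := by
  have := D.finF
  have h4 := D.mod4
  have hog : orderOf g = Nat.card F - 1 := by
    rw [orderOf_eq_card_of_forall_mem_zpowers hg, Nat.card_units]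
  set n := orderOf (tau φ g) with hn
  obtain ⟨m, hm⟩ : ∃ m, Nat.card F - 1 = 2 * m := ⟨(Nat.card F - 1) / 2, by omega⟩
  have hmpos : 0 < m := by omega
  -- `g ^ m = -1`
  have h1 : g ^ m = -1 := by
    have h2 : (g ^ m) * (g ^ m) = 1 := by
      rw [← pow_add, ← two_mul, ← hm, ← hog, pow_orderOf_eq_one]
    have h3 : g ^ m ≠ 1 := pow_ne_one_of_lt_orderOf (by omega) (by omega)
    have h5 : ((g ^ m : Fˣ) : F) * ((g ^ m : Fˣ) : F) = 1 := by
      rw [← Units.val_mul, h2, Units.val_one]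
    rcases mul_self_eq_one_iff.1 h5 with h6 | h6
    · exact absurd (Units.ext (by rw [h6, Units.val_one])) h3
    · exact Units.ext (by rw [h6, Units.val_neg, Units.val_one])
  have h2 : n ∣ m := by
    rw [hn, orderOf_dvd_iff_pow_eq_one, ← map_pow, h1]
    exact D.tau_neg
  have h3 : m ∣ n := by
    have h5 : tau φ (g ^ n) = 1 := by rw [map_pow, hn, pow_orderOf_eq_one]
    have h6 : (g ^ n) * (g ^ n) = 1 := by
      rcases D.tau_eq_one h5 with h7 | h7 <;> rw [h7] <;> simp
    rw [← pow_add, ← orderOf_dvd_iff_pow_eq_one, hog, hm, ← two_mul] at h6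
    exact Nat.dvd_of_mul_dvd_mul_left (by norm_num) h6
  rw [Nat.dvd_antisymm h2 h3, hm]

/-- **`G_ab` is cyclic**, generated by `τ(g) t`. -/
theorem exists_gen [Finite G] (D : Fin0 U a b t φ) : ∃ g : Fˣ, (∀ x, x ∈ zpowers g) ∧
    zpowers (tau φ g * t) = Dab G a b := by
  have := D.finF
  obtain ⟨g, hg⟩ := IsCyclic.exists_generator (α := Fˣ)
  refine ⟨g, hg, ?_⟩
  have h1 := D.orderOf_tau hg
  have h4 := D.mod4
  have ht : orderOf t = 2 := orderOf_eq_prime (by rw [pow_two, D.t2]) D.t1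
  have hcop : Nat.Coprime (orderOf (tau φ g)) (orderOf t) := by
    rw [ht, Nat.coprime_two_right]
    rw [Nat.odd_iff]
    omega
  have hc : Commute (tau φ g) t := (D.comm_phi (tor g)).symm
  have h2 := hc.orderOf_mul_eq_mul_orderOf_of_coprime hcop
  rw [ht] at h2
  apply eq_of_le_of_card_ge
  · rw [zpowers_le]
    exact mul_mem (D.tau_mem g) D.tD
  · rw [Nat.card_zpowers, h2, D.cardD]
    omega

/-- the element interchanging `a` and `b` -/
theorem w_swaps (D : Fin0 U a b t φ) : Swaps (φ (mM 1 one_ne_zero)) a b := D.S.mM_swaps D.h _ _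

theorem w_sq (D : Fin0 U a b t φ) : φ (mM 1 one_ne_zero) * φ (mM 1 one_ne_zero) = 1 := by
  rw [← map_mul, mM_mul_self]
  exact D.neg

/-- `w` inverts `G_ab`. -/
theorem w_inv [Finite G] (D : Fin0 U a b t φ) {d : G} (hd : d ∈ Dab G a b) :
    φ (mM 1 one_ne_zero) * d * (φ (mM 1 one_ne_zero))⁻¹ = d⁻¹ := by
  obtain ⟨g, -, hg⟩ := D.exists_gen
  set w := φ (mM 1 one_ne_zero) with hw
  have hti : t⁻¹ = t := inv_eq_of_mul_eq_one_left D.t2
  have h1 : w * (tau φ g * t) * w⁻¹ = (tau φ g * t)⁻¹ := by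
    have h2 : w * tau φ g = (tau φ g)⁻¹ * w := by
      change φ _ * φ (tor g) = (φ (tor g))⁻¹ * φ _
      rw [← map_mul, mM_tor, map_mul, map_inv]
    have h3 : t * w⁻¹ = w⁻¹ * t := by
      rw [hw, ← map_inv]
      exact D.comm_phi _
    have h5 : t * (tau φ g)⁻¹ = (tau φ g)⁻¹ * t := by
      change t * (φ (tor g))⁻¹ = (φ (tor g))⁻¹ * t
      rw [← map_inv]
      exact D.comm_phi _
    calc w * (tau φ g * t) * w⁻¹ = (w * tau φ g) * (t * w⁻¹) := by group
      _ = ((tau φ g)⁻¹ * w) * (w⁻¹ * t) := by rw [h2, h3]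
      _ = (tau φ g)⁻¹ * t := by group
      _ = (tau φ g * t)⁻¹ := by rw [mul_inv_rev, hti, h5]
  rw [← hg] at hd
  obtain ⟨n, rfl⟩ := hd
  change w * (tau φ g * t) ^ n * w⁻¹ = ((tau φ g * t) ^ n)⁻¹
  rw [← conj_zpow, h1, inv_zpow]

theorem comm_D [Finite G] (D : Fin0 U a b t φ) {d e : G} (hd : d ∈ Dab G a b)
    (he : e ∈ Dab G a b) : d * e = e * d := by
  obtain ⟨g, -, hg⟩ := D.exists_gen
  rw [← hg] at hd he
  obtain ⟨n, rfl⟩ := hd
  obtain ⟨m, rfl⟩ := he
  change (tau φ g * t) ^ n * (tau φ g * t) ^ m = (tau φ g * t) ^ m * (tau φ g * t) ^ n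
  rw [← zpow_add, ← zpow_add, add_comm]

/-- every `y` interchanging `a` and `b` inverts `G_ab` -/
theorem swaps_inv [Finite G] (D : Fin0 U a b t φ) {y d : G} (hy : Swaps y a b)
    (hd : d ∈ Dab G a b) : y * d * y⁻¹ = d⁻¹ := by
  set w := φ (mM 1 one_ne_zero) with hw
  have h1 : y * w⁻¹ ∈ Dab G a b := hy.mul D.w_swaps.inv
  have h2 : y = (y * w⁻¹) * w := by group
  have h3 := D.w_inv hd
  have h4 := D.comm_D h1 (inv_mem hd)
  calc y * d * y⁻¹ = (y * w⁻¹) * (w * d * w⁻¹) * (y * w⁻¹)⁻¹ := by group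
    _ = ((y * w⁻¹) * d⁻¹) * (y * w⁻¹)⁻¹ := by rw [h3]
    _ = (d⁻¹ * (y * w⁻¹)) * (y * w⁻¹)⁻¹ := by rw [h4]
    _ = d⁻¹ := by group

/-- elements of odd order of `G_ab` are fixed point free on `U a` -/
theorem fpf [Finite G] (D : Fin0 U a b t φ) {d : G} (hd : d ∈ Dab G a b) {k : ℕ} (hk : Odd k)
    (hdk : d ^ k = 1) {u : G} (hu : u ∈ U a) (hdu : d * u = u * d) : d = 1 ∨ u = 1 := by
  by_cases hu1 : u = 1
  · exact Or.inr hu1
  left
  have hd' : d ∈ Dab G b a := by rwa [Dab_symm] at hd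
  have h1 := D.h.mu_comm D.ab.symm hu hu1 hd' hdu
  have h2 := (D.h.mu_swaps D.ab.symm hu hu1).symm
  have h3 := D.swaps_inv h2 hd
  set y := SSplit.mu U b a u with hy
  have h4 : d = d⁻¹ := by
    rw [← h3, ← h1]; group
  have h5 : d ^ 2 = 1 := by
    rw [pow_two]
    calc d * d = d⁻¹ * d := by rw [← h4]
      _ = 1 := by group
  obtain ⟨m, rfl⟩ := hk
  rw [pow_succ, pow_mul, h5, one_pow, one_mul] at hdk
  exact hdk

/-! ### The centraliser of `t` -/

theorem exists_mul [Finite G] (D : Fin0 U a b t φ) {g : G} (hg : t * g = g * t) :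
    ∃ A, g = φ A ∨ g = t * φ A := by
  have hfix : ∀ c : Ω, t • c = c → ∀ x ∈ zpowers t, x • c = c := fun c hc => by
    intro x hx
    exact (zpowers_le.2 (show t ∈ stabilizer G c from hc)) hx
  have hga : t • g • a = g • a := by
    rw [← mul_smul, hg, mul_smul, show t • a = a from D.tD.1]
  have hgb : t • g • b = g • b := by
    rw [← mul_smul, hg, mul_smul, show t • b = b from D.tD.2]
  obtain ⟨m, hm, hma, hmb⟩ := ReeSylow.two_gen D.S D.h (hfix _ hga) (hfix _ hgb)
    (fun e => D.ab (MulAction.injective g e))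
  rw [← D.S.range_eq D.h] at hm
  obtain ⟨A, rfl⟩ := hm
  have hd : (φ A)⁻¹ * g ∈ Dab G a b := by
    constructor
    · change ((φ A)⁻¹ * g) • a = a
      rw [mul_smul, inv_smul_eq_iff, hma]
    · change ((φ A)⁻¹ * g) • b = b
      rw [mul_smul, inv_smul_eq_iff, hmb]
  obtain ⟨r, -, hr⟩ := D.exists_gen
  rw [← hr] at hd
  obtain ⟨n, hn⟩ := hd
  change (tau φ r * t) ^ n = (φ A)⁻¹ * g at hn
  have hc : Commute (tau φ r) t := (D.comm_phi (tor r)).symm
  rw [hc.mul_zpow] at hn
  have h1 : g = φ (A * (tor r) ^ n) * t ^ n := by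
    rw [map_mul, map_zpow, eq_mul_of_inv_mul_eq hn.symm, mul_assoc]
    rfl
  have h2 : t ^ n = 1 ∨ t ^ n = t := TwoOne.mem_zpowers_invol D.t2 ⟨n, rfl⟩
  refine ⟨A * (tor r) ^ n, ?_⟩
  rcases h2 with h3 | h3
  · left
    rw [h1, h3, mul_one]
  · right
    rw [h1, h3]
    exact (D.comm_phi _).symm

/-- `t` is not in the image of `φ`. -/
theorem t_ne_phi [Finite G] (D : Fin0 U a b t φ) (A : Matrix.SpecialLinearGroup (Fin 2) F) :
    φ A ≠ t := by
  intro hc
  obtain ⟨r, hr, -⟩ := D.exists_gen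
  have h1 : φ A ∈ Dab G a b := by rw [hc]; exact D.tD
  have h2 : φ A ∈ kerFix Ω (zpowers t) := by
    rw [hc]
    exact fun c hc => hc t (mem_zpowers t)
  rcases D.S.eq_pm D.h h2 with h3 | h3
  · rw [h3, map_one] at hc
    exact D.t1 hc.symm
  · rw [h3, D.neg] at hc
    exact D.t1 hc.symm

theorem center_map (D : Fin0 U a b t φ) {A : Matrix.SpecialLinearGroup (Fin 2) F}
    (hA : A ∈ Subgroup.center (Matrix.SpecialLinearGroup (Fin 2) F)) : φ A = 1 := by
  obtain ⟨r, hr, hrA⟩ := Matrix.SpecialLinearGroup.mem_center_iff.1 hA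
  rw [D.ker_iff]
  have h1 : r * r = 1 := by
    rw [← sq, ← hr]
    simp
  have h00 : A.1 0 0 = r := by rw [← hrA]; simp
  have h01 : A.1 0 1 = 0 := by rw [← hrA]; simp
  have h10 : A.1 1 0 = 0 := by rw [← hrA]; simp
  have h11 : A.1 1 1 = r := by rw [← hrA]; simp
  rcases mul_self_eq_one_iff.1 h1 with h2 | h2
  · left
    apply ext' <;> simp [h00, h01, h10, h11, h2]
  · right
    apply ext' <;> simp [h00, h01, h10, h11, h2]

/-- `PSL(2,F) →* C(t)` -/
def psl (D : Fin0 U a b t φ) : Matrix.ProjectiveSpecialLinearGroup (Fin 2) F →*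
    centralizer ({t} : Set G) :=
  (QuotientGroup.lift _ φ (fun A hA => D.center_map hA)).codRestrict _ (fun A => by
    induction A using QuotientGroup.induction_on with
    | H A =>
      change φ A ∈ centralizer ({t} : Set G)
      rw [mem_centralizer_singleton_iff]
      exact (D.comm_phi A).symm)

theorem psl_mk (D : Fin0 U a b t φ) (A : Matrix.SpecialLinearGroup (Fin 2) F) :
    ((D.psl (QuotientGroup.mk A) : centralizer ({t} : Set G)) : G) = φ A := rfl

/-- `Z₂ →* C(t)` -/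
def two (D : Fin0 U a b t φ) : Multiplicative (ZMod 2) →* centralizer ({t} : Set G) where
  toFun i := if i = 1 then 1 else ⟨t, by rw [mem_centralizer_singleton_iff]⟩
  map_one' := if_pos rfl
  map_mul' := by
    have key : ∀ i j : Multiplicative (ZMod 2), (i = 1 ∧ j = 1) ∨ (i = 1 ∧ j ≠ 1 ∧ i * j ≠ 1) ∨
      (i ≠ 1 ∧ j = 1 ∧ i * j ≠ 1) ∨ (i ≠ 1 ∧ j ≠ 1 ∧ i * j = 1) := by decide
    intro i j
    rcases key i j with ⟨h1, h2⟩ | ⟨h1, h2, h3⟩ | ⟨h1, h2, h3⟩ | ⟨h1, h2, h3⟩
    · rw [h1, h2, mul_one, if_pos rfl, mul_one]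
    · rw [if_neg h3, if_pos h1, if_neg h2, one_mul]
    · rw [if_neg h3, if_neg h1, if_pos h2, mul_one]
    · rw [if_pos h3, if_neg h1, if_neg h2]
      exact Subtype.ext D.t2.symm

theorem two_of_ne (D : Fin0 U a b t φ) {i : Multiplicative (ZMod 2)} (hi : i ≠ 1) :
    ((D.two i : centralizer ({t} : Set G)) : G) = t := by
  change (((if i = 1 then 1 else ⟨t, _⟩ : centralizer ({t} : Set G))) : G) = t
  rw [if_neg hi]

/-- **`C(t) ≅ Z₂ × PSL(2,F)`.** -/
theorem nonempty_equiv [Finite G] (D : Fin0 U a b t φ) : Nonempty (centralizer ({t} : Set G) ≃*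
    Multiplicative (ZMod 2) × Matrix.ProjectiveSpecialLinearGroup (Fin 2) F) := by
  have hcomm : ∀ i A, Commute (D.two i) (D.psl A) := by
    intro i A
    by_cases hi : i = 1
    · rw [hi, map_one]; exact Commute.one_left _
    · induction A using QuotientGroup.induction_on with
      | H A =>
        apply Subtype.ext
        change ((D.two i : centralizer ({t} : Set G)) : G) * φ A =
          φ A * ((D.two i : centralizer ({t} : Set G)) : G)
        rw [D.two_of_ne hi]
        exact D.comm_phi A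
  have hbij : Function.Bijective (MonoidHom.noncommCoprod D.two D.psl hcomm) := by
    constructor
    · rw [injective_iff_map_eq_one]
      rintro ⟨i, A⟩ hiA
      induction A using QuotientGroup.induction_on with
      | H A =>
        rw [MonoidHom.noncommCoprod_apply] at hiA
        have h1 : ((D.two i : centralizer ({t} : Set G)) : G) * φ A = 1 := congrArg Subtype.val hiA
        by_cases hi : i = 1
        · rw [hi, map_one] at h1
          change (1 : G) * φ A = 1 at h1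
          rw [one_mul] at h1
          rw [hi]
          have h2 : (QuotientGroup.mk A : Matrix.ProjectiveSpecialLinearGroup (Fin 2) F) = 1 := by
            rw [QuotientGroup.eq_one_iff]
            rcases (D.ker_iff A).1 h1 with h3 | h3
            · rw [h3]; exact one_mem _
            · rw [h3]
              rw [mem_center_iff]
              intro B
              rw [mul_neg, neg_mul, one_mul, mul_one]
          exact Prod.ext rfl h2
        · exfalso
          rw [D.two_of_ne hi] at h1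
          apply D.t_ne_phi A
          rw [eq_inv_of_mul_eq_one_right h1]
          exact inv_eq_of_mul_eq_one_left D.t2
    · rintro ⟨g, hg⟩
      rw [mem_centralizer_singleton_iff] at hg
      obtain ⟨A, hA | hA⟩ := D.exists_mul hg.symm
      · refine ⟨(1, QuotientGroup.mk A), ?_⟩
        rw [MonoidHom.noncommCoprod_apply, map_one, one_mul]
        exact Subtype.ext hA.symm
      · refine ⟨(Multiplicative.ofAdd 1, QuotientGroup.mk A), ?_⟩
        rw [MonoidHom.noncommCoprod_apply]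
        apply Subtype.ext
        change ((D.two (Multiplicative.ofAdd 1) : centralizer ({t} : Set G)) : G) * φ A = g
        rw [D.two_of_ne (by decide), hA]
  exact ⟨(MulEquiv.ofBijective _ hbij).symm⟩

/-! ### `U a` is not abelian -/

/-- `|G_ab| = 2 m`, `m` odd; `d ^ m ∈ {1, t}`. -/
theorem pow_half [Finite G] (D : Fin0 U a b t φ) {m : ℕ} (hm : Nat.card F - 1 = 2 * m) {d : G}
    (hd : d ∈ Dab G a b) : d ^ m = 1 ∨ d ^ m = t := by
  obtain ⟨g, hg, hr⟩ := D.exists_gen
  rw [← hr] at hd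
  obtain ⟨n, hn⟩ := hd
  change (tau φ g * t) ^ n = d at hn
  have h1 := D.orderOf_tau hg
  have h2 : orderOf (tau φ g) = m := by omega
  have hc : Commute (tau φ g) t := (D.comm_phi (tor g)).symm
  have h3 : d ^ m = (t ^ n) ^ m := by
    rw [← hn, hc.mul_zpow, ((hc.zpow_zpow n n).mul_pow m), ← zpow_natCast (tau φ g ^ n) m,
      ← zpow_mul, mul_comm n (m : ℤ), zpow_mul, zpow_natCast, ← h2, pow_orderOf_eq_one, one_zpow,
      one_mul]
  exact TwoOne.mem_zpowers_invol D.t2 (by
    rw [h3]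
    exact pow_mem (zpow_mem (mem_zpowers t) n) m)

/-- the character of order two of `G_ab ⟨w⟩` which is `-1` on `t` and `1` on `w` -/
theorem exists_theta [Finite G] (D : Fin0 U a b t φ) : ∃ θ : Wab G a b →* ℤˣ,
    θ ⟨t, Dab_le_Wab a b D.tD⟩ = -1 := by
  classical
  have h4 := D.mod4
  obtain ⟨m, hm⟩ : ∃ m, Nat.card F - 1 = 2 * m := ⟨(Nat.card F - 1) / 2, by omega⟩
  have hmo : Odd m := by rw [Nat.odd_iff]; omega
  set w := φ (mM 1 one_ne_zero) with hw
  have hws : Swaps w a b := D.w_swaps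
  have hw2 : w * w = 1 := D.w_sq
  have hwi : w⁻¹ = w := inv_eq_of_mul_eq_one_left hw2
  have htm : t ^ m = t := by
    obtain ⟨i, rfl⟩ := hmo
    rw [pow_succ, pow_mul, pow_two, D.t2, one_pow, one_mul]
  -- the character of `G_ab`
  let χ : G → ℤˣ := fun d => if d ^ m = 1 then 1 else -1
  have hχ1 : ∀ d, d ^ m = 1 → χ d = 1 := fun d h => if_pos h
  have hχt : ∀ d, d ^ m = t → χ d = -1 := fun d h => if_neg (by rw [h]; exact D.t1)
  have hχmul : ∀ d ∈ Dab G a b, ∀ e ∈ Dab G a b, χ (d * e) = χ d * χ e := by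
    intro d hd e he
    have hc : Commute d e := D.comm_D hd he
    rcases D.pow_half hm hd with h1 | h1 <;> rcases D.pow_half hm he with h2 | h2
    · rw [hχ1 _ h1, hχ1 _ h2, hχ1 _ (by rw [hc.mul_pow, h1, h2, mul_one]), mul_one]
    · rw [hχ1 _ h1, hχt _ h2, hχt _ (by rw [hc.mul_pow, h1, h2, one_mul]), one_mul]
    · rw [hχt _ h1, hχ1 _ h2, hχt _ (by rw [hc.mul_pow, h1, h2, mul_one]), mul_one]
    · rw [hχt _ h1, hχt _ h2, hχ1 _ (by rw [hc.mul_pow, h1, h2, D.t2])]
      decide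
  have hχinv : ∀ d ∈ Dab G a b, χ d⁻¹ = χ d := by
    intro d hd
    rcases D.pow_half hm hd with h1 | h1
    · rw [hχ1 _ h1, hχ1 _ (by rw [inv_pow, h1, inv_one])]
    · rw [hχt _ h1, hχt _ (by rw [inv_pow, h1, inv_eq_of_mul_eq_one_left D.t2])]
  let f : G → G := fun x => if x ∈ Dab G a b then x else x * w
  have hfD : ∀ x ∈ Dab G a b, f x = x := fun x h => if_pos h
  have hfS : ∀ x, Swaps x a b → f x = x * w := fun x h => if_neg (fun hc => by
    have h1 := h.1
    rw [show x • a = a from hc.1] at h1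
    exact D.ab h1.symm)
  have hSD : ∀ x, Swaps x a b → x * w ∈ Dab G a b := fun x h => h.mul hws
  have key : ∀ x ∈ Wab G a b, ∀ y ∈ Wab G a b, χ (f (x * y)) = χ (f x) * χ (f y) := by
    intro x hx y hy
    rcases mem_Wab.1 hx with h1 | h1 <;> rcases mem_Wab.1 hy with h2 | h2
    · rw [hfD x h1, hfD y h2, hfD _ (mul_mem h1 h2)]
      exact hχmul x h1 y h2
    · rw [hfD x h1, hfS y h2, hfS _ (Swaps.D_mul h2 h1), mul_assoc]
      exact hχmul x h1 _ (hSD y h2)
    · rw [hfS x h1, hfD y h2, hfS _ (Swaps.mul_D h1 h2)]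
      have h3 : x * y * w = (x * w) * y⁻¹ := by
        have h4 := D.w_inv h2
        rw [← hw] at h4
        have h5 : y * w = w * y⁻¹ := by
          calc y * w = w * (w * y * w⁻¹) * (w * w) := by rw [hwi, hw2]; calc
                y * w = (w * w) * y * w := by rw [hw2, one_mul]
                _ = _ := by group
            _ = w * y⁻¹ := by rw [h4, hw2, mul_one]
        rw [mul_assoc, h5, mul_assoc]
      rw [h3, hχmul _ (hSD x h1) _ (inv_mem h2), hχinv y h2]
    · rw [hfS x h1, hfS y h2, hfD _ (Swaps.mul h1 h2)]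
      have h3 : x * y = (x * w) * (y * w)⁻¹ := by
        have h4 := D.w_inv (hSD y h2)
        rw [← hw] at h4
        calc x * y = (x * w) * (w * (y * w) * w⁻¹) := by rw [hwi]; calc
              x * y = x * (w * w) * y * (w * w) := by rw [hw2, mul_one, mul_one]
              _ = _ := by group
          _ = _ := by rw [h4]
      rw [h3, hχmul _ (hSD x h1) _ (inv_mem (hSD y h2)), hχinv _ (hSD y h2)]
  refine ⟨⟨⟨fun x => χ (f x), ?_⟩, fun x y => key x x.2 y y.2⟩, ?_⟩
  · change χ (f 1) = 1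
    rw [hfD 1 (one_mem _), hχ1 _ (one_pow m)]
  · change χ (f t) = -1
    rw [hfD t D.tD, hχt _ htm]

/-- **`U a` is not abelian.** -/
theorem not_comm [Finite G] [Finite Ω] (D : Fin0 U a b t φ) (hgen : (⨆ c, U c) = ⊤) {p k : ℕ}
    (hp : p.Prime) (hp2 : p ≠ 2) (hN : Nat.card (U a) = p ^ k)
    (hN3 : Nat.card (U a) = Nat.card F ^ 3) (hcomm : ∀ x ∈ U a, ∀ y ∈ U a, x * y = y * x) :
    False := by
  obtain ⟨θ, hθ⟩ := D.exists_theta
  have h1 := (AbelianQ.data_hom D.h hgen D.ab hp hp2 hN hcomm (C := (⊤ : Subgroup (Wab G a b)))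
    (by rw [index_top]; exact odd_one) (c := ⟨_, D.w_swaps.mem_W⟩) (mem_top _) D.w_swaps
    (θ.comp (Subgroup.subtype _)) (d := ⟨t, Dab_le_Wab a b D.tD⟩) (mem_top _) D.tD hθ).1
  rw [← hN, hN3] at h1
  have h2 := D.mod4
  rw [Nat.pow_mod, h2] at h1
  norm_num at h1

end Fin0

/-- **The last step.** -/
theorem Fin0.tr {G Ω : Type*} {F : Type} [Group G] [MulAction G Ω] [Field F] [Fintype F]
    {U : Ω → Subgroup G} {a b : Ω} {t : G} {φ : Matrix.SpecialLinearGroup (Fin 2) F →* G}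
    [Finite G] [Finite Ω] (D : Fin0 U a b t φ) (hgen : (⨆ c, U c) = ⊤) {n : ℕ} (hn : Odd n)
    (hF : Nat.card F = 3 ^ n) (hN3 : Nat.card (U a) = Nat.card F ^ 3)
    (hS : ∀ S : Sylow 2 G, Nat.card S = 8 ∧ ∀ x ∈ S, x * x = 1)
    (hfix : ∀ s : G, s * s = 1 → ∃ c : Ω, s • c = c) : TR U a b n := by
  classical
  have h4 := D.mod4
  obtain ⟨m, hm⟩ : ∃ m, Nat.card F - 1 = 2 * m := ⟨(Nat.card F - 1) / 2, by omega⟩
  have hmo : Odd m := by rw [Nat.odd_iff]; omega
  -- the involutions of `G_ab`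
  have huniq : ∀ z ∈ Dab G a b, z ≠ 1 → z * z = 1 → z = t := by
    intro z hz hz1 hz2
    have h1 : z ^ m = z := by
      obtain ⟨i, rfl⟩ := hmo
      rw [pow_succ, pow_mul, pow_two, hz2, one_pow, one_mul]
    rcases D.pow_half hm hz with h2 | h2
    · exact absurd (h1.symm.trans h2) hz1
    · exact h1.symm.trans h2
  have hcent : Nat.card (U a ⊓ centralizer ({t} : Set G) : Subgroup G) = 3 ^ n := by
    have h1 : (U a ⊓ centralizer ({t} : Set G) : Subgroup G) =
        U a ⊓ centralizer (zpowers t : Set G) := by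
      ext x
      rw [mem_inf, mem_inf, mem_centralizer_singleton_iff, TwoOne.mem_cent_zpowers]
      constructor
      · rintro ⟨h1, h2⟩
        exact ⟨h1, h2.symm⟩
      · rintro ⟨h1, h2⟩
        exact ⟨h1, h2.symm⟩
    rw [h1, ← hF]
    refine (Nat.card_congr (Equiv.ofBijective (fun s : F =>
      (⟨φ (tM s), D.S.up s⟩ : (U a ⊓ centralizer (zpowers t : Set G) : Subgroup G)))
      ⟨fun s s' h => D.S.tM_inj (congrArg Subtype.val h), ?_⟩)).symm
    rintro ⟨u, hu⟩
    obtain ⟨s, hs⟩ := D.S.up_surj u hu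
    exact ⟨s, Subtype.ext hs⟩
  refine
    { data :=
        { odd := hn
          card := by rw [hN3, hF]
          cyc := ?_
          cardE := by rw [relIndex_bot_left, D.cardD, hF]
          ncomm := ?_
          fpf := ?_
          invol := ⟨t, D.tD, fun h => D.t1 (mem_bot.1 h), D.t2, hcent⟩ }
      centr := ?_
      syl := hS
      fix := hfix }
  · obtain ⟨g, -, hg⟩ := D.exists_gen
    refine ⟨tau φ g * t, mul_mem (D.tau_mem g) D.tD, fun d hd => ?_⟩
    have h1 := inv_mem hd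
    rw [← hg] at h1
    obtain ⟨k, hk⟩ := mem_zpowers_iff_mem_range_orderOf.1 h1 |> Finset.mem_image.1
    refine ⟨k, ?_⟩
    rw [mem_bot, hk.2, mul_inv_cancel]
  · by_contra hc
    push Not at hc
    refine D.not_comm hgen Nat.prime_three (by norm_num) (k := n * 3) ?_ hN3 hc
    rw [hN3, hF, ← pow_mul]
  · intro d hd k hk hdk u hu hdu
    rcases D.fpf hd hk (mem_bot.1 hdk) hu hdu with h1 | h1
    · exact Or.inl (mem_bot.2 h1)
    · exact Or.inr h1
  · intro z hz hz1 hz2
    rw [huniq z hz hz1 hz2]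
    exact ⟨F, inferInstance, inferInstance, by rw [← Nat.card_eq_fintype_card, hF],
      D.nonempty_equiv⟩

end Cfsg.Agent.HKS.ReeFin
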