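import Mathlib
import Cfsg.Agent.HKS.ReeFin
import Cfsg.Agent.HKS.ReeEnd6
import Cfsg.Agent.HKS.ReeSylow
import Cfsg.Agent.HKS.Head

/-!
# Glue: `SLX` coordinates give `RE`, and `RE` gives `Fin0`
-/

set_option autoImplicit false

namespace Cfsg.Agent.HKS.ReeGlue

open Subgroup MulAction Cfsg.Agent.HKS Cfsg.Agent.ONan.SL2Hom Cfsg.Agent.HKS.SLRel
  Cfsg.Agent.HKS.SLCoord Cfsg.Agent.Lib.SL2Mat Cfsg.Agent.HKS.ReeEnd

section Matrices

variable {F : Type*} [Field F]

theorem up_eq_tM (s : F) : up s = tM s := by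
  apply ext' <;> rfl

theorem lo_eq_lM (s : F) : lo s = lM s := by
  apply ext' <;> rfl

theorem dg_eq_nM (r : F) (hr : r ≠ 0) : dg r hr = nM r hr := by
  apply ext' <;> rfl

end Matrices

variable {G Ω F : Type*} [Group G] [MulAction G Ω] [Field F] {U : Ω → Subgroup G} {a b : Ω}
  {t : G} {φ : Matrix.SpecialLinearGroup (Fin 2) F →* G} {p k : ℕ}

/-- `F` has odd characteristic -/
theorem two_ne [Finite G] [Finite F] (C : CtxE U a b p k) (S : SLX U (zpowers t) a b φ) :
    (2 : F) ≠ 0 := by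
  intro h
  have h1 : (tM (1 : F)) * tM 1 = 1 := by
    rw [← tM_add, show (1 : F) + 1 = 0 by rw [← h]; norm_num, tM_zero]
  have h2 : φ (tM 1) * φ (tM 1) = 1 := by rw [← map_mul, h1, map_one]
  have h3 : φ (tM (1 : F)) ≠ 1 := fun hc => one_ne_zero (S.inj 1 hc)
  have h4 : orderOf (φ (tM (1 : F))) = 2 := orderOf_eq_prime (by rw [pow_two, h2]) h3
  have h5 : orderOf (φ (tM (1 : F))) ∣ Nat.card (U a) :=
    Subgroup.orderOf_dvd_natCard (U a) (S.up 1).1
  rw [h4, C.cardU] at h5
  have h6 := Nat.prime_two.dvd_of_dvd_pow h5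
  exact C.p_ne_two ((Nat.prime_dvd_prime_iff_eq Nat.prime_two C.prime).1 h6).symm

/-- **`RE` from the hypotheses of the Ree end.** -/
theorem exists_re [Finite G] [Finite Ω] [FaithfulSMul G Ω] [Finite F] (C : CtxE U a b p k)
    (R : RankOneD G a b) (ht : t ∈ Dab G a b) (ht1 : t ≠ 1) (ht2 : t * t = 1)
    (htM : t ∉ genFix U (zpowers t)) (hcent : ∀ d ∈ Dab G a b, t * d = d * t)
    (S : SLX U (zpowers t) a b φ) (hS : ∀ P : Sylow 2 G, Nat.card P = 8 ∧ ∀ x ∈ P, x * x = 1) :
    RE U a b t φ where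
  split := C.split
  ne := C.ne
  t_mem := ht
  t_ne := ht1
  t_sq := ht2
  unique := fun d hd hd2 => by
    by_cases h1 : d = 1
    · exact Or.inl h1
    · exact Or.inr (R t ht d hd ht1 h1 ht2 hd2 (hcent d hd)).symm
  two := two_ne C S
  neg := Head.neg_eq_one C R ht ht1 ht2 S htM
  not_mem := fun x hx => htM (hx ▸ S.gen x)
  up_mem := fun z => by rw [up_eq_tM]; exact (S.up z).1
  lo_mem := fun z => by rw [lo_eq_lM]; exact (S.lo z).1
  comm_range := fun x => Head.comm_genFix (S.gen x)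
  inj := fun z hz => S.inj z (by rwa [up_eq_tM] at hz)
  up_surj := fun u hu hc => by
    obtain ⟨s, hs⟩ := S.up_surj u ⟨hu, TwoOne.mem_cent_zpowers.2 hc⟩
    exact ⟨s, by rw [up_eq_tM, hs]⟩
  lo_surj := fun u hu hc => by
    obtain ⟨s, hs⟩ := S.lo_surj u ⟨hu, TwoOne.mem_cent_zpowers.2 hc⟩
    exact ⟨s, by rw [lo_eq_lM, hs]⟩
  conj := fun s hs hs1 => (AffThree.toTO C R).isConj ht2 hs ht1 hs1
  syl := hS

/-- `|D| = |F| - 1` -/
theorem card_D [Finite G] [Finite Ω] [FaithfulSMul G Ω] [Finite F] (S : RE U a b t φ)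
    (C : CtxE U a b p k) (T : TwoOne.TO U p k a b) : Nat.card (Dab G a b) = Nat.card F - 1 := by
  classical
  -- the map `F* × {1, t} → D` has fibres of size two
  have hFu : Nat.card Fˣ = Nat.card F - 1 := Nat.card_units F
  let f : Fˣ →* Dab G a b :=
    { toFun := fun r => ⟨φ (dg (r : F) r.ne_zero), S.dg_mem r.ne_zero⟩
      map_one' := Subtype.ext (by
        change φ (dg ((1 : Fˣ) : F) _) = 1
        exact (S.dg_eq_one_iff _).2 (Or.inl (by simp)))
      map_mul' := fun r s => Subtype.ext (by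
        change φ (dg ((r * s : Fˣ) : F) _) = φ (dg (r : F) _) * φ (dg (s : F) _)
        rw [← map_mul, RE.dg_mul]
        rfl) }
  have hker : Nat.card f.ker = 2 := by
    have h1 : (f.ker : Set Fˣ) = {1, -1} := by
      ext r
      rw [SetLike.mem_coe, MonoidHom.mem_ker, Set.mem_insert_iff, Set.mem_singleton_iff]
      have h2 : f r = 1 ↔ φ (dg (r : F) r.ne_zero) = 1 := by
        constructor
        · intro h; exact congrArg Subtype.val h
        · intro h; exact Subtype.ext h
      rw [h2, S.dg_eq_one_iff]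
      constructor
      · rintro (h | h)
        · exact Or.inl (Units.ext (by simpa using h))
        · exact Or.inr (Units.ext (by simpa using h))
      · rintro (rfl | rfl)
        · exact Or.inl (by simp)
        · exact Or.inr (by simp)
    have h3 : (1 : Fˣ) ≠ -1 := by
      intro h
      have h4 : ((1 : Fˣ) : F) = ((-1 : Fˣ) : F) := congrArg Units.val h
      rw [Units.val_one, Units.val_neg, Units.val_one] at h4
      apply S.two
      linear_combination h4
    have h5 : Nat.card f.ker = Set.ncard (f.ker : Set Fˣ) := rfl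
    rw [h5, h1, Set.ncard_pair h3]
  have hrange : Nat.card f.range * 2 = Nat.card F - 1 := by
    rw [← hFu, ← hker]
    have h1 := Subgroup.card_mul_index f.ker
    rw [Subgroup.index_ker] at h1
    rw [← h1, mul_comm]
  -- the range has index two
  set tt : Dab G a b := ⟨t, S.t_mem⟩ with htt
  have hnot : tt ∉ f.range := by
    rintro ⟨r, hr⟩
    exact S.not_mem _ (congrArg Subtype.val hr)
  have hind : f.range.index = 2 := by
    rw [Subgroup.index_eq_two_iff]
    refine ⟨tt, fun x => ?_⟩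
    obtain ⟨r, hr, hx⟩ := S.D_eq C T x.2
    have hfr : φ (dg r hr) = (f (Units.mk0 r hr) : G) := rfl
    rcases hx with hx | hx
    · have h1 : x ∈ f.range := ⟨Units.mk0 r hr, Subtype.ext (by rw [hx, hfr])⟩
      refine Or.inr ⟨h1, fun h2 => hnot ?_⟩
      have h3 := mul_mem (inv_mem h1) h2
      rwa [inv_mul_cancel_left] at h3
    · have h1 : x * tt ∈ f.range := ⟨Units.mk0 r hr, Subtype.ext (by
        change (f (Units.mk0 r hr) : G) = (x : G) * t
        rw [hx, ← hfr, ← S.comm_D (mul_mem S.t_mem (S.dg_mem hr)), ← mul_assoc, S.t_sq,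
          one_mul])⟩
      refine Or.inl ⟨h1, fun h2 => hnot ?_⟩
      have h3 := mul_mem (inv_mem h2) h1
      rwa [inv_mul_cancel_left] at h3
  rw [← Subgroup.card_mul_index f.range, hind, hrange]

/-- **The input of `ReeFin`.** -/
theorem exists_fin0 [Finite G] [Finite Ω] [FaithfulSMul G Ω] [Finite F] (C : CtxE U a b p k)
    (R : RankOneD G a b) (ht : t ∈ Dab G a b) (ht1 : t ≠ 1) (ht2 : t * t = 1)
    (htM : t ∉ genFix U (zpowers t)) (hcent : ∀ d ∈ Dab G a b, t * d = d * t)
    (S : SLX U (zpowers t) a b φ) (hS : ∀ P : Sylow 2 G, Nat.card P = 8 ∧ ∀ x ∈ P, x * x = 1) :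
    RE U a b t φ ∧ ReeFin.Fin0 U a b t φ := by
  have RS := exists_re C R ht ht1 ht2 htM hcent S hS
  obtain ⟨-, -, hmod, -⟩ := ReeSylow.main (two_ne C S) C R ht ht1 ht2 S RS.neg
  exact ⟨RS,
    { h := C.split
      S := S
      neg := RS.neg
      tD := ht
      t1 := ht1
      t2 := ht2
      cen := hcent
      mod4 := hmod
      cardD := card_D RS C (AffThree.toTO C R) }⟩

end Cfsg.Agent.HKS.ReeGlue
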