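import Mathlib
import Cfsg.Agent.HKS.ReeSylow
import Cfsg.Agent.HKS.ReeGoalOf

/-!
# `ReeSylowStmt`
-/

set_option autoImplicit false

namespace Cfsg.Agent.HKS

open Subgroup MulAction

theorem reeSylowStmt.{v} : ReeSylowStmt.{v} := by
  intro G Ω _ _ _ _ _ U a b p k C R t ht ht1 ht2 F _ _ φ S hodd hφ
  have h2 : (2 : F) ≠ 0 := by
    intro h
    have h1 : ringChar F = 2 := by
      have := (ringChar.spec F 2).1 (by exact_mod_cast h)
      rcases (Nat.dvd_prime Nat.prime_two).1 this with h3 | h3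
      · exact absurd h3 (CharP.ringChar_ne_one)
      · exact h3
    have h4 := FiniteField.even_card_iff_char_two.1 h1
    rw [Nat.odd_iff] at hodd
    omega
  obtain ⟨-, -, -, P, h3, h4, h5, -⟩ := ReeSylow.main h2 C R ht ht1 ht2 S hφ
  exact ⟨P, h4, h5⟩

end Cfsg.Agent.HKS
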