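import Mathlib
import Cfsg.Agent.HKS.FourAssembly
import Cfsg.Agent.Lib.NormalAbelian

/-!
# The exponents `(3,3,3)`, steps (1) and (2)

For a pair of commuting involutions `s, t` of `G_ab` with exponents `(3,3,·)` and `k = 7 e`:
`⁅U a, U a⁆ = C_{U a}(⟨s, t⟩)` has order `p^e`; an element `g` of `G_ab` of order a primitive prime
divisor of `p^(6e) - 1` centralises it and `C_{U a}(g) = ⁅U a, U a⁆`.
-/

set_option autoImplicit false

namespace Cfsg.Agent.HKS.Kill333

open Subgroup MulAction PP1 SSplit ZsigT4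

section Abs

variable {G : Type*} [Group G]

/-- an automorphism group acting semiregularly on an invariant subgroup -/
theorem dvd_card_sub_one {P : Type*} [Group P] [Finite P] (A : Subgroup (MulAut P))
    (W : Subgroup P) (hW : ∀ a ∈ A, ∀ v ∈ W, a v ∈ W)
    (hfree : ∀ a ∈ A, ∀ v ∈ W, a v = v → a = 1 ∨ v = 1) : Nat.card A ∣ Nat.card W - 1 := by
  classical
  let X : Type _ := {v : P // v ∈ W ∧ v ≠ 1}
  let _ : MulAction A X :=
    { smul := fun r v => ⟨(r : MulAut P) v.1, hW r r.2 v.1 v.2.1, by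
        intro h
        exact v.2.2 ((r : MulAut P).injective (by rw [h, map_one]))⟩
      one_smul := fun v => rfl
      mul_smul := fun r r' v => rfl }
  have h1 := ReeAux.card_dvd_mul (R := A) (X := X) (k := 1) (by
    rintro ⟨v, hv, hv1⟩
    rw [Nat.dvd_one, Subgroup.card_eq_one, eq_bot_iff]
    intro r hr
    have hr' : r • (⟨v, hv, hv1⟩ : X) = ⟨v, hv, hv1⟩ := hr
    have hr2 : (r : MulAut P) v = v := congrArg (fun x : X => (x : P)) hr'
    rcases hfree r r.2 v hv hr2 with h | h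
    · exact mem_bot.2 (Subtype.ext h)
    · exact absurd h hv1)
  rw [one_mul] at h1
  have h2 : Nat.card X + 1 = Nat.card W := by
    have h3 : Nat.card {w : W // ¬ w = 1} + 1 = Nat.card W := card_ne_pt (1 : W)
    rw [← h3]
    congr 1
    apply Nat.card_congr
    exact
      { toFun := fun v => ⟨⟨v.1, v.2.1⟩, fun h => v.2.2 (congrArg Subtype.val h)⟩
        invFun := fun w => ⟨w.1, w.1.2, fun h => w.2 (Subtype.ext h)⟩
        left_inv := fun _ => rfl
        right_inv := fun _ => rfl }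
  have h4 : Nat.card X = Nat.card W - 1 := by omega
  rwa [h4] at h1

theorem comm_ne_bot {P : Subgroup G} (h : ∃ u ∈ P, ∃ v ∈ P, u * v ≠ v * u) :
    (⁅P, P⁆ : Subgroup G) ≠ ⊥ := by
  obtain ⟨u, hu, v, hv, huv⟩ := h
  intro hb
  have h1 := commutator_mem_commutator hu hv
  rw [hb, mem_bot, commutatorElement_eq_one_iff_mul_comm] at h1
  exact huv h1

theorem conj_comm {P : Subgroup G} {d : G} (hd : ∀ u ∈ P, d * u * d⁻¹ ∈ P) :
    ∀ u ∈ (⁅P, P⁆ : Subgroup G), d * u * d⁻¹ ∈ (⁅P, P⁆ : Subgroup G) := by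
  have h1 : P.map (MulAut.conj d).toMonoidHom ≤ P := by
    rintro _ ⟨u, hu, rfl⟩
    exact hd u hu
  intro u hu
  have h2 : d * u * d⁻¹ ∈ (⁅P, P⁆ : Subgroup G).map (MulAut.conj d).toMonoidHom := ⟨u, hu, rfl⟩
  rw [map_commutator] at h2
  exact commutator_mono h1 h1 h2

variable {M P E K : Subgroup G} {Sw : G → Prop}

/-- type `DU q` : `q ≤ |P'|` -/
theorem le_card_comm_du {q : ℕ} (h : DU M P E K Sw q) (hnil : Group.IsNilpotent P)
    (hE : ∀ d ∈ E, ∀ u ∈ P, d * u * d⁻¹ ∈ P) : q ≤ Nat.card (⁅P, P⁆ : Subgroup G) := by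
  have hq := h.pow.two_le
  have hfin : Finite P := Nat.finite_of_card_ne_zero (by rw [h.card]; positivity)
  have hcP : (⁅P, P⁆ : Subgroup G) ≤ P := commutator_le_self P
  have hfin' : Finite (⁅P, P⁆ : Subgroup G) := Finite.Set.subset _ hcP
  -- a central element of `P'`
  have hne : (⁅P, P⁆ : Subgroup G).subgroupOf P ≠ ⊥ := by
    intro hb
    rw [subgroupOf_eq_bot, disjoint_iff, inf_eq_left.2 hcP] at hb
    exact comm_ne_bot h.ncomm hb
  have hn : ((⁅P, P⁆ : Subgroup G).subgroupOf P).Normal := by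
    constructor
    intro v hv x
    rw [mem_subgroupOf] at hv ⊢
    exact conj_comm (fun u hu => mul_mem (mul_mem x.2 hu) (inv_mem x.2)) v hv
  have h1 := Lib.NormalAbelian.normal_inf_center_ne_bot ((⁅P, P⁆ : Subgroup G).subgroupOf P) hne
  obtain ⟨⟨z, hz⟩, hz1⟩ := Subgroup.ne_bot_iff_exists_ne_one.1 h1
  have hzc : (z : G) ∈ (⁅P, P⁆ : Subgroup G) := hz.1
  have hzZ : ∀ v ∈ P, (z : G) * v = v * z := Rig.mem_center_P.1 hz.2
  have hz1' : (z : G) ≠ 1 := fun h2 => hz1 (Subtype.ext (Subtype.ext h2))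
  rw [← h.cardZ]
  apply card_le_of_le
  rintro u ⟨hu, huZ⟩
  by_cases hu1 : u = 1
  · rw [hu1]; exact one_mem _
  obtain ⟨d, hd, hdu⟩ := h.transZ z z.2 u hu hzZ
    (fun v hv => (mem_centralizer_iff.1 huZ v hv).symm) hz1' hu1
  rw [← hdu]
  exact conj_comm (hE d hd) _ hzc

/-- type `DR n` : `3^n ≤ |P'|` -/
theorem le_card_comm_dr {n : ℕ} (h : DR P E K n)
    (hE : ∀ d ∈ E, ∀ u ∈ P, d * u * d⁻¹ ∈ P)
    (hK : ∀ d ∈ E, (∀ u ∈ P, d * u = u * d) ↔ d ∈ K) :
    3 ^ n ≤ Nat.card (⁅P, P⁆ : Subgroup G) := by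
  have hcardP := h.card
  have hfin : Finite P := Nat.finite_of_card_ne_zero (by rw [hcardP]; positivity)
  have hcP : (⁅P, P⁆ : Subgroup G) ≤ P := commutator_le_self P
  have hn8 : 3 ^ n % 8 = 3 := three_pow_odd h.odd
  have hn0 : n ≠ 0 := by
    rintro rfl
    obtain ⟨k, hk⟩ := h.odd
    omega
  have hEN : E ≤ normalizer (P : Set G) := fun d hd => Rig.mem_normalizer_of_finite (hE d hd)
  obtain ⟨e, he, hcyc⟩ := h.cyc
  set g : MulAut P := Rig.cj P ⟨e, hEN he⟩ with hg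
  have hpow : ∀ d (hd : d ∈ E), Rig.cj P ⟨d, hEN hd⟩ ∈ zpowers g := by
    intro d hd
    obtain ⟨k, hk⟩ := hcyc d hd
    have h1 : Rig.cj P ⟨d, hEN hd⟩ * g ^ k = 1 := by
      rw [hg, ← map_pow, ← map_mul, Rig.cj_eq_one]
      exact (hK _ (mul_mem hd (pow_mem he k))).2 hk
    rw [mul_eq_one_iff_eq_inv.1 h1]
    exact inv_mem (pow_mem (mem_zpowers g) k)
  have himg : Rig.img P E = zpowers g := by
    apply le_antisymm
    · intro x hx
      obtain ⟨d, hd, hPd, rfl⟩ := Rig.exists_of_img hx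
      exact hpow d hd
    · rw [zpowers_le]
      exact Rig.mem_img he (hEN he)
  obtain ⟨m, hm⟩ : ∃ m, 2 * m = 3 ^ n - 1 := ⟨(3 ^ n - 1) / 2, by
    generalize 3 ^ n = x at hn8
    omega⟩
  have hmodd : Odd m := by
    rw [Nat.odd_iff]
    generalize 3 ^ n = x at hn8 hm
    omega
  have hord : orderOf g = 2 * m := by
    rw [← Nat.card_zpowers, ← himg, Rig.card_img hEN hK, h.cardE, hm]
  have hord2 : orderOf (g ^ 2) = m := by
    rw [orderOf_pow' g (by norm_num), hord]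
    have : Nat.gcd (2 * m) 2 = 2 := Nat.gcd_eq_right (dvd_mul_right 2 m)
    rw [this, Nat.mul_div_cancel_left _ (by norm_num)]
  -- `g ^ 2` acts semiregularly
  have hfree : ∀ α ∈ zpowers (g ^ 2), ∀ v : P, α v = v → α = 1 ∨ v = 1 := by
    intro α hα v hv
    obtain ⟨i, rfl⟩ := (mem_zpowers_iff).1 hα
    obtain ⟨j, hj⟩ : ∃ j : ℕ, (g ^ 2) ^ j = (g ^ 2) ^ i := by
      have h1 : (g ^ 2) ^ i ∈ Submonoid.powers (g ^ 2) := by
        rw [mem_powers_iff_mem_zpowers]
        exact hα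
      exact h1
    rw [← hj] at hv ⊢
    have hd : e ^ (2 * j) ∈ E := pow_mem he _
    have h2 : Rig.cj P ⟨e ^ (2 * j), hEN hd⟩ = (g ^ 2) ^ j := by
      rw [hg, ← pow_mul, ← map_pow]
      rfl
    have h3 : (e ^ (2 * j)) ^ m ∈ K := by
      rw [← hK _ (pow_mem hd m)]
      refine (Rig.cj_eq_one (P := P) (g := ⟨(e ^ (2 * j)) ^ m, pow_mem (hEN hd) m⟩)).1 ?_
      have h4 : Rig.cj P ⟨(e ^ (2 * j)) ^ m, pow_mem (hEN hd) m⟩ =
          Rig.cj P ⟨e ^ (2 * j), hEN hd⟩ ^ m := by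
        rw [← map_pow]
        rfl
      rw [h4, h2, ← pow_mul, mul_comm j m, pow_mul, ← hord2, pow_orderOf_eq_one, one_pow]
    have h5 : e ^ (2 * j) * (v : G) = v * e ^ (2 * j) := by
      rw [← h2] at hv
      have h6 : e ^ (2 * j) * (v : G) * (e ^ (2 * j))⁻¹ = v := congrArg Subtype.val hv
      exact mul_inv_eq_iff_eq_mul.1 h6
    rcases h.fpf _ hd m hmodd h3 v v.2 h5 with h6 | h6
    · left
      rw [← h2, Rig.cj_eq_one]
      exact (hK _ hd).2 h6
    · right
      exact Subtype.ext h6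
  have h1 := dvd_card_sub_one (zpowers (g ^ 2)) ((⁅P, P⁆ : Subgroup G).subgroupOf P) (by
      intro α hα v hv
      have h2 : zpowers (g ^ 2) ≤ Rig.img P E := by
        rw [himg, zpowers_le]
        exact pow_mem (mem_zpowers g) 2
      obtain ⟨d, hd, hPd, rfl⟩ := Rig.exists_of_img (h2 hα)
      rw [mem_subgroupOf] at hv ⊢
      exact conj_comm (hE d hd) _ hv) (fun α hα v _ => hfree α hα v)
  rw [Nat.card_zpowers, hord2, Nat.card_congr (subgroupOfEquivOfLe hcP).toEquiv] at h1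
  have h2 : Nat.card (⁅P, P⁆ : Subgroup G) ∣ 3 ^ (n * 3) := by
    rw [pow_mul, ← hcardP]
    exact card_dvd_of_le hcP
  obtain ⟨j, -, hj⟩ := (Nat.dvd_prime_pow Nat.prime_three).1 h2
  rw [hj] at h1
  have h3 := ReeAux.dvd_of_half hn0 hm h1
  have hj0 : j ≠ 0 := by
    rintro rfl
    rw [pow_zero, Subgroup.card_eq_one] at hj
    exact comm_ne_bot h.ncomm hj
  rw [hj]
  exact Nat.pow_le_pow_right (by norm_num) (Nat.le_of_dvd (Nat.pos_of_ne_zero hj0) h3)

end Abs

section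

universe v

variable {G Ω : Type v} [Group G] [MulAction G Ω] {U : Ω → Subgroup G} {a b : Ω} {p k e : ℕ}
  {s t : G}

/-- `p^e ≤ |C_{U a}(t)'|` -/
theorem le_card_comm [FaithfulSMul G Ω] [Finite G] [Finite Ω] (C : CtxE U a b p k)
    (F : FourPair U a b p e s t)
    (ht : Nat.card (U a ⊓ centralizer ({t} : Set G) : Subgroup G) = (p ^ e) ^ 3) :
    p ^ e ≤ Nat.card (⁅U a ⊓ centralizer ({t} : Set G), U a ⊓ centralizer ({t} : Set G)⁆ :
      Subgroup G) := by
  have := Fact.mk C.prime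
  have hq : 1 < p ^ e := Nat.one_lt_pow F.e0 C.prime.one_lt
  have hXD : zpowers t ≤ Dab G a b := by rw [zpowers_le]; exact F.tD
  have hnil : Group.IsNilpotent (U a ⊓ centralizer ({t} : Set G) : Subgroup G) :=
    (IsPGroup.of_card (n := e * 3) (by rw [ht, pow_mul])).isNilpotent
  have hEP := fun (d : G) (hd : d ∈ Dab G a b ⊓ genFix U (zpowers t)) =>
    C.split.conj_EP (X := zpowers t) hd
  rw [← centralizer_zpowers] at hnil ht ⊢
  rcases exp_table C.toCtx C.prime C.cardU F.sD F.tD F.s2 F.comm F.t1 F.cardV hq with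
    ⟨h, -⟩ | ⟨h, -⟩ | ⟨-, hT⟩ | ⟨-, n, hn, hT⟩
  · exfalso
    rw [← centralizer_zpowers, ht] at h
    have h1 : (p ^ e) ^ 3 = (p ^ e) ^ 1 := by rw [h, pow_one]
    have := Nat.pow_right_injective hq h1
    omega
  · exfalso
    rw [← centralizer_zpowers, ht] at h
    have := Nat.pow_right_injective hq h
    omega
  · exact le_card_comm_du hT hnil hEP
  · rw [hn]
    refine le_card_comm_dr hT hEP fun d hd => ⟨fun h1 => ?_, fun h1 => ?_⟩
    · exact C.split.mem_kerFix_of_comm C.ne hXD hd.1 h1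
    · exact C.split.comm_kerFix C.ne hXD h1

variable [FaithfulSMul G Ω] [Finite G] [Finite Ω]

/-- the element `g` of (T4) -/
theorem exists_acts_six (C : CtxE U a b p k) (F : FourPair U a b p e s t) (hk : k = e * 7)
    (ht : Nat.card (U a ⊓ centralizer ({t} : Set G) : Subgroup G) = (p ^ e) ^ 3) :
    ∃ r g, Ppd p (6 * e) r ∧ g ∈ Dab G a b ∧ orderOf g = r ∧ Acts (U a) p k (6 * e) r g := by
  have he := Nat.pos_of_ne_zero F.e0
  obtain ⟨r, hr⟩ := exists_ppd (m := 2 * (e * 3)) C.prime C.p_ne_two (by omega)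
  have h6 : 2 * (e * 3) = 6 * e := by ring
  rcases odd_or_dvd C.split C.ne C.prime C.p_ne_two C.cardU (X := zpowers t)
    (by rw [zpowers_le]; exact F.tD) (e := e * 3) (by omega)
    (by rw [centralizer_zpowers, ht, pow_mul]) hr with ⟨l, h2⟩ | h2
  · exfalso
    rcases Nat.eq_zero_or_pos l with hl | hl
    · rw [hl] at h2; omega
    · have h3 : e * 3 * 3 ≤ e * 3 * (2 * l + 1) := Nat.mul_le_mul_left _ (by omega)
      omega
  · obtain ⟨g, hgD, hg, hA⟩ := exists_acts C.split C.ne C.prime C.cardU (by omega) hr h2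
    rw [h6] at hr hA
    exact ⟨r, g, hr, hgD, hg, hA⟩

/-- **(1)** `⁅U a, U a⁆ = C_{U a}(⟨s, t⟩)`, of order `p^e` -/
theorem comm_eq (C : CtxE U a b p k) (F : FourPair U a b p e s t) (hk : k = e * 7)
    (hs : Nat.card (U a ⊓ centralizer ({s} : Set G) : Subgroup G) = (p ^ e) ^ 3)
    (ht : Nat.card (U a ⊓ centralizer ({t} : Set G) : Subgroup G) = (p ^ e) ^ 3) :
    (⁅U a, U a⁆ : Subgroup G) = U a ⊓ centralizer ({t} : Set G) ⊓ centralizer ({s} : Set G) := by
  obtain ⟨r, g, -, -, -, hA⟩ := exists_acts_six C F hk ht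
  have hfin := C.split.finite_U a
  have h1 := hA.commutator_mul_le
  have h2 : Nat.card (⁅U a, U a⁆ : Subgroup G) ≤ p ^ e := by
    have h3 : p ^ k = p ^ e * p ^ (6 * e) := by rw [← pow_add, hk]; congr 1; ring
    rw [h3] at h1
    exact Nat.le_of_mul_le_mul_right h1 (pow_pos C.prime.pos _)
  have hle : (⁅U a, U a⁆ : Subgroup G) ≤ U a := commutator_le_self _
  have hfin' : Finite (⁅U a, U a⁆ : Subgroup G) := Finite.Set.subset _ hle
  have key : ∀ x : G, p ^ e ≤ Nat.card (⁅U a ⊓ centralizer ({x} : Set G),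
      U a ⊓ centralizer ({x} : Set G)⁆ : Subgroup G) →
      (⁅U a, U a⁆ : Subgroup G) ≤ centralizer ({x} : Set G) := by
    intro x hx
    have h3 : (⁅U a ⊓ centralizer ({x} : Set G), U a ⊓ centralizer ({x} : Set G)⁆ : Subgroup G) ≤
        ⁅U a, U a⁆ := commutator_mono inf_le_left inf_le_left
    have h4 := eq_of_le_of_card_ge h3 (h2.trans hx)
    rw [← h4]
    exact (commutator_le_self _).trans inf_le_right
  have hxs := key s (le_card_comm C F.symm hs)
  have hxt := key t (le_card_comm C F ht)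
  have h5 := le_card_comm C F ht
  have h6 : p ^ e ≤ Nat.card (⁅U a, U a⁆ : Subgroup G) :=
    h5.trans (card_le_of_le (commutator_mono inf_le_left inf_le_left))
  have hfin2 : Finite (U a ⊓ centralizer ({t} : Set G) ⊓ centralizer ({s} : Set G) : Subgroup G) :=
    Finite.Set.subset (U a : Set G) (inf_le_left.trans inf_le_left)
  refine eq_of_le_of_card_ge (le_inf (le_inf hle hxt) hxs) ?_
  rw [F.cardV]
  exact h6

theorem card_comm (C : CtxE U a b p k) (F : FourPair U a b p e s t) (hk : k = e * 7)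
    (hs : Nat.card (U a ⊓ centralizer ({s} : Set G) : Subgroup G) = (p ^ e) ^ 3)
    (ht : Nat.card (U a ⊓ centralizer ({t} : Set G) : Subgroup G) = (p ^ e) ^ 3) :
    Nat.card (⁅U a, U a⁆ : Subgroup G) = p ^ e := by
  rw [comm_eq C F hk hs ht, F.cardV]

/-- **(2)** `g` centralises `⁅U a, U a⁆`, which is `C_{U a}(g)`. -/
theorem exists_g (C : CtxE U a b p k) (F : FourPair U a b p e s t) (hk : k = e * 7)
    (hs : Nat.card (U a ⊓ centralizer ({s} : Set G) : Subgroup G) = (p ^ e) ^ 3)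
    (ht : Nat.card (U a ⊓ centralizer ({t} : Set G) : Subgroup G) = (p ^ e) ^ 3) :
    ∃ r g, Ppd p (6 * e) r ∧ g ∈ Dab G a b ∧ orderOf g = r ∧ Acts (U a) p k (6 * e) r g ∧
      (∀ z ∈ (⁅U a, U a⁆ : Subgroup G), g * z = z * g) ∧
      U a ⊓ centralizer ({g} : Set G) = (⁅U a, U a⁆ : Subgroup G) := by
  obtain ⟨r, g, hr, hgD, hg, hA⟩ := exists_acts_six C F hk ht
  have he := Nat.pos_of_ne_zero F.e0
  have hfin := C.split.finite_U a
  have hle : (⁅U a, U a⁆ : Subgroup G) ≤ U a := commutator_le_self _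
  have hc := card_comm C F hk hs ht
  obtain ⟨j, -, hj⟩ := hA.exists_card (V := ⁅U a, U a⁆ ⊓ centralizer ({g} : Set G))
    (inf_le_left.trans hle)
  obtain ⟨h1, h2⟩ := hA.dvd_sub (conj_comm hA.norm) hc hj
  have h3 : e - j = 0 := Nat.eq_zero_of_dvd_of_lt h2 (by omega)
  have h4 : j = e := by omega
  have hfin' : Finite (⁅U a, U a⁆ : Subgroup G) := Finite.Set.subset _ hle
  have h5 : (⁅U a, U a⁆ ⊓ centralizer ({g} : Set G) : Subgroup G) = ⁅U a, U a⁆ :=
    eq_of_le_of_card_ge inf_le_left (by rw [hj, hc, h4])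
  have h6 : ∀ z ∈ (⁅U a, U a⁆ : Subgroup G), z ∈ centralizer ({g} : Set G) := by
    intro z hz
    rw [← h5] at hz
    exact hz.2
  refine ⟨r, g, hr, hgD, hg, hA, fun z hz => (mem_centralizer_singleton_iff.1 (h6 z hz)).symm, ?_⟩
  obtain ⟨i, hik, hi, hmi, him⟩ := hA.exists_fix
  have h7 : (⁅U a, U a⁆ : Subgroup G) ≤ U a ⊓ centralizer ({g} : Set G) := le_inf hle h6
  have hfin2 : Finite (U a ⊓ centralizer ({g} : Set G) : Subgroup G) :=
    Finite.Set.subset (U a : Set G) inf_le_left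
  symm
  refine eq_of_le_of_card_ge h7 ?_
  rw [hi, hc]
  exact Nat.pow_le_pow_right C.prime.pos (by omega)

end

end Cfsg.Agent.HKS.Kill333
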