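import Mathlib
import Cfsg.Agent.HKS.FourTwo
import Cfsg.Agent.HKS.FourAssembly

/-!
# The exponents `(2,2,2)` do not occur
-/

set_option autoImplicit false

namespace Cfsg.Agent.HKS

open Subgroup MulAction FourTwo

/-- no exponent one -/
theorem CtxE.noOne.{v} {G Ω : Type v} [Group G] [Finite G] [MulAction G Ω] [FaithfulSMul G Ω]
    [Finite Ω] {U : Ω → Subgroup G} {a b : Ω} {p k : ℕ} (C : CtxE U a b p k) : NoOne U a b := by
  intro x hx y hy hx1 hy1 hxy hxx hyy hc h2 he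
  obtain ⟨u, hu, hu1, hxu, hyu⟩ := exists_c2 h2
  obtain ⟨e, F⟩ := C.fourPair hy hx hy1 hx1 hxy.symm hyy hxx hc.symm hu hyu hxu hu1
  apply F.no_one C
  have h3 : c2 U a x y = p ^ e := F.cardV
  exact he.trans h3

/-- **Kill of (2,2,2).** -/
theorem killExp222.{v} : KillExp.{v} 2 2 2 := by
  intro G Ω _ _ _ _ _ U a b p k e s t C F _ h1 h2 h3
  refine kill222 C C.noOne F.sD F.tD F.s1 F.t1 ?_ F.s2 F.t2 F.comm (q := p ^ e)
    (Nat.one_lt_pow F.e0 C.prime.one_lt) ?_ h1 h2 h3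
  · intro h
    apply F.st1
    rw [h]
    exact F.t2
  · rw [c2_comm]
    exact F.cardV

end Cfsg.Agent.HKS
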