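import Mathlib
import Cfsg.Agent.HKS.RankOne

/-!
# The middle parts of `w u w⁻¹` generate `W`
-/

set_option autoImplicit false

namespace Cfsg.Agent.HKS.ModPGen

open Subgroup

variable {G : Type*} [Group G] {B Q D W : Subgroup G} {w : G}

/-- the middle parts -/
def mids (Q D W : Subgroup G) (w : G) : Set G :=
  {m | m ∈ W ∧ m ∉ D ∧ ∃ u ∈ Q, u ≠ 1 ∧ ∃ u₁ ∈ Q, ∃ u₂ ∈ Q, w * u * w⁻¹ = u₁ * m * u₂}

theorem mul_mem_D (h : RankOne B Q D W w) {m m' : G} (hm : m ∈ W) (hm' : m' ∈ W) (h1 : m ∉ D)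
    (h2 : m' ∉ D) : m * m' ∈ D := by
  obtain ⟨d₁, hd₁, e₁⟩ := h.Wmul m⁻¹ (W.inv_mem hm) (fun hc => h1 (by simpa using D.inv_mem hc))
  obtain ⟨d₂, hd₂, e₂⟩ := h.Wmul m' hm' h2
  have : m * m' = d₁⁻¹ * d₂ := by
    have e3 : m = (w * d₁)⁻¹ := by rw [← e₁, inv_inv]
    rw [e3, e₂]
    group
  rw [this]
  exact D.mul_mem (D.inv_mem hd₁) hd₂

/-- `m u m⁻¹ = u₁ m' u₂` with `m'` a middle part -/
theorem conj_eq (h : RankOne B Q D W w) {m u : G} (hm : m ∈ W) (hmD : m ∉ D) (hu : u ∈ Q)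
    (hu1 : u ≠ 1) : ∃ u₁ ∈ Q, ∃ m' ∈ mids Q D W w, ∃ u₂ ∈ Q, m * u * m⁻¹ = u₁ * m' * u₂ := by
  obtain ⟨d, hd, rfl⟩ := h.Wmul m hm hmD
  have h1 : d * u * d⁻¹ ∈ Q := h.Qn d (h.DB hd) u hu
  have h2 : d * u * d⁻¹ ≠ 1 := by
    intro hc
    apply hu1
    rwa [mul_inv_eq_one, mul_eq_left] at hc
  obtain ⟨u₁, hu₁, m', hm', hmD', u₂, hu₂, e⟩ := h.exists_mid (h.not_mem_of_Q' h1 h2)
  refine ⟨u₁, hu₁, m', ⟨hm', hmD', _, h1, h2, u₁, hu₁, u₂, hu₂, e⟩, u₂, hu₂, ?_⟩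
  rw [← e]
  group

/-- the closed set `Q (M ∩ D) ∪ Q (M ∖ D) Q` -/
def Y (Q D M : Subgroup G) : Set G :=
  {g | (∃ u ∈ Q, ∃ d ∈ M, d ∈ D ∧ g = u * d) ∨ ∃ u ∈ Q, ∃ m ∈ M, m ∉ D ∧ ∃ v ∈ Q, g = u * m * v}

theorem closure_mids_le : closure (mids Q D W w) ≤ W := by
  rw [closure_le]
  exact fun m hm => hm.1

theorem Q_mul {M : Subgroup G} {u g : G} (hu : u ∈ Q) (hg : g ∈ Y Q D M) : u * g ∈ Y Q D M := by
  rcases hg with ⟨v, hv, d, hd, hdD, rfl⟩ | ⟨v, hv, m, hm, hmD, v', hv', rfl⟩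
  · exact Or.inl ⟨u * v, Q.mul_mem hu hv, d, hd, hdD, by group⟩
  · exact Or.inr ⟨u * v, Q.mul_mem hu hv, m, hm, hmD, v', hv', by group⟩

theorem M_mul (h : RankOne B Q D W w) {m g : G} (hm : m ∈ closure (mids Q D W w)) (hmD : m ∉ D)
    (hg : g ∈ Y Q D (closure (mids Q D W w))) : m * g ∈ Y Q D (closure (mids Q D W w)) := by
  have hmW := closure_mids_le hm
  -- `m u m⁻¹ ∈ Y`-form
  rcases hg with ⟨u, hu, d, hd, hdD, rfl⟩ | ⟨u, hu, m₂, hm₂, hmD₂, v, hv, rfl⟩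
  · -- `m u d = m d (d⁻¹ u d)`
    refine Or.inr ⟨1, Q.one_mem, m * d, mul_mem hm hd, ?_, d⁻¹ * u * d, h.Qn' (h.DB hdD) hu, by group⟩
    intro hc
    exact hmD (by simpa using D.mul_mem hc (D.inv_mem hdD))
  · have hmm : m * m₂ ∈ D := mul_mem_D h hmW (closure_mids_le hm₂) hmD hmD₂
    by_cases hu1 : u = 1
    · subst hu1
      refine Or.inl ⟨m * m₂ * v * (m * m₂)⁻¹, h.Qn _ (h.DB hmm) v hv, m * m₂, mul_mem hm hm₂, hmm, by group⟩
    · obtain ⟨u₁, hu₁, m', hm', u₂, hu₂, e⟩ := conj_eq h hmW hmD hu hu1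
      have hm'c : m' ∈ closure (mids Q D W w) := subset_closure hm'
      refine Or.inr ⟨u₁, hu₁, m' * (m * m₂), mul_mem hm'c (mul_mem hm hm₂), ?_,
        (m * m₂)⁻¹ * u₂ * (m * m₂) * v, Q.mul_mem (h.Qn' (h.DB hmm) hu₂) hv, ?_⟩
      · intro hc
        have h9 := D.mul_mem hc (D.inv_mem hmm)
        rw [mul_inv_cancel_right] at h9
        exact hm'.2.1 h9
      · calc m * (u * m₂ * v) = (m * u * m⁻¹) * (m * m₂) * v := by group
          _ = (u₁ * m' * u₂) * (m * m₂) * v := by rw [e]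
          _ = u₁ * (m' * (m * m₂)) * ((m * m₂)⁻¹ * u₂ * (m * m₂) * v) := by group

/-- `⟨Q, mids⟩` is everything if `Q` has normal closure `G` -/
theorem closure_union (h : RankOne B Q D W w) (hn : normalClosure (Q : Set G) = ⊤) :
    closure ((Q : Set G) ∪ mids Q D W w) = ⊤ := by
  rw [eq_top_iff, ← hn]
  have hQ : ∀ u ∈ Q, u ∈ closure ((Q : Set G) ∪ mids Q D W w) := fun u hu =>
    subset_closure (Or.inl hu)
  have hw : ∀ u ∈ Q, w * u * w⁻¹ ∈ closure ((Q : Set G) ∪ mids Q D W w) := by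
    intro u hu
    by_cases hu1 : u = 1
    · subst hu1
      simp
    · obtain ⟨u₁, hu₁, m, hm, u₂, hu₂, e⟩ := conj_eq h h.wW h.wD hu hu1
      rw [e]
      exact mul_mem (mul_mem (hQ _ hu₁) (subset_closure (Or.inr hm))) (hQ _ hu₂)
  refine (closure_le _).2 ?_
  intro x hx
  obtain ⟨u, hu, hux⟩ := Group.mem_conjugatesOfSet_iff.1 hx
  obtain ⟨g, hg⟩ := isConj_iff.1 hux
  rw [← hg]
  by_cases hgB : g ∈ B
  · exact hQ _ (h.Qn g hgB u hu)
  · obtain ⟨v, hv, b, hb, rfl⟩ := h.bruhat g hgB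
    have e : v * w * b * u * (v * w * b)⁻¹ = v * (w * (b * u * b⁻¹) * w⁻¹) * v⁻¹ := by group
    rw [e]
    exact mul_mem (mul_mem (hQ _ hv) (hw _ (h.Qn b hb u hu))) (inv_mem (hQ _ hv))

theorem closure_mids (h : RankOne B Q D W w) (hn : normalClosure (Q : Set G) = ⊤) :
    closure (mids Q D W w) = W := by
  apply le_antisymm closure_mids_le
  intro x hx
  have hY : ∀ g : G, g ∈ Y Q D (closure (mids Q D W w)) := by
    intro g
    have hg : g ∈ closure ((Q : Set G) ∪ mids Q D W w) := by rw [closure_union h hn]; exact mem_top g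
    induction hg using closure_induction_left with
    | one => exact Or.inl ⟨1, Q.one_mem, 1, one_mem _, D.one_mem, by group⟩
    | mul_left x hx y _ ih =>
      rcases hx with hx | hx
      · exact Q_mul hx ih
      · exact M_mul h (subset_closure hx) hx.2.1 ih
    | inv_mul_cancel x hx y _ ih =>
      rcases hx with hx | hx
      · exact Q_mul (Q.inv_mem hx) ih
      · exact M_mul h (inv_mem (subset_closure hx)) (fun hc => hx.2.1 (by simpa using D.inv_mem hc)) ih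
  rcases hY x with ⟨u, hu, d, hd, hdD, e⟩ | ⟨u, hu, m, hm, hmD, v, hv, e⟩
  · have h1 : u = x * d⁻¹ := by rw [e]; group
    have h2 : u ∈ W := by rw [h1]; exact W.mul_mem hx (W.inv_mem (h.DW hdD))
    have h3 : u = 1 := h.QD u hu (h.WB u h2 (h.QB hu))
    rw [e, h3, one_mul]
    exact hd
  · have hmW := closure_mids_le hm
    have hxD : x ∉ D := by
      intro hc
      apply hmD
      apply h.WB m hmW
      have h1 : m = u⁻¹ * x * v⁻¹ := by rw [e]; group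
      rw [h1]
      exact B.mul_mem (B.mul_mem (B.inv_mem (h.QB hu)) (h.DB hc)) (B.inv_mem (h.QB hv))
    obtain ⟨d, hd, rfl⟩ := h.Wmul x hx hxD
    obtain ⟨d', hd', rfl⟩ := h.Wmul m hmW hmD
    have h1 : (1 : G) * w * d = u * w * (d' * v) := by rw [one_mul, e]; group
    obtain ⟨h2, h3⟩ := h.unique_bruhat Q.one_mem hu (h.DB hd) (B.mul_mem (h.DB hd') (h.QB hv)) h1
    have h4 : v = d'⁻¹ * d := by rw [h3]; group
    have h5 : v = 1 := h.QD v hv (by rw [h4]; exact D.mul_mem (D.inv_mem hd') hd)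
    rw [h3, h5, mul_one]
    exact hm

end Cfsg.Agent.HKS.ModPGen
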