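import Mathlib
import Cfsg.Agent.HKS.OddMain

/-!
# Odd degree, `|D|` odd, `|Q|` not a prime power: `C_D(t) = 1`

`hconst` : every irreducible character of `G` with `Q`-fixed vectors is constant on `Q ∖ {1}`.
-/

set_option autoImplicit false

open Cfsg Representation ComplexConjugate

namespace Cfsg.Agent.HKS

variable {G : Type*} [Group G] {B Q D W : Subgroup G} {w : G}

namespace OddDeg

/-- The numbers `ξ`, `η`. -/
theorem numbers [Finite G] [Fintype Q] (h : RankOne B Q D W w) {n n₁ : ℕ}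
    {σ : Representation ℂ W (Fin n → ℂ)} {ρ : Representation ℂ G (Fin n₁ → ℂ)}
    {φ : (Fin n → ℂ) →ₗ[ℂ] (Fin n₁ → ℂ)} (hρ : ρ.IsIrreducible) (H : FixRep h ρ σ φ)
    (hn : 0 < n)
    (hτ : ∀ v : W, (v : G) ∉ D → v * v = 1 → σ.character v = 1)
    {s : G} (hs : s ∈ Q) (hs1 : s ≠ 1) (hs2 : s * s = 1) (hsc : ∀ v ∈ Q, v * s = s * v)
    (hconst : ∀ u ∈ Q, u ≠ 1 → ρ.character u = ρ.character s) :
    ∃ ξ η : ℤ, ξ * η = Nat.card Q ∧ (n : ℤ) * (ξ - η) = Nat.card Q - 1 ∧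
      ρ.character 1 * (ξ + η) = (Nat.card Q + 1) * n * η ∧
      ρ.character s * (ξ + η) = η * (n + ξ) := by
  classical
  obtain ⟨x, hx⟩ := H.exists_scalar
  have hσ1 : σ.character 1 = (n : ℂ) := by rw [char_one, Module.finrank_fin_fun]
  have hnC : (n : ℂ) ≠ 0 := by exact_mod_cast hn.ne'
  have hY : σ.character 1 ≠ 0 := by rw [hσ1]; exact hnC
  have hN : (Nat.card Q : ℂ) ≠ 0 := card_ne
  obtain ⟨hx0, hNx, hxi⟩ := H.integral hx hY
  have hirr : IsIrrCharacter G ρ.character := Characters.Core.isIrrCharacter_of_rep ρ hρ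
  have hcl : IsClassFunction G ρ.character := Characters.Core.isIrr_isClassFunction hirr
  have hd0 : ρ.character 1 ≠ 0 := Characters.Central.char_one_ne_zero ρ hρ
  -- (1)
  have h1 := trace_formula h hirr hs hsc
  obtain ⟨u₁, hu₁, v, hv, hvD, u₂, hu₂, he⟩ := h.exists_mid (h.not_mem_of_Q' hs hs1)
  have hvv : v * v = 1 := by
    refine h.mid_mul_self hu₁ hu₂ hv hvD ?_
    rw [← he]
    calc w * s * w⁻¹ * (w * s * w⁻¹) = w * (s * s) * w⁻¹ := by group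
      _ = 1 := by rw [hs2]; group
  rw [he, Fq_mul_right _ hu₂, Fq_mul_left h hcl hu₁, H.Fq_W hx v hv hvD,
    hτ ⟨v, hv⟩ hvD (Subtype.ext hvv), mul_one, H.Fq_one, hσ1] at h1
  -- (2)
  have h2 := H.degree hρ hx hY
  rw [hσ1] at h2
  -- (3)
  have h3 : ρ.character 1 + (Nat.card Q - 1) * ρ.character s = Nat.card Q * n := by
    have h4 := H.Fq_one
    rw [hσ1, Fq, inv_mul_eq_iff_eq_mul₀ hN] at h4
    simp only [one_mul] at h4
    rw [← h4, ← Finset.add_sum_erase _ _ (Finset.mem_univ (1 : Q))]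
    have h5 : ∀ u ∈ (Finset.univ : Finset Q).erase 1, ρ.character (u : G) = ρ.character s := by
      intro u hu
      exact hconst u u.2 fun hc => (Finset.ne_of_mem_erase hu) (Subtype.ext hc)
    rw [Finset.sum_congr rfl h5, Finset.sum_const, Finset.card_erase_of_mem (Finset.mem_univ _),
      Finset.card_univ, nsmul_eq_mul, ← Nat.card_eq_fintype_card, Nat.cast_sub Nat.card_pos,
      OneMemClass.coe_one]
    simp
  -- (4)
  have h4 : (n : ℂ) * (Nat.card Q * x ^ 2 - 1) = (Nat.card Q - 1) * x := by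
    apply mul_left_cancel₀ hN
    apply mul_left_cancel₀ hd0
    linear_combination ((Nat.card Q : ℂ) * n) * h2 - ((Nat.card Q : ℂ) - 1) * h1 -
      (Nat.card Q + 1) * (n : ℂ) * h3
  -- `x` is rational
  obtain ⟨c, hc⟩ := exists_int_of_mul_self ρ hs2
  have hxq : ∃ q : ℚ, x = q := by
    refine ⟨(((Nat.card Q : ℚ) + 1) * c * n - (Module.finrank ℂ (Fin n₁ → ℂ) : ℚ) * n) /
      ((Nat.card Q : ℚ) * (Module.finrank ℂ (Fin n₁ → ℂ) : ℚ)), ?_⟩
    rw [hc, char_one] at h1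
    rw [char_one] at hd0
    push_cast
    rw [eq_div_iff (mul_ne_zero hN hd0)]
    linear_combination h1
  obtain ⟨q, hq⟩ := hxq
  obtain ⟨ξ, hξ⟩ := Characters.GaloisBasic.exists_int_of_isIntegral hNx
    ⟨(Nat.card Q : ℚ) * q, by rw [hq]; push_cast; ring⟩
  obtain ⟨η, hη⟩ := Characters.GaloisBasic.exists_int_of_isIntegral hxi
    ⟨q⁻¹, by rw [hq]; push_cast; ring⟩
  have hxη : x * η = 1 := by rw [← hη, mul_inv_cancel₀ hx0]
  have hη0 : (η : ℂ) ≠ 0 := by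
    intro hc
    rw [hc, mul_zero] at hxη
    exact zero_ne_one hxη
  have hξη : (ξ : ℂ) * η = Nat.card Q := by
    rw [← hξ]
    linear_combination (Nat.card Q : ℂ) * hxη
  have h5 : ρ.character 1 * (ξ + η) = (Nat.card Q + 1) * n * η := by
    rw [← h2, ← hξ]
    linear_combination -ρ.character 1 * (Nat.card Q : ℂ) * x * hxη
  have hN1 : ((Nat.card Q : ℂ) + 1) ≠ 0 := by
    have : ((Nat.card Q + 1 : ℕ) : ℂ) ≠ 0 := Nat.cast_ne_zero.2 (Nat.succ_ne_zero _)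
    push_cast at this
    exact this
  refine ⟨ξ, η, by exact_mod_cast hξη, ?_, h5, ?_⟩
  · have h6 : (n : ℂ) * (ξ - η) = Nat.card Q - 1 := by
      apply mul_left_cancel₀ hx0
      rw [← hξ]
      linear_combination h4 - (n : ℂ) * hxη
    exact_mod_cast h6
  · apply mul_left_cancel₀ (mul_ne_zero hN1 hnC)
    rw [hξ] at h1
    linear_combination -((ξ : ℂ) + η) * h1 + ((n : ℂ) + ξ) * h5

/-- The contradiction. -/
theorem contraOdd [Finite G] [Fintype Q] (h : RankOne B Q D W w) (hQnil : Group.IsNilpotent Q)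
    (hgen : ∀ M : Subgroup G, M.Normal → Q ≤ M → M = ⊤)
    {n n₁ n₂ : ℕ} {σ : Representation ℂ W (Fin n → ℂ)} {ρ₁ : Representation ℂ G (Fin n₁ → ℂ)}
    {ρ₂ : Representation ℂ G (Fin n₂ → ℂ)} {φ₁ : (Fin n → ℂ) →ₗ[ℂ] (Fin n₁ → ℂ)}
    (hρ₁ : ρ₁.IsIrreducible) (hρ₂ : ρ₂.IsIrreducible) (H₁ : FixRep h ρ₁ σ φ₁) {s : G}
    (hn : 0 < n)
    (hconst₁ : ∀ u ∈ Q, u ≠ 1 → ρ₁.character u = ρ₁.character s)
    (hconst₂ : ∀ u ∈ Q, u ≠ 1 → ρ₂.character u = ρ₂.character s)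
    (hne : ∃ d, ∃ hd : d ∈ D, σ.character ⟨d, h.DW hd⟩ ≠ σ.character 1)
    {ξ η : ℕ} (hξ0 : 0 < ξ) (hη0 : 0 < η) (hN : ξ * η = Nat.card Q)
    (hnξ : (n : ℤ) * (ξ - η) = Nat.card Q - 1)
    (hc₁ : ρ₁.character 1 * (ξ + η) = (Nat.card Q + 1) * n * η)
    (hd₁ : ρ₁.character s * (ξ + η) = η * (n + ξ))
    (hc₂ : ρ₂.character 1 * (-η + -ξ) = (Nat.card Q + 1) * n * -ξ)
    (hd₂ : ρ₂.character s * (-η + -ξ) = -ξ * (n + -η)) : False := by
  classical
  have hσ1 : σ.character 1 = (n : ℂ) := by rw [char_one, Module.finrank_fin_fun]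
  have hN1 : ((Nat.card Q : ℂ) + 1) ≠ 0 := by
    have : ((Nat.card Q + 1 : ℕ) : ℂ) ≠ 0 := Nat.cast_ne_zero.2 (Nat.succ_ne_zero _)
    push_cast at this
    exact this
  have hcop : Nat.Coprime ξ η := by
    apply Nat.Coprime.symm
    rw [Nat.coprime_iff_gcd_eq_one]
    set g := Nat.gcd η ξ with hg
    have h1 : (g : ℤ) ∣ (ξ : ℤ) - η := dvd_sub (by exact_mod_cast Nat.gcd_dvd_right η ξ)
      (by exact_mod_cast Nat.gcd_dvd_left η ξ)
    have h2 : (g : ℤ) ∣ (Nat.card Q : ℤ) - 1 := by rw [← hnξ]; exact h1.mul_left _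
    have h3 : (g : ℤ) ∣ (Nat.card Q : ℤ) := by
      rw [← hN]
      exact_mod_cast (Nat.gcd_dvd_right η ξ).trans (dvd_mul_right _ _)
    have h4 : (g : ℤ) ∣ 1 := by
      have := dvd_sub h3 h2
      simpa using this
    exact Nat.dvd_one.1 (by exact_mod_cast h4)
  by_cases hη1 : η = 1
  · obtain ⟨d, hd, hdne⟩ := hne
    apply hdne
    apply H₁.trivial_of_degree _ hgen d hd
    rw [hσ1]
    subst hη1
    apply mul_left_cancel₀ hN1
    rw [mul_one] at hN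
    rw [← hN] at hc₁ ⊢
    push_cast at hc₁ ⊢
    linear_combination hc₁
  obtain ⟨p, hp, hpη⟩ := Nat.exists_prime_and_dvd hη1
  have hpN : p ∣ Nat.card Q := by rw [← hN]; exact hpη.mul_left ξ
  obtain ⟨A, u, a, hAQ, huA, hu1, hcen, hAB, hAcard⟩ := h.exists_omega hQnil hp hpN
  have huQ := hAQ huA
  have hAη : Nat.card A ≤ η := by
    apply Nat.le_of_dvd hη0
    have h1 : Nat.card A ∣ ξ * η := by rw [hN]; exact Subgroup.card_dvd_of_le hAQ
    have h2 : Nat.Coprime (Nat.card A) ξ := by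
      rw [hAcard]
      apply Nat.Coprime.pow_left
      rw [Nat.Prime.coprime_iff_not_dvd hp]
      intro h3
      have h4 := Nat.dvd_gcd h3 hpη
      rw [Nat.coprime_iff_gcd_eq_one.1 hcop] at h4
      exact hp.one_lt.ne' (Nat.dvd_one.1 h4)
    exact h2.dvd_of_dvd_mul_left h1
  obtain ⟨k, hk0, hidx, hkA⟩ := h.index_centralizer huQ hu1
  have hkη : k < η := lt_of_lt_of_le (hkA A huA hAB) hAη
  have hpos : (0 : ℤ) < (ξ : ℤ) + η := by positivity
  have hd1 : (n : ℤ) ∣ k * (ξ : ℤ) := by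
    refine dvd_of_central (η := (η : ℤ)) hρ₁ hn (by exact_mod_cast hη0.ne') hpos.ne' ?_ hidx ?_
    · exact_mod_cast hc₁
    · rw [hconst₁ u huQ hu1]
      exact_mod_cast hd₁
  have hd2 : (n : ℤ) ∣ k * (-η : ℤ) := by
    refine dvd_of_central (ξ := -(η : ℤ)) (η := -(ξ : ℤ)) hρ₂ hn
      (neg_ne_zero.2 (by exact_mod_cast hξ0.ne')) (by omega) ?_ hidx ?_
    · push_cast
      exact hc₂
    · rw [hconst₂ u huQ hu1]
      push_cast
      exact hd₂
  rw [mul_neg, dvd_neg] at hd2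
  have hd1' : n ∣ k * ξ := by exact_mod_cast hd1
  have hd2' : n ∣ k * η := by exact_mod_cast hd2
  have hnk : n ∣ k := by
    have h1 := Nat.dvd_gcd hd1' hd2'
    rw [Nat.gcd_mul_left, Nat.coprime_iff_gcd_eq_one.1 hcop, mul_one] at h1
    exact h1
  have hnk' : n ≤ k := Nat.le_of_dvd hk0 hnk
  have hnη : (n : ℤ) < η := by exact_mod_cast lt_of_le_of_lt hnk' hkη
  have h5 : (ξ : ℤ) * η = Nat.card Q := by exact_mod_cast hN
  have h6 : (2 : ℤ) ≤ η := by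
    have : 2 ≤ η := by omega
    exact_mod_cast this
  have hξη : (0 : ℤ) < (ξ : ℤ) - η := by
    by_contra hc
    push Not at hc
    have h7 : (n : ℤ) * (ξ - η) ≤ 0 := mul_nonpos_of_nonneg_of_nonpos (by positivity) hc
    rw [hnξ, ← h5] at h7
    nlinarith
  nlinarith

end OddDeg

open OddDeg

/-- `C_D(t) = 1` in odd degree if `|D|` is odd and the characters are constant on `Q ∖ {1}`. -/
theorem RankOne.odd_deg_free [Finite G] [Fintype Q] (h : RankOne B Q D W w)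
    (hDodd : Odd (Nat.card D)) (hQnil : Group.IsNilpotent Q) (hsol : Group.IsSolvable D)
    (hQe : Even (Nat.card Q))
    (hconst : ∀ χ : G → ℂ, IsIrrCharacter G χ → (∑ u : Q, χ u) ≠ 0 →
      ∀ u ∈ Q, u ≠ 1 → ∀ v ∈ Q, v ≠ 1 → χ u = χ v)
    (hgen : ∀ M : Subgroup G, M.Normal → Q ≤ M → M = ⊤) {t : G} (htW : t ∈ W) (htD : t ∉ D)
    (ht : t * t = 1) : ∀ x ∈ D, x * t = t * x → x = 1 := by
  classical
  have := Fintype.ofFinite G
  intro x hxD hxt
  by_contra hx1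
  obtain ⟨n, σ, hσ, hval, hτ, hne⟩ := h.exists_sigma hDodd hsol htW htD ht ⟨x, hxD, hx1, hxt⟩
  obtain ⟨n₁, n₂, ρ₁, ρ₂, φ₁, φ₂, hρ₁, hρ₂, -, H₁, H₂, hsum⟩ := h.exists_pair σ hσ
  have hirr : IsIrrCharacter D (fun d => σ.character (Subgroup.inclusion h.DW d)) :=
    ⟨n, σ.comp (Subgroup.inclusion h.DW), hσ, rfl⟩
  have hsum1 : ρ₁.character 1 + ρ₂.character 1 = (Nat.card Q + 1) * σ.character 1 := by
    have := congrFun hsum 1
    rw [h.ind_one hirr] at this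
    exact this.symm
  have hσ1 : σ.character 1 = (n : ℂ) := by rw [char_one, Module.finrank_fin_fun]
  have hn : 0 < n := by
    rcases Nat.eq_zero_or_pos n with h0 | h0
    · exfalso
      have h1 := Characters.Core.isIrr_apply_one_ne_zero hirr
      apply h1
      change σ.character (Subgroup.inclusion h.DW 1) = 0
      rw [map_one, char_one, Module.finrank_fin_fun, h0, Nat.cast_zero]
    · exact h0
  have hnC : (n : ℂ) ≠ 0 := by exact_mod_cast hn.ne'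
  have hNpos : 0 < Nat.card Q := Nat.card_pos
  have hN2 : 1 < Nat.card Q := by
    obtain ⟨k, hk⟩ := hQe
    omega
  obtain ⟨s, hs, hso, hsc⟩ := OddOrderLocal.CNNil.exists_central_orderOf_subgroup hQnil
    Nat.prime_two (even_iff_two_dvd.1 hQe)
  have hs1 : s ≠ 1 := by
    rintro rfl
    rw [orderOf_one] at hso
    norm_num at hso
  have hs2 : s * s = 1 := by rw [← sq, ← hso]; exact pow_orderOf_eq_one s
  have hsc' : ∀ v ∈ Q, v * s = s * v := fun v hv => hsc v hv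
  have hcon : ∀ {m : ℕ} (ρ : Representation ℂ G (Fin m → ℂ)) (φ : (Fin n → ℂ) →ₗ[ℂ] (Fin m → ℂ)),
      ρ.IsIrreducible → FixRep h ρ σ φ → ∀ u ∈ Q, u ≠ 1 → ρ.character u = ρ.character s := by
    intro m ρ φ hρ H u hu hu1
    refine hconst ρ.character (Characters.Core.isIrrCharacter_of_rep ρ hρ) ?_ u hu hu1 s hs hs1
    have h4 := H.Fq_one
    rw [hσ1, Fq, inv_mul_eq_iff_eq_mul₀ card_ne] at h4
    simp only [one_mul] at h4
    rw [h4]
    exact mul_ne_zero card_ne hnC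
  have hcon₁ := hcon ρ₁ φ₁ hρ₁ H₁
  have hcon₂ := hcon ρ₂ φ₂ hρ₂ H₂
  obtain ⟨ξ₁, η₁, ha₁, hb₁, hc₁, hd₁⟩ := numbers h hρ₁ H₁ hn hτ hs hs1 hs2 hsc' hcon₁
  obtain ⟨ξ₂, η₂, ha₂, hb₂, hc₂, hd₂⟩ := numbers h hρ₂ H₂ hn hτ hs hs1 hs2 hsc' hcon₂
  have hn' : (n : ℤ) ≠ 0 := by exact_mod_cast hn.ne'
  have hN1 : ((Nat.card Q : ℂ) + 1) ≠ 0 := by
    have : ((Nat.card Q + 1 : ℕ) : ℂ) ≠ 0 := Nat.cast_ne_zero.2 (Nat.succ_ne_zero _)
    push_cast at this
    exact this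
  have hdiff : ξ₂ - η₂ = ξ₁ - η₁ := mul_left_cancel₀ hn' (hb₂.trans hb₁.symm)
  have hQ1 : (1 : ℤ) < Nat.card Q := by exact_mod_cast hN2
  have hgt : η₁ < ξ₁ := by
    by_contra hc
    push Not at hc
    have h7 : (n : ℤ) * (ξ₁ - η₁) ≤ 0 := mul_nonpos_of_nonneg_of_nonpos (by positivity) (by linarith)
    rw [hb₁] at h7
    linarith
  have hprod : (ξ₂ - ξ₁) * (ξ₂ + η₁) = 0 := by
    have h1 : η₂ = ξ₂ - ξ₁ + η₁ := by linarith
    rw [h1] at ha₂
    linear_combination ha₂ - ha₁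
  have hcase : ξ₂ = -η₁ ∧ η₂ = -ξ₁ := by
    rcases mul_eq_zero.1 hprod with h1 | h1
    · exfalso
      have h2 : ξ₂ = ξ₁ := by linarith
      have h3 : η₂ = η₁ := by linarith
      rw [h2, h3] at hc₂
      rw [hσ1] at hsum1
      have h4 : ((Nat.card Q : ℂ) + 1) * n * (ξ₁ + η₁) = ((Nat.card Q : ℂ) + 1) * n * (2 * η₁) := by
        linear_combination -((ξ₁ : ℂ) + η₁) * hsum1 + hc₁ + hc₂
      have h5 := mul_left_cancel₀ (mul_ne_zero hN1 hnC) h4
      have h6 : ξ₁ + η₁ = 2 * η₁ := by exact_mod_cast h5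
      linarith
    · exact ⟨by linarith, by linarith⟩
  obtain ⟨hξ₂, hη₂⟩ := hcase
  have hNpos' : 0 < ξ₁ * η₁ := by rw [ha₁]; exact_mod_cast hNpos
  rcases mul_pos_iff.1 hNpos' with ⟨hξpos, hηpos⟩ | ⟨hξneg, hηneg⟩
  · lift ξ₁ to ℕ using hξpos.le with ξ
    lift η₁ to ℕ using hηpos.le with η
    subst hξ₂
    subst hη₂
    refine contraOdd h hQnil hgen hρ₁ hρ₂ H₁ hn hcon₁ hcon₂ hne (by exact_mod_cast hξpos)
      (by exact_mod_cast hηpos) (by exact_mod_cast ha₁) hb₁ ?_ ?_ ?_ ?_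
    · simpa using hc₁
    · simpa using hd₁
    · simpa using hc₂
    · simpa using hd₂
  · obtain ⟨ξ, hξ⟩ : ∃ ξ : ℕ, η₁ = -(ξ : ℤ) := ⟨η₁.natAbs, by omega⟩
    obtain ⟨η, hη⟩ : ∃ η : ℕ, ξ₁ = -(η : ℤ) := ⟨ξ₁.natAbs, by omega⟩
    rw [hξ] at hξ₂
    rw [hη] at hη₂
    simp only [neg_neg] at hξ₂ hη₂
    subst hξ₂
    subst hη₂
    subst hξ
    subst hη
    refine contraOdd h hQnil hgen hρ₂ hρ₁ H₂ hn hcon₂ hcon₁ hne (ξ := ξ) (η := η) (by omega)
      (by omega) (by exact_mod_cast ha₂) hb₂ ?_ ?_ ?_ ?_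
    · simpa using hc₂
    · simpa using hd₂
    · simpa using hc₁
    · simpa using hd₁

end Cfsg.Agent.HKS
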