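import Mathlib
import Cfsg.Agent.HKS.FrameCount
import Cfsg.Agent.S1136
import Cfsg.Agent.S0215

/-!
# The end of the odd degree case: simple groups with a strongly split action of odd degree whose
two-point stabilisers have odd order
-/

set_option autoImplicit false

namespace Cfsg.Agent.HKS

open Subgroup MulAction

/-- A finite simple group of even order greater than two has two different commuting
involutions (`Z*`-theorem). -/
theorem exists_comm_invol {G : Type*} [Group G] [Finite G] [IsSimpleGroup G]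
    (h2 : 2 < Nat.card G) (hev : Even (Nat.card G)) :
    ∃ x y : G, x ≠ 1 ∧ y ≠ 1 ∧ x ≠ y ∧ x * x = 1 ∧ y * y = 1 ∧ x * y = y * x := by
  classical
  by_contra hno
  have hno' : ∀ x y : G, x ≠ 1 → y ≠ 1 → x * x = 1 → y * y = 1 → x * y = y * x → x = y := by
    intro x y hx hy hxx hyy hxy
    by_contra hne
    exact hno ⟨x, y, hx, hy, hne, hxx, hyy, hxy⟩
  haveI : Fact (Nat.Prime 2) := ⟨Nat.prime_two⟩
  obtain ⟨u, hu⟩ := exists_prime_orderOf_dvd_card' (G := G) 2 hev.two_dvd
  have hu1 : u ≠ 1 := by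
    intro h
    rw [h, orderOf_one] at hu
    norm_num at hu
  have huu : u * u = 1 := by
    have := pow_orderOf_eq_one u
    rwa [hu, pow_two] at this
  obtain ⟨P, hP⟩ : ∃ P : Sylow 2 G, zpowers u ≤ P := by
    refine IsPGroup.exists_le_sylow (p := 2) (G := G) ?_
    refine IsPGroup.of_card (n := 1) ?_
    rw [Nat.card_zpowers, hu, pow_one]
  have huP : u ∈ P := hP (mem_zpowers u)
  have hPnt : Nontrivial (P : Subgroup G) := ⟨⟨u, huP⟩, 1, fun h => hu1 (congrArg Subtype.val h)⟩
  have hc : Nontrivial (center (P : Subgroup G)) := P.isPGroup'.center_nontrivial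
  have hc2 : IsPGroup 2 (center (P : Subgroup G)) := P.isPGroup'.to_subgroup _
  have hdc : 2 ∣ Nat.card (center (P : Subgroup G)) := by
    obtain ⟨n, hn⟩ := IsPGroup.iff_card.1 hc2
    rw [hn]
    refine dvd_pow_self 2 ?_
    rintro rfl
    rw [pow_zero] at hn
    have := Finite.one_lt_card_iff_nontrivial.2 hc
    omega
  obtain ⟨z, hz⟩ := exists_prime_orderOf_dvd_card' (G := center (P : Subgroup G)) 2 hdc
  have hz1 : ((z : (P : Subgroup G)) : G) ≠ 1 := by
    intro h
    have : z = 1 := Subtype.ext (Subtype.ext h)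
    rw [this, orderOf_one] at hz
    norm_num at hz
  have hzz : ((z : (P : Subgroup G)) : G) * ((z : (P : Subgroup G)) : G) = 1 := by
    have := pow_orderOf_eq_one z
    rw [hz, pow_two] at this
    exact congrArg (fun y : center (P : Subgroup G) => ((y : (P : Subgroup G)) : G)) this
  have hzc : ∀ y ∈ P, y * ((z : (P : Subgroup G)) : G) = ((z : (P : Subgroup G)) : G) * y := by
    intro y hy
    have := mem_center_iff.1 z.2 ⟨y, hy⟩
    exact congrArg Subtype.val this
  have huz : ∀ y ∈ P, y ≠ 1 → y * y = 1 → y = ((z : (P : Subgroup G)) : G) := by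
    intro y hy hy1 hyy
    exact hno' y _ hy1 hz1 hyy hzz (hzc y hy)
  obtain ⟨N, hN, hNodd, hNc⟩ := Cfsg.Agent.S0215.result P u hu huP (by
    intro g hg
    rw [huz _ hg ?_ ?_, huz u huP hu1 huu]
    · intro h
      have h2 : g * u = g := by simpa using mul_inv_eq_iff_eq_mul.1 h
      exact hu1 (mul_eq_left.1 h2)
    · calc g * u * g⁻¹ * (g * u * g⁻¹) = g * (u * u) * g⁻¹ := by group
        _ = 1 := by rw [huu]; group)
  rcases (IsSimpleGroup.eq_bot_or_eq_top_of_normal N hN) with h | h
  · -- `u` is central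
    have hcen : u ∈ center G := by
      rw [mem_center_iff]
      intro g
      have h1 := hNc g
      rw [h, mem_bot] at h1
      have h2 : u * g = g * u := mul_inv_eq_iff_eq_mul.1 (mul_inv_eq_one.1 h1)
      exact h2.symm
    have htop : center G = ⊤ := by
      rcases (IsSimpleGroup.eq_bot_or_eq_top_of_normal (center G) inferInstance) with h1 | h1
      · rw [h1, mem_bot] at hcen
        exact absurd hcen hu1
      · exact h1
    have hcomm : ∀ x y : G, x * y = y * x := by
      intro x y
      have : y ∈ center G := htop ▸ mem_top y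
      exact mem_center_iff.1 this x
    letI : CommGroup G := { (inferInstance : Group G) with mul_comm := hcomm }
    have hp : (Nat.card G).Prime := IsSimpleGroup.prime_card (α := G)
    have := hp.eq_two_or_odd'
    rcases this with h3 | h3
    · omega
    · exact (Nat.not_even_iff_odd.2 h3) hev
  · rw [h, card_top] at hNodd
    exact (Nat.not_even_iff_odd.2 hNodd) hev

namespace SSplit

variable {G Ω : Type*} [Group G] [MulAction G Ω] {U : Ω → Subgroup G}

theorem two_pretransitive (h : SSplit U) : IsMultiplyPretransitive G Ω 2 := by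
  rw [is_two_pretransitive_iff]
  intro a b c d hab hcd
  exact h.two hab hcd

theorem card_U_add_one (h : SSplit U) [Finite Ω] (a : Ω) :
    Nat.card (U a) + 1 = Nat.card Ω := by
  obtain ⟨b, hb, -⟩ := h.three a a
  rw [← card_ne_pt a]
  congr 1
  refine Nat.card_congr (Equiv.ofBijective (fun x : U a => (⟨(x : G) • b, ?_⟩ : {c : Ω // ¬ c = a}))
    ⟨?_, ?_⟩)
  · exact h.smul_ne_center hb x.2
  · intro x y hxy
    exact Subtype.ext (h.eq_of_smul_eq hb x.2 y.2 (congrArg Subtype.val hxy))
  · rintro ⟨c, hc⟩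
    obtain ⟨x, hx, hxc⟩ := h.trans hb hc
    exact ⟨⟨x, hx⟩, Subtype.ext hxc⟩

/-- A strongly split group of odd degree with two-point stabilisers of odd order gives the set-up
of Suzuki's theorem. -/
theorem rankOneSetup (h : SSplit U) [Finite G] [Finite Ω] {a b : Ω} (hab : b ≠ a)
    (hodd : Odd (Nat.card Ω)) (hD : Odd (Nat.card (Dab G a b))) :
    ∃ t : G, Cfsg.IsRankOneSetup G Ω a t (U a) := by
  haveI : Fact (Nat.Prime 2) := ⟨Nat.prime_two⟩
  have hcU : ∀ c : Ω, Even (Nat.card (U c)) := by
    intro c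
    have h1 := h.card_U_add_one c
    rcases hodd with ⟨k, hk⟩
    exact ⟨k, by omega⟩
  obtain ⟨t, ht⟩ := exists_prime_orderOf_dvd_card' (G := U b) 2 (hcU b).two_dvd
  have ht1 : (t : G) ≠ 1 := by
    intro h1
    have : t = 1 := Subtype.ext h1
    rw [this, orderOf_one] at ht
    norm_num at ht
  have htt : (t : G) * t = 1 := by
    have := pow_orderOf_eq_one t
    rw [ht, pow_two] at this
    exact congrArg Subtype.val this
  have hta : (t : G) • a ≠ a := fun h1 => ht1 (h.free hab.symm t.2 h1)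
  have hD' : Odd (Nat.card ↥(stabilizer G a ⊓ stabilizer G ((t : G) • a))) := by
    obtain ⟨g, hg1, hg2⟩ := h.two (a := a) (b := b) (c := a) (d := (t : G) • a) hab.symm hta.symm
    have : Nat.card ↥(stabilizer G a ⊓ stabilizer G ((t : G) • a)) = Nat.card (Dab G a b) := by
      refine Nat.card_congr ⟨fun x => ⟨g⁻¹ * x * g, ?_⟩, fun x => ⟨g * x * g⁻¹, ?_⟩, ?_, ?_⟩
      · obtain ⟨x, hx1, hx2⟩ := x
        have hx1' : x • a = a := hx1
        have hx2' : x • ((t : G) • a) = (t : G) • a := hx2
        refine ⟨?_, ?_⟩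
        · change (g⁻¹ * x * g) • a = a
          rw [mul_smul, mul_smul, hg1, hx1', inv_smul_eq_iff, hg1]
        · change (g⁻¹ * x * g) • b = b
          rw [mul_smul, mul_smul, hg2, hx2', inv_smul_eq_iff, hg2]
      · obtain ⟨x, hx1, hx2⟩ := x
        have hx1' : x • a = a := hx1
        have hx2' : x • b = b := hx2
        refine ⟨?_, ?_⟩
        · change (g * x * g⁻¹) • a = a
          rw [mul_smul, mul_smul, inv_smul_eq_iff.2 hg1.symm, hx1', hg1]
        · change (g * x * g⁻¹) • ((t : G) • a) = (t : G) • a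
          rw [mul_smul, mul_smul, inv_smul_eq_iff.2 hg2.symm, hx2', hg2]
      · intro x; apply Subtype.ext; simp only; group
      · intro x; apply Subtype.ext; simp only; group
    rw [this]
    exact hD
  refine ⟨t, h.two_pretransitive, htt, ht1, hta, ?_, ?_, ?_, ?_, hcU a, hD'⟩
  · intro x hx
    exact h.fix hx
  · intro g hg x hx
    exact h.conj_of_fix hg hx
  · rw [eq_bot_iff]
    rintro x ⟨hx1, hx2⟩
    exact mem_bot.2 (h.free hta hx1 hx2)
  · apply le_antisymm
    · exact sup_le (fun x hx => h.fix hx) inf_le_left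
    · intro g hg
      have hg' : g • a = a := hg
      have hne : g • ((t : G) • a) ≠ a := by
        intro h1
        have h2 : g • ((t : G) • a) = g • a := by rw [h1, hg']
        exact hta (smul_left_cancel g h2)
      obtain ⟨x, hx, hx2⟩ := h.trans hta hne
      have h3 : x⁻¹ * g ∈ stabilizer G a ⊓ stabilizer G ((t : G) • a) := by
        refine ⟨?_, ?_⟩
        · change (x⁻¹ * g) • a = a
          rw [mul_smul, hg', inv_smul_eq_iff, h.fix hx]
        · change (x⁻¹ * g) • ((t : G) • a) = (t : G) • a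
          rw [mul_smul, inv_smul_eq_iff, hx2]
      have h4 : g = x * (x⁻¹ * g) := by group
      rw [h4]
      exact mul_mem_sup hx h3

/-- The end of the odd degree case. -/
theorem odd_degree_end (h : SSplit U) [Finite G] [Finite Ω] [FaithfulSMul G Ω] [IsSimpleGroup G]
    {a b : Ω} (hab : b ≠ a) (hodd : Odd (Nat.card Ω)) (hD : Odd (Nat.card (Dab G a b))) :
    (∃ (F : Type) (_ : Field F) (_ : Fintype F),
        Nonempty (G ≃* Matrix.ProjectiveSpecialLinearGroup (Fin 2) F)) ∨
      (∃ (F : Type) (_ : Field F) (_ : Fintype F) (q : ℕ), Fintype.card F = q ^ 2 ∧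
        Nonempty (G ≃* Cfsg.PSU 3 F q)) ∨
      Cfsg.Lie.IsoSuzuki G := by
  obtain ⟨t, ht⟩ := h.rankOneSetup hab hodd hD
  have hev : Even (Nat.card G) := by
    have h1 : Nat.card (U a) ∣ Nat.card G := card_subgroup_dvd_card _
    exact (even_iff_two_dvd.2 (dvd_trans ht.even_card.two_dvd h1))
  have h2 : 2 < Nat.card G := by
    have h1 := h.card_U_add_one a
    have h3 : Nat.card (U a) ≤ Nat.card G := Nat.le_of_dvd Nat.card_pos (card_subgroup_dvd_card _)
    have h4 : 3 ≤ Nat.card Ω := by
      obtain ⟨c, hca, hcb⟩ := h.three a b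
      have := Fintype.ofFinite Ω
      classical
      have h5 : ({a, b, c} : Finset Ω).card ≤ Fintype.card Ω := Finset.card_le_univ _
      rw [Finset.card_eq_three.2 ⟨a, b, c, hab.symm, hca.symm, hcb.symm, rfl⟩] at h5
      rwa [Nat.card_eq_fintype_card]
    have h5 : U a ≠ ⊤ := by
      intro h6
      have : (t : G) ∈ U a := h6 ▸ mem_top t
      exact ht.not_mem (ht.le this)
    by_contra h6
    have h7 : Nat.card (U a) = Nat.card G := by omega
    exact h5 (eq_top_of_card_eq _ h7)
  obtain ⟨L, hLn, hLi, hL⟩ := Cfsg.Agent.S1136.result ht (exists_comm_invol h2 hev)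
  have hLtop : L = ⊤ := by
    rcases (IsSimpleGroup.eq_bot_or_eq_top_of_normal L hLn) with h1 | h1
    · rw [h1, index_bot] at hLi
      exact absurd hev (Nat.not_even_iff_odd.2 hLi)
    · exact h1
  subst hLtop
  rcases hL with ⟨F, i1, i2, -, ⟨e⟩⟩ | ⟨F, i1, i2, m, hm, hF, ⟨e⟩⟩ | ⟨F, i1, i2, n, -, hF, ⟨e⟩⟩
  · exact Or.inl ⟨F, i1, i2, ⟨topEquiv.symm.trans e⟩⟩
  · exact Or.inr (Or.inr ⟨F, i1, i2, m, hm, hF, ⟨topEquiv.symm.trans e⟩⟩)
  · exact Or.inr (Or.inl ⟨F, i1, i2, 2 ^ n, hF, ⟨topEquiv.symm.trans e⟩⟩)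

end SSplit

end Cfsg.Agent.HKS
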