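import Mathlib
import Cfsg.Agent.HKS.FrameCount
import Cfsg.Agent.HKS.Types

/-!
# Strongly split 2-transitive groups of odd degree: involutions

`|Ω|` is odd and all `μ_u` are conjugate under `D` (which holds if `|U|` is not a prime power). Then the
`μ_u` are involutions, `t ↦ μ_t` is a bijection from the involutions of `U b` to the set of all `μ_u`, and
`C_D(t) = C_D(μ_t)`. With the induction hypothesis it follows that `|D|` is odd.
-/

set_option autoImplicit false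

namespace Cfsg.Agent.HKS

open Subgroup MulAction

variable {G Ω : Type*} [Group G] [MulAction G Ω] {U : Ω → Subgroup G}

namespace SSplit

/-- The `μ` of an involution `t ∈ U b`. -/
theorem mu_invol (h : SSplit U) {a b : Ω} (hab : b ≠ a) {t : G} (ht : t ∈ U b) (ht1 : t ≠ 1)
    (ht2 : t * t = 1) : mu U a b t * mu U a b t = 1 ∧
      ∃ x ∈ U a, t = x * mu U a b t * x⁻¹ :=
  h.conj_mid_of_sq hab (h.smul_ne_of_ne hab.symm ht ht1) ht2

/-- the fixed point of `m` if `x m x⁻¹ ∈ U b` -/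
theorem fixed_of_conj (h : SSplit U) {b : Ω} {t m x : G} (ht : t ∈ U b) (ht1 : t ≠ 1)
    (he : t = x * m * x⁻¹) (c : Ω) : m • c = c ↔ c = x⁻¹ • b := by
  have hm : m = x⁻¹ * t * x := by rw [he]; group
  constructor
  · intro hc
    have h1 : t • (x • c) = x • c := by
      rw [he, mul_smul, mul_smul, inv_smul_smul, hc]
    by_contra hne
    refine h.smul_ne_of_ne (a := b) (b := x • c) ?_ ht ht1 h1
    intro hc'
    exact hne (by rw [← hc', inv_smul_smul])
  · rintro rfl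
    rw [hm, mul_smul, mul_smul, smul_inv_smul, h.fix ht]

theorem comm_of_mu_comm (h : SSplit U) {a b : Ω} (hab : b ≠ a) {t : G} (ht : t ∈ U b)
    (ht1 : t ≠ 1) (ht2 : t * t = 1) {d : G} (hd : d ∈ Dab G a b)
    (hdm : d * mu U a b t = mu U a b t * d) : d * t = t * d := by
  obtain ⟨-, x, hx, he⟩ := h.mu_invol hab ht ht1 ht2
  have h1 := (h.fixed_of_conj ht ht1 he (x⁻¹ • b)).2 rfl
  have h2 : mu U a b t • (d • x⁻¹ • b) = d • x⁻¹ • b := by
    rw [← mul_smul, ← hdm, mul_smul, h1]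
  have h3 := (h.fixed_of_conj ht ht1 he (d • x⁻¹ • b)).1 h2
  -- `d x⁻¹ d⁻¹ = x⁻¹`
  have h4 : d * x⁻¹ * d⁻¹ = x⁻¹ := by
    refine h.eq_of_smul_eq hab (h.conj_of_fix hd.1 ((U a).inv_mem hx)) ((U a).inv_mem hx) ?_
    rw [mul_smul, mul_smul, inv_smul_eq_iff.2 (show b = d • b from hd.2.symm), h3]
  have h5 : d * x⁻¹ = x⁻¹ * d := by rw [mul_inv_eq_iff_eq_mul] at h4; exact h4
  have h6 : d * x = x * d := by
    calc d * x = x * (x⁻¹ * d) * x := by group
      _ = x * (d * x⁻¹) * x := by rw [h5]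
      _ = x * d := by group
  calc d * t = d * (x * mu U a b t * x⁻¹) := by rw [← he]
    _ = (d * x) * mu U a b t * x⁻¹ := by group
    _ = x * (d * mu U a b t) * x⁻¹ := by rw [h6]; group
    _ = x * mu U a b t * (d * x⁻¹) := by rw [hdm]; group
    _ = x * mu U a b t * x⁻¹ * d := by rw [h5]; group
    _ = t * d := by rw [← he]

theorem mu_inj_invol (h : SSplit U) {a b : Ω} (hab : b ≠ a) {t t' : G} (ht : t ∈ U b)
    (ht1 : t ≠ 1) (ht2 : t * t = 1) (ht' : t' ∈ U b) (ht1' : t' ≠ 1) (ht2' : t' * t' = 1)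
    (he : mu U a b t = mu U a b t') : t = t' := by
  obtain ⟨-, x, hx, hx'⟩ := h.mu_invol hab ht ht1 ht2
  obtain ⟨-, y, hy, hy'⟩ := h.mu_invol hab ht' ht1' ht2'
  rw [← he] at hy'
  have h1 := (h.fixed_of_conj ht ht1 hx' (x⁻¹ • b)).2 rfl
  have h2 := (h.fixed_of_conj ht' ht1' hy' (x⁻¹ • b)).1 h1
  have h3 := h.eq_of_smul_eq hab ((U a).inv_mem hx) ((U a).inv_mem hy) h2
  rw [hx', hy', inv_injective h3]

/-! ### All `μ` conjugate -/

section OneClass

variable (h : SSplit U) {a b : Ω} (hab : b ≠ a)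
  (hmu : ∀ x ∈ U b, x ≠ 1 → ∀ x' ∈ U b, x' ≠ 1 → ∃ d ∈ Dab G a b,
    mu U a b x' = d * mu U a b x * d⁻¹)

include h hab hmu

theorem mu_sq {t : G} (ht : t ∈ U b) (ht1 : t ≠ 1) (ht2 : t * t = 1) {u : G} (hu : u ∈ U b)
    (hu1 : u ≠ 1) : mu U a b u * mu U a b u = 1 := by
  obtain ⟨d, -, hd⟩ := hmu t ht ht1 u hu hu1
  have h1 := (h.mu_invol hab ht ht1 ht2).1
  rw [hd]
  calc d * mu U a b t * d⁻¹ * (d * mu U a b t * d⁻¹) = d * (mu U a b t * mu U a b t) * d⁻¹ := by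
        group
    _ = 1 := by rw [h1]; group

/-- the involutions of `U b` are conjugate under `D` -/
theorem invol_conj {t : G} (ht : t ∈ U b) (ht1 : t ≠ 1) (ht2 : t * t = 1) {t' : G}
    (ht' : t' ∈ U b) (ht1' : t' ≠ 1) (ht2' : t' * t' = 1) :
    ∃ d ∈ Dab G a b, t' = d * t * d⁻¹ := by
  obtain ⟨d, hd, he⟩ := hmu t ht ht1 t' ht' ht1'
  refine ⟨d, hd, ?_⟩
  have h1 : d * t * d⁻¹ ∈ U b := h.conj_of_fix hd.2 ht
  have h2 : d * t * d⁻¹ ≠ 1 := fun hc => ht1 (conj_eq_one_iff.1 hc)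
  have h3 : d * t * d⁻¹ * (d * t * d⁻¹) = 1 := by
    calc d * t * d⁻¹ * (d * t * d⁻¹) = d * (t * t) * d⁻¹ := by group
      _ = 1 := by rw [ht2]; group
  refine h.mu_inj_invol hab ht' ht1' ht2' h1 h2 h3 ?_
  rw [he, h.mu_conj_D hab ht ht1 hd]

/-- every `μ_u` is the `μ` of an involution of `U b` -/
theorem exists_invol {t : G} (ht : t ∈ U b) (ht1 : t ≠ 1) (ht2 : t * t = 1) {u : G}
    (hu : u ∈ U b) (hu1 : u ≠ 1) : ∃ t' ∈ U b, t' ≠ 1 ∧ t' * t' = 1 ∧
      mu U a b t' = mu U a b u := by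
  obtain ⟨d, hd, he⟩ := hmu t ht ht1 u hu hu1
  refine ⟨d * t * d⁻¹, h.conj_of_fix hd.2 ht, fun hc => ht1 (conj_eq_one_iff.1 hc), ?_, ?_⟩
  · calc d * t * d⁻¹ * (d * t * d⁻¹) = d * (t * t) * d⁻¹ := by group
      _ = 1 := by rw [ht2]; group
  · rw [he, h.mu_conj_D hab ht ht1 hd]

/-- an element of `D` centralising all involutions of `U b` centralises `W` -/
theorem comm_W (hgen : (⨆ c, U c) = ⊤) {t : G} (ht : t ∈ U b) (ht1 : t ≠ 1) (ht2 : t * t = 1)
    {z : G} (hz : z ∈ Dab G a b)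
    (hzt : ∀ t' ∈ U b, t' ≠ 1 → t' * t' = 1 → z * t' = t' * z) :
    ∀ g ∈ Wab G a b, z * g = g * z := by
  have h1 : closure (muSet U a b) ≤ centralizer ({z} : Set G) := by
    rw [closure_le]
    rintro _ ⟨u, hu, hu1, rfl⟩
    obtain ⟨t', ht', ht1', ht2', he⟩ := h.exists_invol hab hmu ht ht1 ht2 hu hu1
    rw [← he, SetLike.mem_coe, mem_centralizer_singleton_iff]
    exact (h.mu_comm hab ht' ht1' hz (hzt t' ht' ht1' ht2')).symm
  rw [h.closure_mu hgen hab] at h1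
  intro g hg
  exact (mem_centralizer_singleton_iff.1 (h1 hg)).symm

end OneClass

/-! ### The group `genFix` -/

theorem mem_genFix {X : Subgroup G} {c : Ω} (hc : ∀ x ∈ X, x • c = c) {u : G} (hu : u ∈ U c)
    (huX : u ∈ centralizer (X : Set G)) : u ∈ genFix U X :=
  le_iSup (fun c : {c : Ω // ∀ x ∈ X, x • c = c} => U (c : Ω) ⊓ centralizer (X : Set G)) ⟨c, hc⟩
    ⟨hu, huX⟩

/-- the element `x` in `t = x m y` centralises `X` if `t` does -/
theorem mu_parts (h : SSplit U) {a b : Ω} (hab : b ≠ a) {X : Subgroup G}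
    (ha : ∀ x ∈ X, x • a = a) (hb : ∀ x ∈ X, x • b = b) {u : G} (hu : u ∈ U b) (hu1 : u ≠ 1)
    (huX : u ∈ centralizer (X : Set G)) :
    ∃ x ∈ U a ⊓ centralizer (X : Set G), ∃ y ∈ U a ⊓ centralizer (X : Set G),
      u = x * mu U a b u * y := by
  obtain ⟨hs, x, hx, y, hy, -, -, he⟩ := h.mu_spec hab hu hu1
  have key : ∀ z ∈ X, z * x * z⁻¹ = x ∧ z * y * z⁻¹ = y := by
    intro z hz
    have hzD : z ∈ Dab G a b := ⟨ha z hz, hb z hz⟩
    have h1 : z * u * z⁻¹ = u := by rw [mem_centralizer_iff.1 huX z hz]; group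
    have h2 : z * x * z⁻¹ * (z * mu U a b u * z⁻¹) * (z * y * z⁻¹) = x * mu U a b u * y := by
      rw [← he]
      calc z * x * z⁻¹ * (z * mu U a b u * z⁻¹) * (z * y * z⁻¹)
          = z * (x * mu U a b u * y) * z⁻¹ := by group
        _ = z * u * z⁻¹ := by rw [← he]
        _ = u := h1
    have hs' : Swaps (z * mu U a b u * z⁻¹) a b := by
      have := hs.conj z
      rwa [ha z hz, hb z hz] at this
    obtain ⟨h3, -, h4⟩ := h.mid_unique hab hs' hs (h.conj_of_fix (ha z hz) hx) hx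
      (h.conj_of_fix (ha z hz) hy) hy h2
    exact ⟨h3, h4⟩
  refine ⟨x, ⟨hx, ?_⟩, y, ⟨hy, ?_⟩, he⟩
  · refine mem_centralizer_iff.2 fun z hz => ?_
    have := (key z hz).1
    rw [mul_inv_eq_iff_eq_mul] at this
    exact this
  · refine mem_centralizer_iff.2 fun z hz => ?_
    have := (key z hz).2
    rw [mul_inv_eq_iff_eq_mul] at this
    exact this

theorem mu_mem_genFix (h : SSplit U) {a b : Ω} (hab : b ≠ a) {X : Subgroup G}
    (ha : ∀ x ∈ X, x • a = a) (hb : ∀ x ∈ X, x • b = b) {u : G} (hu : u ∈ U b) (hu1 : u ≠ 1)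
    (huX : u ∈ centralizer (X : Set G)) : mu U a b u ∈ genFix U X := by
  obtain ⟨x, hx, y, hy, he⟩ := h.mu_parts hab ha hb hu hu1 huX
  have h1 : mu U a b u = x⁻¹ * u * y⁻¹ := by
    conv_rhs => rw [he]
    group
  rw [h1]
  exact mul_mem (mul_mem (inv_mem (mem_genFix ha hx.1 hx.2)) (mem_genFix hb hu huX))
    (inv_mem (mem_genFix ha hy.1 hy.2))

/-- `kerFix` centralises `genFix`. -/
theorem comm_genFix (h : SSplit U) {a b : Ω} (hab : b ≠ a) {X : Subgroup G}
    (ha : ∀ x ∈ X, x • a = a) (hb : ∀ x ∈ X, x • b = b) {k : G} (hk : k ∈ kerFix Ω X) {g : G}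
    (hg : g ∈ genFix U X) : k * g = g * k := by
  have h1 : genFix U X ≤ centralizer ({k} : Set G) := by
    refine iSup_le ?_
    rintro ⟨c, hc⟩ u ⟨hu, huX⟩
    rw [mem_centralizer_singleton_iff]
    by_cases hca : c = a
    · subst hca
      exact (h.comm_of_fix hc hb hab hk hu huX).symm
    · exact (h.comm_of_fix hc ha (Ne.symm hca) hk hu huX).symm
  exact (mem_centralizer_singleton_iff.1 (h1 hg)).symm

end SSplit

/-- The permutation of a three-element set induced by a nontrivial involution is odd. -/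
theorem sign_of_card_three {C : Type*} [Fintype C] [DecidableEq C] (hC : Fintype.card C = 3)
    (σ : Equiv.Perm C) (h1 : σ ≠ 1) (h2 : σ * σ = 1) : Equiv.Perm.sign σ = -1 := by
  let e := Fintype.equivFinOfCardEq hC
  have key : ∀ τ : Equiv.Perm (Fin 3), τ ≠ 1 → τ * τ = 1 → Equiv.Perm.sign τ = -1 := by decide
  rw [← Equiv.Perm.sign_permCongr e σ]
  refine key _ ?_ ?_
  · intro hc
    apply h1
    have h3 : e.permCongr σ = e.permCongr 1 := by
      rw [hc]
      ext x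
      simp [Equiv.permCongr_apply]
    exact e.permCongr.injective h3
  · have h3 : e.permCongr σ * e.permCongr σ = e.permCongr (σ * σ) := by
      ext x
      simp [Equiv.permCongr_apply]
    rw [h3, h2]
    ext x
    simp [Equiv.permCongr_apply]

end Cfsg.Agent.HKS
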