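import Mathlib
import Cfsg.Agent.HKS.FrameGen

/-!
# If all `μ_u` are conjugate under `D`, then `D` is generated by its elements of odd order
-/

set_option autoImplicit false

namespace Cfsg.Agent.HKS

open Subgroup MulAction

/-- A nilpotent finite group generated by the conjugates of `x` is generated by `x`. -/
theorem zpowers_eq_top_of_nilpotent {H : Type*} [Group H] [Finite H] (hH : Group.IsNilpotent H)
    (x : H) (hx : normalClosure {x} = ⊤) : zpowers x = ⊤ := by
  by_contra hc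
  have hfin : Finite (Subgroup H) := inferInstance
  obtain ⟨M, hM, hle⟩ := (eq_top_or_exists_le_coatom (zpowers x)).resolve_left hc
  have hn : M.Normal := by
    have := hH
    exact NormalizerCondition.normal_of_coatom M (Group.normalizerCondition_of_isNilpotent (G := H)) hM
  apply hM.1
  rw [eq_top_iff, ← hx]
  exact normalClosure_le_normal (Set.singleton_subset_iff.2 (hle (mem_zpowers x)))

/-- The quotient by the subgroup generated by the elements of odd order is a 2-group. -/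
theorem isPGroup_quot_odd {W : Type*} [Group W] [Finite W] (K : Subgroup W) [K.Normal]
    (hK : ∀ g : W, Odd (orderOf g) → g ∈ K) : IsPGroup 2 (W ⧸ K) := by
  intro q
  obtain ⟨g, rfl⟩ := QuotientGroup.mk'_surjective K q
  obtain ⟨k, m, hm, hk⟩ := Nat.exists_eq_two_pow_mul_odd (orderOf_pos g).ne'
  refine ⟨k, ?_⟩
  rw [← map_pow]
  apply (QuotientGroup.eq_one_iff _).2
  apply hK
  rw [orderOf_pow_of_dvd (pow_pos (by norm_num) k).ne' ⟨m, hk⟩, hk,
    Nat.mul_div_cancel_left _ (pow_pos (by norm_num) k)]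
  exact hm

variable {G Ω : Type*} [Group G] [MulAction G Ω] {U : Ω → Subgroup G}

theorem sq_mem_Dab {a b : Ω} {g : G} (hg : g ∈ Wab G a b) : g * g ∈ Dab G a b := by
  rcases hg with h1 | h1
  · exact mul_mem (show g ∈ Dab G a b from h1) (show g ∈ Dab G a b from h1)
  · exact Swaps.mul (show Swaps g a b from h1) h1

theorem mem_Dab_of_odd {a b : Ω} {g : G} (hg : g ∈ Wab G a b) (ho : Odd (orderOf g)) :
    g ∈ Dab G a b := by
  obtain ⟨k, hk⟩ := ho
  have h1 : g = (g * g) ^ (k + 1) := by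
    calc g = g ^ (2 * k + 1) * g := by rw [← hk, pow_orderOf_eq_one, one_mul]
      _ = (g * g) ^ (k + 1) := by rw [← pow_succ, ← pow_two, ← pow_mul]; congr 1
  rw [h1]
  exact pow_mem (sq_mem_Dab hg) _

namespace SSplit

/-- `D` is generated by its elements of odd order (in `W`). -/
theorem Dab_le_odd (h : SSplit U) [Finite G] (hgen : (⨆ c, U c) = ⊤) {a b : Ω}
    (hab : b ≠ a)
    (hmu : ∀ x ∈ U b, x ≠ 1 → ∀ x' ∈ U b, x' ≠ 1 → ∃ d ∈ Dab G a b,
      mu U a b x' = d * mu U a b x * d⁻¹) (g : Wab G a b) (hg : (g : G) ∈ Dab G a b) :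
    g ∈ closure {x : Wab G a b | Odd (orderOf x)} := by
  classical
  set K := closure {x : Wab G a b | Odd (orderOf x)} with hKdef
  have hKn : K.Normal := by
    refine ⟨fun n hn g => ?_⟩
    have h1 : K ≤ K.comap (MulAut.conj g).toMonoidHom := by
      conv_lhs => rw [hKdef]
      rw [closure_le]
      intro x hx
      apply Subgroup.subset_closure
      have : orderOf (g * x * g⁻¹) = orderOf x := orderOf_injective (MulAut.conj g).toMonoidHom
        (MulAut.conj g).injective x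
      change Odd (orderOf (g * x * g⁻¹))
      rw [this]
      exact hx
    exact h1 hn
  have hK : ∀ g : Wab G a b, Odd (orderOf g) → g ∈ K := fun g hg => subset_closure hg
  have hKD : ∀ x ∈ K, (x : G) ∈ Dab G a b := by
    have h1 : K ≤ (Dab G a b).subgroupOf (Wab G a b) := by
      rw [hKdef, closure_le]
      intro x hx
      have hx' : Odd (orderOf (x : G)) := by rw [Subgroup.orderOf_coe]; exact hx
      exact mem_subgroupOf.2 (mem_Dab_of_odd x.2 hx')
    exact fun x hx => h1 hx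
  obtain ⟨m₀, hm₀⟩ := h.exists_muSet hab
  have hm₀s := h.muSet_swaps hab hm₀
  -- all `μ` have the same image
  have hgenW : closure {g : Wab G a b | (g : G) ∈ muSet U a b} = ⊤ := by
    have h1 := h.closure_mu hgen hab
    have hsub : (muSet U a b : Set G) ⊆ Set.range (Wab G a b).subtype := by
      intro m hm
      exact ⟨⟨m, (h.muSet_swaps hab hm).mem_W⟩, rfl⟩
    have h2 : {g : Wab G a b | (g : G) ∈ muSet U a b} = (Wab G a b).subtype ⁻¹' muSet U a b := rfl
    apply Subgroup.map_injective (Wab G a b).subtype_injective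
    rw [MonoidHom.map_closure, h2, Set.image_preimage_eq_of_subset hsub, h1,
      ← MonoidHom.range_eq_map, range_subtype]
  have hconj : ∀ m ∈ muSet U a b, ∀ m' ∈ muSet U a b, ∃ d ∈ Dab G a b, m' = d * m * d⁻¹ := by
    rintro _ ⟨u, hu, hu1, rfl⟩ _ ⟨v, hv, hv1, rfl⟩
    exact hmu u hu hu1 v hv hv1
  have hP := isPGroup_quot_odd K hK
  have hnil : Group.IsNilpotent (Wab G a b ⧸ K) := by
    have : Fact (Nat.Prime 2) := ⟨Nat.prime_two⟩
    exact hP.isNilpotent
  let π := QuotientGroup.mk' K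
  let M₀ : Wab G a b := ⟨m₀, hm₀s.mem_W⟩
  have hz : zpowers (π M₀) = ⊤ := by
    apply zpowers_eq_top_of_nilpotent hnil
    rw [eq_top_iff]
    have h1 : (⊤ : Subgroup (Wab G a b)) ≤ (normalClosure {π M₀}).comap π := by
      rw [← hgenW, closure_le]
      intro g hg
      obtain ⟨d, hd, he⟩ := hconj m₀ hm₀ g hg
      have h2 : g = (⟨d, Dab_le_Wab a b hd⟩ : Wab G a b) * M₀ * (⟨d, Dab_le_Wab a b hd⟩)⁻¹ :=
        Subtype.ext he
      rw [SetLike.mem_coe, mem_comap, h2, map_mul, map_mul, map_inv]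
      exact (normalClosure_normal (s := {π M₀})).conj_mem _ (subset_normalClosure rfl) _
    intro q _
    obtain ⟨g, rfl⟩ := QuotientGroup.mk'_surjective K q
    exact h1 (mem_top g)
  have hcomm : ∀ x y : Wab G a b ⧸ K, x * y = y * x := by
    intro x y
    have hx : x ∈ zpowers (π M₀) := by rw [hz]; exact mem_top x
    have hy : y ∈ zpowers (π M₀) := by rw [hz]; exact mem_top y
    obtain ⟨i, rfl⟩ := mem_zpowers_iff.1 hx
    obtain ⟨j, rfl⟩ := mem_zpowers_iff.1 hy
    rw [← zpow_add, ← zpow_add, add_comm]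
  have himg : ∀ g : Wab G a b, (g : G) ∈ muSet U a b → π g = π M₀ := by
    intro g hg
    obtain ⟨d, hd, he⟩ := hconj m₀ hm₀ g hg
    have h2 : g = (⟨d, Dab_le_Wab a b hd⟩ : Wab G a b) * M₀ * (⟨d, Dab_le_Wab a b hd⟩)⁻¹ :=
      Subtype.ext he
    rw [h2, map_mul, map_mul, map_inv, hcomm (π _) (π M₀), mul_assoc, mul_inv_cancel, mul_one]
  have hsq : π M₀ * π M₀ = 1 := by
    have h1 := himg M₀⁻¹ (h.muSet_inv hab hm₀)
    rw [map_inv] at h1
    nth_rewrite 1 [← h1]
    exact inv_mul_cancel _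
  have h3 : π g ∈ zpowers (π M₀) := by rw [hz]; exact mem_top _
  obtain ⟨i, hi⟩ := mem_zpowers_iff.1 h3
  rcases Int.even_or_odd' i with ⟨j, rfl | rfl⟩
  · rw [zpow_mul, zpow_two, hsq, one_zpow] at hi
    exact (QuotientGroup.eq_one_iff g).1 hi.symm
  · exfalso
    rw [zpow_add, zpow_mul, zpow_two, hsq, one_zpow, one_mul, zpow_one] at hi
    -- `g` and `M₀` differ by an element of `K`; all elements of `K` are in `D`
    have h4 : g⁻¹ * M₀ ∈ K := by
      rw [← QuotientGroup.eq_one_iff]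
      change π (g⁻¹ * M₀) = 1
      rw [map_mul, map_inv, hi, inv_mul_cancel]
    have h5 := hKD _ h4
    have h6 : m₀ ∈ Dab G a b := by
      have := mul_mem hg h5
      simpa [M₀] using this
    exact hab (hm₀s.1.symm.trans h6.1)

/-- A homomorphism defined on `W` killing the elements of odd order kills `D`. -/
theorem hom_W_eq_one (h : SSplit U) [Finite G] (hgen : (⨆ c, U c) = ⊤) {a b : Ω}
    (hab : b ≠ a)
    (hmu : ∀ x ∈ U b, x ≠ 1 → ∀ x' ∈ U b, x' ≠ 1 → ∃ d ∈ Dab G a b,
      mu U a b x' = d * mu U a b x * d⁻¹) {A : Type*} [Group A] (f : Wab G a b →* A)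
    (hf : ∀ g, Odd (orderOf g) → f g = 1) {g : G} (hg : g ∈ Dab G a b) :
    f ⟨g, Dab_le_Wab a b hg⟩ = 1 := by
  have h1 : closure {x : Wab G a b | Odd (orderOf x)} ≤ f.ker := by
    rw [closure_le]
    exact fun x hx => hf x hx
  exact h1 (h.Dab_le_odd hgen hab hmu ⟨g, Dab_le_Wab a b hg⟩ hg)

/-- `D` is generated by its elements of odd order. -/
theorem Dab_eq_closure (h : SSplit U) [Finite G] (hgen : (⨆ c, U c) = ⊤) {a b : Ω}
    (hab : b ≠ a)
    (hmu : ∀ x ∈ U b, x ≠ 1 → ∀ x' ∈ U b, x' ≠ 1 → ∃ d ∈ Dab G a b,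
      mu U a b x' = d * mu U a b x * d⁻¹) :
    closure {x : Dab G a b | Odd (orderOf x)} = ⊤ := by
  rw [eq_top_iff]
  rintro ⟨g, hg⟩ -
  have h1 := h.Dab_le_odd hgen hab hmu ⟨g, Dab_le_Wab a b hg⟩ hg
  have h2 : closure {x : Wab G a b | Odd (orderOf x)} ≤
      (closure {x : Dab G a b | Odd (orderOf x)}).map (inclusion (Dab_le_Wab a b)) := by
    rw [closure_le]
    intro x hx
    have hxo : Odd (orderOf (x : G)) := by rw [Subgroup.orderOf_coe]; exact hx
    have hxD := mem_Dab_of_odd x.2 hxo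
    refine ⟨⟨x, hxD⟩, Subgroup.subset_closure ?_, rfl⟩
    change Odd (orderOf (⟨x, hxD⟩ : Dab G a b))
    rw [Subgroup.orderOf_mk]
    exact hxo
  obtain ⟨y, hy, he⟩ := h2 h1
  have he' : (y : G) = g := congrArg (fun k : Wab G a b => (k : G)) he
  have h3 : y = ⟨g, hg⟩ := Subtype.ext he'
  rwa [← h3]

/-- A homomorphism of `D` killing the elements of odd order is trivial. -/
theorem hom_D_eq_one (h : SSplit U) [Finite G] (hgen : (⨆ c, U c) = ⊤) {a b : Ω}
    (hab : b ≠ a)
    (hmu : ∀ x ∈ U b, x ≠ 1 → ∀ x' ∈ U b, x' ≠ 1 → ∃ d ∈ Dab G a b,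
      mu U a b x' = d * mu U a b x * d⁻¹) {A : Type*} [Group A] (f : Dab G a b →* A)
    (hf : ∀ g, Odd (orderOf g) → f g = 1) (g : Dab G a b) : f g = 1 := by
  have h1 : closure {x : Dab G a b | Odd (orderOf x)} ≤ f.ker := by
    rw [closure_le]
    exact fun x hx => hf x hx
  rw [h.Dab_eq_closure hgen hab hmu] at h1
  exact h1 (mem_top g)

end SSplit

end Cfsg.Agent.HKS
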