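import Mathlib
import Cfsg.Agent.HKS.OddDegInv
import Cfsg.Agent.HKS.OddGen
import Cfsg.Agent.KantorSeitz.Defs

/-!
# Odd degree, `|U|` not a power of `2`, all `μ` conjugate: `|D|` is odd
-/

set_option autoImplicit false
set_option linter.unusedSectionVars false

namespace Cfsg.Agent.HKS

open Subgroup MulAction

variable {G Ω : Type*} [Group G] [MulAction G Ω] {U : Ω → Subgroup G}

/-- The induction hypothesis at `X` in odd degree. -/
structure OddX (U : Ω → Subgroup G) (X : Subgroup G) (a b : Ω) : Prop where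
  two : ∀ d ∈ Dab G a b ⊓ genFix U X, ∀ k : ℕ, d ^ 2 ^ k = 1 → d ∈ kerFix Ω X
  alt : (∀ d ∈ Dab G a b ⊓ genFix U X, d ∈ kerFix Ω X) ∨
    ∃ k, Nat.card (U b ⊓ centralizer (X : Set G) : Subgroup G) = 2 ^ k

namespace SSplit

section Main

variable (h : SSplit U) [Finite G] {a b : Ω} (hab : b ≠ a) (hgen : (⨆ c, U c) = ⊤)
  (hmu : ∀ x ∈ U b, x ≠ 1 → ∀ x' ∈ U b, x' ≠ 1 → ∃ d ∈ Dab G a b,
    mu U a b x' = d * mu U a b x * d⁻¹)
  {t : G} (ht : t ∈ U b) (ht1 : t ≠ 1) (ht2 : t * t = 1) (htc : ∀ v ∈ U b, v * t = t * v)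
  (hX : ∀ z ∈ Dab G a b, z ≠ 1 → z * z = 1 → (∃ u ∈ U b, u ≠ 1 ∧ z * u = u * z) →
    OddX U (zpowers z) a b)

include h hab hmu ht ht1 ht2 htc in
/-- all involutions of `U b` are central in `U b` -/
theorem invol_central {t' : G} (ht' : t' ∈ U b) (ht1' : t' ≠ 1) (ht2' : t' * t' = 1) :
    ∀ v ∈ U b, v * t' = t' * v := by
  obtain ⟨d, hd, rfl⟩ := h.invol_conj hab hmu ht ht1 ht2 ht' ht1' ht2'
  intro v hv
  have h1 := htc _ (h.conj_of_fix' hd.2 hv)
  calc v * (d * t * d⁻¹) = d * (d⁻¹ * v * d * t) * d⁻¹ := by group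
    _ = d * (t * (d⁻¹ * v * d)) * d⁻¹ := by rw [h1]
    _ = d * t * d⁻¹ * v := by group

theorem mem_centralizer_zpowers {z g : G} :
    g ∈ centralizer ((zpowers z : Subgroup G) : Set G) ↔ z * g = g * z := by
  rw [mem_centralizer_iff]
  constructor
  · intro h
    exact h z (mem_zpowers z)
  · intro h x hx
    obtain ⟨i, rfl⟩ := mem_zpowers_iff.1 hx
    exact (Commute.zpow_left h i : Commute (z ^ i) g)

theorem fix_zpowers {z : G} {c : Ω} (hc : z • c = c) : ∀ x ∈ zpowers z, x • c = c := by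
  have h1 : zpowers z ≤ stabilizer G c := by
    rw [zpowers_le]
    exact hc
  exact fun x hx => h1 hx

include h hab hgen hmu ht ht1 ht2 hX in
/-- an involution of `D` does not centralise all involutions of `U b` -/
theorem not_comm_all {z : G} (hz : z ∈ Dab G a b) (hz1 : z ≠ 1) (hz2 : z * z = 1) :
    ¬ ∀ t' ∈ U b, t' ≠ 1 → t' * t' = 1 → z * t' = t' * z := by
  classical
  intro hc
  have hW := h.comm_W hab hmu hgen ht ht1 ht2 hz hc
  have hOX := hX z hz hz1 hz2 ⟨t, ht, ht1, hc t ht ht1 ht2⟩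
  have ha' := fix_zpowers (show z • a = a from hz.1)
  have hb' := fix_zpowers (show z • b = b from hz.2)
  -- `W ≤ genFix`
  have hWg : Wab G a b ≤ genFix U (zpowers z) := by
    rw [← h.closure_mu hgen hab, closure_le]
    rintro _ ⟨u, hu, hu1, rfl⟩
    obtain ⟨t', ht', ht1', ht2', he⟩ := h.exists_invol hab hmu ht ht1 ht2 hu hu1
    rw [← he]
    exact h.mu_mem_genFix hab ha' hb' ht' ht1' (mem_centralizer_zpowers.2 (hc t' ht' ht1' ht2'))
  -- 2-elements of `D` are central in `D`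
  have hcent : ∀ d ∈ Dab G a b, ∀ k : ℕ, d ^ 2 ^ k = 1 → ∀ g ∈ Dab G a b, d * g = g * d := by
    intro d hd k hk g hg
    exact h.comm_genFix hab ha' hb'
      (hOX.two d ⟨hd, hWg (Dab_le_Wab a b hd)⟩ k hk) (hWg (Dab_le_Wab a b hg))
  have : Fact (Nat.Prime 2) := ⟨Nat.prime_two⟩
  obtain ⟨P, hPz⟩ := (IsPGroup.of_card (p := 2) (n := 1) (G := zpowers (⟨z, hz⟩ : Dab G a b)) (by
    rw [Nat.card_zpowers, pow_one]
    exact orderOf_eq_prime (by rw [sq]; exact Subtype.ext hz2)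
      (fun hc => hz1 (congrArg Subtype.val hc)))).exists_le_sylow
  have hPc : ∀ x ∈ P, ∀ g : Dab G a b, x * g = g * x := by
    intro x hx g
    obtain ⟨k, hk⟩ := P.2 ⟨x, hx⟩
    have hk' : (x : G) ^ 2 ^ k = 1 := by
      have := congrArg (fun y : P => ((y : Dab G a b) : G)) hk
      simpa using this
    exact Subtype.ext (hcent x x.2 k hk' g g.2)
  have hP : normalizer (P : Set (Dab G a b)) ≤ centralizer (P : Set (Dab G a b)) := by
    intro g _
    rw [mem_centralizer_iff]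
    exact fun x hx => hPc x hx g
  let f := MonoidHom.transferSylow P hP
  have hf : ∀ g, Odd (orderOf g) → f g = 1 := by
    intro g hg
    have h1 : orderOf (f g) ∣ orderOf g := orderOf_map_dvd f g
    obtain ⟨k, hk⟩ := P.2 (f g)
    have h2 : orderOf (f g) ∣ 2 ^ k := orderOf_dvd_of_pow_eq_one hk
    have h3 : Nat.Coprime (2 ^ k) (orderOf g) := Nat.Coprime.pow_left k
      (Nat.coprime_two_left.2 hg)
    exact orderOf_eq_one_iff.1 (Nat.eq_one_of_dvd_coprimes h3 h2 h1)
  have h1 := h.hom_D_eq_one hgen hab hmu f hf ⟨z, hz⟩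
  have hzP : (⟨z, hz⟩ : Dab G a b) ∈ P := hPz (mem_zpowers _)
  rw [MonoidHom.transferSylow_eq_pow P hP _ hzP] at h1
  have h2 : z ^ (P : Subgroup (Dab G a b)).index = 1 := by
    have := congrArg (fun y : P => ((y : Dab G a b) : G)) h1
    simpa using this
  have h3 : Odd (P : Subgroup (Dab G a b)).index := by
    rw [← Nat.not_even_iff_odd, even_iff_two_dvd]
    exact P.not_dvd_index
  obtain ⟨k, hk⟩ := h3
  rw [hk, pow_succ, pow_mul, sq, hz2, one_pow, one_mul] at h2
  exact hz1 h2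

include h hab hgen hmu ht ht1 ht2 htc hX in
/-- **`D` has no involution.** -/
theorem no_invol_Dab (hN : ¬ ∃ k, Nat.card (U b) = 2 ^ k) {z : G} (hz : z ∈ Dab G a b)
    (hz2 : z * z = 1) : z = 1 := by
  classical
  by_contra hz1
  have hzi : z⁻¹ = z := inv_eq_of_mul_eq_one_left hz2
  have hnc := h.not_comm_all hab hgen hmu ht ht1 ht2 hX hz hz1 hz2
  push Not at hnc
  obtain ⟨t₁, ht₁, ht₁1, ht₁2, hzt₁⟩ := hnc
  have hcen : ∀ t' ∈ U b, t' ≠ 1 → t' * t' = 1 → ∀ v ∈ U b, v * t' = t' * v :=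
    fun t' h1 h2 h3 => h.invol_central hab hmu ht ht1 ht2 htc h1 h2 h3
  have ha' := fix_zpowers (show z • a = a from hz.1)
  have hb' := fix_zpowers (show z • b = b from hz.2)
  -- the product of two commuting involutions
  have hconjz : ∀ u ∈ U b, z * u * z⁻¹ ∈ U b := fun u hu => h.conj_of_fix hz.2 hu
  have hconj1 : ∀ u : G, u ≠ 1 → z * u * z⁻¹ ≠ 1 := fun u hu hc => hu (conj_eq_one_iff.1 hc)
  have hconj2 : ∀ u : G, u * u = 1 → z * u * z⁻¹ * (z * u * z⁻¹) = 1 := by
    intro u hu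
    calc z * u * z⁻¹ * (z * u * z⁻¹) = z * (u * u) * z⁻¹ := by group
      _ = 1 := by rw [hu]; group
  set t₀ := t₁ * (z * t₁ * z⁻¹) with ht₀d
  have ht₀ : t₀ ∈ U b := mul_mem ht₁ (hconjz _ ht₁)
  have ht₀1 : t₀ ≠ 1 := by
    intro hc
    apply hzt₁
    have h1 : z * t₁ * z⁻¹ = t₁⁻¹ := (inv_eq_of_mul_eq_one_right hc).symm
    rw [inv_eq_of_mul_eq_one_left ht₁2, mul_inv_eq_iff_eq_mul] at h1
    exact h1
  have hcomm₁ : (z * t₁ * z⁻¹) * t₁ = t₁ * (z * t₁ * z⁻¹) :=
    hcen t₁ ht₁ ht₁1 ht₁2 _ (hconjz _ ht₁)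
  have ht₀2 : t₀ * t₀ = 1 := by
    calc t₀ * t₀ = t₁ * ((z * t₁ * z⁻¹) * t₁) * (z * t₁ * z⁻¹) := by rw [ht₀d]; group
      _ = (t₁ * t₁) * ((z * t₁ * z⁻¹) * (z * t₁ * z⁻¹)) := by rw [hcomm₁]; group
      _ = 1 := by rw [ht₁2, hconj2 _ ht₁2, one_mul]
  have hzt₁' : z * t₁ * z⁻¹ = t₁ * t₀ := by
    rw [ht₀d, ← mul_assoc, ht₁2, one_mul]
  have hzt₀ : z * t₀ = t₀ * z := by
    have h1 : z * t₀ * z⁻¹ = t₀ := by
      calc z * t₀ * z⁻¹ = (z * t₁ * z⁻¹) * ((z * z) * t₁ * (z⁻¹ * z⁻¹)) := by rw [ht₀d]; group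
        _ = (z * t₁ * z⁻¹) * t₁ := by rw [hzi, hz2]; group
        _ = t₀ := by rw [hcomm₁]
    rw [mul_inv_eq_iff_eq_mul] at h1
    exact h1
  have hOX := hX z hz hz1 hz2 ⟨t₀, ht₀, ht₀1, hzt₀⟩
  rcases hOX.alt with halt | ⟨k, hk⟩
  swap
  · -- `C_{U b}(z)` is a 2-group: `z` inverts the elements of odd order
    set O := KantorSeitz.pR 2 (U b) with hO
    have : Fact (Nat.Prime 2) := ⟨Nat.prime_two⟩
    have hmemO : ∀ x, x ∈ O ↔ x ∈ U b ∧ (orderOf x).Coprime 2 := fun x =>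
      KantorSeitz.mem_pR (h.nil b)
    have hOz : ∀ x ∈ O, z * x * z⁻¹ ∈ O := fun x hx => KantorSeitz.pR_conj hconjz hx
    let φ : O → O := fun x => ⟨z * x * z⁻¹, hOz x x.2⟩
    let Φ : O →* O := MonoidHom.mk' φ (fun x y => Subtype.ext (by
      change z * (x * y) * z⁻¹ = (z * x * z⁻¹) * (z * y * z⁻¹)
      group))
    have hfpf : MonoidHom.FixedPointFree Φ := by
      intro x hx
      have h1 : z * (x : G) * z⁻¹ = x := congrArg Subtype.val hx
      rw [mul_inv_eq_iff_eq_mul] at h1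
      obtain ⟨h2, h3⟩ := (hmemO x).1 x.2
      have h4 : (x : G) ∈ U b ⊓ centralizer ((zpowers z : Subgroup G) : Set G) :=
        ⟨h2, mem_centralizer_zpowers.2 h1⟩
      have h5 : orderOf (x : G) ∣ 2 ^ k := by
        rw [← hk]
        exact Subgroup.orderOf_dvd_natCard _ h4
      have h6 := Nat.eq_one_of_dvd_coprimes (Nat.Coprime.pow_right k h3) dvd_rfl h5
      exact Subtype.ext (orderOf_eq_one_iff.1 h6)
    have hinv : Function.Involutive Φ := by
      intro x
      apply Subtype.ext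
      change z * (z * x * z⁻¹) * z⁻¹ = x
      calc z * (z * x * z⁻¹) * z⁻¹ = (z * z) * x * (z⁻¹ * z⁻¹) := by group
        _ = x := by rw [hzi, hz2]; group
    have hinvert : ∀ x ∈ O, z * x * z⁻¹ = x⁻¹ := by
      intro x hx
      have := congrFun (hfpf.coe_eq_inv_of_involutive hinv) ⟨x, hx⟩
      exact congrArg Subtype.val this
    -- a nontrivial element of odd order
    obtain ⟨u, huO, hu1⟩ : ∃ u ∈ O, u ≠ 1 := by
      by_contra hc
      push Not at hc
      apply hN
      have hP2 : IsPGroup 2 (U b) := by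
        intro x
        obtain ⟨y, hy, z', hz', he, -, -⟩ :=
          KantorSeitz.exists_mul_parts (p := 2) (H := U b) x.2
        rw [hc z' hz', mul_one] at he
        obtain ⟨-, j, hj⟩ := (KantorSeitz.mem_pP (h.nil b)).1 hy
        exact ⟨j, Subtype.ext (by rw [← he] at hj; exact hj)⟩
      exact (IsPGroup.iff_card).1 hP2
    have hzmu : ∀ v ∈ O, v ≠ 1 → z * mu U a b v = mu U a b v * z := by
      intro v hv hv1
      have hvU := ((hmemO v).1 hv).1
      have h1 := h.mu_inverted hab hvU hv1 hz (hinvert v hv)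
      have h2 := h.mu_sq hab hmu ht ht1 ht2 hvU hv1
      rw [inv_eq_of_mul_eq_one_left h2, mul_inv_eq_iff_eq_mul] at h1
      exact h1
    -- `z` commutes with `μ_{t₁}`
    apply hzt₁
    have huU := ((hmemO u).1 huO).1
    obtain ⟨d, hd, he⟩ := hmu u huU hu1 t₁ ht₁ ht₁1
    have hdu : d * u * d⁻¹ ∈ O := KantorSeitz.pR_conj (fun x hx => h.conj_of_fix hd.2 hx) huO
    have h1 := hzmu _ hdu (fun hc => hu1 (conj_eq_one_iff.1 hc))
    rw [h.mu_conj_D hab huU hu1 hd, ← he] at h1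
    exact h.comm_of_mu_comm hab ht₁ ht₁1 ht₁2 hz h1
  · -- `z` centralises only one involution of `U b`
    have huniq : ∀ s ∈ U b, s ≠ 1 → s * s = 1 → z * s = s * z → s = t₀ := by
      intro s hs hs1 hs2 hzs
      obtain ⟨hmm, -⟩ := h.mu_invol hab hs hs1 hs2
      obtain ⟨hmm₀, -⟩ := h.mu_invol hab ht₀ ht₀1 ht₀2
      -- the elements conjugating `μ` to the involution
      have key : ∀ r ∈ U b, r ≠ 1 → r * r = 1 → z * r = r * z →
          ∃ x ∈ U a, z * x = x * z ∧ r = x * mu U a b r * x⁻¹ := by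
        intro r hr hr1 hr2 hzr
        obtain ⟨-, x, hx, hrx⟩ := h.mu_invol hab hr hr1 hr2
        obtain ⟨x', hx', y', hy', he⟩ := h.mu_parts hab ha' hb' hr hr1
          (mem_centralizer_zpowers.2 hzr)
        have hs := h.mu_swaps hab hr hr1
        obtain ⟨h1, -, -⟩ := h.mid_unique hab hs hs hx hx'.1 ((U a).inv_mem hx) hy'.1
          (hrx.symm.trans he)
        refine ⟨x, hx, ?_, hrx⟩
        rw [h1]
        exact mem_centralizer_zpowers.1 hx'.2
      obtain ⟨x, hx, hzx, hsx⟩ := key s hs hs1 hs2 hzs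
      obtain ⟨y, hy, hzy, hty⟩ := key t₀ ht₀ ht₀1 ht₀2 hzt₀
      have hms := h.mu_swaps hab hs hs1
      have hmt := h.mu_swaps hab ht₀ ht₀1
      have hgs := h.mu_mem_genFix hab ha' hb' hs hs1 (mem_centralizer_zpowers.2 hzs)
      have hgt := h.mu_mem_genFix hab ha' hb' ht₀ ht₀1 (mem_centralizer_zpowers.2 hzt₀)
      set k := (mu U a b t₀)⁻¹ * mu U a b s with hkd
      have hkK : k ∈ kerFix Ω (zpowers z) :=
        halt k ⟨hmt.inv.mul hms, (genFix U (zpowers z)).mul_mem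
          ((genFix U (zpowers z)).inv_mem hgt) hgs⟩
      have hc : ∀ g ∈ zpowers z, g • (x⁻¹ • b) = x⁻¹ • b := by
        apply fix_zpowers
        have h1 : z * x⁻¹ = x⁻¹ * z := by
          calc z * x⁻¹ = x⁻¹ * (x * z) * x⁻¹ := by group
            _ = x⁻¹ * (z * x) * x⁻¹ := by rw [hzx]
            _ = x⁻¹ * z := by group
        rw [← mul_smul, h1, mul_smul, show z • b = b from hz.2]
      have h1 := (h.fixed_of_conj hs hs1 hsx (x⁻¹ • b)).2 rfl
      have h2 : mu U a b t₀ • (x⁻¹ • b) = x⁻¹ • b := by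
        have h3 : mu U a b s = mu U a b t₀ * k := by rw [hkd]; group
        rw [h3, mul_smul, hkK _ hc] at h1
        exact h1
      have h3 := (h.fixed_of_conj ht₀ ht₀1 hty _).1 h2
      have h4 : x = y := inv_injective (h.eq_of_smul_eq hab ((U a).inv_mem hx)
        ((U a).inv_mem hy) h3)
      have h5 : t₀⁻¹ * s = x * k * x⁻¹ := by
        calc t₀⁻¹ * s = (y * mu U a b t₀ * y⁻¹)⁻¹ * (x * mu U a b s * x⁻¹) := by
              rw [← hty, ← hsx]
          _ = x * k * x⁻¹ := by rw [← h4, hkd]; group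
      have h6 : (t₀⁻¹ * s) • a = a := by
        have h7 : x⁻¹ • a = a := h.fix ((U a).inv_mem hx)
        rw [h5, mul_smul, mul_smul, h7, hkK a ha', h.fix hx]
      have h7 := h.free hab.symm (mul_mem (inv_mem ht₀) hs) h6
      exact (inv_mul_eq_one.1 h7).symm
    -- the involutions of `U b`
    have hall : ∀ s ∈ U b, s ≠ 1 → s * s = 1 → s = t₀ ∨ s = t₁ ∨ s = t₁ * t₀ := by
      intro s hs hs1 hs2
      by_cases hzs : z * s = s * z
      · exact Or.inl (huniq s hs hs1 hs2 hzs)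
      · right
        -- `s (z s z⁻¹) = t₀`
        have hcs := hcen s hs hs1 hs2
        have h1 : s * (z * s * z⁻¹) = t₀ := by
          apply huniq
          · exact mul_mem hs (hconjz _ hs)
          · intro hc
            apply hzs
            have h1 : z * s * z⁻¹ = s⁻¹ := (inv_eq_of_mul_eq_one_right hc).symm
            rw [inv_eq_of_mul_eq_one_left hs2, mul_inv_eq_iff_eq_mul] at h1
            exact h1
          · calc s * (z * s * z⁻¹) * (s * (z * s * z⁻¹))
                = s * ((z * s * z⁻¹) * s) * (z * s * z⁻¹) := by group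
              _ = (s * s) * ((z * s * z⁻¹) * (z * s * z⁻¹)) := by
                  rw [hcs _ (hconjz _ hs)]; group
              _ = 1 := by rw [hs2, hconj2 _ hs2, one_mul]
          · have h1 : z * (s * (z * s * z⁻¹)) * z⁻¹ = s * (z * s * z⁻¹) := by
              calc z * (s * (z * s * z⁻¹)) * z⁻¹
                  = (z * s * z⁻¹) * ((z * z) * s * (z⁻¹ * z⁻¹)) := by group
                _ = (z * s * z⁻¹) * s := by rw [hzi, hz2]; group
                _ = s * (z * s * z⁻¹) := hcs _ (hconjz _ hs)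
            rw [mul_inv_eq_iff_eq_mul] at h1
            exact h1
        have hzs' : z * s * z⁻¹ = s * t₀ := by rw [← h1, ← mul_assoc, hs2, one_mul]
        -- `t₁ s` commutes with `z`
        have hct := hcen t₀ ht₀ ht₀1 ht₀2
        have h2 : z * (t₁ * s) = t₁ * s * z := by
          have h3 : z * (t₁ * s) * z⁻¹ = t₁ * s := by
            calc z * (t₁ * s) * z⁻¹ = (z * t₁ * z⁻¹) * (z * s * z⁻¹) := by group
              _ = t₁ * (t₀ * s) * t₀ := by rw [hzt₁', hzs']; group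
              _ = t₁ * s * (t₀ * t₀) := by rw [← hct s hs]; group
              _ = t₁ * s := by rw [ht₀2, mul_one]
          rw [mul_inv_eq_iff_eq_mul] at h3
          exact h3
        have hc₁ := hcen t₁ ht₁ ht₁1 ht₁2
        have h3 : (t₁ * s) * (t₁ * s) = 1 := by
          calc (t₁ * s) * (t₁ * s) = t₁ * (s * t₁) * s := by group
            _ = (t₁ * t₁) * (s * s) := by rw [hc₁ s hs]; group
            _ = 1 := by rw [ht₁2, hs2, one_mul]
        by_cases h4 : t₁ * s = 1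
        · left
          have h5 : s = t₁⁻¹ := (inv_eq_of_mul_eq_one_right h4).symm
          rw [h5, inv_eq_of_mul_eq_one_left ht₁2]
        · right
          have h5 := huniq _ (mul_mem ht₁ hs) h4 h3 h2
          calc s = (t₁ * t₁) * s := by rw [ht₁2, one_mul]
            _ = t₁ * (t₁ * s) := by group
            _ = t₁ * t₀ := by rw [h5]
    -- the three `μ`
    set t₂ := t₁ * t₀ with ht₂d
    have hct := hcen t₀ ht₀ ht₀1 ht₀2
    have ht₂ : t₂ ∈ U b := mul_mem ht₁ ht₀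
    have ht₂1 : t₂ ≠ 1 := by rw [← hzt₁']; exact hconj1 _ ht₁1
    have ht₂2 : t₂ * t₂ = 1 := by rw [← hzt₁']; exact hconj2 _ ht₁2
    have h01 : t₀ ≠ t₁ := fun hc => hzt₁ (by rw [← hc]; exact hzt₀)
    have h12 : t₁ ≠ t₂ := fun hc => ht₀1 (by
      rw [ht₂d] at hc
      exact (mul_eq_left.1 hc.symm))
    have h02 : t₀ ≠ t₂ := fun hc => ht₁1 (by
      rw [ht₂d] at hc
      exact (mul_eq_right.1 hc.symm))
    let C : Finset G := {mu U a b t₀, mu U a b t₁, mu U a b t₂}
    have hmC : ∀ m, m ∈ C ↔ m ∈ muSet U a b := by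
      intro m
      simp only [C, Finset.mem_insert, Finset.mem_singleton]
      constructor
      · rintro (rfl | rfl | rfl)
        · exact ⟨t₀, ht₀, ht₀1, rfl⟩
        · exact ⟨t₁, ht₁, ht₁1, rfl⟩
        · exact ⟨t₂, ht₂, ht₂1, rfl⟩
      · rintro ⟨u, hu, hu1, rfl⟩
        obtain ⟨s, hs, hs1, hs2, he⟩ := h.exists_invol hab hmu ht ht1 ht2 hu hu1
        rw [← he]
        rcases hall s hs hs1 hs2 with rfl | rfl | rfl
        · exact Or.inl rfl
        · exact Or.inr (Or.inl rfl)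
        · exact Or.inr (Or.inr rfl)
    have hinj : ∀ {r s : G}, r ∈ U b → r ≠ 1 → r * r = 1 → s ∈ U b → s ≠ 1 → s * s = 1 → r ≠ s →
        mu U a b r ≠ mu U a b s := fun h1 h2 h3 h4 h5 h6 h7 h8 =>
      h7 (h.mu_inj_invol hab h1 h2 h3 h4 h5 h6 h8)
    have hcard : Fintype.card C = 3 := by
      rw [Fintype.card_coe, Finset.card_insert_of_notMem, Finset.card_insert_of_notMem,
        Finset.card_singleton]
      · simpa using hinj ht₁ ht₁1 ht₁2 ht₂ ht₂1 ht₂2 h12
      · simp only [Finset.mem_insert, Finset.mem_singleton, not_or]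
        exact ⟨hinj ht₀ ht₀1 ht₀2 ht₁ ht₁1 ht₁2 h01, hinj ht₀ ht₀1 ht₀2 ht₂ ht₂1 ht₂2 h02⟩
    -- the action of `W` on `C`
    have hCW : ∀ g : Wab G a b, ∀ m ∈ C, (g : G) * m * (g : G)⁻¹ ∈ C := fun g m hm =>
      (hmC _).2 (h.muSet_conj hab g.2 ((hmC m).1 hm))
    let act : Wab G a b →* Equiv.Perm C :=
      { toFun := fun g =>
          { toFun := fun m => ⟨g * m * (g : G)⁻¹, hCW g m m.2⟩
            invFun := fun m => ⟨(g⁻¹ : Wab G a b) * m * ((g⁻¹ : Wab G a b) : G)⁻¹, hCW g⁻¹ m m.2⟩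
            left_inv := fun m => Subtype.ext (by
              simp only [Subgroup.coe_inv]; group)
            right_inv := fun m => Subtype.ext (by
              simp only [Subgroup.coe_inv]; group) }
        map_one' := by
          ext m
          simp
        map_mul' := by
          intro g k
          ext m
          simp only [Equiv.coe_fn_mk, Equiv.Perm.coe_mul, Function.comp_apply, Subgroup.coe_mul]
          group }
    have hact : ∀ (g : Wab G a b) (m : C), ((act g m : C) : G) = g * m * (g : G)⁻¹ :=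
      fun _ _ => rfl
    let f : Wab G a b →* ℤˣ := Equiv.Perm.sign.comp act
    have hf : ∀ g, Odd (orderOf g) → f g = 1 := by
      intro g hg
      have h1 : (f g) ^ orderOf g = 1 := by rw [← map_pow, pow_orderOf_eq_one, map_one]
      rcases Int.units_eq_one_or (f g) with h2 | h2
      · exact h2
      · rw [h2, hg.neg_one_pow] at h1
        exact absurd h1 (by decide)
    have h1 := h.hom_W_eq_one hgen hab hmu f hf hz
    set Z : Wab G a b := ⟨z, Dab_le_Wab a b hz⟩ with hZ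
    have h2 : f Z = -1 := by
      change Equiv.Perm.sign (act Z) = -1
      refine sign_of_card_three hcard _ ?_ ?_
      · intro hc
        have hm₁ : mu U a b t₁ ∈ C := (hmC _).2 ⟨t₁, ht₁, ht₁1, rfl⟩
        have h3 := hact Z ⟨_, hm₁⟩
        rw [hc] at h3
        have h4 : mu U a b t₁ = z * mu U a b t₁ * z⁻¹ := h3
        rw [← h.mu_conj_D hab ht₁ ht₁1 hz, hzt₁'] at h4
        exact hinj ht₁ ht₁1 ht₁2 ht₂ ht₂1 ht₂2 h12 h4
      · rw [← map_mul]
        have : Z * Z = 1 := Subtype.ext hz2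
        rw [this, map_one]
    rw [h2] at h1
    exact absurd h1 (by decide)

end Main

end SSplit

end Cfsg.Agent.HKS
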