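import Mathlib
import Cfsg.Agent.HKS.OddDegMain
import Cfsg.Agent.HKS.OddDegChar
import Cfsg.Agent.HKS.OneClass
import Cfsg.Agent.HKS.Dichotomy
import Cfsg.Agent.HKS.OddAct
import Cfsg.Agent.HKS.Induct
import Cfsg.Agent.S0205
import Cfsg.Agent.S0338
import Cfsg.Agent.S0346

/-!
# Strongly split 2-transitive groups of odd degree

`G` faithful, generated by the `U c`, `|Ω|` odd. Then `|G_ab|` is odd, and `G_ab = 1` or `|U a|` is a
power of two.
-/

set_option autoImplicit false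

open Cfsg

namespace Cfsg.Agent.HKS

open Subgroup MulAction

universe v

namespace OddDeg

theorem finite_of_faithful (G Ω : Type*) [Group G] [MulAction G Ω] [FaithfulSMul G Ω] [Finite Ω] :
    Finite G :=
  Finite.of_injective (MulAction.toPermHom G Ω) MulAction.toPerm_injective

theorem card_invol_mod {α : Type*} [Finite α] (f : α → α) (hf : ∀ x, f (f x) = x) :
    Nat.card α % 2 = Nat.card {x : α // f x = x} % 2 := by
  classical
  have := Fintype.ofFinite α
  have hp2 : Fact (Nat.Prime 2) := ⟨Nat.prime_two⟩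
  let F : Function.End α := f
  have h1 : F ^ 2 ^ 1 = 1 := by
    rw [pow_one, pow_two]
    funext x
    exact hf x
  have h2 := Equiv.Perm.card_fixedPoints_modEq (p := 2) (n := 1) h1
  rw [Nat.card_eq_fintype_card, Nat.card_eq_fintype_card]
  have h3 : Fintype.card {x : α // f x = x} = Fintype.card (Function.fixedPoints F) :=
    Fintype.card_congr (Equiv.refl _)
  rw [h3]
  exact h2

/-- An involution acting on a group of even order centralises an involution of it. -/
theorem exists_comm_invol {G : Type*} [Group G] [Finite G] {Q : Subgroup G}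
    (hev : Even (Nat.card Q)) {z : G} (hz : z * z = 1) (hzQ : ∀ u ∈ Q, z * u * z⁻¹ ∈ Q) :
    ∃ u ∈ Q, u ≠ 1 ∧ u * u = 1 ∧ z * u = u * z := by
  classical
  have h1 := card_invol_mod (fun u : Q => u⁻¹) (fun u => inv_inv u)
  let f : {u : Q // u⁻¹ = u} → {u : Q // u⁻¹ = u} := fun u => ⟨⟨z * u.1 * z⁻¹, hzQ _ u.1.2⟩, by
    apply Subtype.ext
    have h2 : (u.1 : G)⁻¹ = u.1 := congrArg Subtype.val u.2
    change (z * (u.1 : G) * z⁻¹)⁻¹ = z * u.1 * z⁻¹
    rw [mul_inv_rev, mul_inv_rev, inv_inv, h2, mul_assoc]⟩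
  have h2 := card_invol_mod f (by
    intro u
    apply Subtype.ext
    apply Subtype.ext
    change z * (z * (u.1 : G) * z⁻¹) * z⁻¹ = u.1
    have h3 : z⁻¹ = z := inv_eq_of_mul_eq_one_left hz
    calc z * (z * (u.1 : G) * z⁻¹) * z⁻¹ = (z * z) * (u.1 : G) * (z⁻¹ * z⁻¹) := by group
      _ = u.1 := by rw [h3, hz, one_mul, mul_one])
  have h3 : Nat.card {x : {u : Q // u⁻¹ = u} // f x = x} % 2 = 0 := by
    rw [← h2, ← h1]
    exact Nat.even_iff.1 hev
  have hone : (f ⟨1, inv_one⟩ : {u : Q // u⁻¹ = u}) = ⟨1, inv_one⟩ := by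
    apply Subtype.ext
    apply Subtype.ext
    change z * ((1 : Q) : G) * z⁻¹ = (1 : Q)
    simp
  have h4 : 1 < Nat.card {x : {u : Q // u⁻¹ = u} // f x = x} := by
    have : Nonempty {x : {u : Q // u⁻¹ = u} // f x = x} := ⟨⟨⟨1, inv_one⟩, hone⟩⟩
    have h5 : 0 < Nat.card {x : {u : Q // u⁻¹ = u} // f x = x} := Nat.card_pos
    omega
  have h5 := (Finite.one_lt_card_iff_nontrivial).1 h4
  obtain ⟨⟨⟨u, hu⟩, hfu⟩, hne⟩ := exists_ne (⟨⟨1, inv_one⟩, hone⟩ :
    {x : {u : Q // u⁻¹ = u} // f x = x})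
  have h6 : z * (u : G) * z⁻¹ = u := congrArg (fun x : {u : Q // u⁻¹ = u} => (x.1 : G)) hfu
  have h7 : (u : G)⁻¹ = u := congrArg Subtype.val hu
  refine ⟨u, u.2, fun hc => hne ?_, ?_, mul_inv_eq_iff_eq_mul.1 h6⟩
  · apply Subtype.ext
    apply Subtype.ext
    exact Subtype.ext hc
  · nth_rewrite 1 [← h7]
    exact inv_mul_cancel _

/-- no involution means odd order -/
theorem odd_of_no_invol {G : Type*} [Group G] [Finite G] (H : Subgroup G)
    (hH : ∀ z ∈ H, z * z = 1 → z = 1) : Odd (Nat.card H) := by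
  by_contra hc
  rw [Nat.not_odd_iff_even, even_iff_two_dvd] at hc
  have hp2 : Fact (Nat.Prime 2) := ⟨Nat.prime_two⟩
  obtain ⟨z, hz⟩ := exists_prime_orderOf_dvd_card' 2 hc
  have h1 : (z : G) = 1 := hH z z.2 (by
    have := pow_orderOf_eq_one z
    rw [hz, sq] at this
    exact congrArg Subtype.val this)
  have h2 : z = 1 := Subtype.ext h1
  rw [h2, orderOf_one] at hz
  norm_num at hz

/-- a `2`-element of a group of odd order is trivial -/
theorem eq_one_of_odd {G : Type*} [Group G] [Finite G] (H : Subgroup G) (hH : Odd (Nat.card H))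
    {z : G} (hz : z ∈ H) {k : ℕ} (hk : z ^ 2 ^ k = 1) : z = 1 := by
  have h1 : orderOf z ∣ 2 ^ k := orderOf_dvd_of_pow_eq_one hk
  have h2 : orderOf z ∣ Nat.card H := by
    have := orderOf_dvd_natCard (⟨z, hz⟩ : H)
    rwa [Subgroup.orderOf_mk] at this
  have h3 : Nat.Coprime (2 ^ k) (Nat.card H) :=
    Nat.Coprime.pow_left _ ((Nat.coprime_two_left).2 hH)
  have h4 := Nat.dvd_gcd h1 h2
  rw [Nat.coprime_iff_gcd_eq_one.1 h3] at h4
  exact orderOf_eq_one_iff.1 (Nat.dvd_one.1 h4)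

end OddDeg

/-- **Induction hypothesis** in odd degree `< n`. -/
def OddBelow (n : ℕ) : Prop :=
  ∀ (G Ω : Type v) [Group G] [MulAction G Ω] [FaithfulSMul G Ω] [Finite Ω] (U : Ω → Subgroup G),
    SSplit U → (⨆ c, U c) = ⊤ → Odd (Nat.card Ω) → Nat.card Ω < n →
    ∀ a b : Ω, b ≠ a → Odd (Nat.card (Dab G a b)) ∧
      (Dab G a b = ⊥ ∨ ∃ k, Nat.card (U a) = 2 ^ k)

section

variable {G Ω : Type v} [Group G] [MulAction G Ω] [FaithfulSMul G Ω] [Finite Ω]
  {U : Ω → Subgroup G}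

omit [FaithfulSMul G Ω] in
theorem SSplit.even_U (h : SSplit U) (hodd : Odd (Nat.card Ω)) (a : Ω) :
    Even (Nat.card (U a)) := by
  rw [h.card a] at hodd
  rcases Nat.even_or_odd (Nat.card (U a)) with h2 | h2
  · exact h2
  · exact absurd hodd (Nat.not_odd_iff_even.2 h2.add_one)

theorem OddBelow.oddX (IH : OddBelow.{v} (Nat.card Ω)) (h : SSplit U) (hodd : Odd (Nat.card Ω))
    {a b : Ω} (hab : b ≠ a) {z : G} (hz : z ∈ Dab G a b) (hz1 : z ≠ 1) (hz2 : z * z = 1) :
    OddX U (zpowers z) a b := by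
  have := OddDeg.finite_of_faithful G Ω
  obtain ⟨u, hu, hu1, hu2, huz⟩ := OddDeg.exists_comm_invol (h.even_U hodd b) hz2
    (fun u hu => h.conj_of_fix hz.2 hu)
  have ha : ∀ x ∈ zpowers z, x • a = a := SSplit.fix_zpowers hz.1
  have hb : ∀ x ∈ zpowers z, x • b = b := SSplit.fix_zpowers hz.2
  have huC : u ∈ U b ⊓ centralizer ((zpowers z : Subgroup G) : Set G) :=
    ⟨hu, SSplit.mem_centralizer_zpowers.2 huz⟩
  have hC2 : 2 ∣ Nat.card (U b ⊓ centralizer ((zpowers z : Subgroup G) : Set G) : Subgroup G) := by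
    have h1 : orderOf u = 2 := orderOf_eq_prime (by rw [sq, hu2]) hu1
    have h2 := orderOf_dvd_natCard (⟨u, huC⟩ : (U b ⊓ centralizer ((zpowers z : Subgroup G) : Set G) :
      Subgroup G))
    rwa [Subgroup.orderOf_mk, h1] at h2
  have hpos : 0 < Nat.card (U b ⊓ centralizer ((zpowers z : Subgroup G) : Set G) : Subgroup G) :=
    Nat.card_pos
  have h3 := h.card_fixSub hab.symm hb ha
  have hodd' : Odd (Nat.card (fixSub Ω (zpowers z))) := by
    rw [h3]
    exact (even_iff_two_dvd.2 hC2).add_one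
  have hlt : Nat.card (fixSub Ω (zpowers z)) < Nat.card Ω := by
    apply card_fixSub_lt
    refine ⟨z, mem_zpowers z, ?_⟩
    by_contra hc
    push Not at hc
    exact hz1 (eq_of_smul_eq_smul (α := Ω) fun c => by rw [hc c, one_smul])
  have hS := h.permFix (zpowers z) (SSplit.three_of_card (by
    rw [h3]
    obtain ⟨k, hk⟩ := hC2
    omega))
  have hL := h.lift (zpowers z) hb ha hab.symm
  have hab' : (⟨a, ha⟩ : fixSub Ω (zpowers z)) ≠ ⟨b, hb⟩ := fun e =>
    hab (congrArg Subtype.val e).symm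
  obtain ⟨hT1, hT2⟩ := IH (permFix U (zpowers z)) (fixSub Ω (zpowers z)) (famPerm U (zpowers z)) hS
    (iSup_famPerm U (zpowers z)) hodd' hlt ⟨b, hb⟩ ⟨a, ha⟩ hab'
  constructor
  · intro d hd k hk
    rw [Dab_symm] at hd
    obtain ⟨x, rfl, hx⟩ := hL.exists_of_E hd
    rw [hL.K_iff]
    have h5 : x ^ 2 ^ k = 1 := hL.inj (by rw [map_pow, hk, map_one])
    refine OddDeg.eq_one_of_odd _ hT1 hx (k := k) ?_
    rw [← map_pow, h5, map_one]
  · rcases hT2 with hT2 | ⟨k, hk⟩
    · left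
      intro d hd
      rw [Dab_symm] at hd
      obtain ⟨x, rfl, hx⟩ := hL.exists_of_E hd
      rw [hT2] at hx
      rw [hL.K_iff]
      exact mem_bot.1 hx
    · right
      exact ⟨k, by rw [hL.card_P, hk]⟩

theorem SSplit.eq_top_of_normal (h : SSplit U) (hgen : (⨆ c, U c) = ⊤) {a : Ω} :
    ∀ M : Subgroup G, M.Normal → U a ≤ M → M = ⊤ := by
  intro M hM hle
  rw [eq_top_iff, ← h.normalClosure_U hgen a]
  exact Subgroup.normalClosure_le_normal hle

/-- Zassenhaus group from semiregularity. -/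
theorem SSplit.zassenhaus (h : SSplit U) (hgen : (⨆ c, U c) = ⊤) {a b : Ω} (hab : b ≠ a)
    (hsr : ∀ x ∈ Dab G a b, x ≠ 1 → ∀ u ∈ U a, x * u = u * x → u = 1) (hD : Dab G a b ≠ ⊥) :
    IsZassenhausGroup G Ω := by
  refine ⟨inferInstance, is_two_pretransitive_iff.2 fun h1 h2 => h.two h1 h2,
    h.three_fixed hab hsr, ?_, ?_⟩
  · obtain ⟨d, hd1⟩ := (Subgroup.ne_bot_iff_exists_ne_one).1 hD
    exact ⟨d, fun hc => hd1 (Subtype.ext hc), a, b, hab.symm, d.2.1, d.2.2⟩
  · intro N hN htr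
    by_contra hcon
    push Not at hcon
    have hfree : ∀ n ∈ N, n • a = a → n = 1 := by
      intro n hn hna
      have h1 : (⟨n, hn⟩ : N) ∈ stabilizer N a := hna
      rw [hcon a] at h1
      exact congrArg Subtype.val (Subgroup.mem_bot.1 h1)
    have hmove : ∃ x ∈ N, ∃ c : Ω, x • c ≠ c := by
      obtain ⟨n, hn⟩ := htr.exists_smul_eq a b
      refine ⟨n, n.2, a, ?_⟩
      have hn' : (n : G) • a = b := hn
      rw [hn']
      exact hab
    apply hD
    rw [eq_bot_iff]
    intro d hd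
    obtain ⟨n, hn, u, hu, rfl⟩ := h.exists_mul_normal hgen hN hmove a d
    have h2 : n • a = a := by
      have := hd.1
      change (n * u) • a = a at this
      rwa [mul_smul, h.fix hu] at this
    have h3 := hfree n hn h2
    subst h3
    rw [one_mul] at hd ⊢
    exact Subgroup.mem_bot.2 (h.free hab hu hd.2)

theorem SSplit.odd_end (h : SSplit U) (hgen : (⨆ c, U c) = ⊤) (hodd : Odd (Nat.card Ω)) {a b : Ω}
    (hab : b ≠ a) (hDodd : Odd (Nat.card (Dab G a b)))
    (hmu : PP1.OneClass U a b) {t : G} (ht : t ∈ U b) (ht1 : t ≠ 1) (ht2 : t * t = 1)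
    (hN : ¬ IsPrimePow (Nat.card (U a))) : Dab G a b = ⊥ := by
  classical
  have := OddDeg.finite_of_faithful G Ω
  have := Fintype.ofFinite (U a)
  have := Fintype.ofFinite Ω
  by_contra hD
  obtain ⟨w, hw⟩ := h.exists_swaps hab
  have hR := h.rankOne hab hw
  have hm := h.mu_swaps hab ht ht1
  have hmD := (mem_Wab_not_mem_Dab hab).2 hm
  have hm2 := (h.mu_invol hab ht ht1 ht2).1
  have hsol : Group.IsSolvable (Dab G a b) := Cfsg.Agent.S0205.result hDodd
  have hfree := hR.odd_deg_free hDodd (h.nil a) hsol (h.even_U hodd a)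
    (fun χ hχ hs => hR.const_of_not_primePow (h.nil a) hN hχ hs)
    (h.eq_top_of_normal hgen) hmD.1 hmD.2 hm2
  have hsrb : ∀ x ∈ Dab G a b, ∀ u ∈ U b, u ≠ 1 → x * u = u * x → x = 1 := by
    intro x hx u hu hu1 hxu
    have h1 := h.mu_comm hab hu hu1 hx hxu
    obtain ⟨d, hd, he⟩ := hmu t ht ht1 u hu hu1
    have h2 : d⁻¹ * x * d = 1 := by
      refine hfree _ (mul_mem (mul_mem (inv_mem hd) hx) hd) ?_
      rw [he] at h1
      calc d⁻¹ * x * d * mu U a b t = d⁻¹ * (x * (d * mu U a b t * d⁻¹)) * d := by group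
        _ = d⁻¹ * (d * mu U a b t * d⁻¹ * x) * d := by rw [h1]
        _ = mu U a b t * (d⁻¹ * x * d) := by group
    calc x = d * (d⁻¹ * x * d) * d⁻¹ := by group
      _ = 1 := by rw [h2]; group
  have hsra : ∀ x ∈ Dab G a b, x ≠ 1 → ∀ u ∈ U a, x * u = u * x → u = 1 := by
    intro x hx hx1 u hu hxu
    by_contra hu1
    apply hx1
    have h1 : w * x * w⁻¹ ∈ Dab G a b := by
      constructor
      · change (w * x * w⁻¹) • a = a
        rw [mul_smul, mul_smul, inv_smul_eq_iff.2 hw.2.symm, hx.2, hw.2]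
      · change (w * x * w⁻¹) • b = b
        rw [mul_smul, mul_smul, inv_smul_eq_iff.2 hw.1.symm, hx.1, hw.1]
    have h2 := hsrb _ h1 (w * u * w⁻¹) (h.conj_of_eq hw.1 hu)
      (fun hc => hu1 (conj_eq_one_iff.1 hc)) (by
        calc w * x * w⁻¹ * (w * u * w⁻¹) = w * (x * u) * w⁻¹ := by group
          _ = w * (u * x) * w⁻¹ := by rw [hxu]
          _ = _ := by group)
    exact conj_eq_one_iff.1 h2
  have hZ := h.zassenhaus hgen hab hsra hD
  have hodd' : Odd (Fintype.card Ω) := by rwa [← Nat.card_eq_fintype_card]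
  have hsimple : IsSimpleGroup G := Cfsg.Agent.S0338.result hZ hodd'
  have hpp := Cfsg.Agent.S0346.result hZ
  apply hN
  rw [← Nat.card_eq_fintype_card, h.card a, Nat.add_sub_cancel] at hpp
  exact hpp

/-- **Induction step.** -/
theorem SSplit.odd_step (IH : OddBelow.{v} (Nat.card Ω)) (h : SSplit U) (hgen : (⨆ c, U c) = ⊤)
    (hodd : Odd (Nat.card Ω)) {a b : Ω} (hab : b ≠ a) :
    Odd (Nat.card (Dab G a b)) ∧ (Dab G a b = ⊥ ∨ ∃ k, Nat.card (U a) = 2 ^ k) := by
  classical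
  have := OddDeg.finite_of_faithful G Ω
  have := Fintype.ofFinite (U a)
  by_cases h2 : ∃ k, Nat.card (U a) = 2 ^ k
  · refine ⟨?_, Or.inr h2⟩
    obtain ⟨k, hk⟩ := h2
    obtain ⟨w, hw⟩ := h.exists_swaps hab
    have h3 := ModPTwo.not_dvd_card_D (h.rankOne hab hw) (h.closure_mu' hgen hab hw) Nat.prime_two
      (h.pos_of_card hk) hk
    rw [Nat.odd_iff]
    omega
  · have hUev := h.even_U hodd a
    have hN : ¬ IsPrimePow (Nat.card (U a)) := by
      intro hc
      obtain ⟨p, k, hp, hk, he⟩ := (isPrimePow_nat_iff _).1 hc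
      apply h2
      have h3 : 2 ∣ p ^ k := by rw [he]; exact even_iff_two_dvd.1 hUev
      have h4 := (Nat.prime_dvd_prime_iff_eq Nat.prime_two hp).1
        (Nat.Prime.dvd_of_dvd_pow Nat.prime_two h3)
      exact ⟨k, by rw [← he, ← h4]⟩
    obtain ⟨w, hw⟩ := h.exists_swaps hab
    have hmu : PP1.OneClass U a b := h.oneClass hab
      (fun χ hχ hs => (h.rankOne hab hw).const_of_not_primePow (h.nil a) hN hχ hs)
    have hcard : Nat.card (U b) = Nat.card (U a) := by
      have h3 := h.card a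
      have h4 := h.card b
      omega
    have hUb : 2 ∣ Nat.card (U b) := by rw [hcard]; exact even_iff_two_dvd.1 hUev
    obtain ⟨t, ht, hto, htc⟩ := OddOrderLocal.CNNil.exists_central_orderOf_subgroup (h.nil b)
      Nat.prime_two hUb
    have ht1 : t ≠ 1 := by
      rintro rfl
      rw [orderOf_one] at hto
      norm_num at hto
    have ht2 : t * t = 1 := by rw [← sq, ← hto]; exact pow_orderOf_eq_one t
    have hDodd : Odd (Nat.card (Dab G a b)) := by
      apply OddDeg.odd_of_no_invol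
      intro z hz hz2
      exact h.no_invol_Dab hab hgen hmu ht ht1 ht2 (fun v hv => htc v hv)
        (fun z hz hz1 hz2 _ => IH.oddX h hodd hab hz hz1 hz2) (by rw [hcard]; exact h2) hz hz2
    exact ⟨hDodd, Or.inl (h.odd_end hgen hodd hab hDodd hmu ht ht1 ht2 hN)⟩

end

theorem oddBelow (n : ℕ) : OddBelow.{v} n := by
  induction n with
  | zero => intro G Ω _ _ _ _ U _ _ _ h; exact absurd h (Nat.not_lt_zero _)
  | succ n ih =>
    intro G Ω _ _ _ _ U h hgen hodd hcard a b hab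
    rcases Nat.lt_succ_iff_lt_or_eq.1 hcard with hlt | heq
    · exact ih G Ω U h hgen hodd hlt a b hab
    · exact h.odd_step (by rw [heq]; exact ih) hgen hodd hab

/-- **Strongly split 2-transitive groups of odd degree**: `|G_ab|` is odd, and `G_ab = 1` or `|U a|` is
a power of two. -/
theorem SSplit.odd_degree {G Ω : Type v} [Group G] [MulAction G Ω] [FaithfulSMul G Ω] [Finite Ω]
    {U : Ω → Subgroup G} (h : SSplit U) (hgen : (⨆ c, U c) = ⊤) (hodd : Odd (Nat.card Ω))
    {a b : Ω} (hab : b ≠ a) :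
    Odd (Nat.card (Dab G a b)) ∧ (Dab G a b = ⊥ ∨ ∃ k, Nat.card (U a) = 2 ^ k) :=
  oddBelow (Nat.card Ω + 1) G Ω U h hgen hodd (Nat.lt_succ_self _) a b hab

end Cfsg.Agent.HKS
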