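import Cfsg.Agent.HKS.Final
import Cfsg.Agent.KantorSeitz.Odd
import Cfsg.Agent.AschCrit.Final
import Cfsg.Agent.AschCrit.CommThree
import Cfsg.Agent.StrongEmb.Main
import Cfsg.Agent.S0205
import Cfsg.Agent.S0215
import Cfsg.Agent.S1136

/-!
# S1146 in odd degree
-/

set_option autoImplicit false

namespace Cfsg.Agent.HKS.OddGoalAlt

open Subgroup MulAction Cfsg.Agent.KantorSeitz
open Cfsg.Agent.AschCrit.Basic Cfsg.Agent.AschCrit.NonIso Cfsg.Agent.AschCrit.InductFaithful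
open Cfsg.Agent.AschCrit.BGroup Cfsg.Agent.AschCrit.Closed
open Cfsg.Agent.StrongEmb.TwoRank Cfsg.Agent.TwoFusion.StronglyEmbeddedBasic

theorem goalOddDegree.{u} : Final.GoalOddDegree.{u} := by
  intro G _ _ _ P h1 hsplit hodd
  obtain ⟨N, b, hba, hNB, hNn, hNnil, hNs, hKS, hNa, hfaith, h3, hsta, hfb⟩ :=
    FromBN.exists_KS P h1 hsplit
  set a : G ⧸ P.B := ((1 : G) : G ⧸ P.B) with ha
  obtain ⟨z, hz⟩ := hKS.exists_setup hodd hba.symm
  have hf : ∀ g : G, (∀ c : G ⧸ P.B, g • c = c) → g = 1 := fun g hg =>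
    KS.eq_one_of_fix (Ω := G ⧸ P.B) hg
  have hn : NonIso z := AschCrit.Frame.nonIso_of_simple hz hf
  have hs : AschCrit.Frame.StepHolds.{u} :=
    Cfsg.Agent.AschCrit.Final.stepHolds (fun _ _ _ hK => Cfsg.Agent.S0205.result hK)
      (fun X _ _ => Cfsg.Agent.StrongEmb.Main.bender X) Cfsg.Agent.AschCrit.CommThree.caseThree
  have hbad := hs G (G ⧸ P.B) z (AschCrit.Frame.noBadBelow_of_step hs _) inferInstance hz hf hn
  have hsim : IsSimpleGroup (AschCrit.InductFaithful.L z) := isSimpleGroup_closure hz hf hn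
  have hLtop : AschCrit.InductFaithful.L z = ⊤ := by
    rcases (Subgroup.normalClosure_normal (s := ({z} : Set G))).eq_bot_or_eq_top with h | h
    · exfalso
      have h4 := AschCrit.InductFaithful.mem_L (IsConj.refl z)
      change z ∈ Subgroup.normalClosure ({z} : Set G) at h4
      rw [h, mem_bot] at h4
      have := hz.invol
      rw [h4, orderOf_one] at this
      omega
    · exact h
  have hff : FaithfulSMul (AschCrit.InductFaithful.L z) (G ⧸ P.B) := by
    refine ⟨fun {g₁ g₂} hg => ?_⟩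
    have h1 : ((g₂ : G)⁻¹ * (g₁ : G)) = 1 := by
      apply hf
      intro a
      rw [mul_smul, inv_smul_eq_iff]
      exact hg a
    exact Subtype.ext (inv_mul_eq_one.mp h1).symm
  have h2 : ∃ x y : AschCrit.InductFaithful.L z, x ≠ 1 ∧ y ≠ 1 ∧ x ≠ y ∧ x * x = 1 ∧ y * y = 1 ∧
      x * y = y * x := by
    obtain ⟨f, hf1, hf2, hf3⟩ := hn
    have hcp : CommPair (AschCrit.InductFaithful.L z) := commPair_subgroup
      (AschCrit.InductFaithful.mem_L (IsConj.refl z)) (AschCrit.InductFaithful.mem_L hf1) hz.invol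
      (hz.orderOf_eq hf1) (Ne.symm hf3) hf2
    exact hcp.exists_sq
  obtain ⟨t, Q, hR, -, -⟩ := exists_rankOne hz hf hn (fun v _ => hbad v)
    (Cfsg.Agent.StrongEmb.Main.bender _) a
  obtain ⟨M, hMn, hMo, hM⟩ := Cfsg.Agent.S1136.result hR h2
  have hMtop : M = ⊤ := by
    rcases hMn.eq_bot_or_eq_top with h | h
    · exfalso
      rw [h, index_bot] at hMo
      have h4 : orderOf (⟨z, AschCrit.InductFaithful.mem_L (IsConj.refl z)⟩ :
          AschCrit.InductFaithful.L z) = 2 := by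
        rw [Subgroup.orderOf_mk]; exact hz.invol
      have h5 := orderOf_dvd_natCard (⟨z, AschCrit.InductFaithful.mem_L (IsConj.refl z)⟩ :
          AschCrit.InductFaithful.L z)
      rw [h4] at h5
      exact (Nat.not_even_iff_odd.2 hMo) (even_iff_two_dvd.2 h5)
    · exact h
  have e : G ≃* M := by
    refine (topEquiv (G := G)).symm.trans ((MulEquiv.subgroupCongr hLtop.symm).trans ?_)
    exact (topEquiv (G := AschCrit.InductFaithful.L z)).symm.trans
      (MulEquiv.subgroupCongr hMtop.symm)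
  rcases hM with ⟨F, i1, i2, -, ⟨f⟩⟩ | hSz | ⟨F, i1, i2, n, -, hF, ⟨f⟩⟩
  · exact Or.inl ⟨F, i1, i2, ⟨e.trans f⟩⟩
  · refine Or.inr (Or.inr (Or.inl ?_))
    obtain ⟨F, i1, i2, m, hm, hF, ⟨f⟩⟩ := hSz
    exact ⟨F, i1, i2, m, hm, hF, ⟨e.trans f⟩⟩
  · exact Or.inr (Or.inl ⟨F, i1, i2, 2 ^ n, hF, ⟨e.trans f⟩⟩)

end Cfsg.Agent.HKS.OddGoalAlt
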