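import Cfsg.Agent.HKS.PGammaL

/-!
# The determinant class on `N_G(X)` for type `PSL(2,q)`

For `P : PG U X a b φ`:

* `PG.dab`, `PG.swap` : an element of `N_G(X)` fixing `a` and `b` acts as `x ↦ μ σ(x)`, an element
  interchanging `a` and `b` as `x ↦ ν / σ(x)`.
* `PG.cls : normalizer X →* ℤˣ` : `1` iff `g` acts as `x ↦ A σ(x)` with `det A` a square.
-/

set_option autoImplicit false
set_option linter.unusedSectionVars false

namespace Cfsg.Agent.HKS.PGammaL

open Subgroup MulAction OnePoint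
open Matrix (SpecialLinearGroup)
open Cfsg.Agent.SmallSimple.PSL2Moebius

section sq

variable {F : Type*} [Field F] [Finite F]

theorem isSquare_mul_of_not {x y : F} (hx : ¬ IsSquare x) (hy : ¬ IsSquare y) : IsSquare (x * y) := by
  classical
  have := Fintype.ofFinite F
  have hx0 : x ≠ 0 := by rintro rfl; exact hx (IsSquare.zero)
  have hy0 : y ≠ 0 := by rintro rfl; exact hy (IsSquare.zero)
  by_cases h2 : ringChar F = 2
  · exact absurd (FiniteField.isSquare_of_char_two h2 x) hx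
  · have h1 := (quadraticChar_neg_one_iff_not_isSquare (F := F)).2 hx
    have h3 := (quadraticChar_neg_one_iff_not_isSquare (F := F)).2 hy
    rw [← quadraticChar_one_iff_isSquare (mul_ne_zero hx0 hy0), map_mul, h1, h3]
    norm_num

omit [Finite F] in
theorem isSquare_of_mul_left {x y : F} (hx0 : x ≠ 0) (hx : IsSquare x) (h : IsSquare (x * y)) :
    IsSquare y := by
  have := h.div hx
  rwa [mul_div_cancel_left₀ _ hx0] at this

theorem isSquare_mul_iff' {x y : F} (hx : x ≠ 0) (hy : y ≠ 0) :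
    IsSquare (x * y) ↔ (IsSquare x ↔ IsSquare y) := by
  by_cases h1 : IsSquare x
  · constructor
    · intro h
      exact ⟨fun _ => isSquare_of_mul_left hx h1 h, fun _ => h1⟩
    · intro h
      exact h1.mul (h.1 h1)
  · by_cases h2 : IsSquare y
    · constructor
      · intro h
        exact absurd (isSquare_of_mul_left hy h2 (by rwa [mul_comm] at h)) h1
      · intro h
        exact absurd (h.2 h2) h1
    · exact ⟨fun _ => ⟨fun h => absurd h h1, fun h => absurd h h2⟩, fun _ => isSquare_mul_of_not h1 h2⟩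

omit [Finite F] in
theorem isSquare_ringEquiv (σ : F ≃+* F) {x : F} : IsSquare (σ x) ↔ IsSquare x := by
  constructor
  · intro h
    have := h.map σ.symm
    rwa [RingEquiv.symm_apply_apply] at this
  · intro h
    exact h.map σ

end sq

section gl

variable {F : Type*} [Field F] [DecidableEq F]

theorem gl_det (A : GL (Fin 2) F) : A.1.det = A.1 0 0 * A.1 1 1 - A.1 0 1 * A.1 1 0 :=
  Matrix.det_fin_two _

theorem gl_det_ne (A : GL (Fin 2) F) : A.1.det ≠ 0 := A.det_ne_zero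

theorem gl_coe {A : GL (Fin 2) F} {x : F} (h : A.1 1 0 * x + A.1 1 1 ≠ 0) :
    A • (x : OnePoint F) = (((A.1 0 0 * x + A.1 0 1) / (A.1 1 0 * x + A.1 1 1) : F) : OnePoint F) := by
  rw [smul_some_eq_ite]
  exact if_neg h

theorem gl_coe_inf {A : GL (Fin 2) F} {x : F} (h : A.1 1 0 * x + A.1 1 1 = 0) :
    A • (x : OnePoint F) = ∞ := by
  rw [smul_some_eq_ite]
  exact if_pos h

theorem gl_inf {A : GL (Fin 2) F} (h : A.1 1 0 ≠ 0) :
    A • (∞ : OnePoint F) = ((A.1 0 0 / A.1 1 0 : F) : OnePoint F) := by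
  rw [smul_infty_eq_ite]
  exact if_neg h

theorem gl_dab {A : GL (Fin 2) F} (h1 : A • (∞ : OnePoint F) = ∞)
    (h2 : A • ((0 : F) : OnePoint F) = ((0 : F) : OnePoint F)) :
    ∃ μ : F, μ ≠ 0 ∧ A.1.det = μ * (A.1 1 1) ^ 2 ∧ A.1 1 1 ≠ 0 ∧
      ∀ x : F, A • (x : OnePoint F) = ((μ * x : F) : OnePoint F) := by
  have h10 : A.1 1 0 = 0 := smul_infty_eq_self_iff.1 h1
  have hd := gl_det_ne A
  rw [gl_det, h10, mul_zero, sub_zero] at hd
  have h11 : A.1 1 1 ≠ 0 := right_ne_zero_of_mul hd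
  have h00 : A.1 0 0 ≠ 0 := left_ne_zero_of_mul hd
  rw [gl_coe (by rwa [mul_zero, zero_add]), coe_eq_coe, h10] at h2
  have h01 : A.1 0 1 = 0 := by
    rw [mul_zero, zero_mul, zero_add, zero_add, div_eq_zero_iff] at h2
    exact h2.resolve_right h11
  refine ⟨A.1 0 0 / A.1 1 1, div_ne_zero h00 h11, ?_, h11, fun x => ?_⟩
  · rw [gl_det, h10, mul_zero, sub_zero]
    field_simp
  · rw [gl_coe (by rwa [h10, zero_mul, zero_add]), coe_eq_coe, h10, h01, zero_mul, zero_add, add_zero]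
    field_simp

theorem gl_swap {A : GL (Fin 2) F} (h1 : A • (∞ : OnePoint F) = ((0 : F) : OnePoint F))
    (h2 : A • ((0 : F) : OnePoint F) = ∞) :
    ∃ ν : F, ν ≠ 0 ∧ A.1.det = -ν * (A.1 1 0) ^ 2 ∧ A.1 1 0 ≠ 0 ∧
      ∀ x : F, x ≠ 0 → A • (x : OnePoint F) = ((ν / x : F) : OnePoint F) := by
  have h10 : A.1 1 0 ≠ 0 := by
    intro h
    rw [smul_infty_eq_self_iff.2 h] at h1
    exact infty_ne_coe _ h1
  have h00 : A.1 0 0 = 0 := by
    rw [gl_inf h10, coe_eq_coe, div_eq_zero_iff] at h1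
    exact h1.resolve_right h10
  have h11 : A.1 1 1 = 0 := by
    by_contra h
    rw [gl_coe (by rwa [mul_zero, zero_add])] at h2
    exact coe_ne_infty _ h2
  have hd := gl_det_ne A
  rw [gl_det, h00, zero_mul, zero_sub, neg_ne_zero] at hd
  have h01 : A.1 0 1 ≠ 0 := left_ne_zero_of_mul hd
  refine ⟨A.1 0 1 / A.1 1 0, div_ne_zero h01 h10, ?_, h10, fun x hx => ?_⟩
  · rw [gl_det, h00, zero_mul, zero_sub]
    field_simp
  · rw [gl_coe (by rw [h11, add_zero]; exact mul_ne_zero h10 hx), coe_eq_coe, h11, h00, zero_mul,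
      zero_add, add_zero]
    field_simp

/-- The class of the determinant of a semilinear map is well defined. -/
theorem isSquare_det_iff [Finite F] {A B : GL (Fin 2) F} {σ τ : F ≃+* F}
    (h : ∀ p : OnePoint F, A • OnePoint.map σ p = B • OnePoint.map τ p) :
    IsSquare A.1.det ↔ IsSquare B.1.det := by
  have hC : ∀ p : OnePoint F, (B⁻¹ * A) • OnePoint.map σ p = OnePoint.map τ p := by
    intro p
    rw [mul_smul, h p, inv_smul_smul]
  have h0 := hC ((0 : F) : OnePoint F)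
  have h1 := hC ((1 : F) : OnePoint F)
  have hi := hC ∞
  rw [OnePoint.map_some, OnePoint.map_some, map_zero, map_zero] at h0
  rw [OnePoint.map_some, OnePoint.map_some, map_one, map_one] at h1
  rw [OnePoint.map_infty, OnePoint.map_infty] at hi
  obtain ⟨μ, hμ, hd, h11, hx⟩ := gl_dab hi h0
  rw [hx, coe_eq_coe, mul_one] at h1
  rw [h1, one_mul] at hd
  have h2 : A.1.det = B.1.det * (B⁻¹ * A).1.det := by
    have h3 : A = B * (B⁻¹ * A) := by group
    have h4 : A.1 = B.1 * (B⁻¹ * A).1 := congrArg Units.val h3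
    rw [← Matrix.det_mul, ← h4]
  rw [h2, isSquare_mul_iff' (gl_det_ne B) (gl_det_ne _), hd]
  constructor
  · intro h
    exact h.2 ⟨_, pow_two _⟩
  · intro h
    exact ⟨fun _ => ⟨_, pow_two _⟩, fun _ => h⟩

theorem gl_map_det (A : GL (Fin 2) F) (σ : F ≃+* F) : (A.map (σ : F →+* F)).1.det = σ A.1.det := by
  have := Matrix.GeneralLinearGroup.map_det (σ : F →+* F) A
  exact congrArg Units.val this

end gl

section cls

variable {G Ω : Type*} [Group G] [MulAction G Ω] {U : Ω → Subgroup G} {X : Subgroup G} {a b : Ω}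
variable {F : Type*} [Field F] [DecidableEq F] {φ : OnePoint F → Ω}

/-- `g` acts on the fixed points of `X` as `x ↦ A σ(x)`. -/
def Acts (φ : OnePoint F → Ω) (g : G) (A : GL (Fin 2) F) (σ : F ≃+* F) : Prop :=
  ∀ p, g • φ p = φ (A • OnePoint.map σ p)

theorem Acts.mul {g h : G} {A B : GL (Fin 2) F} {σ τ : F ≃+* F} (hg : Acts φ g A σ)
    (hh : Acts φ h B τ) : Acts φ (g * h) (A * B.map (σ : F →+* F)) (τ.trans σ) := by
  intro p
  rw [mul_smul, hh, hg, mul_smul]
  congr 2
  have h1 := OnePoint.map_smul (σ : F →+* F) B (OnePoint.map τ p)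
  refine h1.trans ?_
  congr 1
  induction p using OnePoint.rec with
  | infty => rfl
  | coe x => rfl

theorem Acts.one : Acts φ (1 : G) 1 (RingEquiv.refl F) := by
  intro p
  rw [one_smul, one_smul]
  induction p using OnePoint.rec with
  | infty => rfl
  | coe x => rfl

theorem Acts.isSquare_iff [Finite F] (hφ : Function.Injective φ) {g : G} {A B : GL (Fin 2) F}
    {σ τ : F ≃+* F} (hA : Acts φ g A σ) (hB : Acts φ g B τ) :
    IsSquare A.1.det ↔ IsSquare B.1.det :=
  isSquare_det_iff (σ := σ) (τ := τ) fun p => hφ (by rw [← hA, ← hB])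

theorem PG.exists_acts (P : PG U X a b φ) {g : G} (hg : g ∈ normalizer (X : Set G)) :
    ∃ A σ, Acts φ g A σ := P.semi g hg

theorem PG.acts_dab (P : PG U X a b φ) {g : G} {A : GL (Fin 2) F} {σ : F ≃+* F}
    (h : Acts φ g A σ) (ha : g • a = a) (hb : g • b = b) :
    ∃ μ : F, μ ≠ 0 ∧ (IsSquare A.1.det ↔ IsSquare μ) ∧
      ∀ x : F, g • φ x = φ ((μ * σ x : F) : OnePoint F) := by
  have h1 : A • (∞ : OnePoint F) = ∞ := by
    apply P.inj
    have := h ∞
    rw [OnePoint.map_infty, P.inf, ha] at this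
    rw [← this, P.inf]
  have h2 : A • ((0 : F) : OnePoint F) = ((0 : F) : OnePoint F) := by
    apply P.inj
    have := h ((0 : F) : OnePoint F)
    rw [OnePoint.map_some, map_zero, P.zero, hb] at this
    rw [← this, P.zero]
  obtain ⟨μ, hμ, hd, h11, hx⟩ := gl_dab h1 h2
  refine ⟨μ, hμ, ?_, fun x => by rw [h, OnePoint.map_some, hx]⟩
  rw [hd]
  constructor
  · intro h3
    exact isSquare_of_mul_left (pow_ne_zero 2 h11) ⟨_, pow_two _⟩ (by rwa [mul_comm] at h3)
  · intro h3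
    exact h3.mul ⟨_, pow_two _⟩

theorem PG.acts_swap (P : PG U X a b φ) {g : G} {A : GL (Fin 2) F} {σ : F ≃+* F}
    (h : Acts φ g A σ) (hs : Swaps g a b) :
    ∃ ν : F, ν ≠ 0 ∧ (IsSquare A.1.det ↔ IsSquare (-ν)) ∧
      ∀ x : F, x ≠ 0 → g • φ x = φ ((ν / σ x : F) : OnePoint F) := by
  have h1 : A • (∞ : OnePoint F) = ((0 : F) : OnePoint F) := by
    apply P.inj
    have := h ∞
    rw [OnePoint.map_infty, P.inf, hs.1] at this
    rw [← this, P.zero]
  have h2 : A • ((0 : F) : OnePoint F) = ∞ := by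
    apply P.inj
    have := h ((0 : F) : OnePoint F)
    rw [OnePoint.map_some, map_zero, P.zero, hs.2] at this
    rw [← this, P.inf]
  obtain ⟨ν, hν, hd, h10, hx⟩ := gl_swap h1 h2
  refine ⟨ν, hν, ?_, fun x hx0 => by
    rw [h, OnePoint.map_some, hx _ ((map_ne_zero σ).2 hx0)]⟩
  rw [hd]
  constructor
  · intro h3
    exact isSquare_of_mul_left (pow_ne_zero 2 h10) ⟨_, pow_two _⟩ (by rwa [mul_comm] at h3)
  · intro h3
    exact h3.mul ⟨_, pow_two _⟩

/-- An element of `N_G(X)` fixing `a` and `b` acts as `x ↦ μ σ(x)`. -/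
theorem PG.dab (P : PG U X a b φ) {g : G} (hg : g ∈ normalizer (X : Set G)) (ha : g • a = a)
    (hb : g • b = b) :
    ∃ (μ : F) (_ : μ ≠ 0) (σ : F ≃+* F), ∀ x : F, g • φ x = φ ((μ * σ x : F) : OnePoint F) := by
  obtain ⟨A, σ, h⟩ := P.exists_acts hg
  obtain ⟨μ, hμ, -, hx⟩ := P.acts_dab h ha hb
  exact ⟨μ, hμ, σ, hx⟩

/-- An element of `N_G(X)` interchanging `a` and `b` acts as `x ↦ ν / σ(x)`. -/
theorem PG.swap (P : PG U X a b φ) {g : G} (hg : g ∈ normalizer (X : Set G)) (hs : Swaps g a b) :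
    ∃ (ν : F) (_ : ν ≠ 0) (σ : F ≃+* F), ∀ x : F, x ≠ 0 → g • φ x = φ ((ν / σ x : F) : OnePoint F) := by
  obtain ⟨A, σ, h⟩ := P.exists_acts hg
  obtain ⟨ν, hν, -, hx⟩ := P.acts_swap h hs
  exact ⟨ν, hν, σ, hx⟩

/-- The class of the determinant. -/
noncomputable def PG.cls [Finite F] (P : PG U X a b φ) : normalizer (X : Set G) →* ℤˣ := by
  classical
  exact
  { toFun := fun g => if IsSquare (P.exists_acts g.2).choose.1.det then 1 else -1
    map_one' := by
      obtain ⟨σ, h⟩ := (P.exists_acts (1 : normalizer (X : Set G)).2).choose_spec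
      rw [if_pos]
      rw [Acts.isSquare_iff P.inj h Acts.one]
      exact ⟨1, by simp⟩
    map_mul' := by
      intro g h
      obtain ⟨σ, hg⟩ := (P.exists_acts g.2).choose_spec
      obtain ⟨τ, hh⟩ := (P.exists_acts h.2).choose_spec
      obtain ⟨ρ, hgh⟩ := (P.exists_acts (g * h).2).choose_spec
      have h1 := Acts.isSquare_iff P.inj hgh (hg.mul hh)
      have h2 : ((P.exists_acts g.2).choose * (P.exists_acts h.2).choose.map (σ : F →+* F)).1.det =
          (P.exists_acts g.2).choose.1.det * σ (P.exists_acts h.2).choose.1.det := by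
        rw [← gl_map_det]
        exact Matrix.det_mul _ _
      rw [h2, isSquare_mul_iff' (gl_det_ne _) ((map_ne_zero σ).2 (gl_det_ne _)),
        isSquare_ringEquiv] at h1
      by_cases h3 : IsSquare (P.exists_acts g.2).choose.1.det
      · by_cases h4 : IsSquare (P.exists_acts h.2).choose.1.det
        · rw [if_pos (h1.2 ⟨fun _ => h4, fun _ => h3⟩), if_pos h3, if_pos h4, one_mul]
        · rw [if_neg (fun h5 => h4 ((h1.1 h5).1 h3)), if_pos h3, if_neg h4, one_mul]
      · by_cases h4 : IsSquare (P.exists_acts h.2).choose.1.det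
        · rw [if_neg (fun h5 => h3 ((h1.1 h5).2 h4)), if_neg h3, if_pos h4, mul_one]
        · rw [if_pos (h1.2 ⟨fun h5 => absurd h5 h3, fun h5 => absurd h5 h4⟩), if_neg h3, if_neg h4]
          rfl }

variable [Finite F] (P : PG U X a b φ)

theorem PG.cls_eq_one_iff {g : normalizer (X : Set G)} {A : GL (Fin 2) F} {σ : F ≃+* F}
    (h : Acts φ (g : G) A σ) : P.cls g = 1 ↔ IsSquare A.1.det := by
  classical
  obtain ⟨τ, hτ⟩ := (P.exists_acts g.2).choose_spec
  rw [← Acts.isSquare_iff P.inj hτ h]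
  show (if IsSquare (P.exists_acts g.2).choose.1.det then (1 : ℤˣ) else -1) = 1 ↔ _
  split_ifs with h1
  · exact ⟨fun _ => h1, fun _ => rfl⟩
  · exact ⟨fun h2 => absurd h2 (by decide), fun h2 => absurd h2 h1⟩

theorem PG.cls_eq_neg_iff {g : normalizer (X : Set G)} {A : GL (Fin 2) F} {σ : F ≃+* F}
    (h : Acts φ (g : G) A σ) : P.cls g = -1 ↔ ¬ IsSquare A.1.det := by
  rw [← P.cls_eq_one_iff h]
  rcases Int.units_eq_one_or (P.cls g) with h1 | h1 <;> rw [h1] <;> decide

theorem PG.cls_genFix {g : normalizer (X : Set G)} (hg : (g : G) ∈ genFix U X) : P.cls g = 1 := by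
  obtain ⟨A, hA⟩ := P.psl g hg
  have h1 : Acts φ (g : G) (Matrix.SpecialLinearGroup.toGL A) (RingEquiv.refl F) := by
    intro p
    rw [hA]
    congr 1
    show Matrix.SpecialLinearGroup.toGL A • p = _
    congr 1
    induction p using OnePoint.rec with
    | infty => rfl
    | coe x => rfl
  rw [P.cls_eq_one_iff h1]
  have h2 : (Matrix.SpecialLinearGroup.toGL A).1.det = 1 := A.2
  rw [h2]
  exact ⟨1, by simp⟩

theorem PG.cls_kerFix {g : normalizer (X : Set G)} (hg : (g : G) ∈ kerFix Ω X) : P.cls g = 1 := by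
  have h1 : Acts φ (g : G) 1 (RingEquiv.refl F) := by
    intro p
    rw [one_smul, hg _ ((P.mem _).2 ⟨p, rfl⟩)]
    congr 1
    induction p using OnePoint.rec with
    | infty => rfl
    | coe x => rfl
  rw [P.cls_eq_one_iff h1]
  exact ⟨1, by simp⟩

/-- `g` fixing `a` and `b` acts as `x ↦ μ σ(x)`; its class is that of `μ`. -/
theorem PG.cls_dab {g : normalizer (X : Set G)} (ha : (g : G) • a = a) (hb : (g : G) • b = b) :
    ∃ (μ : F) (_ : μ ≠ 0) (σ : F ≃+* F), (∀ x : F, (g : G) • φ x = φ ((μ * σ x : F) : OnePoint F)) ∧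
      (P.cls g = 1 ↔ IsSquare μ) := by
  obtain ⟨A, σ, h⟩ := P.exists_acts g.2
  obtain ⟨μ, hμ, h1, hx⟩ := P.acts_dab h ha hb
  exact ⟨μ, hμ, σ, hx, by rw [P.cls_eq_one_iff h, h1]⟩

/-- `g` interchanging `a` and `b` acts as `x ↦ ν / σ(x)`; its class is that of `-ν`. -/
theorem PG.cls_swap {g : normalizer (X : Set G)} (hs : Swaps (g : G) a b) :
    ∃ (ν : F) (_ : ν ≠ 0) (σ : F ≃+* F),
      (∀ x : F, x ≠ 0 → (g : G) • φ x = φ ((ν / σ x : F) : OnePoint F)) ∧
      (P.cls g = 1 ↔ IsSquare (-ν)) := by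
  obtain ⟨A, σ, h⟩ := P.exists_acts g.2
  obtain ⟨ν, hν, h1, hx⟩ := P.acts_swap h hs
  exact ⟨ν, hν, σ, hx, by rw [P.cls_eq_one_iff h, h1]⟩

end cls

end Cfsg.Agent.HKS.PGammaL
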