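import Mathlib

/-!
# Involutions of `PΓL(2, F)` acting on the projective line, `F` a finite field of odd order

`π x = A • σ(x)` on `OnePoint F`, `π² = 1`: fixed point free involutions are linear of trace `0`
with `-det A` a nonsquare; linear ones with a fixed point have exactly two of them and `-det A` is
a square; for `σ ≠ 1` we have `|F| = r²`, `r + 1` fixed points and `det A` is a square.
-/

set_option autoImplicit false

namespace Cfsg.Agent.HKS.PGammaInv

open Matrix OnePoint

variable {F : Type*} [Field F]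

theorem two_ne [Fintype F] (hF : Odd (Fintype.card F)) : (2 : F) ≠ 0 := by
  apply Ring.two_ne_zero
  intro h
  have h1 := FiniteField.even_card_iff_char_two.1 h
  rw [Nat.odd_iff] at hF
  omega

section Basic

variable [DecidableEq F] {π : Equiv.Perm (OnePoint F)} {A : GL (Fin 2) F} {σ : F ≃+* F}

/-- The square of `π`. -/
theorem sq_apply (h : ∀ x, π x = A • OnePoint.map σ x) (x : OnePoint F) :
    π (π x) = (A * GeneralLinearGroup.map (σ : F →+* F) A) • OnePoint.map (fun y => σ (σ y)) x := by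
  rw [h (π x), h x, mul_smul]
  congr 1
  have h1 := OnePoint.map_smul (σ : F →+* F) A (OnePoint.map σ x)
  have h2 : OnePoint.map σ (A • OnePoint.map σ x) =
      OnePoint.map (σ : F →+* F) (A • OnePoint.map σ x) := rfl
  rw [h2, h1]
  congr 1
  cases x with
  | infty => rfl
  | coe x => rfl

/-- `A σ(A) = κ` and `σ² = 1`. -/
theorem scal (h : ∀ x, π x = A • OnePoint.map σ x) (h2 : ∀ x, π (π x) = x) :
    (∀ x, σ (σ x) = x) ∧ A 0 0 * σ (A 0 1) + A 0 1 * σ (A 1 1) = 0 ∧
      A 1 0 * σ (A 0 0) + A 1 1 * σ (A 1 0) = 0 ∧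
      A 0 0 * σ (A 0 0) + A 0 1 * σ (A 1 0) = A 1 0 * σ (A 0 1) + A 1 1 * σ (A 1 1) ∧
      A 0 0 * σ (A 0 0) + A 0 1 * σ (A 1 0) ≠ 0 := by
  set B : GL (Fin 2) F := A * GeneralLinearGroup.map (σ : F →+* F) A with hB
  have h3 : ∀ x, B • OnePoint.map (fun y => σ (σ y)) x = x := fun x => by
    rw [← sq_apply h, h2]
  have e00 : B 0 0 = A 0 0 * σ (A 0 0) + A 0 1 * σ (A 1 0) := by
    simp [hB, Matrix.mul_apply, Fin.sum_univ_two]
  have e01 : B 0 1 = A 0 0 * σ (A 0 1) + A 0 1 * σ (A 1 1) := by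
    simp [hB, Matrix.mul_apply, Fin.sum_univ_two]
  have e10 : B 1 0 = A 1 0 * σ (A 0 0) + A 1 1 * σ (A 1 0) := by
    simp [hB, Matrix.mul_apply, Fin.sum_univ_two]
  have e11 : B 1 1 = A 1 0 * σ (A 0 1) + A 1 1 * σ (A 1 1) := by
    simp [hB, Matrix.mul_apply, Fin.sum_univ_two]
  have hi := h3 ∞
  rw [OnePoint.map_infty, smul_infty_eq_self_iff] at hi
  have hdet : (B : Matrix (Fin 2) (Fin 2) F).det ≠ 0 := B.det_ne_zero
  rw [det_fin_two, hi, mul_zero, sub_zero] at hdet
  have h00 : B 0 0 ≠ 0 := left_ne_zero_of_mul hdet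
  have h11 : B 1 1 ≠ 0 := right_ne_zero_of_mul hdet
  have h4 : ∀ x : F, B 0 0 * σ (σ x) + B 0 1 = x * B 1 1 := by
    intro x
    have hx := h3 (x : OnePoint F)
    rw [OnePoint.map_some, smul_some_eq_ite, hi, zero_mul, zero_add, if_neg h11, coe_eq_coe,
      div_eq_iff h11] at hx
    exact hx
  have h5 := h4 0
  rw [map_zero, map_zero, mul_zero, zero_add, zero_mul] at h5
  have h6 := h4 1
  rw [map_one, map_one, mul_one, one_mul, h5, add_zero] at h6
  refine ⟨fun x => ?_, by rw [← e01, h5], by rw [← e10, hi], by rw [← e00, ← e11, h6],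
    by rw [← e00]; exact h00⟩
  have h7 := h4 x
  rw [h5, add_zero, ← h6, mul_comm] at h7
  exact mul_right_cancel₀ h00 h7

/-- Fixed points of a matrix on the affine line. -/
theorem fixed_iff (x : F) :
    A • (x : OnePoint F) = x ↔ A 0 0 * x + A 0 1 = x * (A 1 0 * x + A 1 1) := by
  have hdet : (A : Matrix (Fin 2) (Fin 2) F).det ≠ 0 := A.det_ne_zero
  rw [det_fin_two] at hdet
  rw [smul_some_eq_ite]
  split_ifs with h0
  · constructor
    · intro h
      exact absurd h (infty_ne_coe _)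
    · intro h
      rw [h0, mul_zero] at h
      exfalso
      apply hdet
      have e1 : A 1 1 = -(A 1 0 * x) := by linear_combination h0
      have e2 : A 0 1 = -(A 0 0 * x) := by linear_combination h
      rw [e1, e2]
      ring
  · rw [coe_eq_coe, div_eq_iff h0]

theorem map_refl_apply (x : OnePoint F) : OnePoint.map (RingEquiv.refl F) x = x := by
  cases x with
  | infty => rfl
  | coe x => rfl

/-- A linear involution has trace `0`. -/
theorem trace_zero (h : ∀ x, π x = A • x) (h2 : ∀ x, π (π x) = x) (hne : π ≠ 1) :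
    A 0 0 + A 1 1 = 0 := by
  obtain ⟨-, e1, e2, e3, -⟩ := scal (σ := RingEquiv.refl F)
    (fun x => by rw [map_refl_apply]; exact h x) h2
  simp only [RingEquiv.refl_apply] at e1 e2 e3
  by_contra h0
  have b0 : A 0 1 = 0 := by
    have : A 0 1 * (A 0 0 + A 1 1) = 0 := by linear_combination e1
    exact (mul_eq_zero.1 this).resolve_right h0
  have c0 : A 1 0 = 0 := by
    have : A 1 0 * (A 0 0 + A 1 1) = 0 := by linear_combination e2
    exact (mul_eq_zero.1 this).resolve_right h0
  have d0 : A 0 0 = A 1 1 := by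
    have : (A 0 0 - A 1 1) * (A 0 0 + A 1 1) = 0 := by linear_combination e3
    exact sub_eq_zero.1 ((mul_eq_zero.1 this).resolve_right h0)
  apply hne
  ext x
  rw [h, Equiv.Perm.one_apply]
  cases x with
  | infty => exact smul_infty_eq_self_iff.2 c0
  | coe x =>
    rw [fixed_iff, b0, c0, d0]
    ring

theorem det_eq_of_trace (h0 : A 0 0 + A 1 1 = 0) :
    -(A : Matrix (Fin 2) (Fin 2) F).det = A 0 0 * A 0 0 + A 0 1 * A 1 0 := by
  rw [det_fin_two]
  have e1 : A 1 1 = -A 0 0 := by linear_combination h0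
  rw [e1]
  ring

theorem fixed_iff_of_trace (h0 : A 0 0 + A 1 1 = 0) (hc : A 1 0 ≠ 0) (x : F) :
    A • (x : OnePoint F) = x ↔
      (A 1 0 * x - A 0 0) * (A 1 0 * x - A 0 0) = -(A : Matrix (Fin 2) (Fin 2) F).det := by
  rw [fixed_iff, det_eq_of_trace h0]
  have e1 : A 1 1 = -A 0 0 := by linear_combination h0
  rw [e1]
  constructor
  · intro h
    linear_combination (-A 1 0) * h
  · intro h
    apply mul_left_cancel₀ hc
    linear_combination -h

/-- The fixed points of an involution of trace `0` whose `-det` is a square. -/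
theorem fixed_of_square (h2F : (2 : F) ≠ 0) (h0 : A 0 0 + A 1 1 = 0)
    (hs : IsSquare (-(A : Matrix (Fin 2) (Fin 2) F).det)) :
    ∃ x y : OnePoint F, x ≠ y ∧ ∀ z, A • z = z ↔ z = x ∨ z = y := by
  have hdet : (A : Matrix (Fin 2) (Fin 2) F).det ≠ 0 := A.det_ne_zero
  obtain ⟨s, hs⟩ := hs
  by_cases hc : A 1 0 = 0
  · have e1 : A 1 1 = -A 0 0 := by linear_combination h0
    have ha : A 0 0 ≠ 0 := by
      intro ha
      apply hdet
      rw [det_fin_two, hc, ha]
      ring
    refine ⟨∞, ((-A 0 1 / (2 * A 0 0) : F) : OnePoint F), infty_ne_coe _, fun z => ?_⟩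
    cases z with
    | infty => simp [smul_infty_eq_self_iff, hc]
    | coe z =>
      rw [fixed_iff, hc, e1, coe_eq_coe, eq_div_iff (mul_ne_zero h2F ha)]
      constructor
      · intro h
        right
        linear_combination h
      · rintro (h | h)
        · exact absurd h (coe_ne_infty _)
        · linear_combination h
  · have hs0 : s ≠ 0 := by
      rintro rfl
      apply hdet
      linear_combination -hs
    refine ⟨(((A 0 0 + s) / A 1 0 : F) : OnePoint F), (((A 0 0 - s) / A 1 0 : F) : OnePoint F),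
      ?_, fun z => ?_⟩
    · intro h
      rw [coe_eq_coe, div_left_inj' hc] at h
      have : (2 : F) * s = 0 := by linear_combination h
      exact (mul_ne_zero h2F hs0) this
    · cases z with
      | infty =>
        rw [smul_infty_eq_self_iff]
        constructor
        · intro h
          exact absurd h hc
        · rintro (h | h)
          · exact absurd h (infty_ne_coe _)
          · exact absurd h (infty_ne_coe _)
      | coe z =>
        rw [fixed_iff_of_trace h0 hc, hs, mul_self_eq_mul_self_iff, coe_eq_coe, coe_eq_coe,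
          eq_div_iff hc, eq_div_iff hc]
        constructor
        · rintro (h | h)
          · left
            linear_combination h
          · right
            linear_combination h
        · rintro (h | h)
          · left
            linear_combination h
          · right
            linear_combination h

/-- Without fixed points: trace `0`, `-det` not a square. -/
theorem fpf_lin (h2F : (2 : F) ≠ 0) (h : ∀ x, π x = A • x) (h2 : ∀ x, π (π x) = x)
    (hf : ∀ x, π x ≠ x) :
    (A : Matrix (Fin 2) (Fin 2) F).trace = 0 ∧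
      ¬ IsSquare (-(A : Matrix (Fin 2) (Fin 2) F).det) := by
  have hne : π ≠ 1 := by
    rintro rfl
    exact hf ∞ rfl
  have h0 := trace_zero h h2 hne
  refine ⟨by rw [trace_fin_two, h0], fun hs => ?_⟩
  obtain ⟨x, y, -, hz⟩ := fixed_of_square h2F h0 hs
  exact hf x (by rw [h]; exact (hz x).2 (Or.inl rfl))

/-- Linear, not `1`, with a fixed point: exactly two fixed points and `-det` is a square. -/
theorem two_lin (h2F : (2 : F) ≠ 0) (h : ∀ x, π x = A • x) (h2 : ∀ x, π (π x) = x)
    (hne : π ≠ 1) (hf : ∃ x, π x = x) :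
    IsSquare (-(A : Matrix (Fin 2) (Fin 2) F).det) ∧ {x | π x = x}.ncard = 2 := by
  have h0 := trace_zero h h2 hne
  have hs : IsSquare (-(A : Matrix (Fin 2) (Fin 2) F).det) := by
    obtain ⟨x, hx⟩ := hf
    rw [h] at hx
    by_cases hc : A 1 0 = 0
    · rw [det_eq_of_trace h0, hc, mul_zero, add_zero]
      exact ⟨_, rfl⟩
    · cases x with
      | infty => exact absurd (smul_infty_eq_self_iff.1 hx) hc
      | coe x => exact ⟨_, ((fixed_iff_of_trace h0 hc x).1 hx).symm⟩
  refine ⟨hs, ?_⟩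
  obtain ⟨x, y, hxy, hz⟩ := fixed_of_square h2F h0 hs
  have : {x | π x = x} = {x, y} := by
    ext z
    rw [Set.mem_insert_iff, Set.mem_singleton_iff]
    show π z = z ↔ _
    rw [h]
    exact hz z
  rw [this, Set.ncard_pair hxy]

end Basic

section Field

variable [Fintype F] {σ : F ≃+* F}

theorem exists_anti (h2F : (2 : F) ≠ 0) (hs : ∀ x, σ (σ x) = x) (hne : σ ≠ RingEquiv.refl F) :
    ∃ ζ : F, ζ ≠ 0 ∧ σ ζ = -ζ := by
  obtain ⟨x, hx⟩ : ∃ x, σ x ≠ x := by
    by_contra hcon
    push Not at hcon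
    exact hne (RingEquiv.ext hcon)
  exact ⟨x - σ x, sub_ne_zero.2 hx.symm, by rw [map_sub, hs]; ring⟩

/-- The fixed field of `σ`. -/
def fixF (σ : F ≃+* F) : Subfield F := (σ : F →+* F).eqLocusField (RingHom.id F)

theorem mem_fixF {x : F} : x ∈ fixF σ ↔ σ x = x := Iff.rfl

/-- `|F| = r²`, `r` the order of the fixed field. -/
theorem card_sq (h2F : (2 : F) ≠ 0) (hs : ∀ x, σ (σ x) = x) (hne : σ ≠ RingEquiv.refl F) :
    Fintype.card F = Nat.card (fixF σ) ^ 2 := by
  obtain ⟨ζ, hζ, hσζ⟩ := exists_anti h2F hs hne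
  rw [← Nat.card_eq_fintype_card, pow_two, ← Nat.card_prod]
  symm
  apply Nat.card_congr
  refine Equiv.ofBijective (fun p : fixF σ × fixF σ => (p.1 : F) + ζ * p.2) ⟨?_, ?_⟩
  · rintro ⟨⟨x, hx⟩, ⟨y, hy⟩⟩ ⟨⟨x', hx'⟩, ⟨y', hy'⟩⟩ h
    rw [mem_fixF] at hx hy hx' hy'
    change x + ζ * y = x' + ζ * y' at h
    have h1 := congrArg σ h
    rw [map_add, map_mul, map_add, map_mul, hx, hy, hx', hy', hσζ] at h1
    have e1 : x = x' := by
      apply mul_left_cancel₀ h2F
      linear_combination h + h1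
    have e2 : y = y' := by
      apply mul_left_cancel₀ (mul_ne_zero h2F hζ)
      linear_combination h - h1
    subst e1
    subst e2
    rfl
  · intro z
    have hx : σ ((z + σ z) / 2) = (z + σ z) / 2 := by
      rw [map_div₀, map_add, hs, map_ofNat]
      ring
    have hy : σ ((z - σ z) / (2 * ζ)) = (z - σ z) / (2 * ζ) := by
      rw [map_div₀, map_sub, hs, map_mul, map_ofNat, hσζ]
      rw [div_eq_div_iff (mul_ne_zero h2F (neg_ne_zero.2 hζ)) (mul_ne_zero h2F hζ)]
      ring
    refine ⟨(⟨_, mem_fixF.2 hx⟩, ⟨_, mem_fixF.2 hy⟩), ?_⟩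
    change (z + σ z) / 2 + ζ * ((z - σ z) / (2 * ζ)) = z
    field_simp
    ring

/-- The norm of `F` to the fixed field is surjective. -/
theorem exists_norm (hF : Odd (Fintype.card F)) (hs : ∀ x, σ (σ x) = x)
    (hne : σ ≠ RingEquiv.refl F) {c : F} (hc : σ c = c) : ∃ d, d * σ d = c := by
  classical
  have h2F := two_ne hF
  obtain ⟨ζ, hζ, hσζ⟩ := exists_anti h2F hs hne
  have := Fintype.ofFinite (fixF σ)
  have hodd : Fintype.card (fixF σ) % 2 = 1 := by
    have h1 := card_sq h2F hs hne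
    rw [h1] at hF
    have h3 : Odd (Nat.card (fixF σ)) := by
      rw [pow_two] at hF
      exact (Nat.odd_mul.1 hF).1
    rw [Nat.card_eq_fintype_card] at h3
    exact Nat.odd_iff.1 h3
  have hζ2 : σ (ζ ^ 2) = ζ ^ 2 := by rw [map_pow, hσζ]; ring
  set C : fixF σ := ⟨c, hc⟩ with hC
  set Z : fixF σ := ⟨ζ ^ 2, hζ2⟩ with hZ
  have hZ0 : Z ≠ 0 := by
    intro h
    have := congrArg Subtype.val h
    exact (pow_ne_zero 2 hζ) this
  obtain ⟨a, b, hab⟩ := FiniteField.exists_root_sum_quadratic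
    (f := (Polynomial.X ^ 2 - Polynomial.C C : Polynomial (fixF σ)))
    (g := (Polynomial.C (-Z) * Polynomial.X ^ 2 : Polynomial (fixF σ)))
    (Polynomial.degree_X_pow_sub_C (by decide) _)
    (by rw [Polynomial.degree_C_mul_X_pow 2 (neg_ne_zero.2 hZ0)]; rfl) hodd
  simp only [Polynomial.eval_sub, Polynomial.eval_pow, Polynomial.eval_X, Polynomial.eval_C,
    Polynomial.eval_mul] at hab
  have h1 : (a : F) ^ 2 - c + -ζ ^ 2 * (b : F) ^ 2 = 0 := by
    have := congrArg Subtype.val hab
    exact this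
  refine ⟨a + ζ * b, ?_⟩
  rw [map_add, map_mul, hσζ, mem_fixF.1 a.2, mem_fixF.1 b.2]
  linear_combination h1

/-- The elements of the fixed field are squares in `F`. -/
theorem isSquare_of_fix (h2F : (2 : F) ≠ 0) (hs : ∀ x, σ (σ x) = x)
    (hne : σ ≠ RingEquiv.refl F) {c : F} (hc : σ c = c) : IsSquare c := by
  classical
  obtain ⟨ζ, hζ, hσζ⟩ := exists_anti h2F hs hne
  have := Fintype.ofFinite (fixF σ)
  have hζ2 : σ (ζ ^ 2) = ζ ^ 2 := by rw [map_pow, hσζ]; ring
  set C : fixF σ := ⟨c, hc⟩ with hC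
  set Z : fixF σ := ⟨ζ ^ 2, hζ2⟩ with hZ
  have hCs : IsSquare C → IsSquare c := by
    rintro ⟨y, hy⟩
    exact ⟨y, congrArg Subtype.val hy⟩
  by_cases h1 : IsSquare C
  · exact hCs h1
  have hZn : ¬ IsSquare Z := by
    rintro ⟨y, hy⟩
    have h3 : ζ ^ 2 = (y : F) * y := congrArg Subtype.val hy
    have h4 : (ζ - y) * (ζ + y) = 0 := by linear_combination h3
    have h5 : σ (y : F) = y := mem_fixF.1 y.2
    have h6 : ζ = y ∨ ζ = -y := by
      rcases mul_eq_zero.1 h4 with h | h
      · exact Or.inl (sub_eq_zero.1 h)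
      · exact Or.inr (eq_neg_of_add_eq_zero_left h)
    have h7 : σ ζ = ζ := by
      rcases h6 with h | h
      · rw [h, h5]
      · rw [h, map_neg, h5]
    rw [hσζ] at h7
    exact (mul_ne_zero h2F hζ) (by linear_combination -h7)
  have hCZ : IsSquare (C * Z) := by
    have hC0 : C ≠ 0 := by
      rintro h
      exact h1 (h ▸ IsSquare.zero)
    have hZ0 : Z ≠ 0 := by
      rintro h
      exact hZn (h ▸ IsSquare.zero)
    rw [← quadraticChar_one_iff_isSquare (mul_ne_zero hC0 hZ0), map_mul,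
      quadraticChar_neg_one_iff_not_isSquare.2 h1, quadraticChar_neg_one_iff_not_isSquare.2 hZn]
    norm_num
  obtain ⟨y, hy⟩ := hCZ
  have h3 : c * ζ ^ 2 = (y : F) * y := congrArg Subtype.val hy
  refine ⟨y / ζ, ?_⟩
  rw [div_mul_div_comm, eq_div_iff (mul_ne_zero hζ hζ)]
  linear_combination h3

theorem isSquare_div (h2F : (2 : F) ≠ 0) (hs : ∀ x, σ (σ x) = x)
    (hne : σ ≠ RingEquiv.refl F) {c : F} (hc : c ≠ 0) : IsSquare (c / σ c) := by
  have h1 : σ c ≠ 0 := by
    intro h
    exact hc ((map_eq_zero σ).1 h)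
  obtain ⟨s, h3⟩ := isSquare_of_fix h2F hs hne (c := c * σ c) (by rw [map_mul, hs, mul_comm])
  refine ⟨s / σ c, ?_⟩
  rw [div_mul_div_comm, div_eq_div_iff h1 (mul_ne_zero h1 h1)]
  linear_combination σ c * h3

end Field

section Frame

variable [DecidableEq F] [Fintype F] {π : Equiv.Perm (OnePoint F)} {A : GL (Fin 2) F}
  {σ : F ≃+* F}

/-- Proportional matrices act in the same way. -/
theorem smul_congr {B C : GL (Fin 2) F} {e : F} (he : e ≠ 0) (h : ∀ i j, B i j = e * C i j)
    (x : OnePoint F) : B • x = C • x := by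
  cases x with
  | infty =>
    rw [smul_infty_eq_ite, smul_infty_eq_ite, h 1 0, h 0 0]
    by_cases h0 : C 1 0 = 0
    · rw [if_pos (by rw [h0, mul_zero]), if_pos h0]
    · rw [if_neg (mul_ne_zero he h0), if_neg h0, mul_div_mul_left _ _ he]
  | coe x =>
    rw [smul_some_eq_ite, smul_some_eq_ite, h 1 0, h 0 0, h 0 1, h 1 1]
    have e1 : e * C 1 0 * x + e * C 1 1 = e * (C 1 0 * x + C 1 1) := by ring
    have e2 : e * C 0 0 * x + e * C 0 1 = e * (C 0 0 * x + C 0 1) := by ring
    rw [e1, e2]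
    by_cases h0 : C 1 0 * x + C 1 1 = 0
    · rw [if_pos (by rw [h0, mul_zero]), if_pos h0]
    · rw [if_neg (mul_ne_zero he h0), if_neg h0, mul_div_mul_left _ _ he]

/-- Hilbert 90 for `GL₂`, projectively: `A σ(g) = e g`. -/
theorem exists_frame (hF : Odd (Fintype.card F)) (h : ∀ x, π x = A • OnePoint.map σ x)
    (h2 : ∀ x, π (π x) = x) (hne : σ ≠ RingEquiv.refl F) :
    ∃ (g : GL (Fin 2) F) (e : F), e ≠ 0 ∧
      ∀ i j, (A * GeneralLinearGroup.map (σ : F →+* F) g) i j = e * g i j := by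
  obtain ⟨hs, e1, e2, e3, e4⟩ := scal h h2
  have h2F := two_ne hF
  obtain ⟨ζ, hζ, hσζ⟩ := exists_anti h2F hs hne
  set κ := A 0 0 * σ (A 0 0) + A 0 1 * σ (A 1 0) with hκ
  have hdetA : (A : Matrix (Fin 2) (Fin 2) F).det ≠ 0 := A.det_ne_zero
  rw [det_fin_two] at hdetA
  -- `σ κ = κ`
  have e5 : κ = A 1 0 * σ (A 0 1) + A 1 1 * σ (A 1 1) := e3
  have g1 : (A 0 0 * A 1 1 - A 0 1 * A 1 0) * σ (A 0 0) = κ * A 1 1 := by
    rw [hκ]
    linear_combination (-A 0 1) * e2
  have g2 : (A 0 0 * A 1 1 - A 0 1 * A 1 0) * σ (A 0 1) = -(κ * A 0 1) := by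
    rw [e5]
    linear_combination A 1 1 * e1
  have hσκ : σ κ = κ := by
    have f1 : σ κ = σ (A 0 0) * A 0 0 + σ (A 0 1) * A 1 0 := by
      rw [hκ, map_add, map_mul, map_mul, hs, hs]
    have f3 : (A 0 0 * A 1 1 - A 0 1 * A 1 0) * (σ κ - κ) = 0 := by
      rw [mul_sub]
      linear_combination (A 0 0 * A 1 1 - A 0 1 * A 1 0) * f1 + A 0 0 * g1 + A 1 0 * g2
    exact sub_eq_zero.1 ((mul_eq_zero.1 f3).resolve_left hdetA)
  obtain ⟨d, hd⟩ := exists_norm hF hs hne hσκ
  have hd0 : d ≠ 0 := by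
    rintro rfl
    rw [zero_mul] at hd
    exact e4 hd.symm
  have hσd0 : σ d ≠ 0 := by
    intro h
    exact hd0 ((map_eq_zero σ).1 h)
  -- the matrix `g = σ(μ) A + d μ`
  set T : F := A 0 0 + A 1 1 with hT
  set D : F := A 0 0 * A 1 1 - A 0 1 * A 1 0 with hD
  obtain ⟨μ, hμ⟩ : ∃ μ : F, σ μ * σ μ * D + d * μ * σ μ * T + d * μ * (d * μ) ≠ 0 := by
    by_contra hcon
    push Not at hcon
    have m1 := hcon 1
    rw [map_one] at m1
    have m2 := hcon ζ
    rw [hσζ] at m2
    have m3 := hcon (1 + ζ)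
    rw [map_add, map_one, hσζ] at m3
    have n2 : D - d * T + d * d = 0 := by
      apply mul_left_cancel₀ (mul_ne_zero hζ hζ)
      linear_combination m2
    have n3 : d * T = 0 := by
      apply mul_left_cancel₀ h2F
      linear_combination m1 - n2
    have n4 : D = -(d * d) := by linear_combination n2 + n3
    have n5 : (2 : F) * (2 * (ζ * (d * d))) = 0 := by
      rw [n4] at m3
      linear_combination m3 - (1 + ζ) * (1 - ζ) * n3
    exact (mul_ne_zero h2F (mul_ne_zero h2F (mul_ne_zero hζ (mul_ne_zero hd0 hd0)))) n5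
  set M : Matrix (Fin 2) (Fin 2) F := !![σ μ * A 0 0 + d * μ, σ μ * A 0 1;
    σ μ * A 1 0, σ μ * A 1 1 + d * μ] with hM
  have hMdet : M.det ≠ 0 := by
    rw [hM, det_fin_two_of]
    intro h
    apply hμ
    rw [hD, hT]
    linear_combination h
  refine ⟨GeneralLinearGroup.mkOfDetNeZero M hMdet, σ d, hσd0, ?_⟩
  have hval : ∀ i j, (GeneralLinearGroup.mkOfDetNeZero M hMdet : GL (Fin 2) F) i j = M i j :=
    fun i j => rfl
  intro i j
  have hprod : (A * GeneralLinearGroup.map (σ : F →+* F)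
      (GeneralLinearGroup.mkOfDetNeZero M hMdet)) i j = A i 0 * σ (M 0 j) + A i 1 * σ (M 1 j) := by
    simp [Matrix.mul_apply, Fin.sum_univ_two, GeneralLinearGroup.mkOfDetNeZero]
  rw [hprod, hval]
  fin_cases i <;> fin_cases j
  · simp only [hM, Fin.zero_eta, Matrix.of_apply, Matrix.cons_val', Matrix.cons_val_zero,
      Matrix.cons_val_one, Matrix.cons_val_fin_one, map_add, map_mul, hs]
    linear_combination -μ * hd - μ * hκ
  · simp only [hM, Fin.zero_eta, Fin.mk_one, Matrix.of_apply, Matrix.cons_val', Matrix.cons_val_zero,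
      Matrix.cons_val_one, Matrix.cons_val_fin_one, map_add, map_mul, hs]
    linear_combination μ * e1
  · simp only [hM, Fin.zero_eta, Fin.mk_one, Matrix.of_apply, Matrix.cons_val', Matrix.cons_val_zero,
      Matrix.cons_val_one, Matrix.cons_val_fin_one, map_add, map_mul, hs]
    linear_combination μ * e2
  · simp only [hM, Fin.zero_eta, Fin.mk_one, Matrix.of_apply, Matrix.cons_val', Matrix.cons_val_zero,
      Matrix.cons_val_one, Matrix.cons_val_fin_one, map_add, map_mul, hs]
    linear_combination -μ * hd - μ * e5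

theorem ncard_map_fix : {x : OnePoint F | OnePoint.map σ x = x}.ncard = Nat.card (fixF σ) + 1 := by
  have h1 : {x : OnePoint F | OnePoint.map σ x = x} =
      insert ∞ ((fun x : F => (x : OnePoint F)) '' {x | σ x = x}) := by
    ext x
    cases x with
    | infty => simp
    | coe x =>
      simp only [Set.mem_setOf_eq, OnePoint.map_some, coe_eq_coe, Set.mem_insert_iff,
        coe_ne_infty, false_or, Set.mem_image, exists_eq_right]
  rw [h1, Set.ncard_insert_of_notMem _ (Set.toFinite _),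
    Set.ncard_image_of_injective _ (fun x y h => coe_eq_coe.1 h)]
  · rfl
  · rintro ⟨x, -, hx⟩
    exact coe_ne_infty x hx

/-- Field type: `|F| = r²`, exactly `r + 1` fixed points, `det A` is a square. -/
theorem field (hF : Odd (Fintype.card F)) (h : ∀ x, π x = A • OnePoint.map σ x)
    (h2 : ∀ x, π (π x) = x) (hne : σ ≠ RingEquiv.refl F) :
    ∃ r, Fintype.card F = r ^ 2 ∧ {x | π x = x}.ncard = r + 1 ∧
      IsSquare (A : Matrix (Fin 2) (Fin 2) F).det := by
  have h2F := two_ne hF
  have hs := (scal h h2).1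
  obtain ⟨g, e, he, hg⟩ := exists_frame hF h h2 hne
  refine ⟨Nat.card (fixF σ), card_sq h2F hs hne, ?_, ?_⟩
  · have h3 : ∀ x, π (g • x) = g • OnePoint.map σ x := by
      intro x
      have h5 : OnePoint.map σ (g • x) =
          GeneralLinearGroup.map (σ : F →+* F) g • OnePoint.map σ x :=
        OnePoint.map_smul (σ : F →+* F) g x
      rw [h, h5, ← mul_smul]
      exact smul_congr he hg _
    have h4 : {x | π x = x} = (fun x => g • x) '' {x | OnePoint.map σ x = x} := by
      ext y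
      constructor
      · intro hy
        refine ⟨g⁻¹ • y, ?_, smul_inv_smul g y⟩
        have h5 := h3 (g⁻¹ • y)
        rw [smul_inv_smul] at h5
        have h6 : π y = y := hy
        rw [h6] at h5
        show OnePoint.map σ (g⁻¹ • y) = g⁻¹ • y
        rw [← smul_left_cancel_iff g, ← h5, smul_inv_smul]
      · rintro ⟨x, hx, rfl⟩
        show π (g • x) = g • x
        have hx' : OnePoint.map σ x = x := hx
        rw [h3, hx']
    rw [h4, Set.ncard_image_of_injective _ (MulAction.injective g), ncard_map_fix]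
  · have h3 : ((A * GeneralLinearGroup.map (σ : F →+* F) g : GL (Fin 2) F) :
        Matrix (Fin 2) (Fin 2) F) = e • (g : Matrix (Fin 2) (Fin 2) F) := by
      ext i j
      exact hg i j
    have h4 := congrArg Matrix.det h3
    rw [GeneralLinearGroup.coe_mul, det_mul, det_smul, Fintype.card_fin] at h4
    have h5 : ((GeneralLinearGroup.map (σ : F →+* F) g : GL (Fin 2) F) :
        Matrix (Fin 2) (Fin 2) F).det = σ (g : Matrix (Fin 2) (Fin 2) F).det := by
      rw [det_fin_two, det_fin_two, map_sub, map_mul, map_mul]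
      rfl
    rw [h5] at h4
    have hg0 : (g : Matrix (Fin 2) (Fin 2) F).det ≠ 0 := g.det_ne_zero
    have hσg0 : σ (g : Matrix (Fin 2) (Fin 2) F).det ≠ 0 := by
      intro h6
      exact hg0 ((map_eq_zero σ).1 h6)
    obtain ⟨s, h7⟩ := isSquare_div h2F hs hne hg0
    refine ⟨e * s, ?_⟩
    rw [div_eq_iff hσg0] at h7
    apply mul_right_cancel₀ hσg0
    linear_combination h4 + e ^ 2 * h7

/-- Fixed point free: linear, of trace `0`, `-det A` a nonsquare. -/
theorem fpf (hF : Odd (Fintype.card F)) (h : ∀ x, π x = A • OnePoint.map σ x)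
    (h2 : ∀ x, π (π x) = x) (hf : ∀ x, π x ≠ x) :
    σ = RingEquiv.refl F ∧ (A : Matrix (Fin 2) (Fin 2) F).trace = 0 ∧
      ¬ IsSquare (-(A : Matrix (Fin 2) (Fin 2) F).det) := by
  have h1 : σ = RingEquiv.refl F := by
    by_contra hne
    obtain ⟨r, -, h3, -⟩ := field hF h h2 hne
    have h4 : {x | π x = x} = ∅ := by
      ext x
      exact iff_of_false (hf x) (Set.notMem_empty x)
    rw [h4, Set.ncard_empty] at h3
    omega
  subst h1
  exact ⟨rfl, fpf_lin (two_ne hF) (fun x => by rw [h, map_refl_apply]) h2 hf⟩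

/-- Linear, not `1`, with a fixed point: exactly two of them, `-det A` a square. -/
theorem two (hF : Odd (Fintype.card F)) (h : ∀ x, π x = A • OnePoint.map σ x)
    (h2 : ∀ x, π (π x) = x) (hσ : σ = RingEquiv.refl F) (hne : π ≠ 1) (hf : ∃ x, π x = x) :
    IsSquare (-(A : Matrix (Fin 2) (Fin 2) F).det) ∧ {x | π x = x}.ncard = 2 := by
  subst hσ
  exact two_lin (two_ne hF) (fun x => by rw [h, map_refl_apply]) h2 hne hf

end Frame

section Count

variable [Fintype F]

theorem exists_nonsq (hF : Odd (Fintype.card F)) : ∃ ν : F, ¬ IsSquare ν :=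
  FiniteField.exists_nonsquare (fun h => by
    have h1 := FiniteField.even_card_iff_char_two.1 h
    rw [Nat.odd_iff] at hF
    omega)

/-- `2 |nonsquares| + 1 = |F|`. -/
theorem card_nonsq (hF : Odd (Fintype.card F)) :
    2 * Nat.card {c : F // ¬ IsSquare c} + 1 = Fintype.card F := by
  classical
  have h0 : ∑ a : F, quadraticChar F a = 0 := quadraticChar_sum_zero (fun h => by
    have h1 := FiniteField.even_card_iff_char_two.1 h
    rw [Nat.odd_iff] at hF
    omega)
  have h1 : ∀ a : F, quadraticChar F a = (if a = 0 then 0 else 1) -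
      2 * (if IsSquare a then 0 else 1) := by
    intro a
    by_cases ha : a = 0
    · subst ha
      rw [if_pos rfl, if_pos IsSquare.zero]
      simp
    · rw [if_neg ha]
      by_cases hs : IsSquare a
      · rw [if_pos hs, (quadraticChar_one_iff_isSquare ha).2 hs]
        norm_num
      · rw [if_neg hs, quadraticChar_neg_one_iff_not_isSquare.2 hs]
        norm_num
  rw [Finset.sum_congr rfl (fun a _ => h1 a), Finset.sum_sub_distrib, ← Finset.mul_sum] at h0
  have h2 : ∑ a : F, (if a = 0 then (0 : ℤ) else 1) = Fintype.card F - 1 := by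
    rw [Finset.sum_ite, Finset.sum_const_zero, zero_add, Finset.sum_const, nsmul_eq_mul, mul_one,
      Finset.filter_ne', Finset.card_erase_of_mem (Finset.mem_univ _), Finset.card_univ,
      Nat.cast_sub Fintype.card_pos]
    rfl
  have h3 : ∑ a : F, (if IsSquare a then (0 : ℤ) else 1) = Nat.card {c : F // ¬ IsSquare c} := by
    rw [Finset.sum_ite, Finset.sum_const_zero, zero_add, Finset.sum_const, nsmul_eq_mul, mul_one,
      Nat.card_eq_fintype_card, Fintype.card_subtype]
  rw [h2, h3] at h0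
  have h4 : ((2 * Nat.card {c : F // ¬ IsSquare c} + 1 : ℕ) : ℤ) = (Fintype.card F : ℕ) := by
    push_cast
    linarith
  exact_mod_cast h4

variable [DecidableEq F]

/-- `x ↦ a + ν / (x - a)`. -/
noncomputable def inv (a : F) (ν : F) (hν : ν ≠ 0) : GL (Fin 2) F :=
  GeneralLinearGroup.mkOfDetNeZero !![a, ν - a * a; 1, -a] (by
    rw [det_fin_two_of]
    intro h
    exact hν (by linear_combination -h))

theorem inv_zero_zero (a ν : F) (hν : ν ≠ 0) : inv a ν hν 0 0 = a := rfl
theorem inv_zero_one (a ν : F) (hν : ν ≠ 0) : inv a ν hν 0 1 = ν - a * a := rfl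
theorem inv_one_zero (a ν : F) (hν : ν ≠ 0) : inv a ν hν 1 0 = 1 := rfl
theorem inv_one_one (a ν : F) (hν : ν ≠ 0) : inv a ν hν 1 1 = -a := rfl

theorem inv_trace (a ν : F) (hν : ν ≠ 0) : inv a ν hν 0 0 + inv a ν hν 1 1 = 0 := by
  rw [inv_zero_zero, inv_one_one, add_neg_cancel]

theorem inv_det (a ν : F) (hν : ν ≠ 0) :
    -(inv a ν hν : Matrix (Fin 2) (Fin 2) F).det = ν := by
  rw [det_eq_of_trace (inv_trace a ν hν), inv_zero_zero, inv_zero_one, inv_one_zero]
  ring

theorem inv_infty (a ν : F) (hν : ν ≠ 0) : inv a ν hν • (∞ : OnePoint F) = (a : OnePoint F) := by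
  rw [smul_infty_eq_ite, inv_one_zero, if_neg one_ne_zero, inv_zero_zero, div_one]

theorem inv_add_one (a ν : F) (hν : ν ≠ 0) :
    inv a ν hν • (((a + 1 : F)) : OnePoint F) = ((a + ν : F) : OnePoint F) := by
  have h1 : (1 : F) * (a + 1) + -a = 1 := by ring
  rw [smul_some_eq_ite, inv_one_zero, inv_one_one, h1, if_neg one_ne_zero, div_one, inv_zero_zero,
    inv_zero_one]
  congr 1
  ring

theorem inv_inv (a ν : F) (hν : ν ≠ 0) (x : OnePoint F) :
    inv a ν hν • (inv a ν hν • x) = x := by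
  rw [← mul_smul]
  have h1 : ∀ i j, (inv a ν hν * inv a ν hν) i j = ν * (1 : GL (Fin 2) F) i j := by
    intro i j
    rw [GeneralLinearGroup.coe_mul, Matrix.mul_apply, Fin.sum_univ_two, Units.val_one]
    fin_cases i <;> fin_cases j
    · show inv a ν hν 0 0 * inv a ν hν 0 0 + inv a ν hν 0 1 * inv a ν hν 1 0 = _
      rw [inv_zero_zero, inv_zero_one, inv_one_zero]
      simp
    · show inv a ν hν 0 0 * inv a ν hν 0 1 + inv a ν hν 0 1 * inv a ν hν 1 1 = _
      rw [inv_zero_zero, inv_zero_one, inv_one_one]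
      simp
      ring
    · show inv a ν hν 1 0 * inv a ν hν 0 0 + inv a ν hν 1 1 * inv a ν hν 1 0 = _
      rw [inv_zero_zero, inv_one_zero, inv_one_one]
      simp
    · show inv a ν hν 1 0 * inv a ν hν 0 1 + inv a ν hν 1 1 * inv a ν hν 1 1 = _
      rw [inv_zero_one, inv_one_zero, inv_one_one]
      simp
  rw [smul_congr hν h1, one_smul]

theorem inv_fpf (a ν : F) (hν : ¬ IsSquare ν) (hν0 : ν ≠ 0) (x : OnePoint F) :
    inv a ν hν0 • x ≠ x := by
  cases x with
  | infty =>
    rw [inv_infty]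
    exact coe_ne_infty a
  | coe x =>
    intro h
    rw [fixed_iff_of_trace (inv_trace a ν hν0) (by rw [inv_one_zero]; exact one_ne_zero),
      inv_det] at h
    exact hν ⟨_, h.symm⟩

theorem ne_zero_of_nonsq {ν : F} (hν : ¬ IsSquare ν) : ν ≠ 0 := by
  rintro rfl
  exact hν IsSquare.zero

/-- The fixed point free linear involutions. -/
theorem mem_range_iff (hF : Odd (Fintype.card F)) (π : Equiv.Perm (OnePoint F)) :
    ((∃ A : GL (Fin 2) F, ∀ x, π x = A • x) ∧ (∀ x, π (π x) = x) ∧ ∀ x, π x ≠ x) ↔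
      ∃ p : F × {ν : F // ¬ IsSquare ν},
        MulAction.toPerm (inv p.1 p.2 (ne_zero_of_nonsq p.2.2)) = π := by
  constructor
  · rintro ⟨⟨A, hA⟩, h2, hf⟩
    obtain ⟨htr, hns⟩ := fpf_lin (two_ne hF) hA h2 hf
    rw [trace_fin_two] at htr
    have hc : A 1 0 ≠ 0 := by
      intro hc
      exact hf ∞ (by rw [hA]; exact smul_infty_eq_self_iff.2 hc)
    have hν : ¬ IsSquare (-(A : Matrix (Fin 2) (Fin 2) F).det / (A 1 0 * A 1 0)) := by
      rintro ⟨s, hs⟩
      rw [div_eq_iff (mul_ne_zero hc hc)] at hs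
      exact hns ⟨s * A 1 0, by rw [hs]; ring⟩
    refine ⟨(A 0 0 / A 1 0, ⟨_, hν⟩), ?_⟩
    ext x
    rw [hA, MulAction.toPerm_apply]
    symm
    apply smul_congr hc
    have e1 : A 1 1 = -A 0 0 := by linear_combination htr
    intro i j
    fin_cases i <;> fin_cases j
    · show A 0 0 = A 1 0 * inv _ _ _ 0 0
      rw [inv_zero_zero]
      field_simp
    · show A 0 1 = A 1 0 * inv _ _ _ 0 1
      rw [inv_zero_one]
      simp only [det_eq_of_trace htr]
      field_simp
      ring
    · show A 1 0 = A 1 0 * inv _ _ _ 1 0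
      rw [inv_one_zero, mul_one]
    · show A 1 1 = A 1 0 * inv _ _ _ 1 1
      rw [inv_one_one, e1]
      field_simp
  · rintro ⟨⟨a, ν, hν⟩, rfl⟩
    exact ⟨⟨_, fun x => rfl⟩, fun x => inv_inv _ _ _ _, fun x => inv_fpf _ _ hν _ _⟩

/-- There are `q (q - 1) / 2` fixed point free linear involutions. -/
theorem count (hF : Odd (Fintype.card F)) :
    {π : Equiv.Perm (OnePoint F) | (∃ A : GL (Fin 2) F, ∀ x, π x = A • x) ∧
      (∀ x, π (π x) = x) ∧ ∀ x, π x ≠ x}.ncard =
      Fintype.card F * (Fintype.card F - 1) / 2 := by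
  have h1 : {π : Equiv.Perm (OnePoint F) | (∃ A : GL (Fin 2) F, ∀ x, π x = A • x) ∧
      (∀ x, π (π x) = x) ∧ ∀ x, π x ≠ x} =
      (fun p : F × {ν : F // ¬ IsSquare ν} =>
        (MulAction.toPerm (inv p.1 p.2 (ne_zero_of_nonsq p.2.2)) : Equiv.Perm (OnePoint F))) ''
          Set.univ := by
    ext π
    rw [Set.image_univ, Set.mem_range]
    exact mem_range_iff hF π
  have hinj : Function.Injective (fun p : F × {ν : F // ¬ IsSquare ν} =>
        (MulAction.toPerm (inv p.1 p.2 (ne_zero_of_nonsq p.2.2)) : Equiv.Perm (OnePoint F))) := by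
    rintro ⟨a, ν, hν⟩ ⟨a', ν', hν'⟩ h
    have e1 := congrArg (fun f : Equiv.Perm (OnePoint F) => f ∞) h
    change inv a ν _ • (∞ : OnePoint F) = inv a' ν' _ • (∞ : OnePoint F) at e1
    rw [inv_infty, inv_infty, coe_eq_coe] at e1
    subst e1
    have e2 := congrArg (fun f : Equiv.Perm (OnePoint F) => f ((a + 1 : F) : OnePoint F)) h
    change inv a ν _ • ((a + 1 : F) : OnePoint F) = inv a ν' _ • ((a + 1 : F) : OnePoint F) at e2
    rw [inv_add_one, inv_add_one, coe_eq_coe, add_right_inj] at e2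
    subst e2
    rfl
  rw [h1, Set.ncard_image_of_injective _ hinj, Set.ncard_univ, Nat.card_prod,
    Nat.card_eq_fintype_card]
  have h2 := card_nonsq hF
  rw [← h2]
  rw [Nat.add_sub_cancel]
  rw [show (2 * Nat.card {c : F // ¬ IsSquare c} + 1) * (2 * Nat.card {c : F // ¬ IsSquare c}) =
    2 * ((2 * Nat.card {c : F // ¬ IsSquare c} + 1) * Nat.card {c : F // ¬ IsSquare c}) by ring]
  rw [Nat.mul_div_cancel_left _ (by norm_num)]

end Count

end Cfsg.Agent.HKS.PGammaInv
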