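import Cfsg.Agent.HKS.Types
import Cfsg.Agent.HKS.SLNorm
import Cfsg.Agent.SmallSimple.PSL2Moebius

/-!
# The action of `N_G(X)` on the fixed points of `X` for type `PSL(2,q)`

`PG U X a b φ` : `φ : OnePoint F → Ω` is a bijection of the projective line onto the fixed points of `X`,
`φ ∞ = a`, `φ 0 = b`, `genFix U X` induces `PSL(2,F)`, and every element of `N_G(X)` acts as a semilinear
fractional map `x ↦ A σ(x)`.

* `of_slx`, `exists_pg`, `exists_pg_three` : existence, from the `SL₂` coordinates of `SLCoord`, for type `DL`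
  and for `|C_{U a}(X)| = 3`.
-/

set_option autoImplicit false
set_option linter.unusedSectionVars false

namespace Cfsg.Agent.HKS.PGammaL

open Subgroup MulAction OnePoint
open Matrix (SpecialLinearGroup)
open Cfsg.Agent.SmallSimple.PSL2Moebius

section basic

variable {G Ω : Type*} [Group G] [MulAction G Ω] {U : Ω → Subgroup G} {X : Subgroup G}

/-- Coordinates on the fixed points of `X`. -/
structure PG {F : Type*} [Field F] [DecidableEq F] (U : Ω → Subgroup G) (X : Subgroup G) (a b : Ω)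
    (φ : OnePoint F → Ω) : Prop where
  inj : Function.Injective φ
  mem : ∀ c, (∀ x ∈ X, x • c = c) ↔ ∃ p, φ p = c
  inf : φ ∞ = a
  zero : φ ((0 : F) : OnePoint F) = b
  psl : ∀ m ∈ genFix U X, ∃ A : SpecialLinearGroup (Fin 2) F, ∀ p, m • φ p = φ (moebius F A p)
  psl_surj : ∀ A : SpecialLinearGroup (Fin 2) F, ∃ m ∈ genFix U X, ∀ p, m • φ p = φ (moebius F A p)
  semi : ∀ g ∈ normalizer (X : Set G), ∃ (A : GL (Fin 2) F) (σ : F ≃+* F), ∀ p,
    g • φ p = φ (A • OnePoint.map σ p)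

theorem genFix_le_centralizer : genFix U X ≤ centralizer (X : Set G) :=
  iSup_le fun _ => inf_le_right

theorem le_genFix {c : Ω} (hc : ∀ x ∈ X, x • c = c) : U c ⊓ centralizer (X : Set G) ≤ genFix U X :=
  le_iSup (fun c : {c : Ω // ∀ x ∈ X, x • c = c} => U (c : Ω) ⊓ centralizer (X : Set G)) ⟨c, hc⟩

theorem centralizer_le_normalizer : centralizer (X : Set G) ≤ normalizer (X : Set G) := by
  intro g hg
  rw [mem_normalizer_iff]
  intro x
  constructor
  · intro hx
    rw [← mem_centralizer_iff.1 hg x hx, mul_inv_cancel_right]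
    exact hx
  · intro hx
    have h1 := mem_centralizer_iff.1 hg _ hx
    have h2 : g * x * g⁻¹ = x := by
      have h3 : g * x = g * (g * x * g⁻¹) := by
        rw [← h1]; group
      exact (mul_left_cancel h3).symm
    rwa [h2] at hx

theorem inv_conj_mem {g : G} (hg : g ∈ normalizer (X : Set G)) {x : G} (hx : x ∈ X) :
    g⁻¹ * x * g ∈ X := by
  have := (mem_normalizer_iff.1 (inv_mem hg) x).1 hx
  rwa [inv_inv] at this

theorem fix_smul {g : G} (hg : g ∈ normalizer (X : Set G)) {c : Ω} (hc : ∀ x ∈ X, x • c = c) :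
    ∀ x ∈ X, x • g • c = g • c := by
  intro x hx
  have h1 := hc _ (inv_conj_mem hg hx)
  rw [mul_smul, mul_smul, inv_smul_eq_iff] at h1
  exact h1

theorem fix_smul_M {m : G} (hm : m ∈ genFix U X) {c : Ω} (hc : ∀ x ∈ X, x • c = c) :
    ∀ x ∈ X, x • m • c = m • c :=
  fix_smul (centralizer_le_normalizer (genFix_le_centralizer hm)) hc

/-- `C_{U c}(X)` is transitive on the fixed points `≠ c` of `X`. -/
theorem trans_fix (h : SSplit U) {c d e : Ω} (hc : ∀ x ∈ X, x • c = c) (hd : ∀ x ∈ X, x • d = d)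
    (he : ∀ x ∈ X, x • e = e) (hdc : d ≠ c) (hec : e ≠ c) :
    ∃ x ∈ U c ⊓ centralizer (X : Set G), x • d = e := by
  obtain ⟨x, hx, hxd⟩ := h.trans hdc hec
  exact ⟨x, ⟨hx, h.comm_of_fixSub hc hd hdc hx (by rw [hxd]; exact he)⟩, hxd⟩

theorem conj_fixU (h : SSplit U) {g : G} (hg : g ∈ normalizer (X : Set G)) {c : Ω} {u : G}
    (hu : u ∈ U c ⊓ centralizer (X : Set G)) :
    g * u * g⁻¹ ∈ U (g • c) ⊓ centralizer (X : Set G) := by
  refine ⟨h.conj g hu.1, ?_⟩
  show g * u * g⁻¹ ∈ centralizer (X : Set G)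
  rw [mem_centralizer_iff]
  intro x hx
  have h1 := mem_centralizer_iff.1 hu.2 _ (inv_conj_mem hg hx)
  calc x * (g * u * g⁻¹) = g * ((g⁻¹ * x * g) * u) * g⁻¹ := by group
    _ = g * u * g⁻¹ * x := by rw [h1]; group

theorem conj_genFix (h : SSplit U) {g : G} (hg : g ∈ normalizer (X : Set G)) {m : G}
    (hm : m ∈ genFix U X) : g * m * g⁻¹ ∈ genFix U X := by
  have h1 : genFix U X ≤ (genFix U X).comap (MulAut.conj g).toMonoidHom := by
    refine iSup_le ?_
    rintro ⟨c, hc⟩ u hu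
    exact le_genFix (fix_smul hg hc) (conj_fixU h hg hu)
  exact h1 hm

/-- `genFix U X` is 2-transitive on the fixed points of `X`. -/
theorem two_fix (h : SSplit U) {a b : Ω} (ha : ∀ x ∈ X, x • a = a) (hb : ∀ x ∈ X, x • b = b)
    (hab : b ≠ a) (hP : U a ⊓ centralizer (X : Set G) ≠ ⊥) {c d : Ω} (hc : ∀ x ∈ X, x • c = c)
    (hd : ∀ x ∈ X, x • d = d) (hdc : d ≠ c) : ∃ m ∈ genFix U X, m • a = c ∧ m • b = d := by
  have key : ∃ m ∈ genFix U X, m • a = c := by
    by_cases hca : c = a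
    · exact ⟨1, one_mem _, by rw [one_smul, hca]⟩
    obtain ⟨e, he, hea, hec⟩ : ∃ e : Ω, (∀ x ∈ X, x • e = e) ∧ a ≠ e ∧ c ≠ e := by
      by_cases hcb : c = b
      · obtain ⟨⟨u, hu⟩, hu1⟩ := ne_bot_iff_exists_ne_one.1 hP
        have hu1' : u ≠ 1 := fun e => hu1 (Subtype.ext e)
        refine ⟨u • b, fix_smul (centralizer_le_normalizer hu.2) hb, ?_, ?_⟩
        · exact (h.smul_ne_center hab hu.1).symm
        · rw [hcb]
          exact (h.smul_ne_of_ne hab hu.1 hu1').symm
      · exact ⟨b, hb, hab.symm, hcb⟩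
    obtain ⟨x, hx, hxa⟩ := trans_fix h he ha hc hea hec
    exact ⟨x, le_genFix he hx, hxa⟩
  obtain ⟨m, hm, hma⟩ := key
  have hmb : m • b ≠ c := by
    rw [← hma]
    exact fun e => hab (MulAction.injective m e)
  obtain ⟨x, hx, hxd⟩ := trans_fix h hc (fix_smul_M hm hb) hd hmb hdc
  refine ⟨x * m, mul_mem (le_genFix hc hx) hm, ?_, ?_⟩
  · rw [mul_smul, hma, h.fix hx.1]
  · rw [mul_smul, hxd]

end basic

/-! ### semilinear maps -/

/-- An additive map which is semilinear over the squares is `x ↦ μ σ(x)`. -/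
theorem exists_semilinear {F : Type*} [Field F] [Finite F] (h2 : (2 : F) ≠ 0) {L : F → F}
    (hadd : ∀ s t, L (s + t) = L s + L t) (h1 : L 1 ≠ 0)
    (hsq : ∀ c : F, c ≠ 0 → ∃ s', ∀ t, L (c ^ 2 * t) = s' * L t) :
    ∃ μ : F, μ ≠ 0 ∧ ∃ σ : F ≃+* F, ∀ t, L t = μ * σ t := by
  have h0 : L 0 = 0 := by
    have := hadd 0 0
    rw [add_zero] at this
    exact left_eq_add.mp this
  have hneg : ∀ t, L (-t) = -L t := by
    intro t
    have h3 := hadd t (-t)
    rw [add_neg_cancel, h0] at h3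
    exact (neg_eq_of_add_eq_zero_right h3.symm).symm
  -- the multiplicative elements
  have hR : ∀ c t : F, L (c ^ 2 * t) * L 1 = L (c ^ 2) * L t := by
    intro c t
    by_cases hc : c = 0
    · subst hc
      simp [h0]
    · obtain ⟨s', hs'⟩ := hsq c hc
      have h3 := hs' 1
      rw [mul_one] at h3
      rw [hs', h3]
      ring
  have hall : ∀ x t : F, L (x * t) * L 1 = L x * L t := by
    intro x t
    have e1 : x = ((x + 1) / 2) ^ 2 - ((x - 1) / 2) ^ 2 := by field_simp; ring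
    have e2 : x * t = ((x + 1) / 2) ^ 2 * t + -(((x - 1) / 2) ^ 2 * t) := by
      nth_rewrite 1 [e1]; ring
    have e3 : L x = L (((x + 1) / 2) ^ 2) - L (((x - 1) / 2) ^ 2) := by
      calc L x = L (((x + 1) / 2) ^ 2 + -(((x - 1) / 2) ^ 2)) :=
            congrArg L (e1.trans (sub_eq_add_neg _ _))
        _ = _ := by rw [hadd, hneg, ← sub_eq_add_neg]
    rw [e2, hadd, hneg, add_mul, neg_mul, hR, hR, e3]
    ring
  let σ₀ : F →+* F :=
    { toFun := fun x => L x / L 1
      map_one' := div_self h1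
      map_mul' := by
        intro x y
        have := hall x y
        field_simp
        exact this
      map_zero' := by rw [h0, zero_div]
      map_add' := by
        intro x y
        rw [hadd, add_div] }
  refine ⟨L 1, h1, RingEquiv.ofBijective σ₀ ?_, fun t => ?_⟩
  · exact Finite.injective_iff_bijective.1 σ₀.injective
  · show L t = L 1 * (L t / L 1)
    field_simp

section dil

variable {F : Type*} [Field F] [DecidableEq F]

/-- The matrix `diag(μ, 1)`. -/
def dilM (μ : F) (hμ : μ ≠ 0) : GL (Fin 2) F :=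
  Matrix.GeneralLinearGroup.mkOfDetNeZero !![μ, 0; 0, 1] (by
    rw [Matrix.det_fin_two_of]; simpa using hμ)

theorem dilM_inf (μ : F) (hμ : μ ≠ 0) : dilM μ hμ • (∞ : OnePoint F) = ∞ := by
  rw [smul_infty_eq_ite, if_pos]
  rfl

theorem dilM_coe (μ : F) (hμ : μ ≠ 0) (x : F) :
    dilM μ hμ • (x : OnePoint F) = ((μ * x : F) : OnePoint F) := by
  rw [smul_some_eq_ite]
  change (if (0 : F) * x + 1 = 0 then (∞ : OnePoint F) else
    (((μ * x + 0) / ((0 : F) * x + 1) : F) : OnePoint F)) = _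
  rw [if_neg (by simp), coe_eq_coe]
  simp

end dil

section coord

open Cfsg.Agent.HKS.SLCoord Cfsg.Agent.ONan.SL2Hom

variable {G Ω : Type*} [Group G] [MulAction G Ω] {U : Ω → Subgroup G} {X : Subgroup G} {a b : Ω}
variable {F : Type*} [Field F] [DecidableEq F] {φ : SpecialLinearGroup (Fin 2) F →* G}

/-- The coordinates. -/
def pt (φ : SpecialLinearGroup (Fin 2) F →* G) (a b : Ω) (p : OnePoint F) : Ω :=
  p.elim a (fun t => φ (tM t) • b)

theorem pt_inf : pt φ a b (∞ : OnePoint F) = a := rfl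

theorem pt_coe (t : F) : pt φ a b (t : OnePoint F) = φ (tM t) • b := rfl

theorem pt_zero : pt φ a b ((0 : F) : OnePoint F) = b := by
  rw [pt_coe, tM_zero, map_one, one_smul]

theorem inv_tM (s : F) : (tM s)⁻¹ = tM (-s) := by
  rw [inv_eq_iff_mul_eq_one, ← tM_add, add_neg_cancel, tM_zero]

theorem inv_mM (c : F) (hc : c ≠ 0) : (mM c hc)⁻¹ = mM (-c) (neg_ne_zero.2 hc) := by
  rw [inv_eq_iff_mul_eq_one]
  apply ext' <;> simp [mul_apply', hc]

theorem smul_pt (S : SLX U X a b φ) (h : SSplit U) (A : SpecialLinearGroup (Fin 2) F)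
    (p : OnePoint F) : φ A • pt φ a b p = pt φ a b (moebius F A p) := by
  have hw := S.mM_swaps h 1 one_ne_zero
  induction p using OnePoint.rec with
  | infty =>
    rw [moebius_infty, pt_inf]
    split_ifs with hc
    · rw [pt_inf]
      exact (S.fix_a_iff h A).2 hc
    · rw [pt_coe]
      have h1 : φ ((tM (A 0 0 / A 1 0) * mM 1 one_ne_zero)⁻¹ * A) • a = a := by
        rw [S.fix_a_iff h, mul_inv_rev, inv_tM, inv_mM]
        have hc' : A.1 1 0 ≠ 0 := hc
        simp [mul_apply', hc']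
      rw [map_mul, map_inv, mul_smul, inv_smul_eq_iff, map_mul, mul_smul, hw.1] at h1
      exact h1
  | coe x =>
    rw [moebius_coe, pt_coe, ← mul_smul, ← map_mul]
    split_ifs with hc
    · rw [pt_inf]
      have h1 : φ ((mM 1 one_ne_zero)⁻¹ * (A * tM x)) • b = b := by
        rw [S.fix_b_iff h, inv_mM]
        have hc' : A.1 1 0 * x + A.1 1 1 = 0 := hc
        simp [mul_apply', hc']
      rw [map_mul, map_inv, mul_smul, inv_smul_eq_iff, hw.2] at h1
      exact h1
    · rw [pt_coe]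
      have h1 : φ ((tM ((A 0 0 * x + A 0 1) / (A 1 0 * x + A 1 1)))⁻¹ * (A * tM x)) • b = b := by
        rw [S.fix_b_iff h, inv_tM]
        have hc' : A.1 1 0 * x + A.1 1 1 ≠ 0 := hc
        simp [mul_apply', hc']
      rw [map_mul, map_inv, mul_smul, inv_smul_eq_iff] at h1
      exact h1

theorem pt_injective (S : SLX U X a b φ) (h : SSplit U) : Function.Injective (pt φ a b) := by
  intro p p' hpp
  induction p using OnePoint.rec with
  | infty =>
    induction p' using OnePoint.rec with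
    | infty => rfl
    | coe t =>
      rw [pt_inf, pt_coe] at hpp
      exact absurd hpp.symm (h.smul_ne_center S.ne (S.up t).1)
  | coe t =>
    induction p' using OnePoint.rec with
    | infty =>
      rw [pt_inf, pt_coe] at hpp
      exact absurd hpp (h.smul_ne_center S.ne (S.up t).1)
    | coe t' =>
      rw [pt_coe, pt_coe] at hpp
      have h1 := h.eq_of_smul_eq S.ne (S.up t).1 (S.up t').1 hpp
      rw [S.tM_inj h1]

theorem mem_pt (S : SLX U X a b φ) (h : SSplit U) (c : Ω) :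
    (∀ x ∈ X, x • c = c) ↔ ∃ p, pt φ a b p = c := by
  constructor
  · intro hc
    by_cases hca : c = a
    · exact ⟨∞, hca.symm⟩
    · obtain ⟨v, hv, hvb⟩ := trans_fix h S.fixa S.fixb hc S.ne hca
      obtain ⟨t, ht⟩ := S.up_surj v hv
      exact ⟨t, by rw [pt_coe, ht, hvb]⟩
  · rintro ⟨p, rfl⟩
    induction p using OnePoint.rec with
    | infty => exact S.fixa
    | coe t => exact fix_smul_M (S.tM_gen t) S.fixb

theorem ne_bot (S : SLX U X a b φ) : U a ⊓ centralizer (X : Set G) ≠ ⊥ := by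
  intro h
  have h1 := S.up 1
  rw [h, mem_bot] at h1
  exact one_ne_zero (S.inj 1 h1)

theorem two_ne_zero_of_odd [Finite F] (hodd : Odd (Nat.card F)) : (2 : F) ≠ 0 := by
  intro h2
  have := Fintype.ofFinite F
  rw [Nat.card_eq_fintype_card] at hodd
  obtain ⟨k, hk⟩ := hodd
  have h1 : (Fintype.card F : F) = 0 := Nat.cast_card_eq_zero F
  rw [hk] at h1
  push_cast at h1
  rw [h2, zero_mul, zero_add] at h1
  exact one_ne_zero h1

/-- An element of `N_G(X)` fixing `a` and `b` acts as `x ↦ μ σ(x)`. -/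
theorem exists_mu_sigma [Finite F] (h2 : (2 : F) ≠ 0) (S : SLX U X a b φ) (h : SSplit U) {k : G}
    (hk : k ∈ normalizer (X : Set G)) (hka : k • a = a) (hkb : k • b = b) :
    ∃ μ : F, μ ≠ 0 ∧ ∃ σ : F ≃+* F, ∀ t : F, k * φ (tM t) * k⁻¹ = φ (tM (μ * σ t)) := by
  have hconj : ∀ t, ∃ t', k * φ (tM t) * k⁻¹ = φ (tM t') := by
    intro t
    have h1 := conj_fixU h hk (S.up t)
    rw [hka] at h1
    obtain ⟨t', ht'⟩ := S.up_surj _ h1
    exact ⟨t', ht'.symm⟩
  choose L hL using hconj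
  have hLadd : ∀ s t, L (s + t) = L s + L t := by
    intro s t
    apply S.tM_inj
    rw [← hL, tM_add, tM_add, map_mul, map_mul, ← hL, ← hL]
    group
  have hL0 : ∀ t, L t = 0 → t = 0 := by
    intro t ht
    have h3 := hL t
    rw [ht, tM_zero, map_one, mul_inv_eq_one, mul_eq_left] at h3
    exact S.inj t h3
  have hL1 : L 1 ≠ 0 := fun e => one_ne_zero (hL0 1 e)
  have htor : ∀ (r : F) (hr : r ≠ 0) (t : F),
      φ (nM r hr) * φ (tM t) * (φ (nM r hr))⁻¹ = φ (tM (r ^ 2 * t)) := by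
    intro r hr t
    rw [← map_mul, nM_tM, map_mul, mul_inv_cancel_right]
  have hka' : k⁻¹ • a = a := by rw [inv_smul_eq_iff, hka]
  have hkb' : k⁻¹ • b = b := by rw [inv_smul_eq_iff, hkb]
  have hsq : ∀ c : F, c ≠ 0 → ∃ s', ∀ t, L (c ^ 2 * t) = s' * L t := by
    intro c hc
    have h3 := conj_genFix h hk (S.nM_gen c hc)
    have hm := S.nM_mem h c hc
    rw [← S.range_eq h] at h3
    obtain ⟨B, hB⟩ := h3
    obtain ⟨r, hr, rfl⟩ := S.eq_nM h (A := B) (by rw [hB, mul_smul, mul_smul, hka', hm.1, hka])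
      (by rw [hB, mul_smul, mul_smul, hkb', hm.2, hkb])
    refine ⟨r ^ 2, fun t => ?_⟩
    apply S.tM_inj
    rw [← hL, ← htor c hc t, ← htor r hr (L t), ← hL, hB]
    group
  obtain ⟨μ, hμ, σ, hσ⟩ := exists_semilinear h2 hLadd hL1 hsq
  exact ⟨μ, hμ, σ, fun t => by rw [hL, hσ]⟩

/-- **`PG` from `SL₂` coordinates.** -/
theorem of_slx [Finite F] (h2 : (2 : F) ≠ 0) (S : SLX U X a b φ) (h : SSplit U) :
    PG U X a b (pt φ a b) where
  inj := pt_injective S h
  mem := mem_pt S h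
  inf := rfl
  zero := pt_zero
  psl m hm := by
    rw [← S.range_eq h] at hm
    obtain ⟨A, rfl⟩ := hm
    exact ⟨A, smul_pt S h A⟩
  psl_surj A := ⟨φ A, S.gen A, smul_pt S h A⟩
  semi k hk := by
    have hka : ∀ x ∈ X, x • k • a = k • a := fix_smul hk S.fixa
    have hkb : ∀ x ∈ X, x • k • b = k • b := fix_smul hk S.fixb
    have hkab : k • b ≠ k • a := fun e => S.ne (MulAction.injective k e)
    obtain ⟨m, hm, hma, hmb⟩ := two_fix h S.fixa S.fixb S.ne (ne_bot S) hka hkb hkab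
    have hk' : m⁻¹ * k ∈ normalizer (X : Set G) :=
      mul_mem (inv_mem (centralizer_le_normalizer (genFix_le_centralizer hm))) hk
    have hma' : (m⁻¹ * k) • a = a := by rw [mul_smul, inv_smul_eq_iff, hma]
    have hmb' : (m⁻¹ * k) • b = b := by rw [mul_smul, inv_smul_eq_iff, hmb]
    obtain ⟨μ, hμ, σ, hσ⟩ := exists_mu_sigma h2 S h hk' hma' hmb'
    rw [← S.range_eq h] at hm
    obtain ⟨A, rfl⟩ := hm
    refine ⟨Matrix.SpecialLinearGroup.toGL A * dilM μ hμ, σ, fun p => ?_⟩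
    have h1 : ((φ A)⁻¹ * k) • pt φ a b p = pt φ a b (dilM μ hμ • OnePoint.map σ p) := by
      induction p using OnePoint.rec with
      | infty => rw [OnePoint.map_infty, dilM_inf, pt_inf, hma']
      | coe t =>
        rw [OnePoint.map_some, dilM_coe, pt_coe, pt_coe, ← hσ, mul_smul _ ((φ A)⁻¹ * k)⁻¹,
          inv_smul_eq_iff.2 hmb'.symm, mul_smul ((φ A)⁻¹ * k)]
    have h3 : k • pt φ a b p = φ A • (((φ A)⁻¹ * k) • pt φ a b p) := by
      rw [← mul_smul, mul_inv_cancel_left]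
    rw [h3, h1, mul_smul, smul_pt S h]
    rfl

theorem exists_pg [Finite Ω] (h : SSplit U) (hab : b ≠ a) (hX : X ≤ Dab G a b) {q : ℕ}
    (hD : DL (genFix U X) (U a ⊓ centralizer (X : Set G)) (Dab G a b ⊓ genFix U X) (kerFix Ω X)
      (fun w => w ∈ genFix U X ∧ Swaps w a b) q) :
    ∃ (F : Type) (_ : Field F) (_ : Fintype F) (_ : DecidableEq F) (ψ : OnePoint F → Ω),
      Fintype.card F = q ∧ PG U X a b ψ := by
  classical
  obtain ⟨F, i1, i2, hF, φ, S⟩ := exists_slx_of_DL h hab (fun x hx => (hX hx).1)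
    (fun x hx => (hX hx).2) hD
  have h2 : (2 : F) ≠ 0 := two_ne_zero_of_odd (by rw [Nat.card_eq_fintype_card, hF]; exact hD.odd)
  exact ⟨F, i1, i2, inferInstance, pt φ a b, hF, of_slx h2 S h⟩

theorem exists_pg_three [Finite Ω] (h : SSplit U) (hab : b ≠ a) (hX : X ≤ Dab G a b)
    (hc : Nat.card (U a ⊓ centralizer (X : Set G) : Subgroup G) = 3) :
    ∃ (F : Type) (_ : Field F) (_ : Fintype F) (_ : DecidableEq F) (ψ : OnePoint F → Ω),
      Fintype.card F = 3 ∧ PG U X a b ψ := by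
  classical
  obtain ⟨F, i1, i2, hF, φ, S⟩ := exists_slx_of_three h hab (fun x hx => (hX hx).1)
    (fun x hx => (hX hx).2) hc
  have h2 : (2 : F) ≠ 0 := two_ne_zero_of_odd (by
    rw [Nat.card_eq_fintype_card, hF]; exact ⟨1, rfl⟩)
  exact ⟨F, i1, i2, inferInstance, pt φ a b, hF, of_slx h2 S h⟩

end coord

end Cfsg.Agent.HKS.PGammaL
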