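import Mathlib
import Cfsg.Agent.HKS.LinSplit
import Cfsg.Agent.HKS.CharPair

/-!
# The Hecke algebra of an invariant linear character, modulo `ℓ`

Let `lam : W →* ℂˣ` be as in `LinChar`, with the eigenvalues `X`, `-Y`, `X Y = N = |Q|`. Then
`X - Y = ∑ lam (μ_u)`, the sum over `1 ≠ u ∈ Q`, where `μ_u ∈ W` is the middle component of
`w u w⁻¹ ∈ Q μ_u Q`.

* `quad`: the quadratic relation;
* `exists_psi`: the theorem `LinChar.exists_psi` with the additional information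
  `X - Y = ∑ lam (μ_u)`;
* `dvd_of_sum`: a sum of `m` `ℓ`-th roots of unity equal to the integer `n` has `ℓ ∣ m - n`;
* `lin_char_cong`: the permutation form, `ℓ ∣ (N - 1) - (X - Y)` if `lam ^ ℓ = 1`;
* `cube_cong`: if moreover `n_t = q = p ^ e` and `N = q ^ 3`, then `ℓ` divides
  `(q - 1) (q ^ 2 + 1)` or `(q ^ 2 - 1) (q + 1)`.
-/

set_option autoImplicit false
set_option linter.unusedSectionVars false

open Cfsg

namespace Cfsg.Agent.HKS.ReeHecke

open LinChar LinSplit Subgroup MulAction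

/-! ### Sums of roots of unity -/

section roots

open Polynomial

/-- If a sum of `m` `ℓ`-th roots of unity is the integer `n`, then `ℓ ∣ m - n`. -/
theorem dvd_of_sum {ι : Type*} [Fintype ι] {l : ℕ} (hl : l.Prime)
    (z : ι → ℂ) (hz : ∀ i, z i ^ l = 1) {n : ℤ} (hn : ∑ i, z i = n) :
    (l : ℤ) ∣ Fintype.card ι - n := by
  classical
  have := Fact.mk hl
  have hprim : IsPrimitiveRoot (Complex.exp (2 * Real.pi * Complex.I / l)) l :=
    Complex.isPrimitiveRoot_exp l hl.ne_zero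
  set ζ := Complex.exp (2 * Real.pi * Complex.I / l) with hζ
  have : NeZero l := ⟨hl.ne_zero⟩
  have hex : ∀ i, ∃ a : ℕ, ζ ^ a = z i := fun i =>
    let ⟨a, _, ha⟩ := hprim.eq_pow_of_pow_eq_one (hz i)
    ⟨a, ha⟩
  choose a ha using hex
  let f : ℤ[X] := (∑ i, X ^ (a i)) - C n
  have hf : aeval ζ f = 0 := by
    simp only [f, map_sub, map_sum, map_pow, aeval_X, ha, hn, aeval_C]
    simp
  have hdvd : cyclotomic l ℤ ∣ f := by
    rw [cyclotomic_eq_minpoly hprim hl.pos]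
    exact minpoly.isIntegrallyClosed_dvd (hprim.isIntegral hl.pos) hf
  obtain ⟨q, hq⟩ := hdvd
  have h1 := congrArg (eval 1) hq
  rw [eval_mul, eval_one_cyclotomic_prime] at h1
  have h2 : eval 1 f = Fintype.card ι - n := by
    simp [f, eval_finsetSum]
  rw [h2] at h1
  exact Dvd.intro _ h1.symm

end roots

/-! ### The quadratic relation -/

section quad

variable {G : Type*} [Group G] {B Q D W : Subgroup G} {w : G}

theorem pr_notMem (h : RankOne B Q D W w) {u : G} (hu : u ∈ Q) (hu1 : u ≠ 1) :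
    (pr h (w * u * w⁻¹) : G) ∉ D := fun hc =>
  h.not_mem_of_Q' hu hu1 ((pr_mem_D h _).1 hc)

variable {V Y : Type*} [AddCommGroup V] [Module ℂ V] [AddCommGroup Y] [Module ℂ Y]
  {h : RankOne B Q D W w} [Fintype Q] {ρ : Representation ℂ G V}
  {σ : Representation ℂ W Y} {φ : Y →ₗ[ℂ] V}

/-- **The quadratic relation** `N x² y = y + x (∑ σ(μ_u) y - y)`. -/
theorem quad (H : FixRep h ρ σ φ) {x : ℂ}
    (hx : ∀ w' (hw' : w' ∈ W), w' ∉ D → ∀ y,
      avg ρ Q (ρ w' (φ y)) = x • φ (σ ⟨w', hw'⟩ y)) (y : Y) :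
    ((Nat.card Q : ℂ) * x ^ 2) • φ y =
      φ y + x • φ ((∑ u : Q, σ (pr h (w * (u : G) * w⁻¹)) y) - y) := by
  classical
  have hN : (Nat.card Q : ℂ) ≠ 0 := card_ne
  have h1 := FixRep.avg_w_avg hx h y
  have h2 : avg ρ Q (ρ w (avg ρ Q (ρ w⁻¹ (φ y)))) =
      (Nat.card Q : ℂ)⁻¹ • ∑ u : Q, avg ρ Q (ρ (w * u * w⁻¹) (φ y)) := by
    rw [avg_apply ρ (ρ w⁻¹ (φ y)), map_smul, map_smul, map_sum, map_sum]
    congr 1
    refine Finset.sum_congr rfl fun u _ => ?_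
    rw [rr, rr, mul_assoc]
  rw [h2] at h1
  have h3 : ∑ u : Q, avg ρ Q (ρ (w * u * w⁻¹) (φ y)) =
      φ y + x • φ ((∑ u : Q, σ (pr h (w * (u : G) * w⁻¹)) y) - y) := by
    have h4 : (∑ u : Q, σ (pr h (w * (u : G) * w⁻¹)) y) - y =
        ∑ u ∈ Finset.univ.erase (1 : Q), σ (pr h (w * (u : G) * w⁻¹)) y := by
      rw [← Finset.add_sum_erase _ _ (Finset.mem_univ (1 : Q))]
      have h5 : pr h (w * ((1 : Q) : G) * w⁻¹) = 1 := by
        rw [OneMemClass.coe_one, mul_one, mul_inv_cancel]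
        exact CharPair.pr_one h
      rw [h5, map_one, Module.End.one_apply, add_sub_cancel_left]
    rw [h4, ← Finset.add_sum_erase _ _ (Finset.mem_univ (1 : Q))]
    congr 1
    · rw [OneMemClass.coe_one, mul_one, mul_inv_cancel, map_one, Module.End.one_apply,
        H.avg_phi]
    · rw [map_sum, Finset.smul_sum]
      refine Finset.sum_congr rfl fun u hu => ?_
      have hu1 : (u : G) ≠ 1 := fun hc => (Finset.mem_erase.1 hu).1 (Subtype.ext hc)
      obtain ⟨u₁, hu₁, u₂, hu₂, he⟩ := pr_spec h (w * (u : G) * w⁻¹)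
      conv_lhs => rw [he]
      rw [← rr ρ _ u₂, H.fixQ _ hu₂, ← rr ρ u₁, avg_rho ρ _ hu₁,
        hx _ (pr h (w * (u : G) * w⁻¹)).2 (pr_notMem h u.2 hu1)]
  rw [h3] at h1
  rw [mul_smul, ← h1, smul_inv_smul₀ hN]

/-- The quadratic relation for a linear character. -/
theorem quad_lin {n : ℕ} {lam : W →* ℂˣ} {ρ : Representation ℂ G (Fin n → ℂ)}
    {φ : (Fin 1 → ℂ) →ₗ[ℂ] (Fin n → ℂ)}
    (H : FixRep h ρ (Characters.Linear.repOfHom lam) φ) {x : ℂ}
    (hx : ∀ w' (hw' : w' ∈ W), w' ∉ D → ∀ y,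
      avg ρ Q (ρ w' (φ y)) = x • φ (Characters.Linear.repOfHom lam ⟨w', hw'⟩ y)) :
    (Nat.card Q : ℂ) * x ^ 2 =
      1 + x * ((∑ u : Q, (lam (pr h (w * (u : G) * w⁻¹)) : ℂ)) - 1) := by
  have hy : (fun _ => 1 : Fin 1 → ℂ) ≠ 0 := fun hc => one_ne_zero (congrFun hc 0)
  have h1 := quad H hx (fun _ => 1)
  have h2 : ∀ g : W, Characters.Linear.repOfHom lam g (fun _ => 1) =
      (lam g : ℂ) • (fun _ => 1 : Fin 1 → ℂ) := fun g => by
    rw [Characters.Linear.repOfHom_apply]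
    rfl
  rw [Finset.sum_congr rfl fun u _ => h2 _, ← Finset.sum_smul] at h1
  have h3 : (∑ u : Q, (lam (pr h (w * (u : G) * w⁻¹)) : ℂ)) • (fun _ => 1 : Fin 1 → ℂ) -
      (fun _ => 1) = ((∑ u : Q, (lam (pr h (w * (u : G) * w⁻¹)) : ℂ)) - 1) •
        (fun _ => 1 : Fin 1 → ℂ) := by
    rw [sub_smul, one_smul]
  rw [h3, map_smul, smul_smul, ← one_smul ℂ (φ fun _ => 1), smul_smul, smul_smul, mul_one,
    mul_one, ← add_smul] at h1
  have h4 : φ (fun _ => 1) ≠ 0 := fun hc => hy (H.inj (by rw [hc, map_zero]))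
  exact smul_left_injective ℂ h4 h1

end quad

/-! ### The theorem with the difference of the eigenvalues -/

section main

variable {G : Type*} [Group G] {B Q D W : Subgroup G} {w : G}

/-- The data of one constituent. -/
theorem constituent' {h : RankOne B Q D W w} [Fintype G] [Fintype Q]
    (hnc : Subgroup.normalClosure (Q : Set G) = ⊤) {lam : W →* ℂˣ} {n : ℕ}
    {ρ : Representation ℂ G (Fin n → ℂ)} {φ : (Fin 1 → ℂ) →ₗ[ℂ] (Fin n → ℂ)}
    (H : FixRep h ρ (Characters.Linear.repOfHom lam) φ) (hρ : ρ.IsIrreducible)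
    {d : G} (hd : d ∈ D) (hlam : lam ⟨d, h.DW hd⟩ ≠ 1) :
    1 < n ∧ ∃ x : ℂ, x ≠ 0 ∧ IsIntegral ℤ ((Nat.card Q : ℂ) * x) ∧ IsIntegral ℤ x⁻¹ ∧
      (n : ℂ) * (1 + Nat.card Q * x ^ 2) = Nat.card Q + 1 ∧
      (∀ g, (Nat.card B : ℂ) * (1 + Nat.card Q * x ^ 2) * ρ.character g =
        S₀ h (fun m => (lam m : ℂ)) g + x * S₁ h (fun m => (lam m : ℂ)) g) ∧
      (Nat.card Q : ℂ) * x ^ 2 =
        1 + x * ((∑ u : Q, (lam (pr h (w * (u : G) * w⁻¹)) : ℂ)) - 1) := by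
  have hirr : IsIrrCharacter G ρ.character := ⟨n, ρ, hρ, rfl⟩
  have hn : ρ.character 1 = n := by rw [Representation.char_one]; simp
  have h1 : n ≠ 1 := by
    rintro rfl
    exact hlam (one_of_deg_one hnc H (by rw [hn]; simp) hd)
  have h0 : n ≠ 0 := by
    rintro rfl
    exact Characters.Core.isIrr_apply_one_ne_zero hirr (by rw [hn]; simp)
  have hY : (Characters.Linear.repOfHom lam).character 1 ≠ 0 := by
    rw [Characters.Linear.character_repOfHom]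
    simp
  have hY' : (Characters.Linear.repOfHom lam).character 1 = 1 := by
    rw [Characters.Linear.character_repOfHom]
    simp
  obtain ⟨x, hx⟩ := H.exists_scalar
  obtain ⟨hx0, hx1, hx2⟩ := H.integral hx hY
  refine ⟨by omega, x, hx0, hx1, hx2, ?_, fun g => ?_, quad_lin H hx⟩
  · have := H.degree hρ hx hY
    rw [hn, hY', mul_one] at this
    exact this
  · have := value H hirr hρ hx hY g
    rw [Characters.Linear.character_repOfHom] at this
    exact this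

/-- **Linear characters.** -/
theorem exists_psi' (h : RankOne B Q D W w) [Fintype G] [Fintype Q]
    (hnc : Subgroup.normalClosure (Q : Set G) = ⊤) {p k : ℕ} (hp : p.Prime)
    (hN : Nat.card Q = p ^ k) (lam : W →* ℂˣ) {d : G} (hd : d ∈ D)
    (hlam : lam ⟨d, h.DW hd⟩ ≠ 1) {t : G}
    (hrat : ∀ χ : G → ℂ, IsIrrCharacter G χ → ∃ c : ℤ, χ t = c)
    (ht : Good h (fun m => (lam m : ℂ)) t) {F M : ℕ}
    (hF : Nat.card {a : G // a * t * a⁻¹ ∈ B} = F * Nat.card B)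
    (hM : Nat.card {a : G // a * t * a⁻¹ ∉ B} = M * Nat.card B) (hM0 : 0 < M) :
    ∃ X Y : ℕ, X * Y = Nat.card Q ∧ 1 < X ∧ 1 < Y ∧
      (X : ℂ) - Y = (∑ u : Q, (lam (pr h (w * (u : G) * w⁻¹)) : ℂ)) - 1 ∧
      ∃ ψ : G → ℂ, IsIrrCharacter G ψ ∧
      ((X : ℂ) + Y) * ψ 1 = Y * (Nat.card Q + 1) ∧
      ∀ g, (Nat.card B : ℂ) * (X + Y) * ψ g =
        Y * S₀ h (fun m => (lam m : ℂ)) g + S₁ h (fun m => (lam m : ℂ)) g := by
  classical
  have := Fintype.ofFinite B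
  have := Fintype.ofFinite D
  have hB : (Nat.card B : ℂ) ≠ 0 := by exact_mod_cast Nat.card_pos.ne'
  have hQ0 : 0 < Nat.card Q := Nat.card_pos
  have hσ : Representation.IsIrreducible
      ((Characters.Linear.repOfHom lam).comp (Subgroup.inclusion h.DW)) :=
    Characters.Linear.isIrreducible_of_finrank_eq_one _ (by simp)
  obtain ⟨n₁, n₂, ρ₁, ρ₂, φ₁, φ₂, hρ₁, hρ₂, -, H₁, H₂, hsum⟩ :=
    h.exists_pair (Characters.Linear.repOfHom lam) hσ
  have hirr₁ : IsIrrCharacter G ρ₁.character := ⟨n₁, ρ₁, hρ₁, rfl⟩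
  have hirr₂ : IsIrrCharacter G ρ₂.character := ⟨n₂, ρ₂, hρ₂, rfl⟩
  rw [Characters.Linear.character_repOfHom] at hsum
  obtain ⟨hn₁, x₁, hx₁0, hx₁1, hx₁2, hdeg₁, hval₁, hq₁⟩ := constituent' hnc H₁ hρ₁ hd hlam
  obtain ⟨hn₂, x₂, hx₂0, hx₂1, hx₂2, hdeg₂, hval₂, hq₂⟩ := constituent' hnc H₂ hρ₂ hd hlam
  obtain ⟨c₁, hc₁⟩ := hrat _ hirr₁
  obtain ⟨c₂, hc₂⟩ := hrat _ hirr₂
  -- the degrees
  have hn : n₁ + n₂ = Nat.card Q + 1 := by
    have h1 : indFun B (h.lam fun m => (lam m : ℂ)) 1 = (Nat.card Q + 1 : ℂ) := by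
      have h2 : IsIrrCharacter D (fun d => (fun m => (lam m : ℂ)) (Subgroup.inclusion h.DW d)) :=
        Characters.Linear.isIrrCharacter_hom (lam.comp (Subgroup.inclusion h.DW))
      rw [h.ind_one h2]
      simp
    rw [hsum, Pi.add_apply, Representation.char_one, Representation.char_one] at h1
    simp only [Module.finrank_fin_fun] at h1
    exact_mod_cast h1
  -- the values at `t`
  have hv₁ : (1 + Nat.card Q * x₁ ^ 2) * (c₁ : ℂ) = F + x₁ * M := by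
    have h1 := hval₁ t
    rw [S₀_of_good h ht hF, S₁_of_good h ht hM, hc₁] at h1
    apply mul_left_cancel₀ hB
    linear_combination h1
  have hv₂ : (1 + Nat.card Q * x₂ ^ 2) * (c₂ : ℂ) = F + x₂ * M := by
    have h1 := hval₂ t
    rw [S₀_of_good h ht hF, S₁_of_good h ht hM, hc₂] at h1
    apply mul_left_cancel₀ hB
    linear_combination h1
  have hc : c₁ + c₂ = F := by
    have h1 := indFun_lam h (fun m => (lam m : ℂ)) t
    rw [S₀_of_good h ht hF, hsum, Pi.add_apply, hc₁, hc₂, mul_comm (F : ℂ)] at h1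
    have h2 := mul_left_cancel₀ hB h1
    exact_mod_cast h2
  obtain ⟨z₁, hz₁, hz₁d, hz₁1, hz₁N⟩ := exists_eigen hp hN hx₁0 hx₁1 hx₁2 hn₁ (by omega) hdeg₁
    hM0 hv₁
  obtain ⟨z₂, hz₂, hz₂d, hz₂1, hz₂N⟩ := exists_eigen hp hN hx₂0 hx₂1 hx₂2 hn₂ (by omega) hdeg₂
    hM0 hv₂
  have hz : z₁ * z₂ = - (Nat.card Q : ℤ) := by
    refine mul_eigen (c₁ := c₁) (c₂ := c₂) hQ0 hM0 hn ?_ ?_ hc ?_ ?_
    · have : (n₁ : ℂ) * (Nat.card Q + z₁ ^ 2) = Nat.card Q * (Nat.card Q + 1) := by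
        rw [← hz₁]
        linear_combination (Nat.card Q : ℂ) * hdeg₁
      exact_mod_cast this
    · have : (n₂ : ℂ) * (Nat.card Q + z₂ ^ 2) = Nat.card Q * (Nat.card Q + 1) := by
        rw [← hz₂]
        linear_combination (Nat.card Q : ℂ) * hdeg₂
      exact_mod_cast this
    · have : ((Nat.card Q : ℂ) + z₁ ^ 2) * c₁ = Nat.card Q * F + z₁ * M := by
        rw [← hz₁]
        linear_combination (Nat.card Q : ℂ) * hv₁
      exact_mod_cast this
    · have : ((Nat.card Q : ℂ) + z₂ ^ 2) * c₂ = Nat.card Q * F + z₂ * M := by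
        rw [← hz₂]
        linear_combination (Nat.card Q : ℂ) * hv₂
      exact_mod_cast this
  -- the constituent with positive eigenvalue
  have key : ∀ (n : ℕ) (ρ : Representation ℂ G (Fin n → ℂ)) (x : ℂ) (z z' : ℤ),
      IsIrrCharacter G ρ.character → (Nat.card Q : ℂ) * x = z → z * z' = - (Nat.card Q : ℤ) →
      1 < z'.natAbs → 1 < z.natAbs → 0 < z →
      ((n : ℂ) * (1 + Nat.card Q * x ^ 2) = Nat.card Q + 1) →
      (∀ g, (Nat.card B : ℂ) * (1 + Nat.card Q * x ^ 2) * ρ.character g =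
        S₀ h (fun m => (lam m : ℂ)) g + x * S₁ h (fun m => (lam m : ℂ)) g) →
      (Nat.card Q : ℂ) * x ^ 2 =
        1 + x * ((∑ u : Q, (lam (pr h (w * (u : G) * w⁻¹)) : ℂ)) - 1) →
      ∃ X Y : ℕ, X * Y = Nat.card Q ∧ 1 < X ∧ 1 < Y ∧
      (X : ℂ) - Y = (∑ u : Q, (lam (pr h (w * (u : G) * w⁻¹)) : ℂ)) - 1 ∧
      ∃ ψ : G → ℂ, IsIrrCharacter G ψ ∧
      ((X : ℂ) + Y) * ψ 1 = Y * (Nat.card Q + 1) ∧
      ∀ g, (Nat.card B : ℂ) * (X + Y) * ψ g =
        Y * S₀ h (fun m => (lam m : ℂ)) g + S₁ h (fun m => (lam m : ℂ)) g := by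
    intro n ρ x z z' hirr hz hzz hz'1 hz1 hpos hdeg hval hq
    have hX : ((z.natAbs : ℕ) : ℤ) = z := Int.natAbs_of_nonneg hpos.le
    have hneg : z' < 0 := by
      by_contra hc'
      have h1 : 0 ≤ z * z' := mul_nonneg hpos.le (not_lt.1 hc')
      rw [hzz] at h1
      have : (0 : ℤ) < Nat.card Q := by exact_mod_cast hQ0
      omega
    have hY : ((z'.natAbs : ℕ) : ℤ) = - z' := Int.ofNat_natAbs_of_nonpos hneg.le
    have hXY : z.natAbs * z'.natAbs = Nat.card Q := by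
      have : ((z.natAbs : ℕ) : ℤ) * (z'.natAbs : ℕ) = (Nat.card Q : ℤ) := by
        rw [hX, hY]; linear_combination -hzz
      exact_mod_cast this
    have hXC : ((z.natAbs : ℕ) : ℂ) = z := by rw [← Int.cast_natCast, hX]
    have hXYC : ((z.natAbs : ℕ) : ℂ) * (z'.natAbs : ℕ) = Nat.card Q := by
      exact_mod_cast hXY
    have hX0 : ((z.natAbs : ℕ) : ℂ) ≠ 0 := by
      exact_mod_cast (zero_lt_one.trans hz1).ne'
    have hxY : x * (z'.natAbs : ℕ) = 1 := by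
      apply mul_left_cancel₀ hX0
      rw [mul_one]
      calc ((z.natAbs : ℕ) : ℂ) * (x * (z'.natAbs : ℕ)) =
          (((z.natAbs : ℕ) : ℂ) * (z'.natAbs : ℕ)) * x := by ring
        _ = Nat.card Q * x := by rw [hXYC]
        _ = _ := by rw [hz, hXC]
    have hxX : (Nat.card Q : ℂ) * x ^ 2 * (z'.natAbs : ℕ) = (z.natAbs : ℕ) := by
      calc (Nat.card Q : ℂ) * x ^ 2 * (z'.natAbs : ℕ) =
          ((Nat.card Q : ℂ) * x) * (x * (z'.natAbs : ℕ)) := by ring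
        _ = _ := by rw [hxY, mul_one, hz, hXC]
    refine ⟨z.natAbs, z'.natAbs, hXY, hz1, hz'1, ?_, ρ.character, hirr, ?_, fun g => ?_⟩
    · linear_combination ((z'.natAbs : ℕ) : ℂ) * hq - hxX +
        ((∑ u : Q, (lam (pr h (w * (u : G) * w⁻¹)) : ℂ)) - 1) * hxY
    · rw [Representation.char_one]
      simp only [Module.finrank_fin_fun]
      linear_combination ((z'.natAbs : ℕ) : ℂ) * hdeg - (n : ℂ) * hxX
    · linear_combination ((z'.natAbs : ℕ) : ℂ) * hval g -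
        (Nat.card B : ℂ) * ρ.character g * hxX +
        S₁ h (fun m => (lam m : ℂ)) g * hxY
  rcases lt_trichotomy z₁ 0 with h1 | h1 | h1
  · have h2 : 0 < z₂ := by
      by_contra hc'
      have h3 : 0 ≤ z₁ * z₂ := mul_nonneg_of_nonpos_of_nonpos h1.le (not_lt.1 hc')
      rw [hz] at h3
      have : (0 : ℤ) < Nat.card Q := by exact_mod_cast hQ0
      omega
    exact key n₂ ρ₂ x₂ z₂ z₁ hirr₂ hz₂ (by rw [mul_comm]; exact hz) hz₁1 hz₂1 h2 hdeg₂ hval₂ hq₂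
  · rw [h1] at hz₁1
    exact absurd hz₁1 (by simp)
  · exact key n₁ ρ₁ x₁ z₁ z₂ hirr₁ hz₁ hz hz₂1 hz₁1 h1 hdeg₁ hval₁ hq₁

end main

/-! ### The permutation form -/

section split

variable {G Ω : Type*} [Group G] [MulAction G Ω] {U : Ω → Subgroup G}

/-- **Linear characters of order `ℓ` of `D`**: the eigenvalues satisfy `X - Y ≡ N - 1 (mod ℓ)`. -/
theorem lin_char_cong (h : SSplit U) [Finite G] [Finite Ω] (hgen : (⨆ c, U c) = ⊤) {a b : Ω}
    (hab : b ≠ a) {p k : ℕ} (hp : p.Prime) (hp2 : p ≠ 2) (hN : Nat.card (U a) = p ^ k)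
    (lam : Dab G a b →* ℂˣ) (hlam : lam ≠ 1) {l : ℕ} (hl : l.Prime) (hl2 : l ≠ 2)
    (hlr : ∀ d, lam d ^ l = 1)
    {t : G} (ht : t * t = 1) {c₀ : Ω} (hc₀ : t • c₀ ≠ c₀)
    (hinv : ∀ (m : G), Swaps m a b → IsConj t m → ∀ d e : Dab G a b, (e : G) = m * d * m⁻¹ →
      lam e = lam d) :
    ∃ X Y : ℕ, X * Y = Nat.card (U a) ∧ 1 < X ∧ 1 < Y ∧
      ((l : ℤ) ∣ (p ^ k : ℤ) - 1 - (X - Y)) ∧ ∃ ψ : G → ℂ, IsIrrCharacter G ψ ∧
      ((X : ℂ) + Y) * ψ 1 = Y * (Nat.card (U a) + 1) ∧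
      ((X : ℂ) + Y) * ψ t = Y * Nat.card (fixedBy Ω t) +
        (Nat.card Ω - Nat.card (fixedBy Ω t)) := by
  classical
  have hodd' : Odd l := hl.odd_of_ne_two hl2
  have hsq : ∀ s : G, IsConj t s → s * s = 1 := by
    intro s hs
    obtain ⟨g, rfl⟩ := isConj_iff.1 hs
    calc g * t * g⁻¹ * (g * t * g⁻¹) = g * (t * t) * g⁻¹ := by group
      _ = 1 := by rw [ht]; group
  have key : ∀ x : ℂˣ, x ^ l = 1 → x * x = 1 → x = 1 := by
    intro x hx1 hx2
    obtain ⟨c, rfl⟩ := hodd'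
    rwa [pow_add, pow_mul, sq, hx2, one_pow, one_mul, pow_one] at hx1
  obtain ⟨m, hm, hms⟩ := h.exists_conj_swaps hab ht hc₀
  have hm2 : m * m = 1 := hsq m hm
  obtain ⟨d, hd⟩ : ∃ d, lam d ≠ 1 := by
    by_contra hc
    push Not at hc
    exact hlam (MonoidHom.ext hc)
  set Λ : Wab G a b →* ℂˣ := extend hab lam hms hm2 (hinv m hms hm) with hΛ
  have hΛl : ∀ g, Λ g ^ l = 1 := by
    intro g
    by_cases hgD : (g : G) ∈ Dab G a b
    · rw [hΛ, extend_D hab lam hms hm2 (hinv m hms hm) hgD]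
      exact hlr _
    · have hgs := (mem_Wab_not_mem_Dab hab).1 ⟨g.2, hgD⟩
      rw [hΛ, extend_swaps hab lam hms hm2 (hinv m hms hm) hgs]
      exact hlr _
  have hone : ∀ g : Wab G a b, IsConj t (g : G) → Λ g = 1 := by
    intro g hg
    refine key _ (hΛl g) ?_
    rw [← map_mul]
    have h1 : g * g = 1 := Subtype.ext (hsq _ hg)
    rw [h1, map_one]
  have := Fintype.ofFinite G
  have := Fintype.ofFinite Ω
  have := Fintype.ofFinite (U a)
  have hodd : Odd (Nat.card (U a)) := by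
    rw [hN]
    exact (hp.odd_of_ne_two hp2).pow
  have hle : Nat.card (fixedBy Ω t) < Nat.card Ω := by
    rw [Nat.card_eq_fintype_card, Nat.card_eq_fintype_card]
    exact Fintype.card_subtype_lt (p := fun c => t • c = c) hc₀
  have hgood : Good (h.rankOne hab hms) (fun m => (Λ m : ℂ)) t :=
    good_of_inv _ hodd ht fun m hm => by simp only [hone m hm, Units.val_one]
  have hdΛ : Λ ⟨(d : G), Dab_le_Wab a b d.2⟩ ≠ 1 := by
    rw [hΛ, extend_D hab lam hms hm2 (hinv m hms hm) (g := ⟨d, Dab_le_Wab a b d.2⟩) d.2]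
    exact hd
  obtain ⟨X, Y, hXY, hX, hY, hdiff, ψ, hψ, h1, hval⟩ := exists_psi' (h.rankOne hab hms)
    (h.normalClosure_U hgen a) hp hN Λ (d := (d : G)) d.2 hdΛ
    (fun χ hχ => exists_int hχ ht) hgood (card_fix h a t) (card_move h a t) (by omega)
  refine ⟨X, Y, hXY, hX, hY, ?_, ψ, hψ, h1, ?_⟩
  · have h2 := dvd_of_sum hl (fun u : U a =>
      ((Λ (pr (h.rankOne hab hms) (m * (u : G) * m⁻¹)) : ℂˣ) : ℂ)) (n := (X : ℤ) - Y + 1)
      (fun u => by
        rw [← Units.val_pow_eq_pow_val, hΛl, Units.val_one]) (by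
        push_cast
        rw [hdiff]
        ring)
    rw [← Nat.card_eq_fintype_card, hN] at h2
    push_cast at h2
    have h3 : (p : ℤ) ^ k - 1 - (X - Y) = p ^ k - (X - Y + 1) := by ring
    rw [h3]
    exact h2
  · have hB : (Nat.card (stabilizer G a) : ℂ) ≠ 0 := by exact_mod_cast Nat.card_pos.ne'
    have h2 := hval t
    rw [S₀_of_good _ hgood (card_fix h a t), S₁_of_good _ hgood (card_move h a t),
      Nat.cast_sub hle.le] at h2
    apply mul_left_cancel₀ hB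
    linear_combination h2

/-- **The congruence**, `N = q ^ 3`, `q = n_t`. -/
theorem cube_cong (h : SSplit U) [Finite G] [Finite Ω] (hgen : (⨆ c, U c) = ⊤) {a b : Ω}
    (hab : b ≠ a) {p e : ℕ} (hp : p.Prime) (hp2 : p ≠ 2) (he : 0 < e)
    (hN : Nat.card (U a) = p ^ (3 * e))
    (lam : Dab G a b →* ℂˣ) (hlam : lam ≠ 1) {l : ℕ} (hl : l.Prime) (hl2 : l ≠ 2)
    (hlr : ∀ d, lam d ^ l = 1)
    {t : G} (ht : t * t = 1) (hF : Nat.card (fixedBy Ω t) = p ^ e + 1)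
    (hinv : ∀ (m : G), Swaps m a b → IsConj t m → ∀ d e : Dab G a b, (e : G) = m * d * m⁻¹ →
      lam e = lam d) :
    l ∣ (p ^ e - 1) * (p ^ (2 * e) + 1) ∨ l ∣ (p ^ (2 * e) - 1) * (p ^ e + 1) := by
  obtain ⟨c₀, hc₀⟩ : ∃ c₀ : Ω, t • c₀ ≠ c₀ := by
    by_contra hc
    push Not at hc
    have h1 : Nat.card (fixedBy Ω t) = Nat.card Ω := by
      have h2 : fixedBy Ω t = Set.univ := Set.eq_univ_of_forall hc
      rw [h2]
      exact Nat.card_congr (Equiv.Set.univ Ω)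
    rw [hF, h.card a, hN] at h1
    have h2 : p ^ e < p ^ (3 * e) := Nat.pow_lt_pow_right hp.one_lt (by omega)
    omega
  obtain ⟨X, Y, hXY, hX, hY, hcong, ψ, hψ, h1, h2⟩ := lin_char_cong h hgen hab hp hp2 hN lam hlam
    hl hl2 hlr ht hc₀ hinv
  obtain ⟨-, h3⟩ := arith_cube h hp hN ht hF hXY hX hY hψ h1 h2 he (l' := 1) (by ring) one_pos
  have hq : 1 ≤ p ^ e := Nat.one_le_pow _ _ hp.pos
  have hq2 : 1 ≤ p ^ (2 * e) := Nat.one_le_pow _ _ hp.pos
  rcases h3 with ⟨rfl, rfl⟩ | ⟨rfl, rfl⟩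
  · right
    have h4 : ((p ^ (2 * e) - 1 : ℕ) * (p ^ e + 1 : ℕ) : ℤ) =
        (p : ℤ) ^ (3 * e) - 1 - (((p ^ e : ℕ) : ℤ) - (p ^ (2 * e) : ℕ)) := by
      push_cast [Nat.cast_sub hq2]
      rw [mul_comm 2 e, mul_comm 3 e, pow_mul, pow_mul]
      ring
    have h5 : (l : ℤ) ∣ ((p ^ (2 * e) - 1 : ℕ) * (p ^ e + 1 : ℕ) : ℤ) := by rw [h4]; exact hcong
    exact_mod_cast h5
  · left
    have h4 : ((p ^ e - 1 : ℕ) * (p ^ (2 * e) + 1 : ℕ) : ℤ) =
        (p : ℤ) ^ (3 * e) - 1 - (((p ^ (2 * e) : ℕ) : ℤ) - (p ^ e : ℕ)) := by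
      push_cast [Nat.cast_sub hq]
      rw [mul_comm 2 e, mul_comm 3 e, pow_mul, pow_mul]
      ring
    have h5 : (l : ℤ) ∣ ((p ^ e - 1 : ℕ) * (p ^ (2 * e) + 1 : ℕ) : ℤ) := by rw [h4]; exact hcong
    exact_mod_cast h5

end split

end Cfsg.Agent.HKS.ReeHecke
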