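import Mathlib

/-!
# Fusion invariance and transfer for the Ree end

* `transfer_pow`: a fusion invariant homomorphism `φ` of `C ≤ G` has transfer `φ u ^ |G : C|` at
  `u ∈ C`;
* `prime_trans`: a normal subgroup of a transitive group of prime degree moving a point is
  transitive;
* `exists_n`: the elements of `N(S)` moving `t` to `z` can be chosen with `[n, C(S)] ≤ S`;
* `fus_inv`: fusion invariance of a homomorphism of odd order of `C(t) = L A₁` trivial on `L`;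
* `arith_end`: the arithmetical end.
-/

set_option autoImplicit false
set_option linter.unusedSectionVars false

namespace Cfsg.Agent.HKS.ReeTransfer

open Subgroup MulAction

variable {G : Type*} [Group G]

/-! ### Transfer -/

theorem transfer_pow [Finite G] {C : Subgroup G} {A : Type*} [CommGroup A] (φ : C →* A)
    (hf : ∀ (x y : C) (g : G), (y : G) = g⁻¹ * x * g → φ y = φ x) (u : C) :
    MonoidHom.transfer φ (u : G) = φ u ^ C.index := by
  classical
  have : Fintype (G ⧸ C) := Fintype.ofFinite _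
  have : Fintype (Quotient (orbitRel (zpowers (u : G)) (G ⧸ C))) := Fintype.ofFinite _
  rw [MonoidHom.transfer_eq_prod_quotient_orbitRel_zpowers_quot]
  have key : ∀ q : Quotient (orbitRel (zpowers (u : G)) (G ⧸ C)),
      φ ⟨q.out.out⁻¹ * (u : G) ^ Function.minimalPeriod ((u : G) • ·) q.out * q.out.out,
        QuotientGroup.out_conj_pow_minimalPeriod_mem C (u : G) q.out⟩ =
      φ u ^ Function.minimalPeriod ((u : G) • ·) q.out := by
    intro q
    rw [← map_pow]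
    exact hf (u ^ Function.minimalPeriod ((u : G) • ·) q.out) _ q.out.out rfl
  rw [Finset.prod_congr rfl (fun q _ => key q), Finset.prod_pow_eq_pow_sum]
  have hidx := index_eq_sum_minimalPeriod C (u : G)
  rw [← hidx]

/-! ### Normal subgroups of transitive groups of prime degree -/

theorem prime_trans {X : Type*} [MulAction G X] [Finite X] (hG : IsPretransitive G X)
    (hp : (Nat.card X).Prime) {N : Subgroup G} [N.Normal] {n : G} (hn : n ∈ N) {x : X}
    (hx : n • x ≠ x) (y z : X) : ∃ m ∈ N, m • y = z := by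
  have h1 : IsPreprimitive G X := IsPreprimitive.of_prime_card hp
  have h2 : fixedPoints N X ≠ Set.univ := by
    intro hc
    have h3 : x ∈ fixedPoints N X := by rw [hc]; trivial
    exact hx (h3 ⟨n, hn⟩)
  have h3 : IsPretransitive N X := IsQuasiPreprimitive.isPretransitive_of_normal h2
  obtain ⟨⟨m, hm⟩, hmy⟩ := h3.exists_smul_eq y z
  exact ⟨m, hm, hmy⟩

/-! ### Elementary abelian Sylow subgroups -/

section syl

variable [Finite G] (S : Sylow 2 G)

theorem sq_of_two (hel : ∀ x ∈ S, x * x = 1) {P : Subgroup G} (hP : IsPGroup 2 P) {x : G}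
    (hx : x ∈ P) : x * x = 1 := by
  obtain ⟨T, hT⟩ := hP.exists_le_sylow
  obtain ⟨g, hg⟩ := exists_smul_eq G T S
  have h1 : g * x * g⁻¹ ∈ S := by
    rw [← hg, ← SetLike.mem_coe, Sylow.coe_smul]
    exact ⟨x, hT hx, rfl⟩
  have h2 := hel _ h1
  have h3 : g * (x * x) * g⁻¹ = 1 := by rw [← h2]; group
  have h4 : x * x = g⁻¹ * (g * (x * x) * g⁻¹) * g := by group
  rw [h4, h3]; group

theorem comm_of_sq {x y : G} (hx : x * x = 1) (hy : y * y = 1) (hxy : (x * y) * (x * y) = 1) :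
    x * y = y * x := by
  have h1 : x⁻¹ = x := inv_eq_of_mul_eq_one_left hx
  have h2 : y⁻¹ = y := inv_eq_of_mul_eq_one_left hy
  have h3 : (x * y)⁻¹ = x * y := inv_eq_of_mul_eq_one_left hxy
  rw [← h3, mul_inv_rev, h1, h2]

theorem comm_of_two (hel : ∀ x ∈ S, x * x = 1) {P : Subgroup G} (hP : IsPGroup 2 P) {x y : G}
    (hx : x ∈ P) (hy : y ∈ P) : x * y = y * x :=
  comm_of_sq (sq_of_two S hel hP hx) (sq_of_two S hel hP hy)
    (sq_of_two S hel hP (P.mul_mem hx hy))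

theorem two_zpowers {x : G} (hx : x * x = 1) : IsPGroup 2 (zpowers x) := by
  rintro ⟨y, k, rfl⟩
  refine ⟨1, Subtype.ext ?_⟩
  change (x ^ k) ^ (2 ^ 1) = 1
  rw [pow_one, ← zpow_natCast, ← zpow_mul, mul_comm, zpow_mul, zpow_natCast, sq, hx, one_zpow]

/-- Two involutions of `K` are, after conjugation in `K`, in a common 2-subgroup of `K`. -/
theorem exists_common (K : Subgroup G) {x y : G} (hx : x ∈ K) (hx2 : x * x = 1)
    (hy : y ∈ K) (hy2 : y * y = 1) :
    ∃ c ∈ K, ∃ P : Subgroup G, IsPGroup 2 P ∧ P ≤ K ∧ x ∈ P ∧ c * y * c⁻¹ ∈ P := by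
  have h1 : IsPGroup 2 (zpowers (⟨x, hx⟩ : K)) := two_zpowers (Subtype.ext hx2)
  have h2 : IsPGroup 2 (zpowers (⟨y, hy⟩ : K)) := two_zpowers (Subtype.ext hy2)
  obtain ⟨P, hP⟩ := h1.exists_le_sylow
  obtain ⟨Q, hQ⟩ := h2.exists_le_sylow
  obtain ⟨c, hc⟩ := exists_smul_eq K Q P
  refine ⟨c, c.2, (P : Subgroup K).map K.subtype, P.2.map _, map_subtype_le _,
    ⟨⟨x, hx⟩, hP (mem_zpowers _), rfl⟩, ⟨c * ⟨y, hy⟩ * c⁻¹, ?_, rfl⟩⟩
  have h3 : c * ⟨y, hy⟩ * c⁻¹ ∈ c • Q := by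
    rw [← SetLike.mem_coe, Sylow.coe_smul]
    exact ⟨⟨y, hy⟩, hQ (mem_zpowers _), rfl⟩
  rw [hc] at h3
  exact h3

/-- Two elements `t, z` of a Sylow 2-subgroup `P`; `t ∈ S`: conjugate to `S` by `C(t)`. -/
theorem exists_into (hel : ∀ x ∈ S, x * x = 1) {t z : G} (htS : t ∈ S) {P : Subgroup G}
    (hP : IsPGroup 2 P) (ht : t ∈ P) (hz : z ∈ P) :
    ∃ c : G, c * t = t * c ∧ c * z * c⁻¹ ∈ S := by
  obtain ⟨T, hT⟩ := hP.exists_le_sylow
  have hSC : (S : Subgroup G) ≤ centralizer {t} := by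
    intro s hs
    rw [mem_centralizer_singleton_iff]
    exact comm_of_two S hel S.2 hs htS
  have hTC : (T : Subgroup G) ≤ centralizer {t} := by
    intro s hs
    rw [mem_centralizer_singleton_iff]
    exact comm_of_two S hel T.2 hs (hT ht)
  obtain ⟨c, hc⟩ := exists_smul_eq (centralizer {t}) (T.subtype hTC) (S.subtype hSC)
  refine ⟨c, (mem_centralizer_singleton_iff.1 c.2), ?_⟩
  have h0 : (⟨z, hTC (hT hz)⟩ : centralizer ({t} : Set G)) ∈ T.subtype hTC := by
    change _ ∈ ((T.subtype hTC : Sylow 2 (centralizer ({t} : Set G))) :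
      Subgroup (centralizer ({t} : Set G)))
    rw [Sylow.coe_subtype]
    exact mem_subgroupOf.2 (hT hz)
  have h1 : c * ⟨z, hTC (hT hz)⟩ * c⁻¹ ∈ (S.subtype hSC) := by
    rw [← hc, ← SetLike.mem_coe, Sylow.coe_smul]
    exact ⟨_, h0, rfl⟩
  have h2 : c * ⟨z, hTC (hT hz)⟩ * c⁻¹ ∈
      ((S.subtype hSC : Sylow 2 (centralizer ({t} : Set G))) :
        Subgroup (centralizer ({t} : Set G))) := h1
  rw [Sylow.coe_subtype] at h2
  exact mem_subgroupOf.1 h2

end syl

/-! ### The elements `n` -/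

section nn

/-- The elements `n ∈ N(S)` with `[n, C(S)] ≤ S`. -/
def N1 (S : Subgroup G) : Subgroup (normalizer (S : Set G)) where
  carrier := {n | ∀ x ∈ centralizer (S : Set G), (n : G) * x * (n : G)⁻¹ * x⁻¹ ∈ S}
  one_mem' := by
    intro x _
    have h1 : ((1 : normalizer (S : Set G)) : G) * x * ((1 : normalizer (S : Set G)) : G)⁻¹ * x⁻¹ =
        1 := by
      rw [OneMemClass.coe_one]; group
    rw [h1]
    exact S.one_mem
  mul_mem' := by
    intro m n hm hn x hx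
    have h1 : ((m * n : normalizer (S : Set G)) : G) * x *
        ((m * n : normalizer (S : Set G)) : G)⁻¹ * x⁻¹ =
        ((m : G) * ((n : G) * x * (n : G)⁻¹ * x⁻¹) * (m : G)⁻¹) *
          ((m : G) * x * (m : G)⁻¹ * x⁻¹) := by
      rw [Subgroup.coe_mul]; group
    rw [h1]
    refine S.mul_mem ?_ (hm x hx)
    exact (Subgroup.mem_normalizer_iff.1 m.2 _).1 (hn x hx)
  inv_mem' := by
    intro n hn x hx
    have h1 := hn x hx
    -- `n x n⁻¹ = s x`
    set s := (n : G) * x * (n : G)⁻¹ * x⁻¹ with hs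
    have h2 : ((n⁻¹ : normalizer (S : Set G)) : G) * x *
        ((n⁻¹ : normalizer (S : Set G)) : G)⁻¹ * x⁻¹ =
        x * ((n : G)⁻¹ * (x⁻¹ * s⁻¹ * x) * (n : G)⁻¹⁻¹) * x⁻¹ := by
      rw [Subgroup.coe_inv, hs]; group
    rw [h2]
    have hxN : x ∈ normalizer (S : Set G) := by
      rw [Subgroup.mem_normalizer_iff]
      intro y
      constructor
      · intro hy
        rw [← (mem_centralizer_iff.1 hx y hy), mul_inv_cancel_right]
        exact hy
      · intro hy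
        have h3 := mem_centralizer_iff.1 hx _ hy
        have h4 : y = x * y * x⁻¹ := by
          apply mul_left_cancel (a := x)
          calc x * y = (x * y * x⁻¹) * x := by group
            _ = x * (x * y * x⁻¹) := h3
        rw [h4]; exact hy
    have hnN := (normalizer (S : Set G)).inv_mem n.2
    refine (Subgroup.mem_normalizer_iff.1 hxN _).1 ((Subgroup.mem_normalizer_iff.1 hnN _).1 ?_)
    have h3 := (Subgroup.mem_normalizer_iff.1 ((normalizer (S : Set G)).inv_mem hxN) s⁻¹).1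
      (S.inv_mem h1)
    rwa [inv_inv] at h3

theorem mem_N1 {S : Subgroup G} {n : normalizer (S : Set G)} :
    n ∈ N1 S ↔ ∀ x ∈ centralizer (S : Set G), (n : G) * x * (n : G)⁻¹ * x⁻¹ ∈ S := Iff.rfl

theorem conj_centralizer {S : Subgroup G} {n x : G} (hn : n ∈ normalizer (S : Set G))
    (hx : x ∈ centralizer (S : Set G)) : n * x * n⁻¹ ∈ centralizer (S : Set G) := by
  rw [mem_centralizer_iff] at hx ⊢
  intro s hs
  have h1 := (Subgroup.mem_normalizer_iff.1 ((normalizer (S : Set G)).inv_mem hn) s).1 hs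
  rw [inv_inv] at h1
  have h2 := hx _ h1
  calc s * (n * x * n⁻¹) = n * (n⁻¹ * s * n * x) * n⁻¹ := by group
    _ = n * (x * (n⁻¹ * s * n)) * n⁻¹ := by rw [h2]
    _ = _ := by group

instance N1_normal (S : Subgroup G) : (N1 S).Normal where
  conj_mem := by
    intro n hn g x hx
    have hgi := (normalizer (S : Set G)).inv_mem g.2
    have h1 := conj_centralizer hgi hx
    rw [inv_inv] at h1
    have h2 := hn _ h1
    have h3 : ((g * n * g⁻¹ : normalizer (S : Set G)) : G) * x *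
        ((g * n * g⁻¹ : normalizer (S : Set G)) : G)⁻¹ * x⁻¹ =
        (g : G) * ((n : G) * ((g : G)⁻¹ * x * g) * (n : G)⁻¹ * ((g : G)⁻¹ * x * g)⁻¹) *
          (g : G)⁻¹ := by
      rw [Subgroup.coe_mul, Subgroup.coe_mul, Subgroup.coe_inv]; group
    rw [h3]
    exact (Subgroup.mem_normalizer_iff.1 g.2 _).1 h2

/-- The conjugation action of `N(S)` on `S ∖ 1`. -/
def act (S : Subgroup G) : MulAction (normalizer (S : Set G)) {x : G // x ∈ S ∧ x ≠ 1} where
  smul n x := ⟨n * x * (n : G)⁻¹, (Subgroup.mem_normalizer_iff.1 n.2 _).1 x.2.1, fun hc => x.2.2 (by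
    calc (x : G) = (n : G)⁻¹ * (n * x * (n : G)⁻¹) * n := by group
      _ = 1 := by rw [hc]; group)⟩
  one_smul x := Subtype.ext (by
    change ((1 : normalizer (S : Set G)) : G) * x * ((1 : normalizer (S : Set G)) : G)⁻¹ = x
    rw [OneMemClass.coe_one]; group)
  mul_smul m n x := Subtype.ext (by
    change ((m * n : normalizer (S : Set G)) : G) * x * ((m * n : normalizer (S : Set G)) : G)⁻¹ =
      m * (n * x * (n : G)⁻¹) * (m : G)⁻¹
    rw [Subgroup.coe_mul]; group)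

theorem exists_n [Finite G] (S : Sylow 2 G) (hel : ∀ x ∈ S, x * x = 1) (hcard : Nat.card S = 8)
    (hcl : ∀ x ∈ S, x ≠ 1 → ∀ y ∈ S, y ≠ 1 → IsConj x y)
    {v : G} (hv : v ∈ normalizer ((S : Subgroup G) : Set G))
    (hv1 : ∀ x ∈ centralizer ((S : Subgroup G) : Set G), v * x * v⁻¹ * x⁻¹ ∈ S)
    {s : G} (hs : s ∈ S) (hvs : v * s ≠ s * v) {t z : G} (ht : t ∈ S) (ht1 : t ≠ 1)
    (hz : z ∈ S) (hz1 : z ≠ 1) :
    ∃ n : G, n⁻¹ * t * n = z ∧ n ∈ normalizer ((S : Subgroup G) : Set G) ∧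
      ∀ x ∈ centralizer ((S : Subgroup G) : Set G), n * x * n⁻¹ * x⁻¹ ∈ S := by
  have hcomm : ∀ x ∈ S, ∀ y ∈ S, x * y = y * x := fun x hx y hy =>
    comm_of_sq (hel x hx) (hel y hy) (hel _ (S.mul_mem hx hy))
  have : IsMulCommutative (S : Subgroup G) :=
    ⟨⟨fun a b => Subtype.ext (hcomm a a.2 b b.2)⟩⟩
  letI := act (S : Subgroup G)
  have hfin : Finite {x : G // x ∈ (S : Subgroup G) ∧ x ≠ 1} := inferInstance
  have h7 : Nat.card {x : G // x ∈ (S : Subgroup G) ∧ x ≠ 1} = 7 := by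
    classical
    have := Fintype.ofFinite (S : Subgroup G)
    have e : {x : G // x ∈ (S : Subgroup G) ∧ x ≠ 1} ≃ {x : (S : Subgroup G) // ¬ x = 1} :=
      ⟨fun x => ⟨⟨x.1, x.2.1⟩, fun hc => x.2.2 (congrArg Subtype.val hc)⟩,
        fun x => ⟨x.1.1, x.1.2, fun hc => x.2 (Subtype.ext hc)⟩, fun _ => rfl, fun _ => rfl⟩
    rw [Nat.card_congr e, Nat.card_eq_fintype_card, Fintype.card_subtype_compl,
      Fintype.card_subtype_eq, ← Nat.card_eq_fintype_card]
    have h8 : Nat.card (S : Subgroup G) = 8 := hcard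
    rw [h8]
  have htr : IsPretransitive (normalizer ((S : Subgroup G) : Set G))
      {x : G // x ∈ (S : Subgroup G) ∧ x ≠ 1} := by
    refine ⟨fun x y => ?_⟩
    obtain ⟨g, hg⟩ := isConj_iff.1 (hcl x x.2.1 x.2.2 y y.2.1 y.2.2)
    obtain ⟨n, hn, hny⟩ := S.conj_eq_normalizer_conj_of_mem (x : G) g⁻¹ x.2.1 (by
      rw [inv_inv, hg]; exact y.2.1)
    rw [inv_inv, hg] at hny
    refine ⟨⟨n⁻¹, (normalizer ((S : Subgroup G) : Set G)).inv_mem hn⟩, Subtype.ext ?_⟩
    change n⁻¹ * (x : G) * n⁻¹⁻¹ = y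
    rw [inv_inv, hny]
  have hs1 : s ≠ 1 := by
    rintro rfl
    exact hvs (by group)
  obtain ⟨m, hm, hmz⟩ := prime_trans (X := {x : G // x ∈ (S : Subgroup G) ∧ x ≠ 1}) htr
    (by rw [h7]; norm_num) (N := N1 (S : Subgroup G)) (n := ⟨v, hv⟩) (mem_N1.2 hv1)
    (x := ⟨s, hs, hs1⟩) (fun hc => hvs (by
      have h1 : v * s * v⁻¹ = s := congrArg Subtype.val hc
      calc v * s = v * s * v⁻¹ * v := by group
        _ = s * v := by rw [h1])) ⟨t, ht, ht1⟩ ⟨z, hz, hz1⟩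
  have hm1 : (m : G) * t * (m : G)⁻¹ = z := congrArg Subtype.val hmz
  refine ⟨(m : G)⁻¹, by rw [inv_inv]; exact hm1, (normalizer ((S : Subgroup G) : Set G)).inv_mem m.2,
    fun x hx => ?_⟩
  have h2 := mem_N1.1 ((N1 (S : Subgroup G)).inv_mem hm) x hx
  exact h2

/-- `v ∈ L ∩ N(S)` satisfies `[v, C(S)] ≤ S`. -/
theorem v_mem {S L A₁ : Subgroup G} {v : G} (hv : v ∈ normalizer (S : Set G)) (hvL : v ∈ L)
    (hAL : ∀ a ∈ A₁, ∀ l ∈ L, a * l * a⁻¹ ∈ L)
    (hCS : ∀ x ∈ centralizer (S : Set G), ∃ s ∈ S, ∃ a ∈ A₁, x = s * a)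
    (hAS : ∀ a ∈ A₁, ∀ s ∈ S, a * s = s * a)
    (hLS : ∀ l ∈ L, l ∈ centralizer (S : Set G) → l ∈ S) :
    ∀ x ∈ centralizer (S : Set G), v * x * v⁻¹ * x⁻¹ ∈ S := by
  intro x hx
  obtain ⟨s, hs, a, ha, rfl⟩ := hCS x hx
  have haC : a ∈ centralizer (S : Set G) := by
    rw [mem_centralizer_iff]
    intro y hy
    exact (hAS a ha y hy).symm
  have h1 : v * (s * a) * v⁻¹ * (s * a)⁻¹ = (v * s * v⁻¹) * (v * a * v⁻¹ * a⁻¹) * s⁻¹ := by group
  rw [h1]
  refine S.mul_mem (S.mul_mem ((Subgroup.mem_normalizer_iff.1 hv s).1 hs) (hLS _ ?_ ?_))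
    (S.inv_mem hs)
  · have h2 : v * a * v⁻¹ * a⁻¹ = v * (a * v⁻¹ * a⁻¹) := by group
    rw [h2]
    exact L.mul_mem hvL (hAL a ha _ (L.inv_mem hvL))
  · exact (centralizer (S : Set G)).mul_mem (conj_centralizer hv haC)
      ((centralizer (S : Set G)).inv_mem haC)

end nn

/-! ### Fusion invariance -/

section fus

theorem eq_one_of_odd {A : Type*} [CommGroup A] {r : ℕ} (hr : Odd r) {x : A} (h1 : x ^ r = 1)
    (h2 : x * x = 1) : x = 1 := by
  obtain ⟨c, rfl⟩ := hr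
  rwa [pow_add, pow_mul, sq, h2, one_pow, one_mul, pow_one] at h1

/-- **Fusion invariance.** `C(t) = L A₁`, `A₁ ≤ C(S)`, `S = ⟨t⟩ (S ∩ L)`, the elements of `C_L(w)`,
`1 ≠ w ∈ S ∩ L`, are products of two involutions of `C(⟨t, w⟩)`, and `t` is conjugate to every
`1 ≠ z ∈ S` under an element `n` with `[n, A₁] ≤ S`. Then every homomorphism `ζ : C(t) → A` of odd
order, trivial on `L`, is fusion invariant. -/
theorem fus_inv [Finite G] (S : Sylow 2 G) (hel : ∀ x ∈ S, x * x = 1) {t : G} (htS : t ∈ S)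
    (ht1 : t ≠ 1) {L A₁ : Subgroup G}
    (hC : ∀ g, g * t = t * g → ∃ l ∈ L, ∃ x ∈ A₁, g = l * x)
    (hLt : ∀ l ∈ L, l * t = t * l)
    (hAS : ∀ x ∈ A₁, ∀ s ∈ S, x * s = s * x)
    (hSL : ∀ s ∈ S, s ∈ L ∨ t * s ∈ L)
    (hLw : ∀ w ∈ S, w ∈ L → w ≠ 1 → ∀ l ∈ L, l * w = w * l → ∃ i j : G, i * i = 1 ∧ j * j = 1 ∧
      i * t = t * i ∧ j * t = t * j ∧ i * w = w * i ∧ j * w = w * j ∧ l = i * j)
    (hN : ∀ z ∈ S, z ≠ 1 → ∃ n : G, n⁻¹ * t * n = z ∧ ∀ x ∈ A₁, n * x * n⁻¹ * x⁻¹ ∈ S)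
    {A : Type*} [CommGroup A] (ζ : centralizer ({t} : Set G) →* A) {r : ℕ} (hr : Odd r)
    (hζ : ∀ c, ζ c ^ r = 1) (hζL : ∀ c : centralizer ({t} : Set G), (c : G) ∈ L → ζ c = 1)
    (x y : centralizer ({t} : Set G)) (g : G) (h : (y : G) = g⁻¹ * x * g) : ζ y = ζ x := by
  have ht2 : t * t = 1 := hel t htS
  have hcomm : ∀ x ∈ S, ∀ y ∈ S, x * y = y * x := fun x hx y hy =>
    comm_of_sq (hel x hx) (hel y hy) (hel _ (S.mul_mem hx hy))
  have hmem : ∀ c : G, c * t = t * c ↔ c ∈ centralizer ({t} : Set G) := fun c =>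
    mem_centralizer_singleton_iff.symm
  -- conjugation inside `C(t)`
  have hconj : ∀ (c x' y' : centralizer ({t} : Set G)), (y' : G) = c * x' * (c : G)⁻¹ →
      ζ y' = ζ x' := by
    intro c x' y' he
    have h1 : y' = c * x' * c⁻¹ := Subtype.ext he
    rw [h1, map_mul, map_mul, map_inv, mul_comm (ζ c), mul_inv_cancel_right]
  have hinvol : ∀ c : centralizer ({t} : Set G), (c : G) * c = 1 → ζ c = 1 := by
    intro c hc
    refine eq_one_of_odd hr (hζ c) ?_
    rw [← map_mul]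
    have h1 : c * c = 1 := Subtype.ext hc
    rw [h1, map_one]
  -- the core: `g⁻¹ t g = z ∈ S`
  have core : ∀ (x y : centralizer ({t} : Set G)) (g : G), (y : G) = g⁻¹ * x * g →
      g⁻¹ * t * g ∈ S → ζ y = ζ x := by
    intro x y g h hz
    by_cases hzt : g⁻¹ * t * g = t
    · have hg : g ∈ centralizer ({t} : Set G) := by
        rw [← hmem]
        calc g * t = g * (g⁻¹ * t * g) := by rw [hzt]
          _ = t * g := by group
      refine hconj ⟨g⁻¹, (centralizer ({t} : Set G)).inv_mem hg⟩ x y ?_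
      rw [h]
      group
    · obtain ⟨z, hzdef⟩ : ∃ z, z = g⁻¹ * t * g := ⟨_, rfl⟩
      rw [← hzdef] at hz hzt
      have hz1 : z ≠ 1 := by
        intro hc
        apply ht1
        calc t = g * (g⁻¹ * t * g) * g⁻¹ := by group
          _ = 1 := by rw [← hzdef, hc]; group
      obtain ⟨n, hnz, hnA⟩ := hN z hz hz1
      -- `y` commutes with `t` and `z`
      have hyt : (y : G) * t = t * y := (hmem y).2 y.2
      have hyz : (y : G) * z = z * y := by
        have hxt : (x : G) * t = t * x := (hmem x).2 x.2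
        rw [h, hzdef]
        calc g⁻¹ * (x : G) * g * (g⁻¹ * t * g) = g⁻¹ * (x * t) * g := by group
          _ = g⁻¹ * (t * x) * g := by rw [hxt]
          _ = _ := by group
      -- `w`
      obtain ⟨w, hwS, hwL, hw1, hwz⟩ : ∃ w ∈ S, w ∈ L ∧ w ≠ 1 ∧ (z = w ∨ z = t * w) := by
        rcases hSL z hz with hL | hL
        · exact ⟨z, hz, hL, hz1, Or.inl rfl⟩
        · refine ⟨t * z, S.mul_mem htS hz, hL, ?_, Or.inr ?_⟩
          · intro hc
            apply hzt
            have h1 : t⁻¹ = z := inv_eq_of_mul_eq_one_right hc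
            have h2 : t⁻¹ = t := inv_eq_of_mul_eq_one_left ht2
            rw [← h1, h2]
          · rw [← mul_assoc, ht2, one_mul]
      have hyw : (y : G) * w = w * y := by
        rcases hwz with hh | hh
        · rw [← hh]; exact hyz
        · have h1 : w = t * z := by rw [hh, ← mul_assoc, ht2, one_mul]
          rw [h1]
          calc (y : G) * (t * z) = (y * t) * z := by rw [mul_assoc]
            _ = t * (y * z) := by rw [hyt, mul_assoc]
            _ = t * z * y := by rw [hyz, mul_assoc]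
      obtain ⟨l, hl, x₁, hx₁, hyl⟩ := hC y hyt
      have hx₁t := hAS x₁ hx₁ t htS
      have hlw : l * w = w * l := by
        have h1 : l = y * x₁⁻¹ := by rw [hyl]; group
        have h2 : x₁⁻¹ * w = w * x₁⁻¹ := by
          have := hAS x₁ hx₁ w hwS
          calc x₁⁻¹ * w = x₁⁻¹ * (w * x₁) * x₁⁻¹ := by group
            _ = x₁⁻¹ * (x₁ * w) * x₁⁻¹ := by rw [this]
            _ = _ := by group
        rw [h1, mul_assoc, h2, ← mul_assoc, hyw, mul_assoc]
      obtain ⟨i, j, hi, hj, hit, hjt, hiw, hjw, hlij⟩ := hLw w hwS hwL hw1 l hl hlw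
      have hcz : ∀ c : G, c * t = t * c → c * w = w * c → c * z = z * c := by
        intro c h1 h2
        rcases hwz with hh | hh
        · rw [hh]; exact h2
        · rw [hh, ← mul_assoc, h1, mul_assoc, h2, mul_assoc]
      have hnt : ∀ c : G, c * z = z * c → n * c * n⁻¹ ∈ centralizer ({t} : Set G) := by
        intro c hc
        rw [← hmem]
        have h1 : t = n * z * n⁻¹ := by rw [← hnz]; group
        rw [h1]
        calc n * c * n⁻¹ * (n * z * n⁻¹) = n * (c * z) * n⁻¹ := by group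
          _ = n * (z * c) * n⁻¹ := by rw [hc]
          _ = _ := by group
      -- `ζ y = ζ x₁`
      have hy1 : ζ y = ζ ⟨x₁, (hmem x₁).1 hx₁t⟩ := by
        have h1 : y = ⟨l, (hmem l).1 (hLt l hl)⟩ * ⟨x₁, (hmem x₁).1 hx₁t⟩ := Subtype.ext hyl
        rw [h1, map_mul, hζL ⟨l, (hmem l).1 (hLt l hl)⟩ hl, one_mul]
      -- `ζ (n y n⁻¹) = ζ x₁`
      have hs : n * x₁ * n⁻¹ * x₁⁻¹ ∈ S := hnA x₁ hx₁
      have hst := hcomm _ hs t htS
      have hny : ζ ⟨n * y * n⁻¹, hnt y hyz⟩ = ζ ⟨x₁, (hmem x₁).1 hx₁t⟩ := by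
        have h1 : (⟨n * y * n⁻¹, hnt y hyz⟩ : centralizer ({t} : Set G)) =
            ⟨n * i * n⁻¹, hnt i (hcz i hit hiw)⟩ * ⟨n * j * n⁻¹, hnt j (hcz j hjt hjw)⟩ *
              (⟨n * x₁ * n⁻¹ * x₁⁻¹, (hmem _).1 hst⟩ * ⟨x₁, (hmem x₁).1 hx₁t⟩) := by
          apply Subtype.ext
          change n * (y : G) * n⁻¹ = n * i * n⁻¹ * (n * j * n⁻¹) * (n * x₁ * n⁻¹ * x₁⁻¹ * x₁)
          rw [hyl, hlij]
          group
        rw [h1, map_mul, map_mul, map_mul, hinvol ⟨n * i * n⁻¹, _⟩ (by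
          change n * i * n⁻¹ * (n * i * n⁻¹) = 1
          calc n * i * n⁻¹ * (n * i * n⁻¹) = n * (i * i) * n⁻¹ := by group
            _ = 1 := by rw [hi]; group), hinvol ⟨n * j * n⁻¹, _⟩ (by
          change n * j * n⁻¹ * (n * j * n⁻¹) = 1
          calc n * j * n⁻¹ * (n * j * n⁻¹) = n * (j * j) * n⁻¹ := by group
            _ = 1 := by rw [hj]; group), hinvol ⟨n * x₁ * n⁻¹ * x₁⁻¹, _⟩ (hel _ hs), one_mul,
          one_mul, one_mul]
      -- `x = (g n⁻¹) (n y n⁻¹) (g n⁻¹)⁻¹`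
      have hgn : g * n⁻¹ ∈ centralizer ({t} : Set G) := by
        rw [← hmem]
        have h1 : g⁻¹ * t * g = n⁻¹ * t * n := by rw [← hzdef, hnz]
        calc g * n⁻¹ * t = g * (n⁻¹ * t * n) * n⁻¹ := by group
          _ = g * (g⁻¹ * t * g) * n⁻¹ := by rw [h1]
          _ = _ := by group
      have hx : ζ x = ζ ⟨n * y * n⁻¹, hnt y hyz⟩ := by
        refine hconj ⟨g * n⁻¹, hgn⟩ _ _ ?_
        change (x : G) = g * n⁻¹ * (n * (y : G) * n⁻¹) * (g * n⁻¹)⁻¹
        rw [h]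
        group
      rw [hy1, hx, hny]
  -- reduction to the core
  have hyt : (y : G) * t = t * y := (hmem y).2 y.2
  have hxt : (x : G) * t = t * x := (hmem x).2 x.2
  have hyt' : (y : G) * (g⁻¹ * t * g) = (g⁻¹ * t * g) * y := by
    rw [h]
    calc g⁻¹ * (x : G) * g * (g⁻¹ * t * g) = g⁻¹ * (x * t) * g := by group
      _ = g⁻¹ * (t * x) * g := by rw [hxt]
      _ = _ := by group
  have ht'2 : (g⁻¹ * t * g) * (g⁻¹ * t * g) = 1 := by
    calc (g⁻¹ * t * g) * (g⁻¹ * t * g) = g⁻¹ * (t * t) * g := by group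
      _ = 1 := by rw [ht2]; group
  obtain ⟨c, hc, P, hP, hPy, htP, hzP⟩ := exists_common (centralizer ({(y : G)} : Set G))
    (mem_centralizer_singleton_iff.2 hyt.symm) ht2 (mem_centralizer_singleton_iff.2 hyt'.symm) ht'2
  obtain ⟨d, hdt, hdS⟩ := exists_into S hel htS hP htP hzP
  have hd : d ∈ centralizer ({t} : Set G) := (hmem d).1 hdt
  have hcy : c * (y : G) = y * c := mem_centralizer_singleton_iff.1 hc
  have hdy : d * (y : G) * d⁻¹ ∈ centralizer ({t} : Set G) :=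
    (centralizer ({t} : Set G)).mul_mem ((centralizer ({t} : Set G)).mul_mem hd y.2)
      ((centralizer ({t} : Set G)).inv_mem hd)
  have h1 := core x ⟨d * (y : G) * d⁻¹, hdy⟩ (g * c⁻¹ * d⁻¹) (by
    change d * (y : G) * d⁻¹ = (g * c⁻¹ * d⁻¹)⁻¹ * x * (g * c⁻¹ * d⁻¹)
    calc d * (y : G) * d⁻¹ = d * (y * c) * c⁻¹ * d⁻¹ := by group
      _ = d * (c * y) * c⁻¹ * d⁻¹ := by rw [hcy]
      _ = d * (c * (g⁻¹ * x * g)) * c⁻¹ * d⁻¹ := by rw [← h]
      _ = _ := by group) (by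
    have h2 : (g * c⁻¹ * d⁻¹)⁻¹ * t * (g * c⁻¹ * d⁻¹) = d * (c * (g⁻¹ * t * g) * c⁻¹) * d⁻¹ := by
      group
    rw [h2]
    exact hdS)
  rw [← h1]
  exact (hconj ⟨d, hd⟩ y ⟨d * (y : G) * d⁻¹, hdy⟩ rfl).symm

/-- **Transfer.** Under the hypotheses of `fus_inv`, if `G` has no nontrivial homomorphism into `A`
of order `l` then `l ∣ |G : C(t)|`. -/
theorem dvd_index [Finite G] {C : Subgroup G} {A : Type*} [CommGroup A] {l : ℕ} (hl : l.Prime)
    (ζ : C →* A) (hζ : ∀ c, ζ c ^ l = 1)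
    (hf : ∀ (x y : C) (g : G), (y : G) = g⁻¹ * x * g → ζ y = ζ x)
    (hG : ∀ f : G →* A, (∀ g, f g ^ l = 1) → f = 1) (h1 : ζ ≠ 1) : l ∣ C.index := by
  by_contra hc
  apply h1
  have h2 : MonoidHom.transfer ζ = 1 := by
    apply hG
    intro g
    classical
    have : Fintype (G ⧸ C) := Fintype.ofFinite _
    have : Fintype (Quotient (orbitRel (zpowers g) (G ⧸ C))) := Fintype.ofFinite _
    rw [MonoidHom.transfer_eq_prod_quotient_orbitRel_zpowers_quot, ← Finset.prod_pow]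
    exact Finset.prod_eq_one fun q _ => hζ _
  refine MonoidHom.ext fun u => ?_
  have h3 := transfer_pow ζ hf u
  rw [h2, MonoidHom.one_apply] at h3
  have h4 : orderOf (ζ u) ∣ l := orderOf_dvd_of_pow_eq_one (hζ u)
  have h5 : orderOf (ζ u) ∣ C.index := orderOf_dvd_of_pow_eq_one h3.symm
  have h6 : Nat.Coprime l C.index := (Nat.Prime.coprime_iff_not_dvd hl).2 hc
  have h7 : orderOf (ζ u) ∣ 1 := by
    rw [← Nat.Coprime.gcd_eq_one h6]
    exact Nat.dvd_gcd h4 h5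
  rw [MonoidHom.one_apply]
  exact orderOf_eq_one_iff.1 (Nat.dvd_one.1 h7)

end fus

/-! ### The arithmetical end -/

/-- `l ∣ q² (q² - q + 1)` and `l ∣ (q - 1) (q² + 1)` or `l ∣ (q² - 1) (q + 1)`, `l ∤ q`: then
`l = 3`. -/
theorem arith_end {q l : ℕ} (hl : l.Prime) (hq : 0 < q) (h3 : l ≠ 3)
    (h1 : l ∣ q ^ 2 * (q ^ 2 - q + 1))
    (h2 : l ∣ (q - 1) * (q ^ 2 + 1) ∨ l ∣ (q ^ 2 - 1) * (q + 1)) : False := by
  have hlz : Prime (l : ℤ) := Nat.prime_iff_prime_int.1 hl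
  have hq2 : q ≤ q ^ 2 := by nlinarith
  have hq3 : 1 ≤ q ^ 2 := by nlinarith
  have h1' : (l : ℤ) ∣ (q : ℤ) ^ 2 * ((q : ℤ) ^ 2 - q + 1) := by
    have := Int.natCast_dvd_natCast.2 h1
    push_cast [Nat.cast_sub hq2] at this
    exact this
  have h2' : (l : ℤ) ∣ ((q : ℤ) - 1) * ((q : ℤ) ^ 2 + 1) ∨
      (l : ℤ) ∣ ((q : ℤ) ^ 2 - 1) * ((q : ℤ) + 1) := by
    rcases h2 with h | h
    · left
      have := Int.natCast_dvd_natCast.2 h
      push_cast [Nat.cast_sub hq] at this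
      exact this
    · right
      have := Int.natCast_dvd_natCast.2 h
      push_cast [Nat.cast_sub hq3] at this
      exact this
  have h0 : ¬ (l : ℤ) ∣ 1 := fun h => hlz.not_unit (isUnit_of_dvd_one h)
  have hl3 : ¬ (l : ℤ) ∣ 3 := by
    intro h
    have h4 : l ∣ 3 := by exact_mod_cast h
    rcases (Nat.dvd_prime Nat.prime_three).1 h4 with h5 | h5
    · exact hl.ne_one h5
    · exact h3 h5
  -- `l ∤ q`
  have hlq : ¬ (l : ℤ) ∣ (q : ℤ) := by
    intro h
    rcases h2' with h4 | h4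
    · rcases hlz.dvd_or_dvd h4 with h5 | h5
      · apply h0
        have := dvd_sub h h5
        rwa [sub_sub_cancel] at this
      · apply h0
        have := dvd_sub h5 (dvd_pow h two_ne_zero)
        rwa [add_sub_cancel_left] at this
    · rcases hlz.dvd_or_dvd h4 with h5 | h5
      · apply h0
        have := dvd_sub (dvd_pow h two_ne_zero) h5
        rwa [sub_sub_cancel] at this
      · apply h0
        have := dvd_sub h5 h
        rwa [add_sub_cancel_left] at this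
  have h6 : (l : ℤ) ∣ (q : ℤ) ^ 2 - q + 1 := by
    rcases hlz.dvd_or_dvd h1' with h | h
    · exact absurd (hlz.dvd_of_dvd_pow h) hlq
    · exact h
  rcases h2' with h4 | h4
  · rcases hlz.dvd_or_dvd h4 with h5 | h5
    · -- `l ∣ q - 1`
      apply h0
      have h7 := dvd_sub h6 (Dvd.dvd.mul_left h5 (q : ℤ))
      have h8 : (q : ℤ) ^ 2 - q + 1 - q * (q - 1) = 1 := by ring
      rwa [h8] at h7
    · -- `l ∣ q² + 1`
      apply hlq
      have h7 := dvd_sub h5 h6
      have h8 : (q : ℤ) ^ 2 + 1 - (q ^ 2 - q + 1) = q := by ring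
      rwa [h8] at h7
  · -- `l ∣ q² - 1` or `l ∣ q + 1`
    have h9 : (l : ℤ) ∣ q - 1 ∨ (l : ℤ) ∣ q + 1 := by
      rcases hlz.dvd_or_dvd h4 with h5 | h5
      · have h10 : (q : ℤ) ^ 2 - 1 = (q - 1) * (q + 1) := by ring
        rw [h10] at h5
        exact hlz.dvd_or_dvd h5
      · exact Or.inr h5
    rcases h9 with h5 | h5
    · apply h0
      have h7 := dvd_sub h6 (Dvd.dvd.mul_left h5 (q : ℤ))
      have h8 : (q : ℤ) ^ 2 - q + 1 - q * (q - 1) = 1 := by ring
      rwa [h8] at h7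
    · apply hl3
      have h7 := dvd_sub h6 (Dvd.dvd.mul_left h5 ((q : ℤ) - 2))
      have h8 : (q : ℤ) ^ 2 - q + 1 - (q - 2) * (q + 1) = 3 := by ring
      rwa [h8] at h7

end Cfsg.Agent.HKS.ReeTransfer
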