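import Mathlib
import Cfsg.Agent.HKS.TwoOneCentral
import Cfsg.Agent.HKS.UniGoalOf

/-!
# `CentralStmt`
-/

set_option autoImplicit false

namespace Cfsg.Agent.HKS

open Subgroup MulAction

theorem twoOneCentralStmt.{v} : CentralStmt.{v} := by
  intro G Ω _ _ _ _ _ U a b p k C R t ht ht1 ht2 d hd
  exact (TwoOne.central C R ht ht2 ht1 d hd).symm

end Cfsg.Agent.HKS
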